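import Cfsg.Prelude.Def_OddOrderLocal
import Cfsg.Agent.Lib.Cores.Fitting

/-!
Elementary facts on nilpotent groups and on `fittingHall`, `IsComplIn` for the odd-order local
analysis.
-/

set_option autoImplicit false

namespace CfsgLib.OddLocal

open Cfsg Subgroup

/-- In a finite nilpotent group, elements of coprime orders commute. -/
theorem commute_of_coprime_orderOf {N : Type*} [Group N] [Finite N] [Group.IsNilpotent N] (x y : N)
    (h : (orderOf x).Coprime (orderOf y)) : x * y = y * x := by
  obtain ⟨e⟩ := (Group.isNilpotent_of_finite_tfae (G := N)).out 0 4 rfl rfl |>.mp ‹_›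
  suffices hc : e.symm x * e.symm y = e.symm y * e.symm x by
    have := congrArg e hc
    simpa using this
  funext p P
  have hpp : Fact ((p : ℕ)).Prime := ⟨Nat.prime_of_mem_primeFactors p.2⟩
  set a := e.symm x p P
  set b := e.symm y p P
  have ha : orderOf a ∣ orderOf x := by
    have h1 : a ^ orderOf x = 1 := by
      show (e.symm x ^ orderOf x) p P = 1
      rw [← map_pow, pow_orderOf_eq_one, map_one]; rfl
    exact orderOf_dvd_of_pow_eq_one h1
  have hb : orderOf b ∣ orderOf y := by
    have h1 : b ^ orderOf y = 1 := by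
      show (e.symm y ^ orderOf y) p P = 1
      rw [← map_pow, pow_orderOf_eq_one, map_one]; rfl
    exact orderOf_dvd_of_pow_eq_one h1
  have hab : (orderOf a).Coprime (orderOf b) := Nat.Coprime.coprime_dvd_left ha (h.coprime_dvd_right hb)
  obtain ⟨i, hi⟩ := IsPGroup.iff_orderOf.1 P.isPGroup' a
  obtain ⟨j, hj⟩ := IsPGroup.iff_orderOf.1 P.isPGroup' b
  show a * b = b * a
  rcases Nat.eq_zero_or_pos i with rfl | hi0
  · rw [pow_zero, orderOf_eq_one_iff] at hi; simp [hi]
  rcases Nat.eq_zero_or_pos j with rfl | hj0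
  · rw [pow_zero, orderOf_eq_one_iff] at hj; simp [hj]
  exfalso
  rw [hi, hj] at hab
  exact hpp.out.not_dvd_one (hab ▸ Nat.dvd_gcd (dvd_pow_self _ hi0.ne') (dvd_pow_self _ hj0.ne'))

variable {G : Type*} [Group G]

/-- Elements of coprime orders in a nilpotent subgroup commute. -/
theorem commute_of_mem_nilpotent [Finite G] {N : Subgroup G} (hN : Group.IsNilpotent N) {x y : G}
    (hx : x ∈ N) (hy : y ∈ N) (h : (orderOf x).Coprime (orderOf y)) : x * y = y * x := by
  have h' : (orderOf (⟨x, hx⟩ : N)).Coprime (orderOf (⟨y, hy⟩ : N)) := by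
    rwa [← Subgroup.orderOf_coe (⟨x, hx⟩ : N), ← Subgroup.orderOf_coe (⟨y, hy⟩ : N)]
  exact congrArg Subtype.val (commute_of_coprime_orderOf (⟨x, hx⟩ : N) ⟨y, hy⟩ h')

/-- The defining property of the members of the set whose join is `fittingHall`. -/
theorem fittingHall_spec [Finite G] :
    (fittingHall G).Normal ∧ Group.IsNilpotent (fittingHall G) ∧
      (Nat.card (fittingHall G)).Coprime (fittingHall G).index := by
  classical
  refine ⟨inferInstance, ?_, ?_⟩
  · have h : fittingHall G ≤ fittingSubgroup G := sSup_le_sSup fun N hN => ⟨hN.1, hN.2.1⟩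
    have := CfsgLib.Cores.isNilpotent_fittingSubgroup (G := G)
    exact Group.nilpotent_of_mulEquiv (Subgroup.subgroupOfEquivOfLe h)
  · set S : Set (Subgroup G) :=
      {N : Subgroup G | N.Normal ∧ Group.IsNilpotent N ∧ (Nat.card N).Coprime N.index}
    have hfin : S.Finite := Set.toFinite _
    let Q : Subgroup G → Prop := fun N => N.Normal ∧ (Nat.card N).Coprime N.index
    have key : Q (hfin.toFinset.sup id) := by
      refine Finset.sup_induction ⟨inferInstance, ?_⟩ ?_ ?_
      · rw [Subgroup.card_bot]; exact Nat.coprime_one_left _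
      · rintro A ⟨hA, hA'⟩ B ⟨hB, hB'⟩
        refine ⟨inferInstance, Nat.coprime_of_dvd fun p hp h1 h2 => ?_⟩
        rcases hp.dvd_mul.1 (h1.trans (CfsgLib.Cores.card_sup_dvd_mul A B)) with h | h
        · exact Nat.not_coprime_of_dvd_of_dvd hp.one_lt h
            (h2.trans (Subgroup.index_dvd_of_le le_sup_left)) hA'
        · exact Nat.not_coprime_of_dvd_of_dvd hp.one_lt h
            (h2.trans (Subgroup.index_dvd_of_le le_sup_right)) hB'
      · intro N hN
        rw [Set.Finite.mem_toFinset] at hN
        exact ⟨hN.1, hN.2.2⟩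
    have heq : hfin.toFinset.sup id = fittingHall G := by
      rw [Finset.sup_id_eq_sSup, Set.Finite.coe_toFinset]; rfl
    rw [← heq]; exact key.2

theorem fittingHallOf_le (M : Subgroup G) : fittingHallOf M ≤ M := Subgroup.map_subtype_le _

theorem fittingOf_le (M : Subgroup G) : fittingOf M ≤ M := Subgroup.map_subtype_le _

theorem card_fittingHallOf (M : Subgroup G) :
    Nat.card (fittingHallOf M) = Nat.card (fittingHall M) :=
  Subgroup.card_map_of_injective M.subtype_injective

theorem relIndex_fittingHallOf (M : Subgroup G) :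
    (fittingHallOf M).relIndex M = (fittingHall M).index := by
  unfold Subgroup.relIndex
  congr 1
  exact Subgroup.comap_map_eq_self_of_injective M.subtype_injective _

theorem coprime_fittingHallOf [Finite G] (M : Subgroup G) :
    (Nat.card (fittingHallOf M)).Coprime ((fittingHallOf M).relIndex M) := by
  rw [card_fittingHallOf, relIndex_fittingHallOf]; exact fittingHall_spec.2.2

theorem isNilpotent_fittingOf [Finite G] (M : Subgroup G) : Group.IsNilpotent (fittingOf M) :=
  CfsgLib.Cores.isNilpotent_map CfsgLib.Cores.isNilpotent_fittingSubgroup _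

theorem fittingHallOf_le_fittingOf (M : Subgroup G) : fittingHallOf M ≤ fittingOf M :=
  Subgroup.map_mono (sSup_le_sSup fun _ hN => ⟨hN.1, hN.2.1⟩)

theorem card_dvd_relIndex_of_inf_eq_bot {H U M : Subgroup G} (hUM : U ≤ M)
    (hd : H ⊓ U = ⊥) [hn : (H.subgroupOf M).Normal] : Nat.card U ∣ H.relIndex M := by
  have h1 : (H.subgroupOf M).relIndex (U.subgroupOf M) = Nat.card (U.subgroupOf M) := by
    rw [← Subgroup.inf_relIndex_right]
    have : H.subgroupOf M ⊓ U.subgroupOf M = ⊥ := by
      rw [eq_bot_iff]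
      rintro x ⟨hx1, hx2⟩
      have : (x : G) ∈ H ⊓ U := ⟨hx1, hx2⟩
      rw [hd] at this
      exact Subgroup.mem_bot.2 (Subtype.ext (Subgroup.mem_bot.1 this))
    rw [this, Subgroup.relIndex_bot_left]
  rw [← Nat.card_congr (Subgroup.subgroupOfEquivOfLe hUM).toEquiv, ← h1]
  exact Subgroup.relIndex_dvd_index_of_normal _ _

end CfsgLib.OddLocal
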