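import Cfsg.Agent.Lib.Solvable.AbelianAction
import Cfsg.Agent.Lib.Solvable.CoprimeAction
import Cfsg.Agent.Lib.Transfer.Critical
import Cfsg.Agent.Lib.PGroup.Basic

/-!
Coprime actions of groups with fixed-point-free automorphisms (Frobenius-type actions):

* `eq_one_of_frobenius_norm`: if `U` has no nontrivial fixed point on the abelian group `C`, `K₁ ∋ 1`
  acts fixed-point-freely on `U` and the norm over `K₁` vanishes, then `C = 1`;
* `eq_one_of_frobenius_prime_action`: in a Frobenius group `UK` acting with `C_C(U) = 1`, no element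
  of `K` outside `K₁` fixes all fixed points of `K₁`;
* `commute_of_frobenius_fixed`: if `a` has prime order, `C_S(a) = 1` and every fixed point of order
  `s` of `a` on the `s`-group `T` is centralised by `S`, then `S` centralises `T`.
-/

set_option autoImplicit false

namespace CfsgLib.OddLocal

open Subgroup
open scoped commutatorElement

section Norm

variable {E C : Type*} [Group E] [CommGroup C] (φ : E →* MulAut C) (U : Subgroup E) [Fintype U]

/-- The norm over `U` of a group without fixed points is trivial. -/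
theorem norm_eq_one (hU : ∀ v : C, (∀ u ∈ U, φ u v = v) → v = 1) (v : C) :
    ∏ u : U, φ (u : E) v = 1 := by
  refine hU _ fun w hw => ?_
  rw [map_prod]
  refine Fintype.prod_equiv (Equiv.mulLeft (⟨w, hw⟩ : U)) _ _ fun u => ?_
  show φ w (φ (u : E) v) = φ (w * u) v
  rw [map_mul, MulAut.mul_apply]

/-- `∏_u u b u⁻¹ v = 1` when `b` normalises `U` and centralises no nonidentity element of it. -/
theorem twisted_norm_eq_one (hU : ∀ v : C, (∀ u ∈ U, φ u v = v) → v = 1) {b : E}
    (hb : b ∈ normalizer (U : Set E)) (hfree : ∀ u ∈ U, u * b = b * u → u = 1) (v : C) :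
    ∏ u : U, φ ((u : E) * b * (u : E)⁻¹) v = 1 := by
  have hmem : ∀ u : U, (u : E) * b * (u : E)⁻¹ * b⁻¹ ∈ U := fun u => by
    have h1 : b * (u : E)⁻¹ * b⁻¹ ∈ U := (mem_normalizer_iff.1 hb _).1 (inv_mem u.2)
    simpa [mul_assoc] using mul_mem u.2 h1
  let g : U → U := fun u => ⟨(u : E) * b * (u : E)⁻¹ * b⁻¹, hmem u⟩
  have hg : Function.Injective g := by
    intro u w h
    have h' : (u : E) * b * (u : E)⁻¹ = (w : E) * b * (w : E)⁻¹ := mul_right_cancel (congrArg Subtype.val h)
    have h2 : ((w : E)⁻¹ * u) * b = b * ((w : E)⁻¹ * u) := by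
      calc ((w : E)⁻¹ * u) * b = (w : E)⁻¹ * ((u : E) * b * (u : E)⁻¹) * u := by group
        _ = (w : E)⁻¹ * ((w : E) * b * (w : E)⁻¹) * u := by rw [h']
        _ = b * ((w : E)⁻¹ * u) := by group
    exact Subtype.ext (inv_mul_eq_one.1 (hfree _ (mul_mem (inv_mem w.2) u.2) h2)).symm
  calc ∏ u : U, φ ((u : E) * b * (u : E)⁻¹) v = ∏ u : U, φ (u : E) (φ b v) := by
        refine Fintype.prod_bijective g ⟨hg, Finite.surjective_of_injective hg⟩ _ _ fun u => ?_
        show φ _ v = φ ((u : E) * b * (u : E)⁻¹ * b⁻¹) (φ b v)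
        rw [← MulAut.mul_apply, ← map_mul, inv_mul_cancel_right]
    _ = 1 := norm_eq_one φ U hU _

variable [Finite C]

/-- If the norm over `K₁` vanishes, `C` is trivial. -/
theorem eq_one_of_frobenius_norm (hU : ∀ v : C, (∀ u ∈ U, φ u v = v) → v = 1)
    (hcop : (Nat.card U).Coprime (Nat.card C)) (A : Finset E) (h1 : (1 : E) ∈ A)
    (hnorm : ∀ a ∈ A, a ∈ normalizer (U : Set E))
    (hfree : ∀ a ∈ A, a ≠ 1 → ∀ u ∈ U, u * a = a * u → u = 1)
    (hvan : ∀ v : C, ∏ a ∈ A, φ a v = 1) (v : C) : v = 1 := by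
  classical
  have key : ∏ a ∈ A, ∏ u : U, φ ((u : E) * a * (u : E)⁻¹) v = 1 := by
    rw [Finset.prod_comm]
    refine Finset.prod_eq_one fun u _ => ?_
    have : ∀ a, φ ((u : E) * a * (u : E)⁻¹) v = φ (u : E) (φ a (φ (u : E)⁻¹ v)) := fun a => by
      rw [map_mul, map_mul, MulAut.mul_apply, MulAut.mul_apply]
    rw [Finset.prod_congr rfl fun a _ => this a, ← map_prod, hvan, map_one]
  rw [Finset.prod_eq_single_of_mem 1 h1 (fun a ha ha1 =>
    twisted_norm_eq_one φ U hU (hnorm a ha) (hfree a ha ha1) v)] at key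
  simp only [mul_one, mul_inv_cancel, map_one, MulAut.one_apply, Finset.prod_const, Finset.card_univ,
    ← Nat.card_eq_fintype_card] at key
  rw [← orderOf_eq_one_iff]
  exact Nat.eq_one_of_dvd_coprimes hcop (orderOf_dvd_of_pow_eq_one key) (orderOf_dvd_natCard v)

/-- In a Frobenius group `UK` acting with no fixed points of `U`, an element `k` outside `K₁`
cannot fix all fixed points of `K₁`. -/
theorem eq_one_of_frobenius_prime_action (hU : ∀ v : C, (∀ u ∈ U, φ u v = v) → v = 1)
    (hcop : (Nat.card U).Coprime (Nat.card C)) (K₁ : Subgroup E) [Fintype K₁] {k : E} (hk : k ∉ K₁)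
    (hnorm : ∀ a ∈ K₁, a ∈ normalizer (U : Set E)) (hknorm : k ∈ normalizer (U : Set E))
    (hfree : ∀ a ∈ K₁, a ≠ 1 → ∀ u ∈ U, u * a = a * u → u = 1)
    (hkfree : ∀ a ∈ K₁, ∀ u ∈ U, u * (k * a) = (k * a) * u → u = 1)
    (hfix : ∀ v : C, (∀ a ∈ K₁, φ a v = v) → φ k v = v) (v : C) : v = 1 := by
  classical
  have key : ∀ w, φ k (∏ a : K₁, φ (a : E) w) = ∏ a : K₁, φ (a : E) w := fun w => by
    refine hfix _ fun b hb => ?_
    rw [map_prod]
    refine Fintype.prod_equiv (Equiv.mulLeft (⟨b, hb⟩ : K₁)) _ _ fun a => ?_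
    show φ b (φ (a : E) w) = φ (b * a) w
    rw [map_mul, MulAut.mul_apply]
  have e1 : ∀ (a : K₁) (u : U) (b : E), φ ((u : E) * (b * a) * (u : E)⁻¹) v =
      φ (u : E) (φ b (φ (a : E) (φ (u : E)⁻¹ v))) := fun a u b => by
    rw [map_mul, map_mul, map_mul, MulAut.mul_apply, MulAut.mul_apply, MulAut.mul_apply]
  have h3 : ∏ a : K₁, ∏ u : U, φ ((u : E) * (k * a) * (u : E)⁻¹) v =
      ∏ a : K₁, ∏ u : U, φ ((u : E) * (1 * a) * (u : E)⁻¹) v := by
    rw [Finset.prod_comm]
    conv_rhs => rw [Finset.prod_comm]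
    refine Finset.prod_congr rfl fun u _ => ?_
    simp only [e1]
    rw [← map_prod, ← map_prod, ← map_prod, key, ← map_prod, map_one, MulAut.one_apply]
  rw [Finset.prod_eq_one (fun (a : K₁) _ => twisted_norm_eq_one φ U hU
      (mul_mem hknorm (hnorm a a.2)) (hkfree a a.2) v),
    Finset.prod_eq_single_of_mem (1 : K₁) (Finset.mem_univ _) (fun a _ ha1 => by
      rw [one_mul]
      exact twisted_norm_eq_one φ U hU (hnorm a a.2) (hfree a a.2 fun h => ha1 (Subtype.ext h)) v)] at h3
  simp only [OneMemClass.coe_one, mul_one, one_mul, mul_inv_cancel, map_one, MulAut.one_apply,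
    Finset.prod_const, Finset.card_univ, ← Nat.card_eq_fintype_card] at h3
  rw [← orderOf_eq_one_iff]
  exact Nat.eq_one_of_dvd_coprimes hcop (orderOf_dvd_of_pow_eq_one h3.symm) (orderOf_dvd_natCard v)

end Norm

variable {G : Type*} [Group G] [Finite G]

/-- Conjugation of the elements of `N(D)` on an abelian subgroup `D`. -/
def conjOn (D : Subgroup G) : ↥(normalizer (D : Set G)) →* MulAut D := normalizerMonoidHom D

@[simp] theorem conjOn_apply {D : Subgroup G} (e : ↥(normalizer (D : Set G))) (x : D) :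
    ((conjOn D e x : D) : G) = (e : G) * x * (e : G)⁻¹ := rfl

/-- Abelian case: `a` of prime order with `C_S(a) = 1`; if the fixed points of `a` on the abelian
group `V` are centralised by `S`, then so is `V`. -/
theorem commute_of_frobenius_fixed_abelian {S V : Subgroup G} [IsMulCommutative V] {a : G}
    (ha : (orderOf a).Prime) (hSV : S ≤ normalizer (V : Set G)) (haV : a ∈ normalizer (V : Set G))
    (haS : a ∈ normalizer (S : Set G)) (hfree : ∀ u ∈ S, u * a = a * u → u = 1)
    (hcopV : (Nat.card S).Coprime (Nat.card V))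
    (hfix : ∀ x ∈ V, a * x = x * a → ∀ u ∈ S, u * x = x * u) :
    S ≤ centralizer (V : Set G) := by
  classical
  set W := ⁅V, S⁆ with hW
  have hWV : W ≤ V := CfsgLib.Solvable.commutator_le_of_le_normalizer hSV
  have hSW : S ≤ normalizer (W : Set G) := CfsgLib.Solvable.le_normalizer_commutator_right hSV
  have haW : a ∈ normalizer (W : Set G) :=
    CfsgLib.Solvable.normalizer_le_normalizer_commutator V S ⟨haV, haS⟩
  have hWC : IsMulCommutative W := ⟨⟨fun x y => Subtype.ext (by
    have h := congrArg Subtype.val (IsMulCommutative.is_comm.comm (⟨x, hWV x.2⟩ : V) ⟨y, hWV y.2⟩)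
    simpa using h)⟩⟩
  letI : CommGroup W := { (inferInstance : Group W) with mul_comm := fun x y => IsMulCommutative.is_comm.comm x y }
  have hbot := CfsgLib.Solvable.inf_centralizer_inf_commutator S V hSV hcopV
  let S' := S.subgroupOf (normalizer (W : Set G))
  haveI : Fintype S' := Fintype.ofFinite _
  let a' : ↥(normalizer (W : Set G)) := ⟨a, haW⟩
  have hU : ∀ v : W, (∀ u ∈ S', conjOn W u v = v) → v = 1 := by
    intro v hv
    have : (v : G) ∈ (V ⊓ centralizer (S : Set G)) ⊓ W := by
      refine ⟨⟨hWV v.2, mem_centralizer_iff.2 fun u hu => ?_⟩, v.2⟩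
      exact mul_inv_eq_iff_eq_mul.1 (congrArg Subtype.val (hv ⟨u, hSW hu⟩ hu))
    rw [hbot] at this
    exact Subtype.ext (mem_bot.1 this)
  have hcop : (Nat.card S').Coprime (Nat.card W) := by
    rw [Nat.card_congr (subgroupOfEquivOfLe hSW).toEquiv]
    exact hcopV.coprime_dvd_right (card_dvd_of_le hWV)
  have hvan : ∀ v : W, ∏ b ∈ (Finset.range (orderOf a)).image (fun i => a' ^ i), conjOn W b v = 1 := by
    intro v
    have horder : orderOf a' = orderOf a := (Subgroup.orderOf_coe a').symm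
    rw [Finset.prod_image (fun i hi j hj h => pow_injOn_Iio_orderOf
      (by rw [horder]; exact Finset.mem_range.1 hi) (by rw [horder]; exact Finset.mem_range.1 hj) h)]
    set w := ∏ i ∈ Finset.range (orderOf a), conjOn W (a' ^ i) v with hw
    have hfixa : conjOn W a' w = w := by
      rw [hw, map_prod]
      have e : ∀ i, conjOn W a' (conjOn W (a' ^ i) v) = conjOn W (a' ^ (i + 1)) v := fun i => by
        rw [pow_succ', map_mul (conjOn W) _ (_ ^ i), MulAut.mul_apply]
      simp only [e]
      obtain ⟨k, hk⟩ : ∃ k, orderOf a = k + 1 := ⟨orderOf a - 1, by have := ha.pos; omega⟩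
      rw [hk, Finset.prod_range_succ _ k, Finset.prod_range_succ' _ k]
      congr 1
      rw [← hk, ← horder, pow_orderOf_eq_one, pow_zero]
    have : (w : G) ∈ (V ⊓ centralizer (S : Set G)) ⊓ W := by
      refine ⟨⟨hWV w.2, mem_centralizer_iff.2 fun u hu => ?_⟩, w.2⟩
      exact hfix _ (hWV w.2) (mul_inv_eq_iff_eq_mul.1 (congrArg Subtype.val hfixa)) u hu
    rw [hbot] at this
    exact Subtype.ext (mem_bot.1 this)
  have hall : ∀ v : W, v = 1 := by
    refine eq_one_of_frobenius_norm (conjOn W) S' hU hcop _ ?_ ?_ ?_ hvan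
    · exact Finset.mem_image.2 ⟨0, Finset.mem_range.2 ha.pos, pow_zero _⟩
    · intro b hb
      obtain ⟨i, -, rfl⟩ := Finset.mem_image.1 hb
      refine pow_mem (mem_normalizer_iff.2 fun u => ?_) i
      exact mem_normalizer_iff.1 haS (u : G)
    · intro b hb hb1 u hu hub
      obtain ⟨i, hi, rfl⟩ := Finset.mem_image.1 hb
      have hi0 : ¬ orderOf a ∣ i := fun hd => hb1 (by
        rw [orderOf_dvd_iff_pow_eq_one] at hd
        exact Subtype.ext hd)
      have hc : Commute (u : G) (a ^ i) := congrArg Subtype.val hub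
      obtain ⟨j, hj⟩ := exists_pow_eq_self_of_coprime
        ((ha.coprime_iff_not_dvd.2 hi0).symm : i.Coprime (orderOf a))
      refine Subtype.ext (hfree _ hu ?_)
      have := (hc.pow_right j).eq
      rwa [hj] at this
  have hWbot : W = ⊥ := eq_bot_iff.2 fun x hx => mem_bot.2 (congrArg Subtype.val (hall ⟨x, hx⟩))
  exact commutator_eq_bot_iff_le_centralizer.1 (by rw [commutator_comm]; exact hWbot)

/-- For odd `s`, let `a` have prime order and normalise the `s'`-group `S` without fixed points, let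
`S` and `a` normalise the `s`-group `T`, and suppose that `S` centralises every element of order `s` of
`T` fixed by `a`. Then `S` centralises `T`. -/
theorem commute_of_frobenius_fixed {s : ℕ} [hs : Fact s.Prime] (hs2 : s ≠ 2) {S T : Subgroup G} {a : G}
    (hT : IsPGroup s T) (ha : (orderOf a).Prime) (has : orderOf a ≠ s) (hST : S ≤ normalizer (T : Set G))
    (haT : a ∈ normalizer (T : Set G)) (haS : a ∈ normalizer (S : Set G))
    (hfree : ∀ u ∈ S, u * a = a * u → u = 1) (hcop : (Nat.card S).Coprime s)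
    (hfix : ∀ x ∈ T, x ^ s = 1 → a * x = x * a → ∀ u ∈ S, u * x = x * u) :
    S ≤ centralizer (T : Set G) := by
  classical
  obtain ⟨H₀, hH₀c, hpow, hcomm, hC⟩ := CfsgLib.Transfer.exists_critical (G := T) hT
  set H := H₀.map T.subtype with hH
  have hHT : H ≤ T := map_subtype_le _
  have hNH : normalizer (T : Set G) ≤ normalizer (H : Set G) := fun g hg => by
    refine CfsgLib.Solvable.mem_normalizer_of_conj_mem ?_
    rintro _ ⟨y, hy, rfl⟩
    exact ⟨_, characteristic_iff_map_le.1 hH₀c (conjOn T ⟨g, hg⟩) ⟨y, hy, rfl⟩, rfl⟩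
  have hcen : ∀ u ∈ H, ∀ v ∈ H, ∀ w ∈ H, Commute ⁅u, v⁆ w := by
    rintro _ ⟨u, hu, rfl⟩ _ ⟨v, hv, rfl⟩ _ ⟨w, hw, rfl⟩
    have h := mem_centralizer_iff.1 (hcomm (commutator_mem_commutator hu (mem_top v))).2 w hw
    have := congrArg T.subtype h
    rw [map_mul, map_mul, map_commutatorElement] at this
    exact this.symm
  have hzH : ∀ x y : H, ⁅x, y⁆ ∈ center H := fun x y => mem_center_iff.2 fun w => by
    refine Subtype.ext ?_
    have := (hcen x x.2 y y.2 w w.2).eq
    push_cast [commutatorElement_def] at this ⊢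
    exact this.symm
  have hZp : ∀ u : H, u ^ s ∈ center H := fun u => mem_center_iff.2 fun w => by
    obtain ⟨u₀, hu₀, hu⟩ := u.2
    obtain ⟨w₀, hw₀, hw⟩ := w.2
    refine Subtype.ext ?_
    have := congrArg T.subtype (mem_centralizer_iff.1 (hpow u₀ hu₀).2 w₀ hw₀)
    rw [map_mul, map_mul, map_pow, hu, hw] at this
    push_cast
    exact this
  -- the elements of order dividing `s`
  let D : Subgroup G :=
    { carrier := {x | x ∈ H ∧ x ^ s = 1}
      one_mem' := ⟨H.one_mem, one_pow _⟩
      mul_mem' := by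
        rintro x y ⟨hx, hx1⟩ ⟨hy, hy1⟩
        refine ⟨H.mul_mem hx hy, ?_⟩
        obtain ⟨j, hj⟩ := hs.out.dvd_choose_self (by norm_num : (2 : ℕ) ≠ 0)
          (lt_of_le_of_ne hs.out.two_le (Ne.symm hs2))
        have h := congrArg (H.subtype) (PGroup.mul_pow_of_comm_mem_center (a := (⟨x, hx⟩ : H))
          (b := ⟨y, hy⟩) (hzH _ _) s)
        rw [hj, pow_mul, ← PGroup.comm_pow_left (hzH _ _),
          show (⟨y, hy⟩ : H) ^ s = 1 from Subtype.ext (by simpa using hy1)] at h
        simpa [hx1] using h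
      inv_mem' := by
        rintro x ⟨hx, hx1⟩
        exact ⟨H.inv_mem hx, by rw [inv_pow, hx1, inv_one]⟩ }
  have hDH : D ≤ H := fun x hx => hx.1
  have hND : normalizer (H : Set G) ≤ normalizer (D : Set G) := fun g hg =>
    CfsgLib.Solvable.mem_normalizer_of_conj_mem fun x hx =>
      ⟨(mem_normalizer_iff.1 hg x).1 hx.1, by rw [conj_pow, hx.2, mul_one, mul_inv_cancel]⟩
  have hDs : IsPGroup s D := hT.to_le (hDH.trans hHT)
  have hcopD : ∀ V ≤ D, (Nat.card S).Coprime (Nat.card V) := fun V hV => by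
    obtain ⟨n, hn⟩ := IsPGroup.iff_card.1 (hDs.to_le hV)
    rw [hn]; exact hcop.pow_right n
  -- the centre
  set Z := D ⊓ centralizer (D : Set G) with hZ
  haveI : IsMulCommutative Z := ⟨⟨fun x y => Subtype.ext (mem_centralizer_iff.1 y.2.2 x x.2.1)⟩⟩
  have hNZ : normalizer (D : Set G) ≤ normalizer (Z : Set G) := fun g hg =>
    CfsgLib.Solvable.le_normalizer_inf (A := normalizer (D : Set G)) le_rfl
      (CfsgLib.Solvable.normalizer_le_normalizer_centralizer D) hg
  have hSZ : S ≤ centralizer (Z : Set G) :=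
    commute_of_frobenius_fixed_abelian ha (hST.trans (hNH.trans (hND.trans hNZ)))
      (hNZ (hND (hNH haT))) haS hfree (hcopD _ inf_le_left)
      fun x hx hax => hfix x (hHT hx.1.1) hx.1.2 hax
  have hcD : ∀ x ∈ D, ∀ y ∈ D, ⁅x, y⁆ ∈ Z := by
    intro x hx y hy
    refine ⟨?_, mem_centralizer_iff.2 fun w hw => (hcen x hx.1 y hy.1 w hw.1).symm.eq⟩
    show ⁅x, y⁆ ∈ D
    rw [commutatorElement_def]
    exact mul_mem (mul_mem (mul_mem hx hy) (inv_mem hx)) (inv_mem hy)
  -- pass to `D` modulo `Z`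
  have hSD : S ≤ centralizer (D : Set G) := by
    set N := normalizer (D : Set G) ⊓ normalizer (Z : Set G)
    have hDN : D ≤ N := le_inf le_normalizer (le_normalizer.trans hNZ)
    have hSN : S ≤ N := le_inf (hST.trans (hNH.trans hND)) (hST.trans (hNH.trans (hND.trans hNZ)))
    have haN : a ∈ N := ⟨hND (hNH haT), hNZ (hND (hNH haT))⟩
    let Z' := Z.subgroupOf N
    haveI : Z'.Normal := normal_subgroupOf_iff_le_normalizer (inf_le_left.trans hDN) |>.2 inf_le_right
    let π := QuotientGroup.mk' Z'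
    let V := (D.subgroupOf N).map π
    haveI hVc : IsMulCommutative V := ⟨⟨by
      rintro ⟨_, x, hx, rfl⟩ ⟨_, y, hy, rfl⟩
      refine Subtype.ext ?_
      show π x * π y = π y * π x
      rw [← map_mul, ← map_mul]
      refine QuotientGroup.eq.2 (mem_subgroupOf.2 ?_)
      have := hcD _ (inv_mem (mem_subgroupOf.1 hy)) _ (inv_mem (mem_subgroupOf.1 hx))
      rw [commutatorElement_def] at this
      simpa [mul_assoc] using this⟩⟩
    have hmapN : ∀ {L : Subgroup G} {g : N}, (g : G) ∈ normalizer (L : Set G) →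
        π g ∈ normalizer ((L.subgroupOf N).map π : Set (N ⧸ Z')) := fun {L g} hg =>
      le_normalizer_map (H := L.subgroupOf N) π ⟨g, mem_normalizer_iff.2 fun x =>
        mem_normalizer_iff.1 hg (x : G), rfl⟩
    have hSV : (S.subgroupOf N).map π ≤ normalizer (V : Set (N ⧸ Z')) := by
      rintro _ ⟨u, hu, rfl⟩
      exact hmapN (hST.trans (hNH.trans hND) (mem_subgroupOf.1 hu))
    have hcardS : Nat.card ((S.subgroupOf N).map π) ∣ Nat.card S :=
      (card_map_dvd _ _).trans (dvd_of_eq (Nat.card_congr (subgroupOfEquivOfLe hSN).toEquiv))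
    have hSnZ : ∀ u : N, (u : G) ∈ S → (u : G) ∈ Z → u = 1 := fun u h1 h2 => by
      have : (u : G) ∈ S ⊓ Z := ⟨h1, h2⟩
      rw [CfsgLib.Solvable.disjoint_of_coprime (hcopD Z inf_le_left)] at this
      exact Subtype.ext (mem_bot.1 this)
    have horder : orderOf (π ⟨a, haN⟩) = orderOf a := by
      have h1 : orderOf (⟨a, haN⟩ : N) = orderOf a := (Subgroup.orderOf_coe _).symm
      rcases ha.eq_one_or_self_of_dvd _ (h1 ▸ orderOf_map_dvd π (⟨a, haN⟩ : N)) with h | h
      · exfalso
        rw [orderOf_eq_one_iff, QuotientGroup.mk'_apply, QuotientGroup.eq_one_iff] at h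
        obtain ⟨k, hk⟩ := IsPGroup.iff_orderOf.1 (hDs.to_le inf_le_left) ⟨a, mem_subgroupOf.1 h⟩
        rw [Subgroup.orderOf_mk] at hk
        rcases Nat.eq_zero_or_pos k with rfl | hk0
        · exact ha.ne_one (by simpa using hk)
        · have : s ∣ orderOf a := hk ▸ dvd_pow_self s hk0.ne'
          exact has ((Nat.prime_dvd_prime_iff_eq hs.out ha).1 this).symm
      · exact h
    have key := commute_of_frobenius_fixed_abelian (a := π ⟨a, haN⟩) (S := (S.subgroupOf N).map π) (V := V)
      (by rw [horder]; exact ha) hSV (hmapN (hND (hNH haT))) (hmapN haS) ?_ ?_ ?_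
    · intro u hu
      rw [mem_centralizer_iff]
      intro x hx
      set u' : N := ⟨u, hSN hu⟩
      set x' : N := ⟨x, hDN hx⟩
      have h := mem_centralizer_iff.1 (key ⟨u', hu, rfl⟩) (π x') ⟨x', hx, rfl⟩
      rw [← map_mul, ← map_mul] at h
      have h2 : x⁻¹ * u⁻¹ * x * u ∈ Z := by
        have := mem_subgroupOf.1 (QuotientGroup.eq.1 h.symm)
        simpa [u', x', mul_assoc] using this
      set z := x⁻¹ * u⁻¹ * x * u with hz
      have hcz : Commute u z := (mem_centralizer_iff.1 (hSZ hu) z h2).symm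
      have hconj : u⁻¹ * x * u = x * z := by rw [hz]; group
      have hn : ∀ n : ℕ, (u ^ n)⁻¹ * x * u ^ n = x * z ^ n := by
        intro n
        induction n with
        | zero => simp
        | succ n ih =>
          calc (u ^ (n + 1))⁻¹ * x * u ^ (n + 1) = u⁻¹ * ((u ^ n)⁻¹ * x * u ^ n) * u := by
                rw [pow_succ]; group
            _ = (u⁻¹ * x * u) * (u⁻¹ * z ^ n * u) := by rw [ih]; group
            _ = x * z ^ (n + 1) := by
                rw [hconj, mul_assoc u⁻¹, ← (hcz.pow_right n).eq, inv_mul_cancel_left, mul_assoc,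
                  ← pow_succ']
      have hz1 : z ^ orderOf u = 1 := by
        have := hn (orderOf u)
        rw [pow_orderOf_eq_one, inv_one, one_mul, mul_one] at this
        exact left_eq_mul.1 this
      have hz0 : z = 1 := by
        rw [← orderOf_eq_one_iff]
        exact Nat.eq_one_of_dvd_coprimes ((hcopD Z inf_le_left).coprime_dvd_left (S.orderOf_dvd_natCard hu))
          (orderOf_dvd_of_pow_eq_one hz1) (Z.orderOf_dvd_natCard h2)
      rw [hz0, mul_one] at hconj
      calc x * u = u * (u⁻¹ * x * u) := by group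
        _ = u * x := by rw [hconj]
    · -- fixed-point-freeness modulo `Z`
      rintro _ ⟨u, hu, rfl⟩ hc
      have hu' : (u : G) ∈ S := mem_subgroupOf.1 hu
      rw [← map_mul, ← map_mul] at hc
      have hcS : (u : G)⁻¹ * a⁻¹ * u * a ∈ S := by
        have : a⁻¹ * (u : G) * a ∈ S := by
          simpa using (mem_normalizer_iff.1 (inv_mem haS) (u : G)).1 hu'
        simpa [mul_assoc] using mul_mem (inv_mem hu') this
      have hcZ : (u : G)⁻¹ * a⁻¹ * u * a ∈ Z := by
        have := mem_subgroupOf.1 (QuotientGroup.eq.1 hc.symm)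
        simpa [mul_assoc] using this
      have h1 := congrArg Subtype.val
        (hSnZ ⟨_, mul_mem (mul_mem (mul_mem (inv_mem u.2) (inv_mem haN)) u.2) haN⟩ hcS hcZ)
      have h2 : (u : G) * a = a * u := by
        calc (u : G) * a = a * u * ((u : G)⁻¹ * a⁻¹ * u * a) := by group
          _ = a * u := by rw [show (u : G)⁻¹ * a⁻¹ * u * a = 1 from h1, mul_one]
      rw [show u = 1 from Subtype.ext (hfree _ hu' h2), map_one]
    · refine ((hcopD D le_rfl).coprime_dvd_left hcardS).coprime_dvd_right ?_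
      exact (card_map_dvd _ _).trans (dvd_of_eq (Nat.card_congr (subgroupOfEquivOfLe hDN).toEquiv))
    · -- fixed points lift
      rintro _ ⟨x, hx, rfl⟩ hax _ ⟨u, hu, rfl⟩
      rw [← map_mul, ← map_mul] at hax
      have hcopZ : (Nat.card (zpowers (⟨a, haN⟩ : N))).Coprime (Nat.card Z') := by
        rw [Nat.card_zpowers, ← Subgroup.orderOf_coe]
        have hd : Nat.card Z' = Nat.card Z :=
          Nat.card_congr (subgroupOfEquivOfLe (inf_le_left.trans hDN)).toEquiv
        obtain ⟨n, hn⟩ := IsPGroup.iff_card.1 (hDs.to_le (inf_le_left : Z ≤ D))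
        rw [hd, hn]
        exact ((Nat.coprime_primes ha hs.out).2 has).pow_right n
      have hpowZ : ∀ b ∈ zpowers (⟨a, haN⟩ : N), ⁅b, x⁆ ∈ Z' := by
        intro b hb
        rw [← QuotientGroup.eq_one_iff, ← QuotientGroup.mk'_apply, map_commutatorElement,
          commutatorElement_eq_one_iff_commute]
        obtain ⟨i, rfl⟩ := mem_zpowers_iff.1 hb
        rw [map_zpow]
        exact Commute.zpow_left (show Commute (π ⟨a, haN⟩) (π x) by rwa [map_mul, map_mul] at hax) i
      obtain ⟨n, hn, hnc⟩ := CfsgLib.Solvable.exists_mul_mem_centralizer (zpowers (⟨a, haN⟩ : N)) Z'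
        (normalizer_eq_top Z' ▸ le_top) hcopZ (Or.inl inferInstance) x hpowZ
      have hy : ((n * x : N) : G) ∈ D := mul_mem (mem_subgroupOf.1 hn).1 (mem_subgroupOf.1 hx)
      have hay : a * ((n * x : N) : G) = (n * x : N) * a :=
        congrArg Subtype.val (mem_centralizer_iff.1 hnc _ (mem_zpowers _))
      have hcomm := hfix _ (hHT hy.1) hy.2 hay u (mem_subgroupOf.1 hu)
      have : π u * π (n * x) = π (n * x) * π u := by
        rw [← map_mul, ← map_mul, show u * (n * x) = n * x * u from Subtype.ext hcomm]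
      rwa [map_mul π n x, show π n = 1 from (QuotientGroup.eq_one_iff n).2 hn, one_mul] at this
  -- lift to `T`
  intro u hu
  rw [mem_centralizer_iff]
  intro t ht
  let α : MulAut T := conjOn T ⟨u, hST hu⟩
  have hord : ∀ {K : Subgroup G} (e : ↥(normalizer (K : Set G))), (e : G) ∈ S →
      (orderOf (conjOn K e)).Coprime s := fun {K} e he => by
    refine hcop.coprime_dvd_left ((orderOf_map_dvd (conjOn K) e).trans ?_)
    rw [← Subgroup.orderOf_coe]
    exact S.orderOf_dvd_natCard he
  have hα : α = 1 := by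
    haveI : H₀.Normal := inferInstance
    refine CfsgLib.Transfer.aut_eq_one_of_fix_normal hT H₀ hC α (hord _ hu) fun x hx => ?_
    have hβ : conjOn H ⟨u, hNH (hST hu)⟩ = 1 := by
      refine CfsgLib.Transfer.aut_eq_one_of_fix_omega hs2 (hT.to_le hHT) _ (hord _ hu) fun w hw => ?_
      refine Subtype.ext ?_
      rw [conjOn_apply]
      refine mul_inv_eq_iff_eq_mul.2 ?_
      exact (mem_centralizer_iff.1 (hSD hu) w ⟨w.2, congrArg Subtype.val hw⟩).symm
    have := congrArg Subtype.val (DFunLike.congr_fun hβ ⟨(x : G), x, hx, rfl⟩)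
    exact Subtype.ext this
  have h1 : u * t * u⁻¹ = t := by
    have h2 := congrArg Subtype.val (DFunLike.congr_fun hα (⟨t, ht⟩ : T))
    simpa [α] using h2
  exact (mul_inv_eq_iff_eq_mul.1 h1).symm

end CfsgLib.OddLocal
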