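import Cfsg.Agent.Lib.OddLocal.Sec14Structure
import Cfsg.Agent.Lib.OddLocal.FrobeniusAction

/-!
BG Theorem 14.2, consequences of `U ≠ 1`: `M_σ` is nilpotent without `U`-fixed points, `|K|` is prime,
every prime of `σ(M)` lies in `β(M)` and `C(x) ≤ M` for `x ∈ M_σ#`.
-/

set_option autoImplicit false
set_option linter.unusedSectionVars false

open scoped Pointwise

namespace CfsgLib.OddLocal.Sec13

open Cfsg Subgroup
open scoped commutatorElement
open CfsgLib.Solvable (conj_smul_le_iff mem_conj_smul_iff card_conj_smul conj_smul_conj_smul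
  conj_smul_mono conj_smul_self_of_mem_normalizer conj_smul_eq_map)

universe u

section Norm

variable {E C : Type*} [Group E] [CommGroup C] [Finite C] (φ : E →* MulAut C) (U : Subgroup E)
  [Fintype U]

/-- In a Frobenius group `U K` on an abelian group: if every fixed point of `K₁` is fixed by
`k ∉ K₁`, then `U` acts trivially. -/
theorem fixed_of_frobenius_prime_action (hcop : (Nat.card U).Coprime (Nat.card C))
    (K₁ : Subgroup E) [Fintype K₁] {k : E}
    (hnorm : ∀ a ∈ K₁, a ∈ normalizer (U : Set E)) (hknorm : k ∈ normalizer (U : Set E))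
    (hfree : ∀ a ∈ K₁, a ≠ 1 → ∀ u ∈ U, u * a = a * u → u = 1)
    (hkfree : ∀ a ∈ K₁, ∀ u ∈ U, u * (k * a) = (k * a) * u → u = 1)
    (hfix : ∀ v : C, (∀ a ∈ K₁, φ a v = v) → φ k v = v) {u₀ : E} (hu₀ : u₀ ∈ U) (v : C) :
    φ u₀ v = v := by
  classical
  set n := Nat.card U with hn
  have hNfix : ∀ z : C, ∀ w ∈ U, φ w (∏ u : U, φ (u : E) z) = ∏ u : U, φ (u : E) z := by
    intro z w hw
    rw [map_prod]
    refine Fintype.prod_equiv (Equiv.mulLeft (⟨w, hw⟩ : U)) _ _ fun u => ?_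
    show φ w (φ (u : E) z) = φ (w * u) z
    rw [map_mul, MulAut.mul_apply]
  set w₀ := v ^ n * (∏ u : U, φ (u : E) v)⁻¹ with hw₀
  have hzero : ∏ u : U, φ (u : E) w₀ = 1 := by
    simp only [hw₀, map_mul, map_inv, map_pow, Finset.prod_mul_distrib, Finset.prod_inv_distrib,
      Finset.prod_pow]
    have h1 : ∀ u : U, φ (u : E) (∏ w : U, φ (w : E) v) = ∏ w : U, φ (w : E) v :=
      fun u => hNfix v u u.2
    simp only [h1, Finset.prod_const, Finset.card_univ, ← Nat.card_eq_fintype_card, ← hn, mul_inv_cancel]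
  have hzero' : ∀ {b : E}, b ∈ normalizer (U : Set E) → (∀ u ∈ U, u * b = b * u → u = 1) →
      ∏ u : U, φ ((u : E) * b * (u : E)⁻¹) w₀ = 1 := by
    intro b hb hbf
    have hmem : ∀ u : U, (u : E) * b * (u : E)⁻¹ * b⁻¹ ∈ U := fun u => by
      have h1 : b * (u : E)⁻¹ * b⁻¹ ∈ U := (mem_normalizer_iff.1 hb _).1 (inv_mem u.2)
      simpa [mul_assoc] using mul_mem u.2 h1
    let g : U → U := fun u => ⟨(u : E) * b * (u : E)⁻¹ * b⁻¹, hmem u⟩
    have hg : Function.Injective g := by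
      intro u w h
      have h' : (u : E) * b * (u : E)⁻¹ = (w : E) * b * (w : E)⁻¹ := mul_right_cancel (congrArg Subtype.val h)
      have h2 : ((w : E)⁻¹ * u) * b = b * ((w : E)⁻¹ * u) := by
        calc ((w : E)⁻¹ * u) * b = (w : E)⁻¹ * ((u : E) * b * (u : E)⁻¹) * u := by group
          _ = (w : E)⁻¹ * ((w : E) * b * (w : E)⁻¹) * u := by rw [h']
          _ = b * ((w : E)⁻¹ * u) := by group
      exact Subtype.ext (inv_mul_eq_one.1 (hbf _ (mul_mem (inv_mem w.2) u.2) h2)).symm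
    let g' : U → U := fun u => ⟨b * (u : E) * b⁻¹, (mem_normalizer_iff.1 hb _).1 u.2⟩
    have hg' : Function.Injective g' := fun u w h =>
      Subtype.ext (mul_left_cancel (mul_right_cancel (congrArg Subtype.val h)))
    calc ∏ u : U, φ ((u : E) * b * (u : E)⁻¹) w₀ = ∏ u : U, φ ((u : E) * b) w₀ := by
          refine Fintype.prod_bijective g ⟨hg, Finite.surjective_of_injective hg⟩ _ _ fun u => ?_
          show φ _ w₀ = φ ((u : E) * b * (u : E)⁻¹ * b⁻¹ * b) w₀
          rw [inv_mul_cancel_right]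
      _ = ∏ u : U, φ b (φ (u : E) w₀) := by
          refine (Fintype.prod_bijective g' ⟨hg', Finite.surjective_of_injective hg'⟩ _ _ fun u => ?_).symm
          show φ b (φ (u : E) w₀) = φ (b * (u : E) * b⁻¹ * b) w₀
          rw [inv_mul_cancel_right, map_mul φ, MulAut.mul_apply]
      _ = 1 := by rw [← map_prod, hzero, map_one]
  have key : ∀ w, φ k (∏ a : K₁, φ (a : E) w) = ∏ a : K₁, φ (a : E) w := fun w => by
    refine hfix _ fun b hb => ?_
    rw [map_prod]
    refine Fintype.prod_equiv (Equiv.mulLeft (⟨b, hb⟩ : K₁)) _ _ fun a => ?_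
    show φ b (φ (a : E) w) = φ (b * a) w
    rw [map_mul, MulAut.mul_apply]
  have e1 : ∀ (a : K₁) (u : U) (b : E), φ ((u : E) * (b * a) * (u : E)⁻¹) w₀ =
      φ (u : E) (φ b (φ (a : E) (φ (u : E)⁻¹ w₀))) := fun a u b => by
    rw [map_mul φ, map_mul φ, map_mul φ, MulAut.mul_apply, MulAut.mul_apply, MulAut.mul_apply]
  have h3 : ∏ a : K₁, ∏ u : U, φ ((u : E) * (k * a) * (u : E)⁻¹) w₀ =
      ∏ a : K₁, ∏ u : U, φ ((u : E) * (1 * a) * (u : E)⁻¹) w₀ := by
    rw [Finset.prod_comm]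
    conv_rhs => rw [Finset.prod_comm]
    refine Finset.prod_congr rfl fun u _ => ?_
    simp only [e1]
    rw [← map_prod, ← map_prod, ← map_prod, key, ← map_prod, map_one, MulAut.one_apply]
  rw [Finset.prod_eq_one (fun (a : K₁) _ => hzero' (mul_mem hknorm (hnorm a a.2)) (hkfree a a.2)),
    Finset.prod_eq_single_of_mem (1 : K₁) (Finset.mem_univ _) (fun a _ ha1 => by
      rw [one_mul]
      exact hzero' (hnorm a a.2) (hfree a a.2 fun h => ha1 (Subtype.ext h)))] at h3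
  simp only [OneMemClass.coe_one, mul_one, one_mul, mul_inv_cancel, map_one, MulAut.one_apply,
    Finset.prod_const, Finset.card_univ, ← Nat.card_eq_fintype_card, ← hn] at h3
  have hw1 : w₀ = 1 := hcop.symm.pow_left_bijective.1 (h3.symm.trans (one_pow n).symm)
  rw [hw₀, mul_inv_eq_one] at hw1
  refine hcop.symm.pow_left_bijective.1 ?_
  show φ u₀ v ^ n = v ^ n
  rw [← map_pow, hw1]
  exact hNfix v u₀ hu₀

end Norm

variable {G : Type u} [Group G] [Finite G]

/-- The same on an `s`-subgroup `T`. -/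
theorem le_centralizer_of_frobenius_prime_action {T U K₁ : Subgroup G} {k : G} {s : ℕ}
    [hs : Fact s.Prime] (hT : IsPGroup s T) (hUT : U ≤ normalizer (T : Set G))
    (hK₁T : K₁ ≤ normalizer (T : Set G)) (hkT : k ∈ normalizer (T : Set G))
    (hK₁U : K₁ ≤ normalizer (U : Set G)) (hkU : k ∈ normalizer (U : Set G))
    (hcopU : (Nat.card U).Coprime s) (hcopK : (Nat.card K₁).Coprime s)
    (hfree : ∀ a ∈ K₁, a ≠ 1 → ∀ u ∈ U, u * a = a * u → u = 1)
    (hkfree : ∀ a ∈ K₁, ∀ u ∈ U, u * (k * a) = (k * a) * u → u = 1)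
    (hfix : ∀ x ∈ T, x ∈ centralizer (K₁ : Set G) → k * x = x * k) :
    U ≤ centralizer (T : Set G) := by
  classical
  set E := normalizer (T : Set G)
  set Φ := frattini T with hΦ
  have hmap : ∀ e : MulAut T, Φ.map e.toMonoidHom = Φ := fun e =>
    characteristic_iff_map_eq.1 inferInstance e
  let ψ : MulAut T →* MulAut (T ⧸ Φ) :=
    { toFun := fun e => QuotientGroup.congr Φ Φ e (hmap e)
      map_one' := by ext x; induction x using QuotientGroup.induction_on with | _ y => rfl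
      map_mul' := fun e f => by ext x; induction x using QuotientGroup.induction_on with | _ y => rfl }
  let φ : E →* MulAut (T ⧸ Φ) := ψ.comp (normalizerMonoidHom T)
  letI : CommGroup (T ⧸ Φ) :=
    { (inferInstance : Group (T ⧸ Φ)) with mul_comm := CfsgLib.PGroup.quotient_frattini_comm hT }
  have hcardΦ : ∀ {X : Subgroup G}, (Nat.card X).Coprime s → (Nat.card X).Coprime (Nat.card (Φ.map T.subtype)) := by
    intro X hX
    obtain ⟨m, hm⟩ := IsPGroup.iff_card.1 (hT.to_le (map_subtype_le Φ))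
    rw [hm]; exact hX.pow_right m
  have hn : ∀ {g : G}, g ∈ E → g ∈ normalizer ((Φ.map T.subtype : Subgroup G) : Set G) := fun {g} hg => by
    refine CfsgLib.Solvable.mem_normalizer_of_conj_mem ?_
    rintro _ ⟨y, hy, rfl⟩
    exact ⟨_, (hmap (normalizerMonoidHom T ⟨g, hg⟩)).le ⟨y, hy, rfl⟩, rfl⟩
  have hφ : ∀ (e : E) (x : T), φ e (x : T ⧸ Φ) = ((normalizerMonoidHom T e x : T) : T ⧸ Φ) := fun e x => rfl
  have hlift : ∀ {X : Subgroup G}, X ≤ E → (Nat.card X).Coprime s → ∀ x : T,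
      (∀ e : E, (e : G) ∈ X → φ e (x : T ⧸ Φ) = x) →
      ∃ f : T, f ∈ Φ ∧ ((f * x : T) : G) ∈ centralizer (X : Set G) := by
    intro X hX hc x hx
    obtain ⟨m, hm, hmx⟩ := CfsgLib.Solvable.exists_mul_mem_centralizer X (Φ.map T.subtype)
      (fun g hg => hn (hX hg)) (hcardΦ hc)
      (Or.inr (CfsgLib.Solvable.isSolvable_of_le (by have := hT.isNilpotent; infer_instance) (map_subtype_le Φ))) x
      fun a ha => by
        have h1 := hx ⟨a, hX ha⟩ ha
        rw [hφ, QuotientGroup.eq] at h1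
        refine ⟨normalizerMonoidHom T ⟨a, hX ha⟩ x * x⁻¹, ?_, rfl⟩
        have h2 := (inferInstance : Φ.Normal).conj_mem _ h1 (normalizerMonoidHom T ⟨a, hX ha⟩ x)
        show normalizerMonoidHom T ⟨a, hX ha⟩ x * x⁻¹ ∈ Φ
        rw [← inv_mem_iff]
        simpa [mul_assoc] using h2
    obtain ⟨f, hf, rfl⟩ := hm
    exact ⟨f, hf, hmx⟩
  haveI : Fintype (U.subgroupOf E) := Fintype.ofFinite _
  haveI : Fintype (K₁.subgroupOf E) := Fintype.ofFinite _
  have hmemN : ∀ {X : Subgroup G} {g : E}, (g : G) ∈ normalizer (X : Set G) →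
      g ∈ normalizer ((X.subgroupOf E : Subgroup E) : Set E) := fun {X g} hg =>
    mem_normalizer_iff.2 fun x => mem_normalizer_iff.1 hg (x : G)
  have htriv : ∀ x : T, ∀ e : E, (e : G) ∈ U → φ e (x : T ⧸ Φ) = x := fun x e he => by
    refine fixed_of_frobenius_prime_action φ (U.subgroupOf E) ?_ (K₁.subgroupOf E) (k := ⟨k, hkT⟩)
      (fun a ha => hmemN (hK₁U ha)) (hmemN hkU)
      (fun a ha ha1 u hu hc => Subtype.ext (hfree a ha (fun e' => ha1 (Subtype.ext e')) u hu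
        (congrArg Subtype.val hc)))
      (fun a ha u hu hc => Subtype.ext (hkfree a ha u hu (congrArg Subtype.val hc))) ?_ he _
    · rw [Nat.card_congr (subgroupOfEquivOfLe hUT).toEquiv]
      obtain ⟨m, hm⟩ := IsPGroup.iff_card.1 hT
      exact (hcopU.pow_right m).coprime_dvd_right (hm ▸ card_quotient_dvd_card Φ)
    · intro v hv
      induction v using QuotientGroup.induction_on with
      | _ y =>
        obtain ⟨f, hf, hfy⟩ := hlift hK₁T hcopK y fun e' he' => hv e' he'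
        have hyeq : ((f * y : T) : T ⧸ Φ) = (y : T ⧸ Φ) := by
          rw [QuotientGroup.mk_mul, (QuotientGroup.eq_one_iff f).2 hf, one_mul]
        rw [← hyeq, hφ]
        refine congrArg _ (Subtype.ext ?_)
        show k * ((f * y : T) : G) * k⁻¹ = _
        rw [hfix _ (f * y).2 hfy, mul_inv_cancel_right]
  have htop : (centralizer (U : Set G)).subgroupOf T ⊔ Φ = ⊤ := by
    refine eq_top_iff.2 fun x _ => ?_
    obtain ⟨f, hf, hfx⟩ := hlift hUT hcopU x (htriv x)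
    rw [show x = f⁻¹ * (f * x) by group]
    exact mul_mem (mem_sup_right (inv_mem hf)) (mem_sup_left hfx)
  rw [le_centralizer_iff]
  intro x hx
  exact mem_subgroupOf.1 ((CfsgLib.PGroup.eq_top_of_sup_frattini htop).ge (mem_top ⟨x, hx⟩))

variable (h : Pre' G)
include h

/-- For a prime `p ∉ σ(M) ∪ κ(M)` dividing `|U|`: `U` fixes only the identity of `M_σ`. -/
theorem Pre'.U_fixed_bot {M K U : Subgroup G} (hM : IsCoatom M) (hKU : IsSigmaDecomposition M K U)
    (hU1 : U ≠ ⊥) :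
    sigmaCore M ⊓ centralizer (U : Set G) = ⊥ ∧ Group.IsNilpotent (sigmaCore M) := by
  obtain ⟨p, Y, hp, hY, hYc⟩ := exists_prime_subgroup hU1
  have : Fact p.Prime := ⟨hp⟩
  have hpU : p ∣ Nat.card U := (dvd_of_eq hYc.symm).trans (card_dvd_of_le hY)
  have hUh := S15.isPiHallOf_U h.toPre.hyp1350 hM hKU
  obtain ⟨-, hpκ, hpσ⟩ := hUh.2.1 p hp hpU
  obtain ⟨S₀, hS₀⟩ := exists_sylowOf U p
  have hS : IsPiHallOf {p} S₀ M := CfsgLib.PGroup.isPiHallOf_trans hS₀ hUh.1 fun r _ hr hd => by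
    rw [Set.mem_singleton_iff.1 hr] at hd
    exact hUh.2.2 p hp ⟨hp, hpκ, hpσ⟩ hd
  obtain ⟨S, rfl⟩ := exists_sylow_of_hallOf hS
  obtain ⟨-, hbot, hnil⟩ := h.toPre.non_kappa_omega hM (hpU.trans (card_dvd_of_le hUh.1)) hpσ hpκ S
  refine ⟨le_bot_iff.1 ((inf_le_inf_left _ (centralizer_anti ?_)).trans hbot.le), hnil⟩
  exact (closure_le _).2 fun x hx => hS₀.1 hx.1

/-- `C_{M_σ}(K) ≠ M_σ`. -/
theorem Pre'.kstar_ne_sigmaCore {M K : Subgroup G} (hM : IsCoatom M) (hK : IsPiHallOf (kappa M) K M)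
    (hK1 : K ≠ ⊥) : ¬ sigmaCore M ≤ centralizer (K : Set G) := by
  intro hle
  obtain ⟨p, hp, hd⟩ := Nat.exists_prime_and_dvd fun e =>
    h.toPre.sigmaCore_ne_bot hM (eq_bot_of_card_eq _ e)
  have : Fact p.Prime := ⟨hp⟩
  obtain ⟨S, hS⟩ := exists_sylowOf (sigmaCore M) p
  rw [← inf_eq_left.2 hle] at hd
  exact (h.kstar_sylow hM hK hK1 hd hS).2 (le_inf hS.1 (hS.1.trans hle))

/-- BG 14.2: `U ≠ 1` and `K ≠ 1` imply that `|K|` is prime. -/
theorem Pre'.kappaHall_prime {M K U : Subgroup G} (hM : IsCoatom M) (hKU : IsSigmaDecomposition M K U)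
    (hK1 : K ≠ ⊥) (hU1 : U ≠ ⊥) : (Nat.card K).Prime := by
  by_contra hnp
  obtain ⟨p, K₁, hp, hK₁, hK₁c⟩ := exists_prime_subgroup hK1
  obtain ⟨k, hkK, hk1⟩ : ∃ k ∈ K, k ∉ K₁ := by
    by_contra hno
    push Not at hno
    rw [le_antisymm hno hK₁, hK₁c] at hnp
    exact hnp hp
  obtain ⟨a, ha1, -, hza⟩ := exists_zpowers_of_card hp hK₁c
  have haK : a ∈ K := hK₁ (hza ▸ mem_zpowers a)
  obtain ⟨-, -, hn, hfree, -⟩ := h.decomposition_struct hM hKU hK1
  have hfree' : ∀ b ∈ K, b ≠ 1 → ∀ u ∈ U, u * b = b * u → u = 1 := fun b hb hb1 u hu hub =>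
    mem_bot.1 ((hfree b hb hb1).le ⟨hu, mem_centralizer_singleton_iff.2 hub⟩)
  obtain ⟨hbot, -⟩ := h.U_fixed_bot hM hKU hU1
  have hUM := hKU.compl.1
  have hEn : U ⊔ K ≤ normalizer (sigmaCore M : Set G) :=
    (sup_le hUM hKU.hall.1).trans (le_normalizer_piCoreOf _ _)
  have hπ : IsPi {r | r ∉ sigma M} (U ⊔ K : Subgroup G) := fun r hr hd =>
    S15.E_primes h.toPre.hyp1350 hM hKU hr hd
  have hcop : (Nat.card ↥(U ⊔ K)).Coprime (Nat.card (sigmaCore M)) :=
    coprime_of_isPi hπ (isPi_piCoreOf (sigma M) M) fun r _ h1 h2 => h1 h2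
  have hsol := h.toPre.isSolvable_le hM (piCoreOf_le (sigma M) M)
  refine h.toPre.sigmaCore_ne_bot hM (le_bot_iff.1 ((le_inf le_rfl ?_).trans hbot.le))
  refine le_centralizer_iff.1 (le_centralizer_of_sylows fun s hs => ?_)
  have : Fact s.Prime := ⟨hs⟩
  obtain ⟨T, hT, hTn, -⟩ := exists_invariant_sylowOf (A := U ⊔ K) (q := s) hEn hcop hsol (U := ⊥) bot_le
    (by intro x _; rw [normalizer_eq_top]; trivial) IsPGroup.of_bot
  refine ⟨T, hT, ?_⟩
  have hTs := isPGroup_of_isPi_singleton hT.2.1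
  rcases eq_or_ne T ⊥ with rfl | hT1
  · intro x _
    rw [mem_centralizer_iff]
    rintro y hy
    rw [mem_bot.1 hy]; simp
  have hsT : s ∣ Nat.card (sigmaCore M) := (dvd_card_of_isPGroup hTs hT1).trans (card_dvd_of_le hT.1)
  have hcs : ∀ {X : Subgroup G}, X ≤ U ⊔ K → (Nat.card X).Coprime s := fun hX =>
    (hcop.coprime_dvd_left (card_dvd_of_le hX)).coprime_dvd_right hsT
  refine le_centralizer_of_frobenius_prime_action (s := s) (K₁ := K₁) (k := k) hTs (le_sup_left.trans hTn)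
    ((hK₁.trans le_sup_right).trans hTn) (hTn (mem_sup_right hkK)) (hK₁.trans hKU.normal)
    (hKU.normal hkK) (hcs le_sup_left) (hcs (hK₁.trans le_sup_right))
    (fun b hb hb1 => hfree' b (hK₁ hb) hb1) (fun b hb => hfree' _ (K.mul_mem hkK (hK₁ hb)) ?_) ?_
  · intro e
    exact hk1 (by rw [eq_inv_of_mul_eq_one_left e]; exact inv_mem hb)
  · intro x hx hxC
    have h1 : x ∈ sigmaCore M ⊓ centralizer (K : Set G) := by
      rw [← h.kappa_fixed_eq hM hKU.hall haK ha1]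
      exact ⟨hT.1 hx, centralizer_singleton_of_mem (hza ▸ mem_zpowers a) hxC⟩
    exact mem_centralizer_iff.1 h1.2 k hkK

/-- `U ≠ 1` and `K ≠ 1`: all primes of `σ(M)` lie in `β(M)`. -/
theorem Pre'.sigma_subset_beta {M K U : Subgroup G} (hM : IsCoatom M) (hKU : IsSigmaDecomposition M K U)
    (hK1 : K ≠ ⊥) (hU1 : U ≠ ⊥) {s : ℕ} (hs : s ∈ sigma M) : s ∈ beta M := by
  by_contra hβ
  have : Fact s.Prime := ⟨hs.1⟩
  obtain ⟨hE, -, -, -, hcase⟩ := h.decomposition_struct hM hKU hK1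
  obtain ⟨hUeq, -⟩ := hcase.resolve_right fun e => hU1 e.1
  have hUM' : U ≤ ⁅M, M⁆ := hUeq.le.trans (commutator_mono hE.1 hE.1)
  obtain ⟨hbot, -⟩ := h.U_fixed_bot hM hKU hU1
  have hUM := hKU.compl.1
  have hUπ : IsPi {r | r ∉ sigma M} U := fun r hr hd =>
    ((S15.isPiHallOf_U h.toPre.hyp1350 hM hKU).2.1 r hr hd).2.2
  obtain ⟨S, hS, hSn, -⟩ := exists_invariant_sylowOf (A := U) (q := s)
    (hUM.trans (le_normalizer_piCoreOf (sigma M) M))
    (coprime_of_isPi hUπ (isPi_piCoreOf (sigma M) M) fun r _ h1 h2 => h1 h2)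
    (h.toPre.isSolvable_le hM (piCoreOf_le (sigma M) M)) (U := ⊥) bot_le
    (by intro x _; rw [normalizer_eq_top]; trivial) IsPGroup.of_bot
  have hUS : U ≤ centralizer (S : Set G) := le_of_pSubgroups fun r hr hd R hR hRp => by
    have : Fact r.Prime := ⟨hr⟩
    exact h.toPre.centralizes_of_le_derived hM (p := r) (q := s) (fun e => hUπ r hr hd (e ▸ hs)) (hR.trans hUM')
      (hS.1.trans (piCoreOf_le _ _)) hRp (isPGroup_of_isPi_singleton hS.2.1) (hR.trans hSn) hβ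
  have hd : s ∣ Nat.card (sigmaCore M) :=
    dvd_card_of_hallOf (h.toPre.sigmaCore_hall hM) hs.1 hs hs.2.1
  have hsS : s ∣ Nat.card S := dvd_card_of_hallOf hS hs.1 rfl hd
  have : S ≤ (⊥ : Subgroup G) := (le_inf hS.1 (le_centralizer_iff.1 hUS)).trans hbot.le
  rw [le_bot_iff.1 this, Subgroup.card_bot] at hsS
  exact hs.1.not_dvd_one hsS

/-- `U ≠ 1` and `K ≠ 1`: `C(x) ≤ M` for `x ∈ M_σ#`. -/
theorem Pre'.centralizer_le_of_U {M K U : Subgroup G} (hM : IsCoatom M)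
    (hKU : IsSigmaDecomposition M K U) (hK1 : K ≠ ⊥) (hU1 : U ≠ ⊥) {x : G} (hx : x ∈ sigmaCore M)
    (hx1 : x ≠ 1) : centralizer ({x} : Set G) ≤ M := by
  by_contra hxM
  obtain ⟨N, -, -, -, -, hτ, -⟩ := h.supporting_maximal hM hx hx1 hxM
  obtain ⟨r, hr, hd⟩ := exists_prime_orderOf hx1
  exact (hτ r hr hd).2 (h.sigma_subset_beta hM hKU hK1 hU1
    (isPi_piCoreOf (sigma M) M r hr (hd.trans ((sigmaCore M).orderOf_dvd_natCard hx))))

end CfsgLib.OddLocal.Sec13
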