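import Cfsg.Agent.Lib.OddLocal.S16Main

/-!
# Section 16: the classes of maximal subgroups
-/

set_option autoImplicit false
set_option linter.style.haveILetI false
set_option linter.unusedSectionVars false

open scoped Pointwise commutatorElement

namespace CfsgLib.OddLocal.S15

universe u

variable {G : Type u} [Group G] [Finite G] {M K U : Subgroup G}

theorem typeP_type (hG : Cfsg.IsMinSimpleOddOrder G) (B : S16Base G) (hM : IsCoatom M)
    (hKU : Cfsg.IsSigmaDecomposition M K U) (hK1 : K ≠ ⊥) :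
    Cfsg.IsOfTypeII M ∨ Cfsg.IsOfTypeIII M ∨ Cfsg.IsOfTypeIV M ∨ Cfsg.IsOfTypeV M := by
  by_cases hU : U = ⊥
  · by_cases hF : Cfsg.fittingHallOf M = Cfsg.sigmaCore M
    · exact Or.inr (Or.inr (Or.inr (typeV_of hG B hM hKU hK1 hU hF)))
    · rcases typeIII_or_IV_of hG B hM hKU hF with h | h
      exacts [Or.inr (Or.inl h), Or.inr (Or.inr (Or.inl h))]
  · exact Or.inl (typeII_of hG B hM hKU hK1 hU)

/-- Every maximal subgroup is of type I (read in `M_F`) or of one of the types II–V. -/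
theorem type_exhaust (hG : Cfsg.IsMinSimpleOddOrder G) (B : S16Base G) (hM : IsCoatom M) :
    IsTypeICore M ∨
      Cfsg.IsOfTypeII M ∨ Cfsg.IsOfTypeIII M ∨ Cfsg.IsOfTypeIV M ∨ Cfsg.IsOfTypeV M := by
  obtain ⟨K, U, hKU⟩ := exists_decomposition B.h1350 hM B.h1351 B.h1352
  by_cases hK : K = ⊥
  · exact Or.inl (typeI_of_K_eq_bot hG B hM hKU hK)
  · exact Or.inr (typeP_type hG B hM hKU hK)

/-- The content of S1385. -/
theorem maximal_classes (hG : Cfsg.IsMinSimpleOddOrder G) (B : S16Base G) :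
    (∀ M : Subgroup G, IsCoatom M → IsTypeICore M) ∨
      ∃ W₁ W₂ S T : Subgroup G, Cfsg.IsSelfNormalizingCyclic W₁ W₂ ∧ IsCoatom S ∧ IsCoatom T ∧
        Cfsg.IsComplIn ⁅S, S⁆ W₁ S ∧ Cfsg.IsComplIn ⁅T, T⁆ W₂ T ∧ S ⊓ T = W₁ ⊔ W₂ ∧
        (Cfsg.IsOfTypeII S ∨ Cfsg.IsOfTypeII T) ∧
        (Cfsg.IsOfTypeII S ∨ Cfsg.IsOfTypeIII S ∨ Cfsg.IsOfTypeIV S ∨ Cfsg.IsOfTypeV S) ∧
        (Cfsg.IsOfTypeII T ∨ Cfsg.IsOfTypeIII T ∨ Cfsg.IsOfTypeIV T ∨ Cfsg.IsOfTypeV T) ∧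
        ∀ M : Subgroup G, IsCoatom M → IsTypeICore M ∨
          ∃ g : G, M = S.map (MulAut.conj g).toMonoidHom ∨ M = T.map (MulAut.conj g).toMonoidHom := by
  by_cases h : ∀ M : Subgroup G, IsCoatom M → ∀ K U : Subgroup G,
      Cfsg.IsSigmaDecomposition M K U → K = ⊥
  · refine Or.inl fun M hM => ?_
    obtain ⟨K, U, hKU⟩ := exists_decomposition B.h1350 hM B.h1351 B.h1352
    exact typeI_of_K_eq_bot hG B hM hKU (h M hM K U hKU)
  push Not at h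
  obtain ⟨M, hM, K, U, hKU, hK1⟩ := h
  obtain ⟨Ms, ⟨hMs, hKst, hKstH⟩, -⟩ := B.h1366 M hM K U hKU hK1
  set Ks := Cfsg.sigmaCore M ⊓ Subgroup.centralizer (K : Set G)
  have hKs1 : Ks ≠ ⊥ := (B.h1354 M hM K hKU.cyclic hKU.hall).1
  obtain ⟨⟨Us, hKUs⟩, -⟩ := B.h1352 Ms hMs Ks ((B.h1351 Ms hMs).2 Ks hKstH) hKstH
  obtain ⟨hII, hclass⟩ := B.h1369 M hM K U hKU hK1 Ms hMs hKst hKstH
  refine Or.inr ⟨K, Ks, M, Ms, selfNormalizing B hM hKU hK1, hM, hMs,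
    derived_compl_K B.toBase hM hKU hK1, derived_compl_K B.toBase hMs hKUs hKs1,
    (B.h1368 M hM K U hKU hK1 Ms hMs hKst hKstH).1, ?_, typeP_type hG B hM hKU hK1,
    typeP_type hG B hMs hKUs hKs1, fun H hH => ?_⟩
  · rcases hII with h | h
    · exact Or.inl (typeII_of hG B hM hKU hK1 h)
    · exact Or.inr (typeII_of hG B hMs hKUs hKs1 (h Us hKUs))
  · obtain ⟨K', U', hKU'⟩ := exists_decomposition B.h1350 hH B.h1351 B.h1352
    by_cases hK' : K' = ⊥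
    · exact Or.inl (typeI_of_K_eq_bot hG B hH hKU' hK')
    · exact Or.inr (hclass H hH (exists_kappa hKU' hK'))

end CfsgLib.OddLocal.S15
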