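import Cfsg.Agent.Lib.OddLocal.S16Sets

/-!
# Section 16: Sylow subgroups of `M_s`, complements in types I and II
-/

set_option autoImplicit false
set_option linter.style.haveILetI false
set_option linter.unusedSectionVars false

open scoped Pointwise commutatorElement

namespace CfsgLib.OddLocal.S15

universe u

variable {G : Type u} [Group G] [Finite G] {M N K U : Subgroup G}

theorem normalizer_sylow_sigmaCore_le (h1350 : Hyp1350 G) (hM : IsCoatom M) {p : ℕ} (hp : p.Prime)
    (P : Sylow p ↥(Cfsg.sigmaCore M)) (hP : (P : Subgroup ↥(Cfsg.sigmaCore M)) ≠ ⊥) :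
    Subgroup.normalizer ((((P : Subgroup ↥(Cfsg.sigmaCore M)).map (Cfsg.sigmaCore M).subtype :
      Subgroup G)) : Set G) ≤ M := by
  haveI := Fact.mk hp
  set Q := (P : Subgroup ↥(Cfsg.sigmaCore M)).map (Cfsg.sigmaCore M).subtype with hQ
  have hQp : IsPGroup p Q := P.2.map _
  have hpd : p ∣ Nat.card (Cfsg.sigmaCore M) := by
    obtain ⟨k, hk⟩ := P.2.exists_card_eq
    refine dvd_trans ?_ ((P : Subgroup ↥(Cfsg.sigmaCore M)).card_subgroup_dvd_card)
    rw [hk]
    refine dvd_pow_self p fun h => hP (Subgroup.card_eq_one.1 ?_)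
    rw [hk, h, pow_zero]
  have hσ : p ∈ Cfsg.sigma M := (h1350 M hM).1.2.1 p hp hpd
  obtain ⟨-, -, S, hS⟩ := id hσ
  have hQM : Q ≤ M := (Subgroup.map_subtype_le _).trans (sigmaCore_le M)
  have hQi : ¬ p ∣ (Q.subgroupOf M).index := by
    show ¬ p ∣ Q.relIndex M
    rw [← Subgroup.relIndex_mul_relIndex Q _ M (Subgroup.map_subtype_le _) (sigmaCore_le M)]
    exact fun h => (hp.dvd_mul.1 h).elim (relIndex_sylow_map P) ((h1350 M hM).1.2.2 p hp hσ)
  set S' : Sylow p M := IsPGroup.toSylow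
    (hQp.of_equiv (Subgroup.subgroupOfEquivOfLe hQM).symm) hQi
  obtain ⟨m, hm⟩ := MulAction.exists_smul_eq M S S'
  have hmap : (S' : Subgroup M).map M.subtype =
      ((S : Subgroup M).map M.subtype).map (MulAut.conj (m : G)).toMonoidHom := by
    rw [← hm, Subgroup.map_map]
    show ((MulAut.conj m • (S : Subgroup M) : Subgroup M)).map M.subtype = _
    rw [CfsgLib.Solvable.conj_smul_eq_map, Subgroup.map_map]
    congr 1
  have hQ' : (S' : Subgroup M).map M.subtype = Q := Subgroup.map_subgroupOf_eq_of_le hQM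
  rw [← hQ', hmap, normalizer_map_conj]
  exact (Subgroup.map_mono hS).trans (map_conj_of_mem m.2).le

theorem coprime_card_index_sigmaCore (h1350 : Hyp1350 G) (hM : IsCoatom M) :
    (Nat.card (Cfsg.sigmaCore M)).Coprime (Cfsg.sigmaCore M).index :=
  coprime_of_pi (h1350 M hM).2.1.1 (h1350 M hM).2.1.2

theorem coprime_card_index_fittingHallOf (hG : Cfsg.IsMinSimpleOddOrder G) (h1350 : Hyp1350 G)
    (hM : IsCoatom M) :
    (Nat.card (Cfsg.fittingHallOf M)).Coprime (Cfsg.fittingHallOf M).index := by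
  have hle := fittingHallOf_le_sigmaCore h1350 hM hG
  rw [← Subgroup.relIndex_mul_index hle]
  refine Nat.Coprime.mul_right ?_ ((coprime_card_index_sigmaCore h1350 hM).coprime_dvd_left
    (Subgroup.card_dvd_of_le hle))
  exact (coprime_fittingHallOf M).coprime_dvd_right
    ⟨_, (Subgroup.relIndex_mul_relIndex _ _ M hle (sigmaCore_le M)).symm⟩

/-- The content of S1389. -/
theorem typeCore_sylow_hall (hG : Cfsg.IsMinSimpleOddOrder G) (B : S16Base G) (hM : IsCoatom M) :
    (∀ (p : ℕ), p.Prime → ∀ (P : Sylow p ↥(Cfsg.typeCore M)), (P : Subgroup ↥(Cfsg.typeCore M)) ≠ ⊥ →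
        Subgroup.normalizer ((((P : Subgroup ↥(Cfsg.typeCore M)).map (Cfsg.typeCore M).subtype :
          Subgroup G)) : Set G) ≤ M) ∧
      (Nat.card (Cfsg.fittingHallOf M)).Coprime (Cfsg.fittingHallOf M).index ∧
      (Nat.card (Cfsg.typeCore M)).Coprime (Cfsg.typeCore M).index := by
  refine ⟨?_, coprime_card_index_fittingHallOf hG B.h1350 hM, ?_⟩
  · suffices h : ∀ H : Subgroup G, H = Cfsg.sigmaCore M → ∀ (p : ℕ), p.Prime → ∀ (P : Sylow p H),
        (P : Subgroup H) ≠ ⊥ → Subgroup.normalizer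
          ((((P : Subgroup H).map H.subtype : Subgroup G)) : Set G) ≤ M from
      h _ (typeCore_eq hG B hM)
    rintro H rfl p hp P hP
    exact normalizer_sylow_sigmaCore_le B.h1350 hM hp P hP
  · rw [typeCore_eq hG B hM]
    exact coprime_card_index_sigmaCore B.h1350 hM

/-- Conjugating a standard factorisation inside `M`. -/
theorem decomposition_conj (hKU : Cfsg.IsSigmaDecomposition M K U) {m : G} (hm : m ∈ M) :
    Cfsg.IsSigmaDecomposition M (K.map (MulAut.conj m).toMonoidHom)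
      (U.map (MulAut.conj m).toMonoidHom) := by
  have hMs : (Cfsg.sigmaCore M).map (MulAut.conj m).toMonoidHom = Cfsg.sigmaCore M :=
    map_conj_eq_self_iff.2 (le_normalizer_sigmaCore M hm)
  refine ⟨?_, ?_, ?_, ?_⟩
  · haveI := hKU.cyclic
    exact isCyclic_of_surjective _
      (Subgroup.equivMapOfInjective K _ (MulAut.conj m).injective).surjective
  · have h := CfsgLib.PGroup.isPiHallOf_conj hKU.hall (Subgroup.le_normalizer hm)
    rwa [CfsgLib.Solvable.conj_smul_eq_map] at h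
  · have h := isComplIn_map_conj m hKU.compl
    rwa [Subgroup.map_sup, hMs, map_conj_of_mem hm] at h
  · rw [normalizer_map_conj]
    exact Subgroup.map_mono hKU.normal

/-- The complements of `M_F` in types I and II occur in standard factorisations. -/
theorem exists_decomposition_of_compl (hG : Cfsg.IsMinSimpleOddOrder G) (B : S16Base G)
    (hM : IsCoatom M)
    (hU : (IsTypeICore M ∧ Cfsg.IsComplIn (Cfsg.fittingHallOf M) U M) ∨
      (Cfsg.IsOfTypeII M ∧ Cfsg.IsComplIn (Cfsg.fittingHallOf M) U ⁅M, M⁆)) :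
    ∃ K : Subgroup G, Cfsg.IsSigmaDecomposition M K U ∧
      Cfsg.fittingHallOf M = Cfsg.sigmaCore M := by
  obtain ⟨K, U₀, hKU⟩ := exists_decomposition B.h1350 hM B.h1351 B.h1352
  rcases hU with ⟨hI, hc⟩ | ⟨hII, hc⟩
  · have hK := (isTypeICore_iff hG B hM hKU).1 hI
    have hF := fittingHallOf_eq_of_not_both hG B.toBase hM hKU
      (U_ne_bot_of_K_eq_bot hG B.toBase hM hKU hK)
    refine ⟨⊥, ⟨isCyclic_of_subsingleton, hK ▸ hKU.hall, ?_, bot_le⟩, hF⟩
    rw [bot_sup_eq, ← hF]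
    exact isComplIn_symm hc
  · obtain ⟨hK1, hU₀⟩ := (typeII_iff hG B hM hKU).1 hII
    have hF := fittingHallOf_eq_of_not_both hG B.toBase hM hKU hU₀
    rw [hF] at hc
    obtain ⟨m, hm, he⟩ := compl_conj_U hG B.toBase hM hKU hK1 hc
    have hd := decomposition_conj hKU (inv_mem hm)
    rw [← he, map_conj_inv_map] at hd
    exact ⟨_, hd, hF⟩

/-- The content of S1390. -/
theorem typeI_II_complement (hG : Cfsg.IsMinSimpleOddOrder G) (B : S16Base G) (hM : IsCoatom M)
    (hU : (IsTypeICore M ∧ Cfsg.IsComplIn (Cfsg.fittingHallOf M) U M) ∨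
      (Cfsg.IsOfTypeII M ∧ Cfsg.IsComplIn (Cfsg.fittingHallOf M) U ⁅M, M⁆)) :
    (∀ (p : ℕ), p.Prime → ∀ P : Sylow p U, IsMulCommutative (P : Subgroup U) ∧
        Cfsg.PRankLE p 2 (P : Subgroup U)) ∧
      (∀ X : Set G, X ⊆ (U : Set G) \ {1} → X.Nonempty →
        Cfsg.fittingHallOf M ⊓ Subgroup.centralizer X ≠ ⊥ →
        Subgroup.centralizer X ≤ M ∧
          ∀ L : Subgroup G, IsCoatom L → Subgroup.centralizer X ≤ L → L = M) ∧
      Cfsg.IsTISubset (typeACore M \ Cfsg.typeA1 M) := by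
  obtain ⟨K, hKU, hF⟩ := exists_decomposition_of_compl hG B hM hU
  refine ⟨fun p hp P => U_sylow B.h1350 B.h1405 B.h1420 hM hKU p hp P, fun X hX hne hXc => ?_, ?_⟩
  · obtain ⟨x, hx⟩ := hne
    have h := U_subgroup_nonregular hG B.h1350 B.h1417 B.h1421 B.h1430 B.h1432 hM hKU
      (X := Subgroup.closure X) ((Subgroup.closure_le U).2 fun y hy => (hX hy).1)
      (fun h => (hX hx).2 (by
        have h' := Subgroup.subset_closure (k := X) hx
        rwa [h, SetLike.mem_coe, Subgroup.mem_bot] at h'))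
      (by rw [Subgroup.centralizer_closure, ← hF]; exact hXc)
    rw [Subgroup.centralizer_closure] at h
    exact h.2.2
  · have he : typeACore M \ Cfsg.typeA1 M = Cfsg.sigmaA M U \ (Cfsg.sigmaCore M : Set G) := by
      rw [typeACore_eq hG B hM hKU, typeA1_eq hG B hM]
      ext a
      simp only [Set.mem_sdiff, Set.mem_singleton_iff, SetLike.mem_coe]
      exact ⟨fun ⟨⟨h1, h2⟩, h3⟩ => ⟨h1, fun h => h3 ⟨h, h2⟩⟩,
        fun ⟨h1, h3⟩ => ⟨⟨h1, fun h => h3 (h ▸ one_mem _)⟩, fun h => h3 h.1⟩⟩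
    rw [he]
    exact sigmaA_diff_TI hG B.toBase hM hKU

end CfsgLib.OddLocal.S15
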