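import Cfsg.Agent.Lib.OddLocal.S16Main

/-!
# Section 16: tame embedding of `A(M)` and `A₀(M)`
-/

set_option autoImplicit false
set_option linter.style.haveILetI false
set_option linter.unusedSectionVars false

open scoped Pointwise commutatorElement

namespace CfsgLib.OddLocal.S15

universe u

variable {G : Type u} [Group G] [Finite G] {M N L K U : Subgroup G}

/-- The set `Ẑ`. -/
def hatSet (M K : Subgroup G) : Set G :=
  (↑(K ⊔ (Cfsg.sigmaCore M ⊓ Subgroup.centralizer (K : Set G))) : Set G) \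
    ((K : Set G) ∪ ↑(Cfsg.sigmaCore M ⊓ Subgroup.centralizer (K : Set G)))

theorem mul_mem_hatSet (B : Base G) (hM : IsCoatom M) (hKU : Cfsg.IsSigmaDecomposition M K U)
    {k t : G} (hk : k ∈ K) (hk1 : k ≠ 1)
    (ht : t ∈ Cfsg.sigmaCore M ⊓ Subgroup.centralizer (K : Set G)) (ht1 : t ≠ 1) :
    k * t ∈ hatSet M K := by
  refine ⟨mul_mem (Subgroup.mem_sup_left hk) (Subgroup.mem_sup_right ht (S := K)), ?_⟩
  rintro (h | h)
  · have h' : t ∈ Cfsg.sigmaCore M ⊓ K := ⟨ht.1, by simpa using K.mul_mem (K.inv_mem hk) h⟩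
    rw [sigmaCore_inf_K B.h1350 hM hKU, Subgroup.mem_bot] at h'
    exact ht1 h'
  · have h' : k ∈ Cfsg.sigmaCore M ⊓ K := ⟨(Subgroup.mul_mem_cancel_right _ ht.1).1 h.1, hk⟩
    rw [sigmaCore_inf_K B.h1350 hM hKU, Subgroup.mem_bot] at h'
    exact hk1 h'

theorem hat_le_M (B : Base G) (hM : IsCoatom M) (hKU : Cfsg.IsSigmaDecomposition M K U) :
    K ⊔ (Cfsg.sigmaCore M ⊓ Subgroup.centralizer (K : Set G)) ≤ M :=
  sup_le (K_le B.h1350 hM hKU) (inf_le_left.trans (sigmaCore_le M))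

theorem one_notMem_hatSet : (1 : G) ∉ hatSet M K := fun h => h.2 (Or.inl (one_mem K))

theorem centralizer_le_of_hat (B : S16Base G) (hM : IsCoatom M)
    (hKU : Cfsg.IsSigmaDecomposition M K U) (hK1 : K ≠ ⊥) {z : G} (hz : z ∈ hatSet M K) :
    Subgroup.centralizer ({z} : Set G) ≤ M := by
  refine le_trans ?_ (hat_le_M B.toBase hM hKU)
  rw [← (selfNormalizing B hM hKU hK1).2.2.2.2.2 {z} (Set.singleton_subset_iff.2 hz)
    (Set.singleton_nonempty z)]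
  exact Subgroup.centralizer_le_normalizer _

theorem mem_of_hat_conj (B : S16Base G) (hM : IsCoatom M)
    (hKU : Cfsg.IsSigmaDecomposition M K U) (hK1 : K ≠ ⊥) {z g : G} (hz : z ∈ hatSet M K)
    (hgz : g * z * g⁻¹ ∈ hatSet M K) : g ∈ M := by
  by_contra hg
  obtain ⟨hTI, hN⟩ := B.h1370 M hM K U hKU hK1
  exact one_notMem_hatSet (M := M) (K := K)
    (hTI g (fun h => hg (hat_le_M B.toBase hM hKU (hN.le h))) z hz hgz ▸ hz)

/-- A `σ(M)`-element of `M` lies in `M_σ`, so `M_σ` controls its own elements' conjugates in `M`. -/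
theorem conj_mem_sigmaCore (B : Base G) (hM : IsCoatom M) {x g : G} (hx : x ∈ Cfsg.sigmaCore M)
    (hg : g * x * g⁻¹ ∈ M) : g * x * g⁻¹ ∈ Cfsg.sigmaCore M :=
  mem_sigmaCore B.h1350 hM hg fun p hp hd =>
    prime_mem_sigma_of_mem_sigmaCore B.h1350 hM hx hp (orderOf_conj g x ▸ hd)

/-- The elements of `A₀(M)`: in `M_σ`, in `A(M)∖M_σ`, or conjugate into `Ẑ`. -/
theorem sigmaA0_cases (hG : Cfsg.IsMinSimpleOddOrder G) (B : Base G) (hM : IsCoatom M)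
    (hKU : Cfsg.IsSigmaDecomposition M K U) {x : G} (hx : x ∈ Cfsg.sigmaA0 M K) :
    x ∈ Cfsg.sigmaCore M ∨ (x ∈ Cfsg.sigmaA M U ∧ x ∉ Cfsg.sigmaCore M) ∨
      (K ≠ ⊥ ∧ x ∉ U ⊔ Cfsg.sigmaCore M ∧ ∃ m ∈ M, ∃ z ∈ hatSet M K, x = m * z * m⁻¹) := by
  by_cases hxσ : x ∈ Cfsg.sigmaCore M
  · exact Or.inl hxσ
  by_cases hxU : x ∈ U ⊔ Cfsg.sigmaCore M
  · exact Or.inr (Or.inl ⟨⟨hx.1, hxU⟩, hxσ⟩)
  obtain ⟨hK1, m, hm, k, hk, hk1, t, ht, ht1, e⟩ := exists_hat_conj hG B hM hKU hx.1 hxU hx.2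
  exact Or.inr (Or.inr ⟨hK1, hxU, m, hm, k * t, mul_mem_hatSet B hM hKU hk hk1 ht ht1, e⟩)

theorem hat_not_UMs (B : Base G) (hM : IsCoatom M) (hKU : Cfsg.IsSigmaDecomposition M K U)
    (hG : Cfsg.IsMinSimpleOddOrder G) {z g : G} (hz : z ∈ hatSet M K) :
    g * z * g⁻¹ ∉ U ⊔ Cfsg.sigmaCore M := by
  intro h
  have hKn : K ≤ Subgroup.normalizer
      ((Cfsg.sigmaCore M ⊓ Subgroup.centralizer (K : Set G) : Subgroup G) : Set G) := fun a ha =>
    Subgroup.centralizer_le_normalizer _ (Subgroup.mem_centralizer_iff.2 fun b hb =>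
      (Subgroup.mem_centralizer_iff.1 hb.2 a ha).symm)
  obtain ⟨hzm, hz2⟩ := hz
  rw [sup_comm] at hzm
  obtain ⟨t, ht, k, hk, rfl⟩ := eq_mul_of_mem_sup hKn hzm
  have hk1 : k ≠ 1 := fun e => hz2 (Or.inr (by rw [e, mul_one]; exact ht))
  obtain ⟨p, hp, hd⟩ := Nat.exists_prime_and_dvd (fun e => hk1 (orderOf_eq_one_iff.1 e))
  refine not_kappa_of_dvd_UMs B.h1350 hM hKU hp (dvd_trans ?_ (Subgroup.orderOf_dvd_natCard _ h))
    (hKU.hall.2.1 p hp (hd.trans (Subgroup.orderOf_dvd_natCard _ hk)))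
  rw [orderOf_conj, (show Commute t k from (Subgroup.mem_centralizer_iff.1 ht.2 k hk).symm
    ).orderOf_mul_eq_mul_orderOf_of_coprime (Nat.coprime_of_dvd fun q hq h1 h2 =>
      (hKU.hall.2.1 q hq (h2.trans (Subgroup.orderOf_dvd_natCard _ hk))).2.2.1
        (prime_mem_sigma_of_mem_sigmaCore B.h1350 hM ht.1 hq h1))]
  exact hd.trans (dvd_mul_left _ _)

/-- Fusion in `A₀(M)` takes place in `M`. -/
theorem sigmaA0_fusion (hG : Cfsg.IsMinSimpleOddOrder G) (B : S16Base G) (hM : IsCoatom M)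
    (hKU : Cfsg.IsSigmaDecomposition M K U) {x g : G} (hx : x ∈ Cfsg.sigmaA0 M K)
    (hgx : g * x * g⁻¹ ∈ Cfsg.sigmaA0 M K) : ∃ m ∈ M, m * x * m⁻¹ = g * x * g⁻¹ := by
  rcases sigmaA0_cases hG B.toBase hM hKU hx with hxσ | ⟨hxA, hxσ⟩ | ⟨hK1, hxU, m, hm, z, hz, rfl⟩
  · obtain ⟨n, hn, e⟩ := hall_fusion hG B.toBase B.h1374 hM (le_refl (Cfsg.sigmaCore M))
      (by rw [Subgroup.relIndex_self]; exact Nat.coprime_one_right _) hxσ
      (conj_mem_sigmaCore B.toBase hM hxσ hgx.1.1)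
    exact ⟨n, hn.1, e⟩
  · rcases sigmaA0_cases hG B.toBase hM hKU hgx with hyσ | ⟨hyA, -⟩ | ⟨-, -, m, -, z, hz, e⟩
    · refine absurd ?_ hxσ
      have h := conj_mem_sigmaCore B.toBase hM hyσ (g := g⁻¹)
        (by rw [inv_inv, show g⁻¹ * (g * x * g⁻¹) * g = x by group]; exact hx.1.1)
      rwa [inv_inv, show g⁻¹ * (g * x * g⁻¹) * g = x by group] at h
    · exact ⟨g, mem_of_sigmaA_conj hG B.toBase hM hKU hxA hxσ hyA, rfl⟩
    · refine absurd hxA.2 ?_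
      have hx' : x = (g⁻¹ * m) * z * (g⁻¹ * m)⁻¹ := by
        calc x = g⁻¹ * (g * x * g⁻¹) * g := by group
          _ = g⁻¹ * (m * z * m⁻¹) * g := by rw [e]
          _ = _ := by group
      rw [hx']
      exact hat_not_UMs B.toBase hM hKU hG hz
  · have hconj : g * (m * z * m⁻¹) * g⁻¹ = (g * m) * z * (g * m)⁻¹ := by group
    rcases sigmaA0_cases hG B.toBase hM hKU hgx with hyσ | ⟨hyA, -⟩ | ⟨-, -, m', hm', z', hz', e⟩
    · exact absurd (hconj ▸ Subgroup.mem_sup_right hyσ) (hat_not_UMs B.toBase hM hKU hG hz)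
    · exact absurd (hconj ▸ hyA.2) (hat_not_UMs B.toBase hM hKU hG hz)
    · refine ⟨g, ?_, rfl⟩
      have h1 : m'⁻¹ * (g * m) ∈ M := mem_of_hat_conj B hM hKU hK1 hz (by
        rw [show m'⁻¹ * (g * m) * z * (m'⁻¹ * (g * m))⁻¹ =
          m'⁻¹ * ((g * m) * z * (g * m)⁻¹) * m' by group, ← hconj, e,
          show m'⁻¹ * (m' * z' * m'⁻¹) * m' = z' by group]
        exact hz')
      have h2 := M.mul_mem (M.mul_mem hm' h1) (M.inv_mem hm)
      rwa [show m' * (m'⁻¹ * (g * m)) * m⁻¹ = g by group] at h2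

/-- Elements of `A₀(M)` outside `M_σ` have their centralisers in `M`. -/
theorem mem_sigmaCore_of_not_le (hG : Cfsg.IsMinSimpleOddOrder G) (B : S16Base G) (hM : IsCoatom M)
    (hKU : Cfsg.IsSigmaDecomposition M K U) {x : G} (hx : x ∈ Cfsg.sigmaA0 M K)
    (hxM : ¬ Subgroup.centralizer ({x} : Set G) ≤ M) : x ∈ Cfsg.sigmaCore M := by
  rcases sigmaA0_cases hG B.toBase hM hKU hx with hxσ | ⟨hxA, hxσ⟩ | ⟨hK1, -, m, hm, z, hz, rfl⟩
  · exact hxσ
  · exact absurd (centralizer_le_of_sigmaA hG B.toBase hM hKU hxA hxσ) hxM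
  · refine absurd (fun c hc => ?_) hxM
    have hc' := Subgroup.mem_centralizer_singleton_iff.1 hc
    have h1 : m⁻¹ * c * m ∈ M := centralizer_le_of_hat B hM hKU hK1 hz
      (Subgroup.mem_centralizer_singleton_iff.2 (by
        calc m⁻¹ * c * m * z = m⁻¹ * (c * (m * z * m⁻¹)) * m := by group
          _ = m⁻¹ * (m * z * m⁻¹ * c) * m := by rw [hc']
          _ = z * (m⁻¹ * c * m) := by group))
    have h2 := M.mul_mem (M.mul_mem hm h1) (M.inv_mem hm)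
    rwa [show m * (m⁻¹ * c * m) * m⁻¹ = c by group] at h2

theorem K_eq_bot_of_kappa_eq_empty (hKU : Cfsg.IsSigmaDecomposition M K U)
    (hκ : Cfsg.kappa M = ∅) : K = ⊥ := by
  by_contra hK
  obtain ⟨q, hq⟩ := exists_kappa hKU hK
  rw [hκ] at hq
  exact hq

/-- When `κ(M) = τ₂(M) = ∅`, only `σ(M)`-elements centralise non-identity elements of `A₀(M)`. -/
theorem centralizer_primes_of_regular (B : Base G) (hM : IsCoatom M)
    (hκ : Cfsg.kappa M = ∅) (hτ : Cfsg.tau2 M = ∅) {y : G} (hy : y ∈ Cfsg.sigmaHat M) (hy1 : y ≠ 1)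
    {p : ℕ} (hp : p.Prime) (hd : p ∣ Nat.card ↥(M ⊓ Subgroup.centralizer ({y} : Set G))) :
    p ∈ Cfsg.sigma M := by
  have key : ∀ {s w : G}, w ∈ Cfsg.sigmaCore M → w ≠ 1 → s ∈ M → s * w = w * s → s ≠ 1 →
      (∀ q : ℕ, q.Prime → q ∣ orderOf s → q ∉ Cfsg.sigma M) → False := by
    intro s w hw hw1 hsM hsw hs1 hsσ
    obtain ⟨q, hq, hqd⟩ := Nat.exists_prime_and_dvd (fun h => hs1 (orderOf_eq_one_iff.1 h))
    rcases B.h1432 M hM w hw hw1 s ⟨hsM, Subgroup.mem_centralizer_singleton_iff.2 hsw⟩ hs1 hsσ with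
      ⟨h, -⟩ | ⟨h, -⟩
    · have := h q hq hqd
      rw [hκ] at this
      exact this
    · have := h q hq hqd
      rw [hτ] at this
      exact this
  obtain ⟨hyM, w, hw, hw1, hyw⟩ := hy
  have hyσ : y ∈ Cfsg.sigmaCore M := by
    obtain ⟨s, t, hs, -, he, hsM, htσ, hsσ⟩ := exists_sigma_split B.h1350 hM hyM
    by_cases hs1 : s = 1
    · rw [he, hs1, one_mul]; exact htσ
    · exact (key hw hw1 hsM (commute_of_mem_zpowers hs hyw) hs1 hsσ).elim
  by_contra hpσ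
  haveI := Fact.mk hp
  obtain ⟨⟨c, hcM, hcy⟩, hco⟩ := exists_prime_orderOf_dvd_card' p hd
  rw [← Subgroup.orderOf_coe] at hco
  change orderOf c = p at hco
  refine key hyσ hy1 hcM (Subgroup.mem_centralizer_singleton_iff.1 hcy)
    (fun h => hp.ne_one (by rw [← hco, h, orderOf_one])) fun q hq hqd => ?_
  rw [hco] at hqd
  exact (Nat.prime_dvd_prime_iff_eq hq hp).1 hqd ▸ hpσ

theorem coprime_supporting (hG : Cfsg.IsMinSimpleOddOrder G) (B : S16Base G) (hM : IsCoatom M)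
    {x y : G} (hx : x ∈ Cfsg.sigmaCore M) (hx1 : x ≠ 1)
    (hxM : ¬ Subgroup.centralizer ({x} : Set G) ≤ M) (hL : IsCoatom L)
    (hxL : Subgroup.centralizer ({x} : Set G) ≤ L) (hy : y ∈ Cfsg.sigmaHat M) (hy1 : y ≠ 1) :
    (Nat.card (Cfsg.sigmaCore L)).Coprime
      (Nat.card ↥(M ⊓ Subgroup.centralizer ({y} : Set G))) := by
  refine Nat.coprime_of_dvd fun p hp h1 h2 => ?_
  have hpL := (B.h1350 L hL).1.2.1 p hp h1
  obtain ⟨hκ, hτ⟩ := (B.h1436 M hM x hx hx1 hxM L hL hxL).1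
    ⟨p, hpL, h2.trans (Subgroup.card_dvd_of_le inf_le_left)⟩
  have hpM := centralizer_primes_of_regular B.toBase hM hκ hτ hy hy1 hp h2
  obtain ⟨g, hg⟩ := B.h1378.2 M L hM hL ⟨p, hpM, hpL⟩
  obtain ⟨N, -, hu, -, -, -, hMN, -⟩ := B.h1375 M hM x hx hx1 hxM
  obtain rfl := hu L hL hxL
  obtain ⟨q, hq, hqd⟩ := Nat.exists_prime_and_dvd (fun h => hx1 (orderOf_eq_one_iff.1 h))
  refine (isPiHallOf_compl B.h1350 hL hMN).2.1 q hq (hqd.trans (Subgroup.orderOf_dvd_natCard _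
    ⟨sigmaCore_le M hx, hxL (Subgroup.mem_centralizer_singleton_iff.2 rfl)⟩)) ?_
  rw [hg, sigma_map_conj]
  exact prime_mem_sigma_of_mem_sigmaCore B.h1350 hM hx hq hqd

/-- The kernel of a regular complement of `M_σ = M_F`. -/
theorem frobeniusKernel_eq (hG : Cfsg.IsMinSimpleOddOrder G) (B : Base G) (hM : IsCoatom M)
    (hKU : Cfsg.IsSigmaDecomposition M K U) (hκ : Cfsg.kappa M = ∅)
    (hF : Cfsg.fittingHallOf M = Cfsg.sigmaCore M)
    (hreg : ∀ u ∈ U, u ≠ 1 → ∀ y ∈ Cfsg.sigmaCore M, u * y = y * u → y = 1) :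
    Cfsg.frobeniusKernel (U.subgroupOf M) = ((Cfsg.fittingHall ↥M : Subgroup ↥M) : Set ↥M) := by
  have hmem : ∀ x : M, x ∈ Cfsg.fittingHall M ↔ (x : G) ∈ Cfsg.sigmaCore M := fun x => hF ▸
    ⟨fun h => ⟨x, h, rfl⟩, fun ⟨y, hy, he⟩ => Subtype.ext he ▸ hy⟩
  have hconj : ∀ g x : M, x ∈ MulAut.conj g • U.subgroupOf M ↔ (g : G)⁻¹ * x * g ∈ U := by
    intro g x
    rw [Subgroup.mem_pointwise_smul_iff_inv_smul_mem, ← map_inv, MulAut.smul_def, MulAut.conj_apply,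
      inv_inv]
    rfl
  have hmsn : ∀ g : M, ∀ a : G, a ∈ Cfsg.sigmaCore M → (g : G)⁻¹ * a * g ∈ Cfsg.sigmaCore M := by
    intro g a ha
    have h := (Subgroup.mem_normalizer_iff.1 (le_normalizer_sigmaCore M (inv_mem g.2)) a).1 ha
    rwa [inv_inv] at h
  ext x
  constructor
  · rintro (rfl | hx)
    · exact one_mem _
    by_contra hxF
    have hxσ : (x : G) ∉ Cfsg.sigmaCore M := fun h => hxF ((hmem x).2 h)
    obtain ⟨s, t, hs, ht, he, hsM, htσ, hsσ⟩ := exists_sigma_split B.h1350 hM x.2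
    have hs1 : s ≠ 1 := fun h => hxσ (by rw [he, h, one_mul]; exact htσ)
    obtain ⟨n, hn, hle⟩ := exists_conj_le_piHall (maximal_solvable hG hM)
      (isPiHallOf_U B.h1350 hM hKU) (Subgroup.zpowers_le.2 hsM) (fun q hq hqd => by
        rw [Nat.card_zpowers] at hqd
        exact ⟨hq, by rw [hκ]; exact fun h => h, hsσ q hq hqd⟩)
    have hu : n * s * n⁻¹ ∈ U := hle (conj_mem_map_conj (Subgroup.mem_zpowers s))
    have hst : s * t = t * s := commute_of_mem_zpowers hs (commute_of_mem_zpowers ht rfl).symm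
    have ht1 : t = 1 := by
      refine conj_eq_one_iff.1 (hreg _ hu (fun h => hs1 (conj_eq_one_iff.1 h)) (n * t * n⁻¹)
        ((Subgroup.mem_normalizer_iff.1 (le_normalizer_sigmaCore M hn) t).1 htσ) ?_)
      calc n * s * n⁻¹ * (n * t * n⁻¹) = n * (s * t) * n⁻¹ := by group
        _ = n * (t * s) * n⁻¹ := by rw [hst]
        _ = n * t * n⁻¹ * (n * s * n⁻¹) := by group
    refine hx ⟨n⁻¹, inv_mem hn⟩ ((hconj _ _).2 ?_)
    show n⁻¹⁻¹ * (x : G) * n⁻¹ ∈ U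
    rw [inv_inv, he, ht1, mul_one]
    exact hu
  · intro hx
    by_cases hx1 : x = 1
    · exact Or.inl hx1
    refine Or.inr fun g hg => hx1 ?_
    rw [hconj] at hg
    have h2 : (g : G)⁻¹ * x * g ∈ U ⊓ Cfsg.sigmaCore M := ⟨hg, hmsn g _ ((hmem x).1 hx)⟩
    rw [U_inf_sigmaCore B.h1350 hM hKU, Subgroup.mem_bot] at h2
    refine Subtype.ext ?_
    calc (x : G) = g * ((g : G)⁻¹ * x * g) * (g : G)⁻¹ := by group
      _ = 1 := by rw [h2]; group

/-- A subgroup supported by one of type P is a Frobenius group with kernel `M_F`. -/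
theorem supported_frobenius_kernel (hG : Cfsg.IsMinSimpleOddOrder G) (B : SigBase G) (hM : IsCoatom M)
    {x : G} (hx : x ∈ Cfsg.sigmaCore M) (hx1 : x ≠ 1) (hxM : ¬ Subgroup.centralizer ({x} : Set G) ≤ M)
    (hN : IsCoatom N) (hxN : Subgroup.centralizer ({x} : Set G) ≤ N)
    (hkN : (Cfsg.kappa N).Nonempty) :
    ∃ E : Subgroup ↥M, Cfsg.IsFrobeniusComplement E ∧
      Cfsg.frobeniusKernel E = ((Cfsg.fittingHall ↥M : Subgroup ↥M) : Set ↥M) := by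
  obtain ⟨hκ, hτ⟩ := supported_kappa_tau2 hG B hM hx hx1 hxM hN hxN hkN
  obtain ⟨⟨K, U, hKU, hF, hreg, hE, -⟩, -⟩ := frobenius_data hG B.toNTBase hM hκ hτ hx hx1 hxM
  exact ⟨_, hE, frobeniusKernel_eq hG B.toBase hM hKU hκ hF hreg⟩

/-- The content of S1391. -/
theorem tame_embedding (hG : Cfsg.IsMinSimpleOddOrder G) (B : S16Base G) (hM : IsCoatom M)
    {X : Set G} (hX : X ⊆ typeA0Core M) :
    (∀ x ∈ X, ∀ g : G, g * x * g⁻¹ ∈ X → ∃ m ∈ M, m * x * m⁻¹ = g * x * g⁻¹) ∧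
      (∀ x ∈ X, ¬ Subgroup.centralizer ({x} : Set G) ≤ M → x ∈ Cfsg.typeA1 M ∧
        ∃! L : Subgroup G, IsCoatom L ∧ Subgroup.centralizer ({x} : Set G) ≤ L) ∧
      ∀ x ∈ X, ¬ Subgroup.centralizer ({x} : Set G) ≤ M → ∀ L : Subgroup G, IsCoatom L →
        Subgroup.centralizer ({x} : Set G) ≤ L →
        Cfsg.IsComplIn (Cfsg.fittingHallOf L) (M ⊓ L) L ∧
        Subgroup.centralizer ({x} : Set G) ≤ Subgroup.normalizer
          ((Cfsg.fittingHallOf L ⊓ Subgroup.centralizer ({x} : Set G) : Subgroup G) : Set G) ∧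
        Cfsg.IsComplIn (Cfsg.fittingHallOf L ⊓ Subgroup.centralizer ({x} : Set G))
          (M ⊓ Subgroup.centralizer ({x} : Set G)) (Subgroup.centralizer ({x} : Set G)) ∧
        (∀ y ∈ X, (Nat.card (Cfsg.fittingHallOf L)).Coprime
          (Nat.card ↥(M ⊓ Subgroup.centralizer ({y} : Set G)))) ∧
        (x ∈ typeACore L ∧ x ∉ Cfsg.typeA1 L) ∧
        (IsTypeICore L ∨ Cfsg.IsOfTypeII L) ∧
        (Cfsg.IsOfTypeII L → ∃ E : Subgroup ↥M, Cfsg.IsFrobeniusComplement E ∧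
          Cfsg.frobeniusKernel E = ((Cfsg.fittingHall ↥M : Subgroup ↥M) : Set ↥M)) := by
  obtain ⟨K, U, hKU⟩ := exists_decomposition B.h1350 hM B.h1351 B.h1352
  rw [typeA0Core_eq hG B hM hKU] at hX
  have hσ : ∀ x ∈ X, ¬ Subgroup.centralizer ({x} : Set G) ≤ M → x ∈ Cfsg.sigmaCore M ∧ x ≠ 1 :=
    fun x hx hxM => ⟨mem_sigmaCore_of_not_le hG B hM hKU (hX hx).1 hxM, (hX hx).2⟩
  refine ⟨fun x hx g hgx => sigmaA0_fusion hG B hM hKU (hX hx).1 (hX hgx).1, fun x hx hxM => ?_,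
    fun x hx hxM L hL hxL => ?_⟩
  · obtain ⟨h1, h2⟩ := hσ x hx hxM
    obtain ⟨N, hN, hu, -⟩ := B.h1375 M hM x h1 h2 hxM
    exact ⟨by rw [typeA1_eq hG B hM]; exact ⟨h1, h2⟩, N, hN, fun L hL => hu L hL.1 hL.2⟩
  obtain ⟨h1, h2⟩ := hσ x hx hxM
  obtain ⟨N, -, hu, hNF, hn, hcx, hMN, hdata⟩ := B.h1375 M hM x h1 h2 hxM
  obtain rfl := hu L hL hxL
  rw [← hNF]
  obtain ⟨K', U', hKU'⟩ := exists_decomposition B.h1350 hL B.h1351 B.h1352
  obtain ⟨hU'1, hxA, hxNσ⟩ := hdata K' U' hKU'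
  refine ⟨isComplIn_symm hMN, hn, isComplIn_symm hcx,
    fun y hy => coprime_supporting hG B hM h1 h2 hxM hL hxL (hX hy).1.1 (hX hy).2, ⟨?_, ?_⟩, ?_,
    fun hII => ?_⟩
  · rw [typeACore_eq hG B hL hKU']
    exact ⟨hxA, h2⟩
  · rw [typeA1_eq hG B hL]
    exact fun h => hxNσ h.1
  · by_cases hK' : K' = ⊥
    · exact Or.inl (typeI_of_K_eq_bot hG B hL hKU' hK')
    · exact Or.inr (typeII_of hG B hL hKU' hK' hU'1)
  · exact supported_frobenius_kernel hG B.toSigBase hM h1 h2 hxM hL hxL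
      (exists_kappa hKU' ((typeII_iff hG B hL hKU').1 hII).1)

end CfsgLib.OddLocal.S15
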