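import Cfsg.Agent.Lib.OddLocal.Sec12Frob

/-!
Bender-Glauberman 12.9 (statement S1421).
-/

set_option autoImplicit false
set_option linter.unusedSectionVars false

namespace CfsgLib.OddLocal.BG

open Cfsg Subgroup CfsgLib.OddLocal.Sec13
open scoped Pointwise commutatorElement
open CfsgLib.Solvable (conj_smul_le_iff mem_conj_smul_iff card_conj_smul conj_smul_conj_smul
  conj_smul_mono conj_smul_self_of_mem_normalizer conj_smul_eq_map)

universe u
variable {G : Type u} [Group G] [Finite G]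

/-- Fixed points of a conjugate. -/
theorem fixed_conj_ne_bot {M : Subgroup G} {m u : G} (hm : m ∈ M)
    (hu : sigmaCore M ⊓ centralizer ({u} : Set G) ≠ ⊥) :
    sigmaCore M ⊓ centralizer ({m * u * m⁻¹} : Set G) ≠ ⊥ := by
  intro h0
  refine hu (eq_bot_iff.2 fun x hx => mem_bot.2 ?_)
  have h1 : m * x * m⁻¹ ∈ sigmaCore M ⊓ centralizer ({m * u * m⁻¹} : Set G) := by
    refine ⟨(mem_normalizer_iff.1 (Sec13.le_normalizer_piCoreOf (sigma M) M hm) x).1 hx.1, ?_⟩
    have h2 : Commute x u := mem_centralizer_singleton_iff.1 hx.2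
    exact mem_centralizer_singleton_iff.2 (h2.map (MulAut.conj m).toMonoidHom).eq
  rw [h0, mem_bot] at h1
  exact conj_eq_one_iff.1 h1

/-- The nonabelian case of BG 12.9. -/
theorem Ten.frobenius_type_nonabelian (h : Ten G) {M E : Subgroup G} (hM : IsCoatom M)
    (hE : IsComplIn E (sigmaCore M) M) (hfpf : Tau13FPF M E) {p : ℕ} [hp : Fact p.Prime]
    (hp2 : p ∈ tau2 M) (hS : ∀ S : Sylow p G, ¬ IsMulCommutative (S : Subgroup G)) :
    (∃ A₀ : Subgroup G, A₀ ≤ E ∧ E ≤ normalizer (A₀ : Set G) ∧ IsMulCommutative A₀ ∧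
        ∀ x ∈ sigmaCore M, x ≠ 1 → E ⊓ centralizer ({x} : Set G) ≤ A₀) ∧
      ∃ E₀ : Subgroup G, E₀ ≤ E ∧ Monoid.exponent E₀ = Monoid.exponent E ∧
        ∀ e ∈ E₀, e ≠ 1 → sigmaCore M ⊓ centralizer ({e} : Set G) = ⊥ := by
  have hpre := h.pre
  have hEsol := hpre.isSolvable_le hM hE.1
  obtain ⟨A, hAE, hA, hAc⟩ := hpre.exists_plane_compl hM hE hp2
  obtain ⟨hτ, ⟨hA₀c, -⟩, hlines⟩ := h.s1419 M hM E hE p hp2 hS A ⟨hAE, hA, hAc⟩
  set A₀ := A ⊓ centralizer (sigmaCore M : Set G) with hA₀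
  have hA₀A : A₀ ≤ A := inf_le_left
  obtain ⟨P, hP⟩ := exists_sylowOf E p
  obtain ⟨hAP, hPA, hPc⟩ := hpre.plane_le_sylow hM hE hp2 hAE hA hAc hP
  obtain ⟨hCE, -, -, hEA⟩ := hpre.centralizer_plane_le hM hE hp2 hAE hA hAc
  haveI := hPc
  have hPp : IsPGroup p P := isPGroup_of_isPi_singleton hP.2.1
  obtain ⟨S, hPS⟩ := hPp.exists_le_sylow
  have hAM : A ≤ M := hAE.trans hE.1
  have hp_ne : p ≠ 2 :=
    hpre.ne_two (X := A) ((dvd_pow_self p two_ne_zero).trans (dvd_of_eq hAc.symm))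
  obtain ⟨-, hcentral, hnotC⟩ := h.narrow hp_ne (sylIn_top S) ⟨hA, hAc⟩ (hAP.trans hPS)
    ((hpre.s1408 M hM p hp2.2.1 hp2.2.2.1 hp2.2.2.2).2 A hAM hA hAc)
  -- `p`-th powers in `P` avoid `A₀`
  have hpow : ∀ y ∈ P, y ^ p ∈ A₀ → y ^ p = 1 := by
    intro y hy hyA
    by_contra hy1
    have hc := hcentral y ⟨hPS hy, hPA hy⟩ (hA₀A hyA)
    have hle : (S : Subgroup G) ≤ centralizer (A₀ : Set G) := by
      intro s hs
      have e : zpowers (y ^ p) = A₀ := Sec13.zpowers_card hp.out hA₀c hyA hy1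
      rw [← e, centralizer_zpowers, mem_centralizer_singleton_iff]
      exact (hc s hs).symm
    have hfix : sigmaCore M ⊓ centralizer (A₀ : Set G) ≠ ⊥ := fun h0 =>
      hpre.sigmaCore_ne_bot hM (eq_bot_iff.2 (h0 ▸ le_inf le_rfl (le_centralizer_iff.1 inf_le_right)))
    have hSM := hle.trans ((hpre.s1418 M hM E hE p hp2 A ⟨hAE, hA, hAc⟩).2.2 A₀ hA₀A hA₀c hfix).1
    have := hallOf_eq_of_le (hpre.compl_sylow hM hE hp2.2.1 hP) hPS hSM (isPi_singleton_of_isPGroup S.2)
    exact hS S (this ▸ hPc)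
  -- fixed points force membership in `A₀`
  have hline : ∀ v ∈ E, v ^ p = 1 → sigmaCore M ⊓ centralizer ({v} : Set G) ≠ ⊥ → v ∈ A₀ := by
    intro v hv hvp hfix
    rcases eq_or_ne v 1 with rfl | hv1
    · exact one_mem _
    by_contra hnot
    refine hfix ?_
    rw [← centralizer_zpowers]
    exact (hlines (zpowers v) (zpowers_le.2 hv) (by rw [Nat.card_zpowers, orderOf_eq_prime hvp hv1])
      fun e => hnot (e ▸ mem_zpowers v)).1
  have hP0 : ∀ (j : ℕ) (v : G), v ∈ P → v ^ p ^ j = 1 → sigmaCore M ⊓ centralizer ({v} : Set G) ≠ ⊥ →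
      v ∈ A₀ := by
    intro j
    induction j with
    | zero =>
      intro v _ hv _
      rw [pow_zero, pow_one] at hv
      rw [hv]; exact one_mem _
    | succ j ih =>
      intro v hv hvj hfix
      refine hline v (hP.1 hv) (hpow v hv (ih (v ^ p) (pow_mem hv p) (by rw [← pow_mul, ← pow_succ']; exact hvj)
        fun h0 => hfix (le_bot_iff.1 (h0 ▸ inf_le_inf_left _ fun x hx => mem_centralizer_singleton_iff.2
          (((show Commute x v from mem_centralizer_singleton_iff.1 hx)).pow_right p).eq)))) hfix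
  have hA₀n : E ≤ normalizer (A₀ : Set G) := CfsgLib.Solvable.le_normalizer_inf hEA
    ((hE.1.trans (Sec13.le_normalizer_piCoreOf (sigma M) M)).trans
      (CfsgLib.Solvable.normalizer_le_normalizer_centralizer _))
  constructor
  · refine ⟨A₀, hA₀A.trans hAE, hA₀n, ⟨⟨fun a b => Subtype.ext (congrArg Subtype.val
      (hA.1.is_comm.comm (⟨a, hA₀A a.2⟩ : A) ⟨b, hA₀A b.2⟩) : (a : G) * b = b * a)⟩⟩, fun x hx hx1 => ?_⟩
    refine le_of_pSubgroups fun r hr _ R hR hRr => ?_
    have : Fact r.Prime := ⟨hr⟩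
    intro v hv
    have hvE : v ∈ E := (hR hv).1
    have hfix : sigmaCore M ⊓ centralizer ({v} : Set G) ≠ ⊥ := fun h0 => hx1 (mem_bot.1 (h0.le ⟨hx,
      mem_centralizer_singleton_iff.2 (mem_centralizer_singleton_iff.1 (hR hv).2).symm⟩))
    rcases eq_or_ne v 1 with rfl | hv1
    · exact one_mem _
    obtain ⟨j, hj⟩ := IsPGroup.iff_orderOf.1 hRr ⟨v, hv⟩
    rw [Subgroup.orderOf_mk] at hj
    have hj0 : j ≠ 0 := fun h0 => hv1 (orderOf_eq_one_iff.1 (by rw [hj, h0, pow_zero]))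
    have hrp : r = p := by
      have := (hpre.fixed_prime_power hM hE hfpf hvE hfix hr (hj ▸ dvd_pow_self r hj0)).1
      rwa [hτ, Set.mem_singleton_iff] at this
    subst hrp
    obtain ⟨m, hm, hle⟩ := exists_conj_le_hallOf hEsol hP (zpowers_le.2 hvE)
      (isPi_singleton_of_isPGroup (hRr.to_le (zpowers_le.2 hv)))
    have h1 := hP0 j _ (conj_smul_le_iff.1 hle v (mem_zpowers v))
      (by rw [conj_pow, ← hj, pow_orderOf_eq_one, mul_one, mul_inv_cancel])
      (fixed_conj_ne_bot (hE.1 hm) hfix)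
    exact (mem_normalizer_iff.1 (hA₀n hm) v).2 h1
  · obtain ⟨K, hKC, hCK, hpK, hKhall, hEK⟩ :=
      hpre.centralizer_plane_complement hM hE hp2 hAE hA hAc hP
    set B := E ⊓ normalizer (P : Set G) with hB
    obtain ⟨H', hH'⟩ := CfsgLib.PGroup.exists_isPiHallOf {x | x ≠ p} E hEsol
    have hKH' : K ≤ H' := by
      obtain ⟨m, hm, hle⟩ := exists_conj_le_hallOf hEsol hH' (hKC.trans hCE) hKhall.2.1
      rwa [conj_smul_self_of_mem_normalizer (hEK hm)] at hle
    set H₀ := H' ⊓ B with hH₀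
    have hpH₀ : ¬ p ∣ Nat.card H₀ := fun hd => hH'.2.1 p hp.out (hd.trans (card_dvd_of_le inf_le_left)) rfl
    have hH₀E : H₀ ≤ E := inf_le_left.trans hH'.1
    have hH₀P : H₀ ≤ normalizer (P : Set G) := inf_le_right.trans inf_le_right
    have hH'le : H' ≤ K ⊔ H₀ := by
      intro g hg
      obtain ⟨c, hc, b, hb, rfl⟩ := frattini_hallOf (hpre.isSolvable_le hM (hCE.trans hE.1)) hCE
        (hEA.trans (CfsgLib.Solvable.normalizer_le_normalizer_centralizer A)) (hallOf_of_le hP hPA hCE)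
        (hH'.1 hg)
      have hCsup : centralizer (A : Set G) = K ⊔ P := by
        refine le_antisymm (relIndex_eq_one.1 ?_) (sup_le hKC hPA)
        by_contra hne
        obtain ⟨x, hx, hd⟩ := Nat.exists_prime_and_dvd hne
        by_cases hxp : x = p
        · exact (hallOf_of_le hP hPA hCE).2.2 x hx hxp (hd.trans (relIndex_dvd_of_le_left _ le_sup_right))
        · exact hKhall.2.2 x hx hxp (hd.trans (relIndex_dvd_of_le_left _ le_sup_left))
      rw [hCsup] at hc
      obtain ⟨k, hk, u, hu, rfl⟩ := CfsgLib.Solvable.exists_mul_of_mem_sup (hPA.trans hCK) hc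
      have hub : u * b ∈ H₀ := by
        refine ⟨?_, mul_mem (hP.1 hu) hb.1, mul_mem (le_normalizer hu) hb.2⟩
        have h1 := mul_mem (Subgroup.inv_mem _ (hKH' hk)) hg
        rwa [mul_assoc k, inv_mul_cancel_left] at h1
      rw [mul_assoc]
      exact mul_mem (mem_sup_left hk) (mem_sup_right hub)
    -- the cyclic Sylow subgroup
    have hP1 : P ≠ ⊥ := fun e => by
      have hA1 : A = ⊥ := le_bot_iff.1 (e ▸ hAP)
      rw [hA1, Subgroup.card_bot] at hAc
      exact (Nat.one_lt_pow two_ne_zero hp.out.one_lt).ne hAc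
    obtain ⟨a, y₁, ha, hy₁, hy₁o, hexp⟩ := exists_exponent_element hPp hP1
    set q := p ^ (a - 1) with hq
    have hpq : q * p = p ^ a := by rw [hq, ← pow_succ, Nat.sub_add_cancel ha]
    obtain ⟨y, hy, hyo, hyn, hyA⟩ : ∃ y ∈ P, orderOf y = p ^ a ∧
        H₀ ≤ normalizer ((zpowers y : Subgroup G) : Set G) ∧ y ^ q ∉ A₀ := by
      rcases Nat.lt_or_ge a 2 with ha2 | ha2
      · obtain rfl : a = 1 := by omega
        haveI : IsMulCommutative A := hA.1
        obtain ⟨x, hxA, hx0⟩ : ∃ x ∈ A, x ∉ A₀ := by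
          by_contra hno
          push Not at hno
          have := card_le_of_le (show A ≤ A₀ from hno)
          rw [hAc, hA₀c] at this
          nlinarith [hp.out.two_le]
        have hgen : A₀ ⊔ zpowers x = A := by
          have hle : A₀ ⊔ zpowers x ≤ A := sup_le hA₀A (zpowers_le.2 hxA)
          obtain ⟨k, hk, e⟩ := (Nat.dvd_prime_pow hp.out).1 (hAc ▸ card_dvd_of_le hle)
          rcases hk.lt_or_eq with hlt | rfl
          · exfalso
            refine hx0 ?_
            rw [eq_of_le_of_card_ge (le_sup_left : A₀ ≤ A₀ ⊔ zpowers x) (by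
              rw [e, hA₀c]
              exact (Nat.pow_le_pow_right hp.out.pos (Nat.lt_succ_iff.1 hlt)).trans_eq (pow_one p))]
            exact mem_sup_right (mem_zpowers x)
          · exact eq_of_le_of_card_ge hle (by rw [e, hAc])
        obtain ⟨y, hyA, hy0, hyn, -⟩ := exists_invariant_cyclic (p := p) (a := 1) (P := A) (H := H₀)
          (K := A₀) (fun z hz => by rw [pow_one]; exact hA.2 z hz) one_pos (hH₀E.trans hEA) hpH₀ hA₀A
          hxA hx0 (by rw [hA.2 x hxA]; exact one_mem _) (hH₀E.trans hA₀n) (fun g hg => by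
            have h1 : g * x * g⁻¹ ∈ A₀ ⊔ zpowers x :=
              hgen.symm ▸ (mem_normalizer_iff.1 (hEA (hH₀E hg)) x).1 hxA
            obtain ⟨k, hk, z, hz, e⟩ := CfsgLib.Solvable.exists_mul_of_mem_sup
              ((zpowers_le.2 (hAE hxA)).trans hA₀n) h1
            obtain ⟨i, rfl⟩ := mem_zpowers_iff.1 hz
            exact ⟨i, by rw [e, mul_inv_cancel_right]; exact hk⟩)
        refine ⟨y, hAP hyA, ?_, hyn, by simpa [hq] using hy0⟩
        rw [pow_one]
        exact orderOf_eq_prime (hA.2 y hyA) fun e => hy0 (e ▸ one_mem _)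
      · have hpow' : ∀ x ∈ P, ∃ c ∈ P, c ^ p = x ^ q ∧ c ^ p ∈ A := by
          intro x hx
          refine ⟨x ^ p ^ (a - 2), pow_mem hx _, ?_, ?_⟩
          · rw [← pow_mul, ← pow_succ, hq]
            congr 2
            omega
          · refine hpre.mem_plane hM hE hp2 hAE hA hAc (pow_mem (pow_mem (hP.1 hx) _) _) ?_
            rw [← pow_mul, ← pow_mul, show p ^ (a - 2) * (p * p) = p ^ a by
              rw [← pow_two, ← pow_add]
              congr 1
              omega, hexp x hx]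
        have hy₁q : y₁ ^ q ≠ 1 := fun e => by
          have := orderOf_dvd_of_pow_eq_one e
          rw [hy₁o, hq, Nat.pow_dvd_pow_iff_le_right hp.out.one_lt] at this
          omega
        set Z₀ := A ⊓ centralizer ((S : Subgroup G) : Set G) with hZ₀
        have hU : ∀ x ∈ P, x ^ q ∈ Z₀ := by
          intro x hx
          obtain ⟨c, hc, e, hcA⟩ := hpow' x hx
          rw [← e]
          exact ⟨hcA, mem_centralizer_iff.2 fun s hs => (hcentral c ⟨hPS hc, hPA hc⟩ hcA s hs).symm⟩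
        have hZc : Nat.card Z₀ = p := by
          obtain ⟨k, hk, e⟩ := (Nat.dvd_prime_pow hp.out).1 (hAc ▸ card_dvd_of_le (inf_le_left : Z₀ ≤ A))
          interval_cases k
          · rw [pow_zero] at e
            have h1 := hU y₁ hy₁
            rw [eq_bot_of_card_eq Z₀ e, mem_bot] at h1
            exact absurd h1 hy₁q
          · rwa [pow_one] at e
          · exfalso
            obtain ⟨s, hs, t, ht, hne⟩ : ∃ s ∈ (S : Subgroup G), ∃ t ∈ (S : Subgroup G), s * t ≠ t * s := by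
              by_contra hno
              push Not at hno
              exact hS S ⟨⟨fun a b => Subtype.ext (hno a a.2 b b.2)⟩⟩
            refine hnotC s hs t ht hne (le_centralizer_iff.1 ?_)
            exact (eq_of_le_of_card_ge (inf_le_left : Z₀ ≤ A) (by rw [e, hAc])).ge.trans inf_le_right
        have hZeq : ∀ x ∈ P, x ^ q ≠ 1 → zpowers (x ^ q) = Z₀ := fun x hx hne =>
          Sec13.zpowers_card hp.out hZc (hU x hx) hne
        obtain ⟨y, hy, hyo, hyn, hyq⟩ := exists_cyclic_over_line ha hexp hH₀P hpH₀ hy₁ hy₁q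
          (fun g hg => by
            refine CfsgLib.Solvable.mem_normalizer_of_conj_mem fun z hz => ?_
            obtain ⟨i, rfl⟩ := mem_zpowers_iff.1 hz
            rw [← conj_zpow, ← conj_pow, hZeq y₁ hy₁ hy₁q]
            exact zpow_mem (hU _ ((mem_normalizer_iff.1 (hH₀P hg) y₁).1 hy₁)) i)
        refine ⟨y, hy, hyo, hyn, fun hA₀' => ?_⟩
        obtain ⟨c, hc, e, -⟩ := hpow' y hy
        have h1 := hpow c hc (e.symm ▸ hA₀')
        rw [e] at h1
        exact hy₁q (zpowers_eq_bot.1 (hyq.symm.trans (by rw [h1, zpowers_one_eq_bot])))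
    set W := zpowers y ⊔ H₀ with hW
    have hWE : W ≤ E := sup_le (zpowers_le.2 (hP.1 hy)) hH₀E
    set F := K ⊔ W with hF
    have hFE : F ≤ E := sup_le (hKC.trans hCE) hWE
    have hyF : IsPiHallOf {p} (zpowers y) F := by
      refine CfsgLib.PGroup.isPiHallOf_trans (isPiHallOf_zpowers_sup hy hPp hpH₀ hyn) le_sup_right
        fun s hs hsp hd => ?_
      rw [Set.mem_singleton_iff.1 hsp, CfsgLib.PGroup.relIndex_normalizing_sup (hWE.trans hEK)] at hd
      exact hpK (hd.trans (relIndex_dvd_card _ _))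
    refine ⟨F, hFE, exponent_eq_of_step hEsol hFE (fun r hr hrp hd => hH'.2.2 r hr hrp
      (hd.trans (relIndex_dvd_of_le_left _ (hH'le.trans (sup_le le_sup_left
        (le_sup_right.trans le_sup_right)))))) hP (mem_sup_right (mem_sup_left (mem_zpowers y)))
      (fun x hx => hyo ▸ orderOf_dvd_of_pow_eq_one (hexp x hx)), fun e he he1 => ?_⟩
    by_contra hfix
    obtain ⟨r, hr, hd⟩ := Nat.exists_prime_and_dvd (fun h0 => he1 (orderOf_eq_one_iff.1 h0))
    obtain ⟨hr2, z, hz, hzo, hzf⟩ := hpre.fixed_prime_power hM hE hfpf (hFE he) hfix hr hd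
    rw [hτ, Set.mem_singleton_iff] at hr2
    subst hr2
    have hzp : z ^ r = 1 := by rw [← hzo, pow_orderOf_eq_one]
    have hz1 : z ≠ 1 := fun h1 => hr.ne_one (by rw [← hzo, h1, orderOf_one])
    have hzF : z ∈ F := zpowers_le.2 he hz
    have hzA₀ := hline z (hFE hzF) hzp hzf
    have hzy : z ∈ zpowers y := by
      obtain ⟨m, hm, hle⟩ := exists_conj_le_hallOf (CfsgLib.Solvable.isSolvable_of_le hEsol hFE) hyF
        (inf_le_right : A₀ ⊓ F ≤ F)
        ((isPi_singleton_of_isPGroup (isPGroup_of_card hA₀c)).of_le inf_le_left)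
      rw [conj_smul_self_of_mem_normalizer
        (CfsgLib.Solvable.le_normalizer_inf (hFE.trans hA₀n) le_normalizer hm)] at hle
      exact hle ⟨hzA₀, hzF⟩
    refine hyA ?_
    have h1 := mem_zpowers_top_of_pow_eq_one ha hyo hzy hzp
    have h2 : zpowers z = zpowers (y ^ q) := eq_of_le_of_card_ge (zpowers_le.2 h1) (by
      rw [Nat.card_zpowers, Nat.card_zpowers, hzo]
      refine Nat.le_of_dvd hr.pos (orderOf_dvd_of_pow_eq_one ?_)
      rw [← pow_mul, hpq, ← hyo, pow_orderOf_eq_one])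
    exact zpowers_le.2 hzA₀ (h2 ▸ mem_zpowers (y ^ q))

/-- Statement S1421. -/
theorem Ten.s1421 (h : Ten G) (h50 : CfsgLib.OddLocal.Ten.RankTwoHyp.{u})
    (M : Subgroup G) (hM : IsCoatom M) (E : Subgroup G) (hE : Cfsg.IsComplIn E (Cfsg.sigmaCore M) M)
    (hh : ∀ e ∈ E, e ≠ 1 → (∀ p : ℕ, p.Prime → p ∣ orderOf e → p ∈ Cfsg.tau1 M ∪ Cfsg.tau3 M) →
      Cfsg.sigmaCore M ⊓ Subgroup.centralizer ({e} : Set G) = ⊥) :
    (∃ A₀ : Subgroup G, A₀ ≤ E ∧ E ≤ Subgroup.normalizer (A₀ : Set G) ∧ IsMulCommutative A₀ ∧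
        ∀ x ∈ Cfsg.sigmaCore M, x ≠ 1 → E ⊓ Subgroup.centralizer ({x} : Set G) ≤ A₀) ∧
      ∃ E₀ : Subgroup G, E₀ ≤ E ∧ Monoid.exponent E₀ = Monoid.exponent E ∧
        ∀ e ∈ E₀, e ≠ 1 → Cfsg.sigmaCore M ⊓ Subgroup.centralizer ({e} : Set G) = ⊥ := by
  by_cases hab : ∀ r ∈ tau2 M, ∀ S : Sylow r G, IsMulCommutative (S : Subgroup G)
  · exact h.pre.frobenius_type_abelian h50 hM hE hh hab
  push Not at hab
  obtain ⟨p, hp2, S₀, hS₀⟩ := hab
  have : Fact p.Prime := ⟨hp2.1⟩
  refine h.frobenius_type_nonabelian hM hE hh hp2 fun S hSc => hS₀ ⟨⟨fun a b => Subtype.ext ?_⟩⟩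
  obtain ⟨g, hg⟩ := MulAction.exists_smul_eq G S₀ S
  have hmem : ∀ c : (S₀ : Subgroup G), g * c * g⁻¹ ∈ (S : Subgroup G) := fun c => by
    rw [← hg, Sylow.coe_subgroup_smul]
    exact mem_conj_smul_iff.2 (by simp [mul_assoc])
  have h1 := congrArg Subtype.val (hSc.is_comm.comm (⟨_, hmem a⟩ : (S : Subgroup G)) ⟨_, hmem b⟩)
  have h2 : g * ((a : G) * b) * g⁻¹ = g * ((b : G) * a) * g⁻¹ := by simpa [mul_assoc] using h1
  exact mul_left_cancel (mul_right_cancel h2)

end CfsgLib.OddLocal.BG
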