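import Cfsg.Agent.Lib.Cores.RankGraph
import Cfsg.Agent.Lib.Solvable.MinimalNormal
import Cfsg.Agent.S1894

/-!
`p`-groups of rank at least three, `p` odd: a normal elementary abelian subgroup of order `p ^ 3` and a member of
`SCN_3`.
-/

set_option autoImplicit false
set_option linter.unusedSectionVars false

namespace CfsgLib.OddLocal

open Subgroup Cfsg CfsgLib.PGroup
open scoped commutatorElement

variable {P : Type*} [Group P] [Finite P] {p : ℕ} [hp : Fact p.Prime]

/-- A maximal normal elementary abelian subgroup of a `p`-group, `p` odd, contains the elements of order `p` of its centralizer. -/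
theorem mem_of_centralizes_omega (hp2 : p ≠ 2) (hP : IsPGroup p P) {W : Subgroup P} [hWn : W.Normal]
    (hW : IsElementaryAbelian p W)
    (hmax : ∀ W' : Subgroup P, W'.Normal → IsElementaryAbelian p W' → W ≤ W' → W' = W) :
    ∀ c ∈ Subgroup.centralizer (W : Set P), c ^ p = 1 → c ∈ W := by
  have := hP.isNilpotent
  intro c
  induction hm : Nat.card (Subgroup.normalClosure {c}) using Nat.strong_induction_on generalizing c with
  | _ m ih =>
  subst hm
  intro hc hc3
  by_contra hcW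
  set U := W ⊔ zpowers c
  have hUe : IsElementaryAbelian p U := elemAb_sup hW (elemAb_zpowers hc3) (by
    rintro a ha _ ⟨i, rfl⟩
    exact ((show Commute a c from Subgroup.mem_centralizer_iff.1 hc a ha).zpow_right i).eq)
  have hcU : c ∈ U := mem_sup_right (mem_zpowers c)
  have hne : ¬ U.Normal := fun h => hcW (hmax U h hUe le_sup_left ▸ hcU)
  have hlt : normalizer (U : Set P) < ⊤ := lt_top_iff_ne_top.2 fun h => hne (Subgroup.normalizer_eq_top_iff.1 h)
  obtain ⟨g, hgN, hgU⟩ := SetLike.exists_of_lt (Group.normalizerCondition_of_isNilpotent _ hlt)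
  set c' := g * c * g⁻¹ with hc'
  have hUN : U ≤ normalizer (U : Set P) := Subgroup.le_normalizer
  have hc'N : c' ∈ normalizer (U : Set P) := (Subgroup.mem_normalizer_iff.1 hgN c).1 (hUN hcU)
  have hgcN : g⁻¹ * c * g ∈ normalizer (U : Set P) := by
    have := (Subgroup.mem_normalizer_iff.1 (Subgroup.inv_mem _ hgN) c).1 (hUN hcU)
    rwa [inv_inv] at this
  -- membership in the conjugate of `U`
  have hconjU : ∀ y ∈ U, g * y * g⁻¹ ∈ W ⊔ zpowers c' := by
    intro y hy
    have hle : U.map (MulAut.conj g).toMonoidHom ≤ W ⊔ zpowers c' := by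
      rw [Subgroup.map_sup, MonoidHom.map_zpowers]
      exact sup_le_sup (by rintro _ ⟨w, hw, rfl⟩; exact hWn.conj_mem w hw g) le_rfl
    exact hle ⟨y, hy, rfl⟩
  set k := c' * c * c'⁻¹ * c⁻¹ with hk
  have hkU : k ∈ U := U.mul_mem ((Subgroup.mem_normalizer_iff.1 hc'N c).1 hcU) (U.inv_mem hcU)
  have hkU' : k ∈ W ⊔ zpowers c' := by
    have h1 : (g⁻¹ * c * g) * c⁻¹ * (g⁻¹ * c * g)⁻¹ ∈ U :=
      (Subgroup.mem_normalizer_iff.1 hgcN c⁻¹).1 (U.inv_mem hcU)
    have h2 := hconjU _ (U.mul_mem hcU h1)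
    rwa [show g * (c * (g⁻¹ * c * g * c⁻¹ * (g⁻¹ * c * g)⁻¹)) * g⁻¹ = k by rw [hk, hc']; group] at h2
  have hkW : k ∈ W := by
    by_contra hkW
    have hWc : W ≤ W ⊔ zpowers k := le_sup_left
    have hle : W ⊔ zpowers k ≤ U := sup_le le_sup_left (zpowers_le.2 hkU)
    have hUle : U ≤ W ⊔ zpowers k := by
      refine sup_le hWc (zpowers_le.2 ?_)
      obtain ⟨w, hw, y, ⟨i, rfl⟩, hky⟩ := Solvable.exists_mul_of_mem_sup
        (le_top.trans_eq (Subgroup.normalizer_eq_top_iff.2 hWn).symm) hkU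
      have hyk : c ^ i ∈ W ⊔ zpowers k := by
        have : c ^ i = w⁻¹ * k := by rw [hky]; group
        rw [this]
        exact Subgroup.mul_mem _ (mem_sup_left (W.inv_mem hw)) (mem_sup_right (mem_zpowers k))
      have hi : ¬ (p : ℤ) ∣ i := by
        rintro ⟨r, rfl⟩
        apply hkW
        rw [hky]
        show w * c ^ ((p : ℤ) * r) ∈ W
        rw [zpow_mul, show c ^ (p : ℤ) = 1 from (zpow_natCast c p).trans hc3, one_zpow, mul_one]
        exact hw
      obtain ⟨u, v, huv⟩ : IsCoprime i (p : ℤ) :=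
        (((Nat.prime_iff_prime_int.1 hp.out).coprime_iff_not_dvd).2 hi).symm
      have : c = (c ^ i) ^ u * (c ^ (p : ℤ)) ^ v := by
        rw [← zpow_mul, ← zpow_mul, ← zpow_add, mul_comm i u, mul_comm (p : ℤ) v, huv, zpow_one]
      rw [this, show c ^ (p : ℤ) = 1 from (zpow_natCast c p).trans hc3, one_zpow, mul_one]
      exact zpow_mem hyk u
    have hUU' : U ≤ W ⊔ zpowers c' := hUle.trans (sup_le le_sup_left (zpowers_le.2 hkU'))
    refine hgU (CfsgLib.Solvable.mem_normalizer_of_conj_mem fun y hy => ?_)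
    have hWg : W.map (MulAut.conj g).toMonoidHom = W := le_antisymm
      (by rintro _ ⟨w, hw, rfl⟩; exact hWn.conj_mem w hw g)
      fun w hw => ⟨g⁻¹ * w * g, by simpa using hWn.conj_mem w hw g⁻¹, by simp [mul_assoc]⟩
    have hcard : Nat.card ↥(W ⊔ zpowers c') = Nat.card U := by
      rw [← Nat.card_congr (Subgroup.equivMapOfInjective U (MulAut.conj g).toMonoidHom (MulAut.conj g).injective).symm.toEquiv,
        Subgroup.map_sup, MonoidHom.map_zpowers, hWg]
      rfl
    rw [Subgroup.eq_of_le_of_card_ge hUU' hcard.le]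
    exact hconjU y hy
  have hc'C : c' ∈ Subgroup.centralizer (W : Set P) :=
    (inferInstance : (Subgroup.centralizer (W : Set P)).Normal).conj_mem c hc g
  have hkc : ∀ y ∈ Subgroup.centralizer (W : Set P), Commute k y := fun y hy =>
    Subgroup.mem_centralizer_iff.1 hy k hkW
  set h := c⁻¹ * c' with hh
  have hh3 : h ^ p = 1 := by
    set C := Subgroup.centralizer (W : Set P)
    have hcen : ⁅(⟨c', hc'C⟩ : C), (⟨c, hc⟩ : C)⁻¹⁆ ∈ Subgroup.center C := by
      refine Subgroup.mem_center_iff.2 fun y => Subtype.ext ?_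
      have hkcomm : c' * c⁻¹ * c'⁻¹ * c = k⁻¹ := by
        have e := hkc c hc
        have e2 : c⁻¹ * k⁻¹ * c = k⁻¹ := by
          calc c⁻¹ * k⁻¹ * c = c⁻¹ * (k⁻¹ * c) := by group
            _ = c⁻¹ * (c * k⁻¹) := by rw [e.inv_left.eq]
            _ = k⁻¹ := by group
        rw [← e2, hk]; group
      show (y : P) * (c' * c⁻¹ * c'⁻¹ * c⁻¹⁻¹) = c' * c⁻¹ * c'⁻¹ * c⁻¹⁻¹ * (y : P)
      rw [inv_inv, hkcomm]
      exact ((hkc y y.2).inv_left.symm).eq
    have h1 := CfsgLib.PGroup.mul_pow_of_comm_mem_center hcen p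
    have h2 : ⁅(⟨c', hc'C⟩ : C), (⟨c, hc⟩ : C)⁻¹⁆ ^ p.choose 2 = 1 := by
      obtain ⟨m, hm⟩ : p ∣ p.choose 2 :=
        hp.out.dvd_choose_self two_ne_zero (lt_of_le_of_ne hp.out.two_le (Ne.symm hp2))
      rw [hm, pow_mul]
      have hkcomm : c' * c⁻¹ * c'⁻¹ * c = k⁻¹ := by
        have e := hkc c hc
        have e2 : c⁻¹ * k⁻¹ * c = k⁻¹ := by
          calc c⁻¹ * k⁻¹ * c = c⁻¹ * (k⁻¹ * c) := by group
            _ = c⁻¹ * (c * k⁻¹) := by rw [e.inv_left.eq]
            _ = k⁻¹ := by group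
        rw [← e2, hk]; group
      have h3 : ⁅(⟨c', hc'C⟩ : C), (⟨c, hc⟩ : C)⁻¹⁆ ^ p = 1 := Subtype.ext (by
        show (c' * c⁻¹ * c'⁻¹ * c⁻¹⁻¹) ^ p = 1
        rw [inv_inv, hkcomm, inv_pow, hW.2 k hkW, inv_one])
      rw [h3, one_pow]
    rw [h2, mul_one] at h1
    have h4 := congrArg Subtype.val h1
    simp only [SubmonoidClass.coe_pow, Subgroup.coe_mul, InvMemClass.coe_inv] at h4
    rw [hh, h4, hc', conj_pow, inv_pow, hc3]
    simp
  set N := Subgroup.normalClosure ({c} : Set P)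
  have hcN : c ∈ N := Subgroup.subset_normalClosure rfl
  have hN1 : N ≠ ⊥ := fun h1 => hcW (by rw [h1, Subgroup.mem_bot] at hcN; rw [hcN]; exact W.one_mem)
  have hNlt : ⁅N, (⊤ : Subgroup P)⁆ < N := Local.commutator_lt_of_isPGroup (hP.to_subgroup N)
    (hP.to_subgroup ⊤) (le_top.trans_eq (Subgroup.normalizer_eq_top_iff.2 inferInstance).symm) hN1
  have hhN : h ∈ ⁅N, (⊤ : Subgroup P)⁆ := by
    have := Subgroup.commutator_mem_commutator (N.inv_mem hcN) (Subgroup.mem_top g)
    rwa [commutatorElement_def, inv_inv, show c⁻¹ * g * c * g⁻¹ = h by rw [hh, hc']; group] at this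
  have hsmall : Nat.card (Subgroup.normalClosure {h}) < Nat.card N := by
    refine lt_of_le_of_lt (Subgroup.card_le_of_le
      (Subgroup.normalClosure_le_normal (Set.singleton_subset_iff.2 hhN))) ?_
    exact Set.Finite.card_lt_card (Set.toFinite _) (SetLike.coe_ssubset_coe.2 hNlt)
  have hhW : h ∈ W := ih _ hsmall h rfl (Subgroup.mul_mem _ (Subgroup.inv_mem _ hc) hc'C) hh3
  have hc'U : c' ∈ U := by
    rw [show c' = c * h by rw [hh, mul_inv_cancel_left]]
    exact U.mul_mem hcU (mem_sup_left hhW)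
  refine hgU (CfsgLib.Solvable.mem_normalizer_of_conj_mem fun y hy => ?_)
  exact (sup_le le_sup_left (zpowers_le.2 hc'U) : W ⊔ zpowers c' ≤ U) (hconjU y hy)

/-- A `p`-group of rank at least three has a normal elementary abelian subgroup of order `p ^ 3`. -/
theorem exists_normal_cube (hp2 : p ≠ 2) (hP : IsPGroup p P) (hrk : ¬ PRankLE p 2 P) :
    ∃ A : Subgroup P, A.Normal ∧ IsElementaryAbelian p A ∧ Nat.card A = p ^ 3 := by
  obtain ⟨E, hE, hEc⟩ := Cores.not_pRankLE_two_iff.1 hrk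
  obtain ⟨U, hUn, hU, hUc⟩ := CfsgLib.RankGraph.exists_normal_sq hP hrk
  obtain ⟨W, hUW, hW, hWmax⟩ := Finite.exists_le_maximal (p := fun W : Subgroup P => W.Normal ∧ IsElementaryAbelian p W)
    (a := U) ⟨hUn, hU⟩
  obtain ⟨hWn, hWe⟩ := hW
  have hlt : U < W := by
    refine lt_of_le_of_ne hUW ?_
    rintro rfl
    have hin := mem_of_centralizes_omega hp2 hP hWe fun W' h1 h2 h3 => le_antisymm (hWmax ⟨h1, h2⟩ h3) h3
    obtain ⟨K, hKE, hKc, hKU⟩ := CfsgLib.RankGraph.exists_le_centralizing hP hUc E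
    have hKW : K ≤ U := fun k hk => hin k (mem_centralizer_iff.2 fun u hu => (hKU k hk u hu).symm)
      (hE.2 k (hKE hk))
    have hK2 : p ^ 2 ≤ Nat.card K :=
      Nat.le_of_mul_le_mul_left (by rw [← pow_succ']; exact hEc.trans hKc) hp.out.pos
    have hUE : U ≤ E := (eq_of_le_of_card_ge hKW (hUc.le.trans hK2)).ge.trans hKE
    have hEU : E ≤ U := fun e he => hin e (mem_centralizer_iff.2 fun u hu => elemAb_comm hE (hUE hu) he)
      (hE.2 e he)
    have := (hEc.trans (card_le_of_le hEU)).trans_eq hUc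
    exact absurd this (not_le.2 (Nat.pow_lt_pow_right hp.out.one_lt (by norm_num)))
  set f := QuotientGroup.mk' U with hf
  have hne : W.map f ≠ ⊥ := by
    rw [Ne, Subgroup.map_eq_bot_iff, QuotientGroup.ker_mk']
    exact hlt.not_ge
  have : (W.map f).Normal := hWn.map f (QuotientGroup.mk'_surjective U)
  obtain ⟨Z, hZW, hZc, hZn, hZ⟩ := exists_card_eq_le_center (hP.to_quotient U) (W.map f) hne
  refine ⟨Z.comap f, hZn.comap f, elemAb_mono hWe ?_, ?_⟩
  · refine (comap_mono hZW).trans ?_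
    rw [comap_map_eq, QuotientGroup.ker_mk', sup_eq_left.2 hUW]
  · rw [CfsgLib.Solvable.card_comap_mk', hUc, hZ, ← pow_succ]

/-- A `p`-group of rank at least three has a member of `SCN_3`. -/
theorem exists_scn_three (hp2 : p ≠ 2) (hP : IsPGroup p P) (hrk : ¬ PRankLE p 2 P) :
    ∃ A : Subgroup P, A.Normal ∧ centralizer (A : Set P) = A ∧ ¬ PRankLE p 2 A := by
  obtain ⟨E, hEn, hE, hEc⟩ := exists_normal_cube hp2 hP hrk
  obtain ⟨C, hCn, hEC, -, -, hCC⟩ := Cfsg.Agent.S1894.result hP (⊤ : Subgroup P) E le_top hE.1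
  rw [top_inf_eq] at hCC
  refine ⟨C, hCn, hCC, fun h => ?_⟩
  have hc := (pRankLE_subgroup_iff C).1 h E hEC hE
  rw [hEc] at hc
  exact absurd hc (not_le.2 (Nat.pow_lt_pow_right hp.out.one_lt (by norm_num)))

end CfsgLib.OddLocal
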