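import Cfsg.Agent.Lib.OddLocal.UniquenessCriterion
import Cfsg.Agent.Lib.OddLocal.RankThree

/-!
Uniqueness spreads along centralisers and through all elementary abelian subgroups of order at least `p ^ 3`
(Bender–Glauberman 9.2–9.4).
-/

set_option autoImplicit false
set_option linter.unusedSectionVars false

namespace CfsgLib.OddLocal

open Cfsg Subgroup
open scoped Pointwise

variable {G : Type*} [Group G] [Finite G] {p : ℕ} [hp : Fact p.Prime]

theorem not_isCyclic_of_elementary {B : Subgroup G} (hB : IsElementaryAbelian p B) (h : p ^ 2 ≤ Nat.card B) :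
    ¬ IsCyclic B := by
  intro hc
  obtain ⟨g, hg⟩ := hc.exists_generator
  have h1 : orderOf g ≤ p := Nat.le_of_dvd hp.out.pos (orderOf_dvd_of_pow_eq_one (Subtype.ext (hB.2 g g.2)))
  rw [orderOf_eq_card_of_forall_mem_zpowers hg] at h1
  exact absurd (h.trans h1) (not_le.2 (lt_self_pow₀ hp.out.one_lt one_lt_two))

theorem isPGroup_of_elementary {B : Subgroup G} (hB : IsElementaryAbelian p B) : IsPGroup p B :=
  fun b => ⟨1, Subtype.ext (by rw [pow_one]; exact hB.2 b b.2)⟩

theorem le_centralizer_of_elementary {B : Subgroup G} (hB : IsElementaryAbelian p B) :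
    B ≤ centralizer (B : Set G) := fun a ha => mem_centralizer_iff.2 fun b hb =>
  congrArg Subtype.val (hB.1.is_comm.comm (⟨b, hb⟩ : B) ⟨a, ha⟩)

theorem exists_elementary_of_not_pRankLE {k : ℕ} {X : Subgroup G} (h : ¬ PRankLE p k X) :
    ∃ B : Subgroup G, B ≤ X ∧ IsElementaryAbelian p B ∧ p ^ (k + 1) ≤ Nat.card B := by
  rw [CfsgLib.PGroup.pRankLE_subgroup_iff] at h
  push Not at h
  obtain ⟨B, hBX, hB, hBc⟩ := h
  obtain ⟨n, hn⟩ := CfsgLib.PGroup.elemAb_card hB
  refine ⟨B, hBX, hB, ?_⟩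
  rw [hn] at hBc ⊢
  exact Nat.pow_le_pow_right hp.out.pos ((Nat.pow_lt_pow_iff_right hp.out.one_lt).1 hBc)

section

variable (hG : IsMinSimpleOddOrder G)
include hG

theorem inUnique_mono {X Y : Subgroup G} (hX : InUniqueMaximal X) (hXY : X ≤ Y) (hY : Y ≠ ⊤) :
    InUniqueMaximal Y := by
  obtain ⟨M, ⟨hM, hXM⟩, huniq⟩ := hX
  obtain ⟨L, hL, hYL⟩ := exists_isCoatom_ge hG hY
  obtain rfl := huniq L ⟨hL, hXY.trans hYL⟩
  exact inUniqueMaximal_of hL hYL fun L' hL' h => huniq L' ⟨hL', hXY.trans h⟩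

theorem zpowers_ne_top (x : G) : zpowers x ≠ ⊤ := by
  intro h
  refine hG.2.2.1 ⟨⟨fun a b => ?_⟩⟩
  obtain ⟨i, rfl⟩ := mem_zpowers_iff.1 (h.ge (mem_top a))
  obtain ⟨j, rfl⟩ := mem_zpowers_iff.1 (h.ge (mem_top b))
  exact ((Commute.refl x).zpow_zpow i j).eq

theorem ne_bot_of_inUnique {L : Subgroup G} (hL : InUniqueMaximal L) : L ≠ ⊥ := by
  rintro rfl
  obtain ⟨M, ⟨hM, -⟩, huniq⟩ := hL
  refine hM.1 (eq_top_iff.2 fun x _ => ?_)
  obtain ⟨L, hL, hle⟩ := exists_isCoatom_ge hG (zpowers_ne_top hG x)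
  exact huniq L ⟨hL, bot_le⟩ ▸ hle (mem_zpowers x)

/-- 9.2: uniqueness passes to a subgroup of the centraliser with noncyclic elementary abelian part. -/
theorem inUnique_of_centralizes {L K B : Subgroup G} (hL : InUniqueMaximal L)
    (hK : K ≤ centralizer (L : Set G)) (hBK : B ≤ K) (hB : IsElementaryAbelian p B)
    (hBc : p ^ 2 ≤ Nat.card B) : InUniqueMaximal K := by
  have hL1 := ne_bot_of_inUnique hG hL
  obtain ⟨M, ⟨hM, hLM⟩, huniq⟩ := hL
  have hN : normalizer (L : Set G) ≤ M := by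
    obtain ⟨L', hL', hle⟩ := exists_isCoatom_ge hG
      (CfsgLib.PStab.normalizer_ne_top_of_minSimple hG hL1 (ne_top_of_le_coatom hG hM hLM))
    exact huniq L' ⟨hL', le_normalizer.trans hle⟩ ▸ hle
  have hKM : K ≤ M := hK.trans ((centralizer_le_normalizer _).trans hN)
  have hnc := not_isCyclic_of_elementary hB hBc
  have hcent : ∀ b ∈ B, b ≠ 1 → centralizer ({b} : Set G) ≤ M := by
    intro b hb hb1
    obtain ⟨L', hL', hle⟩ := exists_isCoatom_ge hG (CfsgLib.PStab.centralizer_ne_top_of_minSimple hG hb1)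
    refine huniq L' ⟨hL', le_trans (fun x hx => mem_centralizer_singleton_iff.2 ?_) hle⟩ ▸ hle
    exact mem_centralizer_iff.1 (hK (hBK hb)) x hx
  exact inUnique_mono hG (unique_of_invariant_le hG hM (hBK.trans hKM) (isPGroup_of_elementary hB) hnc
    fun _ hY hBY => invariant_le_of_centralizer_le hG hB hnc hcent hY hBY) hBK (ne_top_of_le_coatom hG hM hKM)

theorem inUnique_map_conj {X : Subgroup G} (hX : InUniqueMaximal X) (g : G) :
    InUniqueMaximal (X.map (MulAut.conj g).toMonoidHom) := by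
  obtain ⟨M, ⟨hM, hXM⟩, huniq⟩ := hX
  let e := (MulAut.conj g).mapSubgroup
  refine inUniqueMaximal_of (M := M.map (MulAut.conj g).toMonoidHom) ((e.isCoatom_iff M).2 hM) (map_mono hXM)
    fun L hL hle => ?_
  obtain ⟨L₀, rfl⟩ := e.surjective L
  exact congrArg _ (huniq L₀ ⟨(e.isCoatom_iff L₀).1 hL, e.le_iff_le.1 hle⟩)

/-- One elementary abelian subgroup of order at least `p ^ 3` in `𝒰` puts all of them there. -/
theorem inUnique_elementary_three {E₀ : Subgroup G} (hE₀ : IsElementaryAbelian p E₀)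
    (hE₀c : p ^ 3 ≤ Nat.card E₀) (hU : InUniqueMaximal E₀) {E : Subgroup G}
    (hE : IsElementaryAbelian p E) (hEc : p ^ 3 ≤ Nat.card E) : InUniqueMaximal E := by
  obtain ⟨P, hP⟩ := (isPGroup_of_elementary hE₀).exists_le_sylow
  obtain ⟨P', hP'⟩ := (isPGroup_of_elementary hE).exists_le_sylow
  obtain ⟨g, hg⟩ := MulAction.exists_smul_eq G P' P
  set E₁ := E.map (MulAut.conj g).toMonoidHom with hE₁
  have hE₁P : E₁ ≤ (P : Subgroup G) := by
    rw [← hg, hE₁]
    exact map_mono hP'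
  have hE₁e : IsElementaryAbelian p E₁ := CfsgLib.PGroup.elemAb_map hE _
  have hE₁c : p ^ 3 ≤ Nat.card E₁ := by rwa [hE₁, card_map_of_injective (MulAut.conj g).injective]
  suffices h : InUniqueMaximal E₁ by
    have h' := inUnique_map_conj hG h g⁻¹
    rwa [hE₁, CfsgLib.PStab.map_conj_map_conj, inv_mul_cancel, CfsgLib.PStab.map_conj_one'] at h'
  have hrk : ¬ PRankLE p 2 (P : Subgroup G) := by
    rw [CfsgLib.PGroup.pRankLE_subgroup_iff]
    exact fun h => absurd (hE₀c.trans (h E₀ hP hE₀))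
      (not_le.2 (Nat.pow_lt_pow_right hp.out.one_lt (by norm_num)))
  obtain ⟨W, hWn, hW, hWc⟩ := CfsgLib.RankGraph.exists_normal_sq P.2 hrk
  set W' := W.map (P : Subgroup G).subtype
  have hW'e : IsElementaryAbelian p W' := CfsgLib.PGroup.elemAb_map hW _
  have hW'c : p ^ 2 ≤ Nat.card W' := ((card_map_of_injective (P : Subgroup G).subtype_injective).trans hWc).ge
  have key : ∀ X : Subgroup G, X ≤ (P : Subgroup G) → IsElementaryAbelian p X → p ^ 3 ≤ Nat.card X →
      ∃ D : Subgroup G, D ≤ X ∧ IsElementaryAbelian p D ∧ p ^ 2 ≤ Nat.card D ∧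
        D ≤ centralizer (W' : Set G) := by
    intro X hXP hX hXc
    obtain ⟨K, hKX, hKc, hKW⟩ := CfsgLib.RankGraph.exists_le_centralizing P.2 hWc
      (X.subgroupOf (P : Subgroup G))
    have hle : K.map (P : Subgroup G).subtype ≤ X := (map_mono hKX).trans (map_subgroupOf_eq_of_le hXP).le
    refine ⟨_, hle, CfsgLib.PGroup.elemAb_mono hX hle, ?_, ?_⟩
    · rw [card_map_of_injective (P : Subgroup G).subtype_injective]
      rw [Nat.card_congr (subgroupOfEquivOfLe hXP).toEquiv] at hKc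
      exact Nat.le_of_mul_le_mul_left (by rw [← pow_succ']; exact hXc.trans hKc) hp.out.pos
    · rintro _ ⟨k, hk, rfl⟩
      refine mem_centralizer_iff.2 ?_
      rintro _ ⟨w, hw, rfl⟩
      exact congrArg Subtype.val (hKW k hk w hw).symm
  obtain ⟨D₀, hD₀E, hD₀, hD₀c, hD₀W⟩ := key E₀ hP hE₀ hE₀c
  have h1 : InUniqueMaximal D₀ := inUnique_of_centralizes hG hU
    (hD₀E.trans (le_centralizer_of_elementary hE₀)) le_rfl hD₀ hD₀c
  have h2 : InUniqueMaximal W' := inUnique_of_centralizes hG h1 (le_centralizer_iff.1 hD₀W) le_rfl hW'e hW'c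
  obtain ⟨D, hDE, hD, hDc, hDW⟩ := key E₁ hE₁P hE₁e hE₁c
  have h3 : InUniqueMaximal D := inUnique_of_centralizes hG h2 hDW le_rfl hD hDc
  exact inUnique_of_centralizes hG h3 ((le_centralizer_of_elementary hE₁e).trans (centralizer_le hDE))
    le_rfl hE₁e ((Nat.pow_le_pow_right hp.out.pos (by norm_num)).trans hE₁c)

/-- A subgroup in `𝒰` whose centraliser has an elementary subgroup of order at least `p ^ 3`. -/
theorem inUnique_of_inUnique_abelian {A E : Subgroup G} (hA : InUniqueMaximal A)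
    (hEA : E ≤ centralizer (A : Set G)) (hE : IsElementaryAbelian p E) (hEc : p ^ 3 ≤ Nat.card E) :
    InUniqueMaximal E :=
  inUnique_of_centralizes hG hA hEA le_rfl hE ((Nat.pow_le_pow_right hp.out.pos (by norm_num)).trans hEc)

/-- 9.4: a maximal subgroup whose Fitting subgroup has `p`-rank at least three gives a member of `𝒰`. -/
theorem exists_elementary_three_inUnique {M : Subgroup G} (hM : IsCoatom M)
    (hF : ¬ PRankLE p 2 (fittingOf M)) :
    ∃ E : Subgroup G, IsElementaryAbelian p E ∧ p ^ 3 ≤ Nat.card E ∧ InUniqueMaximal E := by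
  obtain ⟨B, hBF, hB, hBc⟩ := exists_elementary_of_not_pRankLE hF
  obtain ⟨A₀, hBA, ⟨hA₀F, hA₀⟩, hmax⟩ := Finite.exists_le_maximal
    (p := fun A : Subgroup G => A ≤ fittingOf M ∧ IsElementaryAbelian p A) (a := B) ⟨hBF, hB⟩
  have hA₀c : p ^ 3 ≤ Nat.card A₀ := hBc.trans (card_le_of_le hBA)
  by_cases hnp : IsPGroup p (fittingOf M)
  swap
  · exact ⟨A₀, hA₀, hA₀c, inUnique_of_inUnique_abelian hG (fitting_centralizer_unique hG hM hA₀F hA₀ hA₀c hnp)
      (le_centralizer_iff.1 inf_le_right) hA₀ hA₀c⟩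
  obtain ⟨P⟩ := (inferInstance : Nonempty (Sylow p M))
  obtain ⟨-, hall⟩ := fitting_pGroup_unique hG hM hnp P
  set P' := (P : Subgroup M).map M.subtype
  have hP'p : IsPGroup p P' := P.2.map _
  have hFP : fittingOf M ≤ P' := by
    refine map_mono ?_
    have hp' : IsPGroup p (fittingSubgroup M) :=
      hnp.of_equiv (equivMapOfInjective _ _ M.subtype_injective).symm
    have : (fittingSubgroup M).Normal := CfsgLib.Cores.fittingSubgroup_normal
    exact (CfsgLib.Cores.le_pCore hp').trans (CfsgLib.Cores.pCore_le_sylow P)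
  have hrk : ¬ PRankLE p 2 P' := by
    rw [CfsgLib.PGroup.pRankLE_subgroup_iff]
    exact fun h => absurd (hA₀c.trans (h A₀ (hA₀F.trans hFP) hA₀))
      (not_le.2 (Nat.pow_lt_pow_right hp.out.one_lt (by norm_num)))
  have hp2 : p ≠ 2 := by
    obtain ⟨n, hn⟩ := CfsgLib.PGroup.elemAb_card hA₀
    refine ne_two_of_dvd hG ((dvd_pow_self p (fun h0 : n = 0 => ?_)).trans (hn ▸ card_subgroup_dvd_card A₀))
    rw [hn, h0, pow_zero] at hA₀c
    exact absurd hA₀c (not_le.2 (Nat.one_lt_pow (by norm_num) hp.out.one_lt))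
  obtain ⟨A, hAn, hAC, hA3⟩ := exists_scn_three hp2 hP'p hrk
  set A' := A.map P'.subtype
  have hSCN : IsSCN P' A' := by
    refine ⟨map_subtype_le _, ?_, le_antisymm ?_ (le_inf (map_subtype_le _) ?_)⟩
    · refine (normal_subgroupOf_iff_le_normalizer (map_subtype_le _)).1 ?_
      rw [show A'.subgroupOf P' = A from comap_map_eq_self_of_injective P'.subtype_injective _]
      exact hAn
    · rintro x ⟨hxP, hxC⟩
      refine ⟨⟨x, hxP⟩, hAC.le (mem_centralizer_iff.2 fun a ha => Subtype.ext ?_), rfl⟩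
      exact mem_centralizer_iff.1 hxC _ (mem_map_of_mem _ ha)
    · rintro _ ⟨a, ha, rfl⟩
      refine mem_centralizer_iff.2 ?_
      rintro _ ⟨b, hb, rfl⟩
      exact congrArg Subtype.val (mem_centralizer_iff.1 (hAC.ge ha) b hb)
  obtain ⟨E, hEA, hE, hEc⟩ := exists_elementary_of_not_pRankLE hA3
  have hA3' : ¬ PRankLE p 2 A' := by
    rw [CfsgLib.PGroup.pRankLE_subgroup_iff]
    intro h
    have h1 := h _ (map_mono hEA) (CfsgLib.PGroup.elemAb_map hE _)
    rw [card_map_of_injective P'.subtype_injective] at h1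
    exact absurd (hEc.trans h1) (not_le.2 (Nat.pow_lt_pow_right hp.out.one_lt (by norm_num)))
  refine ⟨E.map P'.subtype, CfsgLib.PGroup.elemAb_map hE _, ?_, ?_⟩
  · rwa [card_map_of_injective P'.subtype_injective]
  · refine inUnique_of_inUnique_abelian hG (hall A' hSCN hA3').2 ?_ (CfsgLib.PGroup.elemAb_map hE _) ?_
    · exact (map_mono hEA).trans (hSCN.2.2.ge.trans inf_le_right)
    · rwa [card_map_of_injective P'.subtype_injective]

end

end CfsgLib.OddLocal
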