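import Cfsg.Agent.S1402
import Cfsg.Agent.Lib.OddLocal.UniquenessChain

/-!
The uniqueness theorem: elementary abelian subgroups of order `q ^ 3` and the noncyclic subgroups they centralise
lie in a single maximal subgroup.
-/

set_option autoImplicit false
set_option linter.unusedSectionVars false

namespace CfsgLib.OddLocal

open Cfsg Subgroup

variable {G : Type*} [Group G] [Finite G] (hG : IsMinSimpleOddOrder G)
include hG

/-- Every elementary abelian subgroup of order at least `q ^ 3` lies in exactly one maximal subgroup. -/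
theorem inUnique_elementary {q : ℕ} [hq : Fact q.Prime] {E : Subgroup G} (hE : IsElementaryAbelian q E)
    (hEc : q ^ 3 ≤ Nat.card E) : InUniqueMaximal E := by
  have hEp := isPGroup_of_elementary hE
  obtain ⟨P, hEP⟩ := hEp.exists_le_sylow
  have hrk : ¬ PRankLE q 2 (P : Subgroup G) := by
    rw [CfsgLib.PGroup.pRankLE_subgroup_iff]
    exact fun h => absurd (hEc.trans (h E hEP hE)) (not_le.2 (Nat.pow_lt_pow_right hq.out.one_lt (by norm_num)))
  have hq2 : q ≠ 2 := ne_two_of_dvd hG (by
    obtain ⟨n, hn⟩ := CfsgLib.PGroup.elemAb_card hE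
    refine (dvd_pow_self q (fun h0 : n = 0 => ?_)).trans (hn ▸ card_subgroup_dvd_card E)
    rw [hn, h0, pow_zero] at hEc
    exact (Nat.one_lt_pow three_ne_zero hq.out.one_lt).not_ge hEc)
  set P' := (P : Subgroup G) with hP'
  obtain ⟨A₀, hAn, hAC, hA3⟩ := exists_scn_three hq2 (show IsPGroup q P' from P.2) hrk
  set A := A₀.map P'.subtype
  have hSCN : IsSCN P' A := by
    refine ⟨map_subtype_le _, ?_, le_antisymm ?_ (le_inf (map_subtype_le _) ?_)⟩
    · refine (normal_subgroupOf_iff_le_normalizer (map_subtype_le _)).1 ?_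
      rw [show A.subgroupOf P' = A₀ from comap_map_eq_self_of_injective P'.subtype_injective _]
      exact hAn
    · rintro x ⟨hxP, hxC⟩
      refine ⟨⟨x, hxP⟩, hAC.le (mem_centralizer_iff.2 fun a ha => Subtype.ext ?_), rfl⟩
      exact mem_centralizer_iff.1 hxC _ (mem_map_of_mem _ ha)
    · rintro _ ⟨a, ha, rfl⟩
      refine mem_centralizer_iff.2 ?_
      rintro _ ⟨b, hb, rfl⟩
      exact congrArg Subtype.val (mem_centralizer_iff.1 (hAC.ge ha) b hb)
  obtain ⟨B, hBA, hB, hBc⟩ := exists_elementary_of_not_pRankLE hA3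
  have hAU : InUniqueMaximal A := Cfsg.Agent.S1402.result hG q P A hSCN (by
    rw [CfsgLib.PGroup.pRankLE_subgroup_iff]
    intro h
    have h1 := h _ (map_mono hBA) (CfsgLib.PGroup.elemAb_map hB _)
    rw [card_map_of_injective P'.subtype_injective] at h1
    exact absurd (hBc.trans h1) (not_le.2 (Nat.pow_lt_pow_right hq.out.one_lt (by norm_num))))
  have hB' : IsElementaryAbelian q (B.map P'.subtype) := CfsgLib.PGroup.elemAb_map hB _
  have hB'c : q ^ 3 ≤ Nat.card (B.map P'.subtype) := by rwa [card_map_of_injective P'.subtype_injective]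
  have hB'U : InUniqueMaximal (B.map P'.subtype) :=
    inUnique_of_inUnique_abelian hG hAU ((map_mono hBA).trans (hSCN.2.2.ge.trans inf_le_right)) hB' hB'c
  exact inUnique_elementary_three hG hB' hB'c hB'U hE hEc

omit hG in
theorem exists_elementary_of_not_rankLE' {k : ℕ} {X : Subgroup G} (h : ¬ RankLE k X) :
    ∃ q : ℕ, ∃ _ : Fact q.Prime, ∃ B : Subgroup G, B ≤ X ∧ IsElementaryAbelian q B ∧ q ^ (k + 1) ≤ Nat.card B := by
  unfold RankLE at h
  push Not at h
  obtain ⟨q, hq, hq'⟩ := h
  have : Fact q.Prime := ⟨hq⟩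
  exact ⟨q, this, exists_elementary_of_not_pRankLE hq'⟩

theorem uniqueness (K : Subgroup G) (hK : K ≠ ⊤) (hK2 : ¬ RankLE 1 K)
    (hK3 : ¬ RankLE 2 K ∨ ¬ RankLE 2 (centralizer (K : Set G))) : InUniqueMaximal K := by
  rcases hK3 with h | h
  · obtain ⟨q, _, E, hEK, hE, hEc⟩ := exists_elementary_of_not_rankLE' h
    exact inUnique_mono hG (inUnique_elementary hG hE hEc) hEK hK
  · obtain ⟨q, _, E, hEC, hE, hEc⟩ := exists_elementary_of_not_rankLE' h
    obtain ⟨r, _, B, hBK, hB, hBc⟩ := exists_elementary_of_not_rankLE' hK2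
    exact inUnique_of_centralizes hG (inUnique_elementary hG hE hEc) (le_centralizer_iff.1 hEC) hBK hB hBc

end CfsgLib.OddLocal
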