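import Cfsg.Agent.Lib.OddLocal.BGTools
import Cfsg.Agent.Lib.OddLocal.BGHallHigman
import Cfsg.Agent.Lib.OddChar.FrobeniusFixed
import Cfsg.Agent.Lib.Solvable.Nilpotent
import Cfsg.Agent.Lib.Solvable.MinimalNormal

/-!
Two facts on coprime operator groups: the commutator of a `q`-group with an element of odd prime order
centralises any nilpotent group on which that element has no fixed point, and the kernel of a
Frobenius group centralises a group on which the complement has no fixed point.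
-/

set_option autoImplicit false
set_option linter.unusedSectionVars false

namespace CfsgLib.OddLocal.BG

open Cfsg Subgroup CfsgLib.Solvable
open scoped commutatorElement

universe u

/-- The linear case: `[Q, x]` centralises an elementary abelian group on which `x` has no fixed point. -/
theorem commutator_le_centralizer_elementary {G : Type u} [Group G] [Finite G] {p q r : ℕ}
    [hp : Fact p.Prime] [hq : Fact q.Prime] [hr : Fact r.Prime] (hp2 : p ≠ 2) (hq2 : q ≠ 2)
    (hqp : q ≠ p) (hrp : r ≠ p) (hrq : r ≠ q) {Q W : Subgroup G} {x : G} (hx : x ^ p = 1)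
    (hxQ : x ∈ normalizer (Q : Set G)) (hQ : IsPGroup q Q) (hQW : Q ≤ normalizer (W : Set G))
    (hxW : x ∈ normalizer (W : Set G)) (hW : IsElementaryAbelian r W)
    (hfix : W ⊓ centralizer ({x} : Set G) = ⊥) :
    ⁅Q, zpowers x⁆ ≤ centralizer (W : Set G) := by
  classical
  letI : CommGroup W :=
    { (inferInstance : Group W) with
      mul_comm := fun a b => Subtype.ext (CfsgLib.PGroup.elemAb_comm hW a.2 b.2) }
  let θ := W.normalizerMonoidHom
  let φ : Q →* MulAut W := θ.comp (inclusion hQW)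
  let s : MulAut W := θ ⟨x, hxW⟩
  let σ : MulAut Q := Q.normalizerMonoidHom ⟨x, hxQ⟩
  obtain ⟨d, f, hfinj, hffix⟩ := exists_scalar_rep W r (fun a => Subtype.ext (hW.2 a a.2))
  have hσp : σ ^ p = 1 := by
    show Q.normalizerMonoidHom ⟨x, hxQ⟩ ^ p = 1
    rw [← map_pow, show (⟨x, hxQ⟩ : normalizer (Q : Set G)) ^ p = 1 from Subtype.ext hx, map_one]
  have hsp : f s ^ p = 1 := by
    rw [← map_pow]
    show f (θ ⟨x, hxW⟩ ^ p) = 1
    rw [← map_pow, show (⟨x, hxW⟩ : normalizer (W : Set G)) ^ p = 1 from Subtype.ext hx, map_one,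
      map_one]
  have hne : ∀ {a b : ℕ}, a.Prime → b.Prime → a ≠ b → ¬ b ∣ a := fun ha hb h hd =>
    h ((Nat.prime_dvd_prime_iff_eq hb ha).1 hd).symm
  have hqk : (q : AlgebraicClosure (ZMod r)) ≠ 0 := by
    rw [Ne, CharP.cast_eq_zero_iff (AlgebraicClosure (ZMod r)) r]
    exact hne hq.out hr.out (Ne.symm hrq)
  have hpk : (p : AlgebraicClosure (ZMod r)) ≠ 0 := by
    rw [Ne, CharP.cast_eq_zero_iff (AlgebraicClosure (ZMod r)) r]
    exact hne hp.out hr.out (Ne.symm hrp)
  have hSfix : ∀ v, f s v = v → v = 0 := hffix s fun w hw => by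
    have h1 : x * (w : G) * x⁻¹ = w := congrArg Subtype.val hw
    have h2 : (w : G) ∈ W ⊓ centralizer ({x} : Set G) :=
      ⟨w.2, mem_centralizer_singleton_iff.2 (mul_inv_eq_iff_eq_mul.1 h1).symm⟩
    rw [hfix, mem_bot] at h2
    exact Subtype.ext h2
  have hmain := hall_higman_odd (n := 1) hp2 hq2 hqp hqk hpk hQ σ (by rw [pow_one]; exact hσp)
    (f.comp φ) (f s) (fun y => by
      show f s * f (φ y) = f (φ (σ y)) * f s
      rw [← map_mul f, ← map_mul f]
      refine congrArg f (MulEquiv.ext fun w => Subtype.ext ?_)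
      show x * ((y : G) * w * (y : G)⁻¹) * x⁻¹ = x * y * x⁻¹ * (x * w * x⁻¹) * (x * y * x⁻¹)⁻¹
      group) (by rw [pow_one]; exact hsp) hSfix
  have hxcent : ∀ y ∈ Q, ⁅y, x⁆ ∈ centralizer (W : Set G) := by
    intro y hy
    have h1 := hmain ⟨y, hy⟩
    rw [Nat.sub_self, pow_zero, pow_one, MonoidHom.comp_apply, MonoidHom.comp_apply] at h1
    have h2 := hfinj h1
    refine mem_centralizer_iff.2 fun w hw => ?_
    obtain ⟨w', hw', rfl⟩ : ∃ w' ∈ W, w = y * w' * y⁻¹ :=
      ⟨y⁻¹ * w * y, (mem_normalizer_iff''.1 (hQW hy) w).1 hw, by group⟩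
    have h3 : x * y * x⁻¹ * w' * (x * y * x⁻¹)⁻¹ = y * w' * y⁻¹ := by
      have h5 := congrArg Subtype.val (DFunLike.congr_fun h2 ⟨w', hw'⟩)
      simpa [φ, θ, σ] using h5
    have h4 : ⁅x, y⁆ * (y * w' * y⁻¹) = (y * w' * y⁻¹) * ⁅x, y⁆ := by
      calc ⁅x, y⁆ * (y * w' * y⁻¹) =
            (x * y * x⁻¹ * w' * (x * y * x⁻¹)⁻¹) * ⁅x, y⁆ := by
              rw [commutatorElement_def]; group
        _ = _ := by rw [h3]
    rw [← commutatorElement_inv x y]
    exact (show Commute ⁅x, y⁆ (y * w' * y⁻¹) from h4).inv_left.eq.symm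
  rw [commutator_le]
  intro y hy g hg
  obtain ⟨i, rfl⟩ := hg
  have key : ∀ i : ℕ, ⁅y, x ^ i⁆ ∈ centralizer (W : Set G) := by
    intro i
    induction i with
    | zero => rw [pow_zero, commutatorElement_one_right]; exact one_mem _
    | succ i ih =>
      have e : ⁅y, x ^ (i + 1)⁆ = ⁅y, x⁆ * (x * ⁅y, x ^ i⁆ * x⁻¹) := by
        rw [pow_succ']; simp only [commutatorElement_def]; group
      rw [e]
      exact mul_mem (hxcent y hy)
        ((mem_normalizer_iff.1 (normalizer_le_normalizer_centralizer W hxW) _).1 ih)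
  obtain ⟨j, hj⟩ : ∃ j : ℕ, x ^ i = x ^ j := by
    refine ⟨(i % (p : ℤ)).toNat, ?_⟩
    rw [← zpow_natCast, Int.toNat_of_nonneg (Int.emod_nonneg _ (by exact_mod_cast hp.out.ne_zero))]
    exact (zpow_mod_orderOf x i).symm.trans (by
      rcases (Nat.dvd_prime hp.out).1 (orderOf_dvd_of_pow_eq_one hx) with h | h
      · rw [orderOf_eq_one_iff.1 h]; simp
      · rw [h])
  rw [show (fun x_1 : ℤ => x ^ x_1) i = x ^ i from rfl, hj]
  exact key j

/-- `[Q, x]` centralises a nilpotent group on which `x` has no fixed point. -/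
theorem commutator_le_centralizer_of_fpf {G : Type u} [Group G] [Finite G] {p q : ℕ}
    [hp : Fact p.Prime] [hq : Fact q.Prime] (hp2 : p ≠ 2) (hq2 : q ≠ 2) (hqp : q ≠ p)
    {Q V : Subgroup G} {x : G} (hx : x ^ p = 1) (hxQ : x ∈ normalizer (Q : Set G)) (hQ : IsPGroup q Q)
    (hQV : Q ≤ normalizer (V : Set G)) (hxV : x ∈ normalizer (V : Set G))
    (hV : Group.IsNilpotent V) (hpV : ¬ p ∣ Nat.card V) (hqV : ¬ q ∣ Nat.card V)
    (hfix : V ⊓ centralizer ({x} : Set G) = ⊥) : ⁅Q, zpowers x⁆ ≤ centralizer (V : Set G) := by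
  classical
  induction hn : Nat.card V using Nat.strong_induction_on generalizing G with
  | _ n ih =>
  subst hn
  rcases eq_or_ne V ⊥ with rfl | hV0
  · exact fun g _ => mem_centralizer_iff.2 fun y hy => by rw [mem_bot.1 hy, one_mul, mul_one]
  have hVn : Nontrivial V := (nontrivial_iff_ne_bot V).2 hV0
  have hc : Subgroup.center V ≠ ⊥ := fun h => by
    have := hV
    exact CfsgLib.Solvable.inf_center_ne_bot_of_isNilpotent (G := V) (N := ⊤) top_ne_bot (by rw [top_inf_eq, h])
  obtain ⟨r, hr, hrd⟩ := Nat.exists_prime_and_dvd (fun he => hc (eq_bot_of_card_eq _ he))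
  have := Fact.mk hr
  set Z := (Subgroup.center V).map V.subtype with hZdef
  have hZV : Z ≤ V := map_subtype_le _
  have hZc : ∀ z ∈ Z, ∀ v ∈ V, v * z = z * v := by
    rintro _ ⟨z, hz, rfl⟩ v hv
    exact congrArg Subtype.val (mem_center_iff.1 hz ⟨v, hv⟩)
  set W : Subgroup G :=
    { carrier := {z | z ∈ Z ∧ z ^ r = 1}
      one_mem' := ⟨one_mem Z, one_pow r⟩
      mul_mem' := fun {a b} ha hb => ⟨mul_mem ha.1 hb.1, by
        rw [(show Commute a b from hZc b hb.1 a (hZV ha.1)).mul_pow, ha.2, hb.2, one_mul]⟩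
      inv_mem' := fun {a} ha => ⟨inv_mem ha.1, by rw [inv_pow, ha.2, inv_one]⟩ } with hWdef
  have hWV : W ≤ V := fun z hz => hZV hz.1
  have hW : IsElementaryAbelian r W :=
    CfsgLib.PGroup.isElementaryAbelian_mk (fun a ha b hb => hZc b hb.1 a (hWV ha)) fun a ha => ha.2
  have hWne : W ≠ ⊥ := by
    obtain ⟨z, hz⟩ := exists_prime_orderOf_dvd_card' (G := Subgroup.center V) r hrd
    intro hbot
    have h1 : ((z : V) : G) ∈ W := ⟨mem_map_of_mem _ z.2, by
      rw [← SubmonoidClass.coe_pow, ← SubmonoidClass.coe_pow, ← hz, pow_orderOf_eq_one]; rfl⟩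
    rw [hbot, mem_bot] at h1
    rw [← orderOf_coe, ← orderOf_coe, h1, orderOf_one] at hz
    exact hr.ne_one hz.symm
  have hVW : V ≤ normalizer (W : Set G) := le_normalizer_of_conj_mem fun v hv w hw => by
    rw [hZc w hw.1 v hv, mul_inv_cancel_right]; exact hw
  have hnW : normalizer (V : Set G) ≤ normalizer (W : Set G) := by
    refine le_normalizer_of_conj_mem fun g hg w hw => ⟨?_, ?_⟩
    · refine ⟨⟨g * w * g⁻¹, normalizer_conj_mem hg (hWV hw)⟩,
        mem_center_iff.2 fun v => Subtype.ext ?_, rfl⟩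
      have h1 : g⁻¹ * (v : G) * g ∈ V := (mem_normalizer_iff''.1 hg _).1 v.2
      have h2 := hZc w hw.1 _ h1
      show (v : G) * (g * w * g⁻¹) = g * w * g⁻¹ * v
      calc (v : G) * (g * w * g⁻¹) = g * ((g⁻¹ * v * g) * w) * g⁻¹ := by group
        _ = g * (w * (g⁻¹ * v * g)) * g⁻¹ := by rw [h2]
        _ = _ := by group
    · rw [conj_pow, hw.2, mul_one, mul_inv_cancel]
  have hrp : r ≠ p := fun h => hpV (h ▸ hrd.trans (card_subgroup_dvd_card _))
  have hrq : r ≠ q := fun h => hqV (h ▸ hrd.trans (card_subgroup_dvd_card _))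
  set D := ⁅Q, zpowers x⁆ with hD
  have hDQ : D ≤ Q := commutator_le_of_le_normalizer (zpowers_le.2 hxQ)
  have hD1 : D ≤ centralizer (W : Set G) :=
    commutator_le_centralizer_elementary hp2 hq2 hqp hrp hrq hx hxQ hQ (hQV.trans hnW) (hnW hxV) hW
      (le_bot_iff.1 ((inf_le_inf_right _ hWV).trans hfix.le))
  set Wn := W.subgroupOf (normalizer (W : Set G)) with hWn
  have : Wn.Normal := by rw [hWn]; infer_instance
  let f := QuotientGroup.mk' Wn
  set V' := (V.subgroupOf (normalizer (W : Set G))).map f with hV'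
  set Q' := (Q.subgroupOf (normalizer (W : Set G))).map f with hQ'
  set x' := f ⟨x, hnW hxV⟩ with hx'
  have hcV : Nat.card V' < Nat.card V := by
    rw [hV', ← Nat.card_congr (subgroupOfEquivOfLe hVW).toEquiv,
      ← CfsgLib.PGroup.relIndex_eq_card_map, relIndex_subgroupOf hVW]
    rw [Nat.card_congr (subgroupOfEquivOfLe hVW).toEquiv]
    refine lt_of_le_of_ne (Nat.le_of_dvd Nat.card_pos (W.subgroupOf V).index_dvd_card) fun he => hWne ?_
    have h2 : Nat.card (W.subgroupOf V) * (W.subgroupOf V).index = Nat.card V :=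
      card_mul_index _
    rw [show (W.subgroupOf V).index = W.relIndex V from rfl, he] at h2
    have h3 : Nat.card (W.subgroupOf V) = 1 := by
      have h4 := Nat.eq_of_mul_eq_mul_right Nat.card_pos (h2.trans (one_mul _).symm)
      exact h4
    rw [Nat.card_congr (subgroupOfEquivOfLe hWV).toEquiv] at h3
    exact eq_bot_of_card_eq _ h3
  have hV'dvd : Nat.card V' ∣ Nat.card V :=
    (Subgroup.card_map_dvd _ f).trans (Nat.card_congr (subgroupOfEquivOfLe hVW).toEquiv).dvd
  have hmem : ∀ {g : G} {H : Subgroup G} (hg : g ∈ normalizer (W : Set G)),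
      g ∈ normalizer (H : Set G) →
      f ⟨g, hg⟩ ∈ normalizer ((H.subgroupOf (normalizer (W : Set G))).map f : Set _) := by
    intro g H hg hgH
    refine mem_normalizer_of_conj_mem ?_
    rintro _ ⟨y, hy, rfl⟩
    exact ⟨⟨g, hg⟩ * y * ⟨g, hg⟩⁻¹, (mem_normalizer_iff.1 hgH _).1 hy, by simp⟩
  have hfix' : V' ⊓ centralizer ({x'} : Set _) = ⊥ := by
    rw [eq_bot_iff]
    rintro _ ⟨⟨v, hv, rfl⟩, hc'⟩
    have hcomm : ∀ a ∈ zpowers x, ⁅a, (v : G)⁆ ∈ W := by
      intro a ha
      obtain ⟨i, rfl⟩ := ha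
      have h1 : Commute x' (f v) := (mem_centralizer_singleton_iff.1 hc').symm
      have h2 : f ⁅(⟨x, hnW hxV⟩ : normalizer (W : Set G)) ^ i, v⁆ = 1 := by
        rw [map_commutatorElement, map_zpow]
        exact commutatorElement_eq_one_iff_commute.2 (h1.zpow_left i)
      have h3 := (QuotientGroup.eq_one_iff (N := Wn) _).1 h2
      exact h3
    have hcop : (Nat.card (zpowers x)).Coprime (Nat.card W) := by
      rw [Nat.card_zpowers]
      exact (((hp.out.coprime_iff_not_dvd).2 fun h => hpV (h.trans (card_dvd_of_le hWV)))).coprime_dvd_left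
        (orderOf_dvd_of_pow_eq_one hx)
    obtain ⟨w, hw, hwv⟩ := exists_mul_mem_centralizer (zpowers x) W (zpowers_le.2 (hnW hxV)) hcop
      (Or.inl (Group.isSolvable_of_comm fun a b => Subtype.ext (by
        obtain ⟨i, hi⟩ := a.2
        obtain ⟨j, hj⟩ := b.2
        show (a : G) * b = b * a
        rw [← hi, ← hj]
        exact ((Commute.refl x).zpow_zpow i j).eq))) v hcomm
    have h3 : w * (v : G) ∈ V ⊓ centralizer ({x} : Set G) :=
      ⟨mul_mem (hWV hw) hv, mem_centralizer_singleton_iff.2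
        (mem_centralizer_iff.1 hwv x (mem_zpowers x)).symm⟩
    rw [hfix, mem_bot] at h3
    refine mem_bot.2 ((QuotientGroup.eq_one_iff v).2 ?_)
    show (v : G) ∈ W
    rw [show (v : G) = w⁻¹ from (eq_inv_of_mul_eq_one_right h3)]
    exact inv_mem hw
  have hrec := ih _ hcV (G := normalizer (W : Set G) ⧸ Wn) (Q := Q') (V := V') (x := x')
    (by rw [hx', ← map_pow, show (⟨x, hnW hxV⟩ : normalizer (W : Set G)) ^ p = 1 from Subtype.ext hx,
      map_one])
    (hmem (hnW hxV) hxQ)
    ((hQ.comap_subtype (K := normalizer (W : Set G))).map f)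
    (by rintro _ ⟨y, hy, rfl⟩; exact hmem y.2 (hQV hy))
    (hmem (hnW hxV) hxV)
    (CfsgLib.Cores.isNilpotent_map (haveI := hV; Group.nilpotent_of_mulEquiv (subgroupOfEquivOfLe hVW).symm) f)
    (fun h => hpV (h.trans hV'dvd)) (fun h => hqV (h.trans hV'dvd)) hfix' rfl
  have hDV : ⁅V, D⁆ ≤ W := by
    have hQW : Q ≤ normalizer (W : Set G) := hQV.trans hnW
    have hDmap : ∀ d (hd : d ∈ D), f ⟨d, hQW (hDQ hd)⟩ ∈ ⁅Q', zpowers x'⁆ := by
      have hcl : D ≤ ((⁅Q', zpowers x'⁆).comap f).map (normalizer (W : Set G)).subtype := by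
        rw [hD, commutator_le]
        rintro y hy _ ⟨i, rfl⟩
        refine ⟨⁅(⟨y, hQW hy⟩ : normalizer (W : Set G)), (⟨x, hnW hxV⟩ : normalizer (W : Set G)) ^ i⁆,
          ?_, rfl⟩
        rw [SetLike.mem_coe, mem_comap, map_commutatorElement, map_zpow]
        exact commutator_mem_commutator (mem_map_of_mem f hy) (zpow_mem (mem_zpowers x') i)
      intro d hd
      obtain ⟨e, he, hed⟩ := hcl hd
      rwa [← show e = ⟨d, hQW (hDQ hd)⟩ from Subtype.ext hed]
    rw [commutator_le]
    intro v hv d hd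
    have h1 := mem_centralizer_iff.1 (hrec (hDmap d hd)) (f ⟨v, hVW hv⟩)
      (mem_map_of_mem f (show (⟨v, hVW hv⟩ : normalizer (W : Set G)) ∈ V.subgroupOf _ from hv))
    have h2 : f ⁅(⟨v, hVW hv⟩ : normalizer (W : Set G)), ⟨d, (hQV.trans hnW) (hDQ hd)⟩⁆ = 1 := by
      rw [map_commutatorElement, commutatorElement_eq_one_iff_mul_comm]
      exact h1
    have h3 := (QuotientGroup.eq_one_iff (N := Wn) _).1 h2
    exact h3
  have hDn : D ≤ normalizer (V : Set G) := hDQ.trans hQV
  have hcopD : (Nat.card D).Coprime (Nat.card V) :=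
    (coprime_of_isPGroup hQ hqV).coprime_dvd_left (card_dvd_of_le hDQ)
  have h3 : ⁅V, D⁆ = ⊥ := by
    rw [← commutator_commutator_self hDn hcopD (Or.inr (haveI := hV; inferInstance)), eq_bot_iff]
    refine (commutator_mono hDV le_rfl).trans (commutator_eq_bot_iff_le_centralizer.2 ?_).le
    exact le_centralizer_iff.1 hD1
  exact le_centralizer_iff.1 (commutator_eq_bot_iff_le_centralizer.1 h3)

/-- A Frobenius kernel centralises a solvable group of coprime order on which the complement has no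
fixed point. -/
theorem frobenius_kernel_centralizes {G : Type*} [Group G] [Finite G] {U E H : Subgroup G}
    (hU : Group.IsNilpotent U) (hEU : E ≤ normalizer (U : Set G))
    (hfpf : ∀ e ∈ E, e ≠ 1 → U ⊓ centralizer ({e} : Set G) = ⊥)
    (hUH : U ≤ normalizer (H : Set G)) (hEH : E ≤ normalizer (H : Set G))
    (hs : Group.IsSolvable H) (hcop : (Nat.card H).Coprime (Nat.card U * Nat.card E))
    (hfix : H ⊓ centralizer (E : Set G) = ⊥) : H ≤ centralizer (U : Set G) := by
  rcases eq_or_ne E ⊥ with rfl | hE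
  · have : H = ⊥ := by
      rw [← hfix, left_eq_inf]
      exact fun h _ => mem_centralizer_iff.2 fun y hy => by rw [mem_bot.1 hy, one_mul, mul_one]
    exact this.le.trans bot_le
  have hd : U ⊓ E = ⊥ := by
    rw [eq_bot_iff]
    rintro e ⟨heU, heE⟩
    rw [mem_bot]
    by_contra h1
    have h2 := hfpf e heE h1
    have : e ∈ U ⊓ centralizer ({e} : Set G) := ⟨heU, mem_centralizer_singleton_iff.2 rfl⟩
    rw [h2, mem_bot] at this
    exact h1 this
  have hF : CfsgLib.OddChar.FrobFix.Frob U E := ⟨fun e he u hu => normalizer_conj_mem (hEU he) hu,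
    fun e he he1 u hu hc => by
      rw [← mem_bot, ← hfpf e he he1]
      exact ⟨hu, mem_centralizer_singleton_iff.2 hc.symm⟩, hU⟩
  have h := CfsgLib.OddChar.FrobFix.card_inf_centralizer_formula (H := H) hF
    (fun y hy a ha => normalizer_conj_mem ((sup_le hUH hEH) hy) ha) hs
    (by rw [card_sup_of_disjoint hEU hd]; exact hcop)
  have hb : H ⊓ centralizer ((U ⊔ E : Subgroup G) : Set G) = ⊥ :=
    le_bot_iff.1 ((inf_le_inf_left H (centralizer_le (le_sup_right : E ≤ U ⊔ E))).trans hfix.le)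
  rw [hb, hfix, card_bot, one_pow, one_mul, one_mul] at h
  exact (eq_of_le_of_card_ge inf_le_left h.le).ge.trans inf_le_right

end CfsgLib.OddLocal.BG
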