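import Cfsg.Agent.Lib.OddLocal.MaxBasic
import Cfsg.Agent.Lib.Solvable.CoprimeAction
import Cfsg.Agent.Lib.FGS.ThompsonKernel
import Cfsg.Agent.Lib.Solvable.Hall
import Cfsg.Agent.Lib.Solvable.NilpotentParts

/-!
# Small tools for coprime actions inside an ambient group
-/

set_option autoImplicit false
set_option linter.style.haveILetI false
set_option linter.unusedSectionVars false

open scoped Pointwise commutatorElement

namespace CfsgLib.OddLocal

universe u

variable {G : Type u} [Group G] [Finite G]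

theorem isNilpotent_of_le {A B : Subgroup G} (hB : Group.IsNilpotent B) (h : A ≤ B) :
    Group.IsNilpotent A := by
  haveI := hB
  exact Group.nilpotent_of_mulEquiv (Subgroup.subgroupOfEquivOfLe h)

/-- The product of two nilpotent subgroups normalising each other is nilpotent. -/
theorem isNilpotent_sup {A B : Subgroup G} (hA : Group.IsNilpotent A) (hB : Group.IsNilpotent B)
    (hBA : B ≤ Subgroup.normalizer (A : Set G)) (hAB : A ≤ Subgroup.normalizer (B : Set G)) :
    Group.IsNilpotent ↥(A ⊔ B) :=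
  isNilpotent_of_le (isNilpotent_fittingOf _) (sup_le
    (S15.le_fittingOf le_sup_left (sup_le Subgroup.le_normalizer hBA) hA)
    (S15.le_fittingOf le_sup_right (sup_le hAB Subgroup.le_normalizer) hB))

theorem isNilpotent_of_le_fittingOf {H : Subgroup G} (h : H ≤ Cfsg.fittingOf H) :
    Group.IsNilpotent H :=
  isNilpotent_of_le (isNilpotent_fittingOf H) h

theorem S15.normalizer_le_normalizer_fittingOf (H : Subgroup G) :
    Subgroup.normalizer (H : Set G) ≤ Subgroup.normalizer (Cfsg.fittingOf H : Set G) := by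
  intro g hg
  rw [← map_conj_eq_self_iff, ← fittingOf_map_conj, map_conj_eq_self_iff.2 hg]

theorem normalizer_le_normalizer_map_characteristic {H : Subgroup G} (K : Subgroup H)
    [hK : K.Characteristic] :
    Subgroup.normalizer (H : Set G) ≤
      Subgroup.normalizer ((K.map H.subtype : Subgroup G) : Set G) := by
  intro g hg
  rw [← map_conj_eq_self_iff]
  have h1 := Subgroup.characteristic_iff_map_eq.1 hK (H.normalizerMonoidHom ⟨g, hg⟩)
  conv_rhs => rw [← h1]
  rw [Subgroup.map_map, Subgroup.map_map]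
  rfl

/-- A normal Hall subgroup of a normal subgroup is normal. -/
theorem le_normalizer_of_coprime_normal {M N X : Subgroup G}
    (hMN : M ≤ Subgroup.normalizer (N : Set G)) (hXN : X ≤ N)
    (hNX : N ≤ Subgroup.normalizer (X : Set G)) (hco : (Nat.card X).Coprime (X.relIndex N)) :
    M ≤ Subgroup.normalizer (X : Set G) := by
  intro m hm
  rw [← map_conj_eq_self_iff]
  refine Subgroup.eq_of_le_of_card_ge
    (le_of_normalized_coprime hNX ?_ (by rwa [card_map_conj])) (card_map_conj m X).ge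
  calc _ ≤ N.map (MulAut.conj m).toMonoidHom := Subgroup.map_mono hXN
    _ = N := map_conj_eq_self_iff.2 (hMN hm)

/-- Thompson: a subgroup normalised by an element of prime order without fixed points is
nilpotent. -/
theorem isNilpotent_of_fpf_normalized {X : Subgroup G} {r : ℕ} (hr : r.Prime) {k : G}
    (hk : k ∈ Subgroup.normalizer (X : Set G)) (hkr : k ^ r = 1)
    (hfix : ∀ x ∈ X, x * k = k * x → x = 1) : Group.IsNilpotent X := by
  refine CfsgLib.FGS.isNilpotent_of_fpf_prime hr (X.normalizerMonoidHom ⟨k, hk⟩) (fun x hx => ?_) ?_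
  · refine Subtype.ext (hfix x x.2 ?_)
    have h1 : k * (x : G) * k⁻¹ = x := congrArg Subtype.val hx
    exact (mul_inv_eq_iff_eq_mul.1 h1).symm
  · rw [← map_pow, show (⟨k, hk⟩ : (Subgroup.normalizer (X : Set G) : Subgroup G)) ^ r = 1 from
      Subtype.ext hkr, map_one]

/-- An element centralising `u` modulo a normalised subgroup does so together with its powers. -/
theorem commutator_zpowers_mem {Q : Subgroup G} {k u : G}
    (hk : k ∈ Subgroup.normalizer (Q : Set G)) (hu : u ∈ Subgroup.normalizer (Q : Set G))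
    (h : ⁅k, u⁆ ∈ Q) : ∀ a ∈ Subgroup.zpowers k, ⁅a, u⁆ ∈ Q := by
  rintro a ⟨i, rfl⟩
  set L : Subgroup G := Subgroup.normalizer (Q : Set G)
  haveI : (Q.subgroupOf L).Normal := Subgroup.normal_subgroupOf_of_le_normalizer le_rfl
  let π := QuotientGroup.mk' (Q.subgroupOf L)
  have h1 : Commute (π ⟨k, hk⟩) (π ⟨u, hu⟩) := by
    rw [← commutatorElement_eq_one_iff_commute, ← map_commutatorElement]
    exact (QuotientGroup.eq_one_iff _).2 h
  have h2 : π ⁅(⟨k, hk⟩ : L) ^ i, ⟨u, hu⟩⁆ = 1 := by
    rw [map_commutatorElement, map_zpow, commutatorElement_eq_one_iff_commute]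
    exact h1.zpow_left i
  have h3 : ⁅(⟨k, hk⟩ : L) ^ i, ⟨u, hu⟩⁆ ∈ Q.subgroupOf L := (QuotientGroup.eq_one_iff _).1 h2
  exact h3

/-- Lifting of fixed points of one element. -/
theorem exists_mul_commute {Q : Subgroup G} {k u : G} (hk : k ∈ Subgroup.normalizer (Q : Set G))
    (hu : u ∈ Subgroup.normalizer (Q : Set G)) (hco : (orderOf k).Coprime (Nat.card Q))
    (h : ⁅k, u⁆ ∈ Q) : ∃ n ∈ Q, (n * u) * k = k * (n * u) := by
  have hs : Group.IsSolvable (Subgroup.zpowers k) :=
    Group.isSolvable_of_comm fun a b => mul_comm' a b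
  obtain ⟨n, hn, hc⟩ := CfsgLib.Solvable.exists_mul_mem_centralizer (Subgroup.zpowers k) Q
    (Subgroup.zpowers_le.2 hk) (by rwa [Nat.card_zpowers]) (Or.inl hs) u
    (commutator_zpowers_mem hk hu h)
  exact ⟨n, hn, (Subgroup.mem_centralizer_iff.1 hc k (Subgroup.mem_zpowers k)).symm⟩

/-- Thompson, relative form: if all fixed points of `k` in `N` lie in `Q`, then `N/Q` is
nilpotent. -/
theorem isNilpotent_quotient_of_fpf {N Q : Subgroup G} [(Q.subgroupOf N).Normal] {r : ℕ}
    (hr : r.Prime) {k : G} (hkr : orderOf k = r) (hkN : k ∈ Subgroup.normalizer (N : Set G))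
    (hkQ : k ∈ Subgroup.normalizer (Q : Set G)) (hNQ : N ≤ Subgroup.normalizer (Q : Set G))
    (hQN : Q ≤ N) (hco : r.Coprime (Nat.card Q))
    (hfix : ∀ s ∈ N, s * k = k * s → s ∈ Q) :
    Group.IsNilpotent (N ⧸ Q.subgroupOf N) := by
  set φ := N.normalizerMonoidHom ⟨k, hkN⟩ with hφ
  have hinv : ∀ x ∈ Q.subgroupOf N, φ x ∈ Q.subgroupOf N := fun x hx =>
    (Subgroup.mem_normalizer_iff.1 hkQ x).1 hx
  obtain ⟨ψ, hψ⟩ := CfsgLib.FGS.exists_quotient_mulAut φ hinv
  refine CfsgLib.FGS.isNilpotent_of_fpf_prime hr ψ (fun y hy => ?_) ?_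
  · obtain ⟨x, rfl⟩ := QuotientGroup.mk'_surjective _ y
    have h1 := hψ 1 x
    rw [pow_one, pow_one] at h1
    rw [hy] at h1
    have h2 : ((x⁻¹ * φ x : N) : G) ∈ Q := (QuotientGroup.mk'_eq_mk' _).1 h1 |> fun ⟨z, hz, e⟩ => by
      have : x⁻¹ * φ x = z := by rw [← e]; group
      rw [this]; exact hz
    have h3 : ⁅k, (x : G)⁆ ∈ Q := by
      have := (Subgroup.mem_normalizer_iff.1 (hNQ x.2) _).1 h2
      simpa [hφ, commutatorElement_def, mul_assoc] using this
    obtain ⟨n, hn, hc⟩ := exists_mul_commute hkQ (hNQ x.2) (hkr ▸ hco) h3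
    have h4 : (x : G) ∈ Q := by
      have := Q.mul_mem (Q.inv_mem hn) (hfix _ (N.mul_mem (hQN hn) x.2) hc)
      simpa [← mul_assoc] using this
    exact (QuotientGroup.eq_one_iff _).2 h4
  · refine MulEquiv.ext fun y => ?_
    obtain ⟨x, rfl⟩ := QuotientGroup.mk'_surjective _ y
    rw [hψ r x, hφ, ← map_pow, show (⟨k, hkN⟩ : (Subgroup.normalizer (N : Set G) : Subgroup G)) ^ r = 1
      from Subtype.ext (show k ^ r = 1 by rw [← hkr, pow_orderOf_eq_one]), map_one]
    rfl

/-- A coprime operator group centralising a subgroup and the quotient by it centralises all. -/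
theorem le_centralizer_of_chain {A Q C : Subgroup G} (hAQ : A ≤ Subgroup.normalizer (Q : Set G))
    (hco : (Nat.card A).Coprime (Nat.card Q)) (hs : Group.IsSolvable A ∨ Group.IsSolvable Q)
    (h1 : ⁅Q, A⁆ ≤ C) (h2 : C ≤ Subgroup.centralizer (A : Set G)) :
    A ≤ Subgroup.centralizer (Q : Set G) := by
  have h : ⁅Q, A⁆ = ⊥ := by
    rw [← CfsgLib.Solvable.commutator_commutator_self hAQ hco hs, eq_bot_iff,
      Subgroup.commutator_le]
    intro c hc a ha
    rw [Subgroup.mem_bot, commutatorElement_eq_one_iff_mul_comm]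
    exact (Subgroup.mem_centralizer_iff.1 (h2 (h1 hc)) a ha).symm
  rw [Subgroup.le_centralizer_iff, ← Subgroup.commutator_eq_bot_iff_le_centralizer]
  exact h

/-- Hall dominance inside a solvable subgroup. -/
theorem exists_conj_le_piHall {π : Set ℕ} {H L X : Subgroup G} (hL : Group.IsSolvable L)
    (hH : Cfsg.IsPiHallOf π H L) (hX : X ≤ L)
    (hXπ : ∀ p : ℕ, p.Prime → p ∣ Nat.card X → p ∈ π) :
    ∃ g ∈ L, X.map (MulAut.conj g).toMonoidHom ≤ H := by
  haveI := hL
  have e : (H.subgroupOf L).index = H.relIndex L := rfl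
  obtain ⟨g, hg⟩ := CfsgLib.Solvable.exists_conj_le_of_coprime_index (G := L) (H := H.subgroupOf L)
    (K := X.subgroupOf L)
    (by rw [e, Nat.card_congr (Subgroup.subgroupOfEquivOfLe hH.1).toEquiv]
        exact coprime_of_pi hH.2.1 hH.2.2)
    (by rw [e, Nat.card_congr (Subgroup.subgroupOfEquivOfLe hX).toEquiv]
        exact coprime_of_pi hXπ hH.2.2)
  refine ⟨g, g.2, ?_⟩
  rintro _ ⟨x, hx, rfl⟩
  exact hg ⟨⟨x, hX hx⟩, hx, rfl⟩

/-- A Hall subgroup of a nilpotent subgroup is normal in it. -/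
theorem le_normalizer_of_hall_of_nilpotent {N X : Subgroup G} (hN : Group.IsNilpotent N)
    (hXN : X ≤ N) (hco : (Nat.card X).Coprime (X.relIndex N)) :
    N ≤ Subgroup.normalizer (X : Set G) := by
  haveI := hN
  set X' := X.subgroupOf N with hX'
  set L := Subgroup.normalizer (X' : Set N) with hL
  have hco' : (Nat.card X').Coprime (X'.relIndex L) := by
    rw [hX', Nat.card_congr (Subgroup.subgroupOfEquivOfLe hXN).toEquiv]
    exact hco.coprime_dvd_right (Subgroup.relIndex_dvd_index_of_le Subgroup.le_normalizer)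
  have hLtop : L = ⊤ := by
    refine normalizerCondition_iff_only_full_group_self_normalizing.1
      Group.normalizerCondition_of_isNilpotent L (le_antisymm ?_ Subgroup.le_normalizer)
    exact le_normalizer_of_coprime_normal le_rfl Subgroup.le_normalizer le_rfl hco'
  intro n hn
  rw [Subgroup.mem_normalizer_iff]
  intro x
  have h := Subgroup.mem_normalizer_iff.1 (hLtop ▸ Subgroup.mem_top (⟨n, hn⟩ : N) : (⟨n, hn⟩ : N) ∈ L)
  constructor
  · intro hx
    exact (h ⟨x, hXN hx⟩).1 hx
  · intro hx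
    have hxN : x ∈ N := by simpa [mul_assoc] using N.mul_mem (N.mul_mem (N.inv_mem hn) (hXN hx)) hn
    exact (h ⟨x, hxN⟩).2 hx

/-- The index of the trace of a normalised subgroup divides its index. -/
theorem relIndex_dvd_of_normalized {A B M : Subgroup G} (hM : M ≤ Subgroup.normalizer (A : Set G))
    (hB : B ≤ M) : A.relIndex B ∣ A.relIndex M := by
  haveI : (A.subgroupOf M).Normal := Subgroup.normal_subgroupOf_of_le_normalizer hM
  rw [← Subgroup.relIndex_subgroupOf (H := A) hB]
  exact Subgroup.relIndex_dvd_index_of_normal _ _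

/-- A normal `q`-subgroup lies in every subgroup of index prime to `q`. -/
theorem le_of_normal_pGroup {Q H M : Subgroup G} {q : ℕ} [hq : Fact q.Prime] (hQ : IsPGroup q Q)
    (hQM : Q ≤ M) (hHM : H ≤ M) (hM : M ≤ Subgroup.normalizer (Q : Set G))
    (hi : ¬ q ∣ H.relIndex M) : Q ≤ H := by
  set J := Q ⊔ H
  have hJ : J ≤ M := sup_le hQM hHM
  have h1 : H.relIndex J ∣ H.relIndex M :=
    ⟨J.relIndex M, (Subgroup.relIndex_mul_relIndex H J M le_sup_right hJ).symm⟩
  have h2 : H.relIndex J ∣ Nat.card Q := by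
    have e1 : Nat.card H * H.relIndex J = Nat.card J := by
      rw [← Subgroup.relIndex_bot_left, ← Subgroup.relIndex_bot_left,
        Subgroup.relIndex_mul_relIndex ⊥ H J bot_le le_sup_right]
    have e2 := CfsgLib.Solvable.card_sup_dvd_of_le_normalizer (A := Q) (X := H) (hHM.trans hM)
    rw [← e1, mul_comm (Nat.card Q)] at e2
    exact (Nat.mul_dvd_mul_iff_left Nat.card_pos).1 e2
  obtain ⟨j, hj⟩ := hQ.exists_card_eq
  have h3 : H.relIndex J = 1 := by
    refine Nat.eq_one_iff_not_exists_prime_dvd.2 fun p hp hd => hi ?_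
    have h4 := (hj ▸ h2 : H.relIndex J ∣ q ^ j)
    rw [← (Nat.prime_dvd_prime_iff_eq hp hq.out).1 (hp.dvd_of_dvd_pow (hd.trans h4))]
    exact hd.trans h1
  exact le_sup_left.trans (Subgroup.relIndex_eq_one.1 h3)

end CfsgLib.OddLocal
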