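import Cfsg.Agent.Lib.OddLocal.S15Assembly
import Cfsg.Agent.Lib.OddLocal.S16Main
import Cfsg.Agent.Lib.OddLocal.S16Tame
import Cfsg.Agent.Lib.OddLocal.S16Exhaust
import Cfsg.Agent.S1421
import Cfsg.Agent.S1445
import Cfsg.Agent.S1446

/-!
# The bundle of sections 15-16, discharged
-/

set_option autoImplicit false

namespace CfsgLib.OddLocal.S15

universe u
variable {G : Type u} [Group G] [Finite G]

/-- The hypotheses of sections 15-16 hold in a minimal simple group of odd order. -/
theorem s16Base (hG : Cfsg.IsMinSimpleOddOrder G) : S16Base G :=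
  s16Base_of hG (fun M hM E hE h => Cfsg.Agent.S1421.result hG M hM E hE h) @Cfsg.Agent.S1445.result @Cfsg.Agent.S1446.result

end CfsgLib.OddLocal.S15
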