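import Cfsg.Agent.Lib.OddLocal.S15Signalizer

/-!
# The subgroup supporting a type-`P₂` subgroup is a Frobenius group
-/

set_option autoImplicit false
set_option linter.style.haveILetI false
set_option linter.unusedSectionVars false

open scoped Pointwise commutatorElement

namespace CfsgLib.OddLocal.S15

universe u

variable {G : Type u} [Group G] [Finite G] {M K U N : Subgroup G}

theorem pRankLE_map_conj {p k : ℕ} (g : G) (h : Cfsg.PRankLE p k M) :
    Cfsg.PRankLE p k ↥(M.map (MulAut.conj g).toMonoidHom) :=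
  CfsgLib.PGroup.pRankLE_of_injective h
    (Subgroup.equivMapOfInjective M _ (MulAut.conj g).injective).symm.toMonoidHom
    (Subgroup.equivMapOfInjective M _ (MulAut.conj g).injective).symm.injective

theorem map_conj_inv_map (g : G) (X : Subgroup G) :
    (X.map (MulAut.conj g).toMonoidHom).map (MulAut.conj g⁻¹).toMonoidHom = X := by
  rw [map_conj_map_conj, inv_mul_cancel, map_conj_one]

theorem tau2_map_conj (g : G) (M : Subgroup G) :
    Cfsg.tau2 (M.map (MulAut.conj g).toMonoidHom) = Cfsg.tau2 M := by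
  ext p
  show _ ∧ _ ∧ _ ∧ _ ↔ _ ∧ _ ∧ _ ∧ _
  rw [sigma_map_conj]
  refine and_congr_right fun _ => and_congr_right fun _ => ?_
  have h : ∀ k, Cfsg.PRankLE p k ↥(M.map (MulAut.conj g).toMonoidHom) ↔ Cfsg.PRankLE p k M :=
    fun k => ⟨fun hk => by
      have := pRankLE_map_conj g⁻¹ hk
      rwa [map_conj_inv_map] at this, pRankLE_map_conj g⟩
  rw [h 2, h 1]

/-- A conjugate of a Hall-type condition on Sylow subgroups. -/
theorem kappa_map_conj_subset (h1350 : Hyp1350 G) (hM : IsCoatom M) (g : G) :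
    Cfsg.kappa M ⊆ Cfsg.kappa (M.map (MulAut.conj g).toMonoidHom) := by
  rintro p ⟨hp, hd, hσ, h⟩
  haveI := Fact.mk hp
  refine ⟨hp, by rwa [card_map_conj], by rwa [sigma_map_conj], fun P => ?_⟩
  let e := Subgroup.equivMapOfInjective M (MulAut.conj g).toMonoidHom (MulAut.conj g).injective
  have hi : Function.Injective e.toMonoidHom := e.injective
  let Q : Sylow p M := P.comapOfInjective e.toMonoidHom hi (fun z _ => e.surjective z)
  obtain ⟨hc, x, hx, hx1, y, hy, hy1, hxy⟩ := h Q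
  have hQP : (Q : Subgroup M).map e.toMonoidHom = P :=
    Subgroup.map_comap_eq_self_of_surjective e.surjective _
  refine ⟨?_, e x, hQP.le ⟨x, hx, rfl⟩, fun h => hx1 (hi (h.trans (map_one _).symm)),
    g * y * g⁻¹, ?_, fun h => hy1 (conj_eq_one_iff.1 h), ?_⟩
  · haveI := hc
    rw [← hQP]
    exact isCyclic_of_surjective _
      (Subgroup.equivMapOfInjective (Q : Subgroup M) e.toMonoidHom hi).surjective
  · rw [sigmaCore_map_conj h1350 hM g]
    exact conj_mem_map_conj hy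
  · show (g * (x : G) * g⁻¹) * (g * y * g⁻¹) = (g * y * g⁻¹) * (g * (x : G) * g⁻¹)
    calc (g * (x : G) * g⁻¹) * (g * y * g⁻¹) = g * ((x : G) * y) * g⁻¹ := by group
      _ = _ := by rw [hxy]; group

theorem kappa_map_conj (h1350 : Hyp1350 G) (hM : IsCoatom M) (g : G) :
    Cfsg.kappa (M.map (MulAut.conj g).toMonoidHom) = Cfsg.kappa M := by
  refine Set.Subset.antisymm ?_ (kappa_map_conj_subset h1350 hM g)
  intro p hp
  have := kappa_map_conj_subset h1350 (isCoatom_map_conj hM g) g⁻¹ hp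
  rwa [map_conj_inv_map] at this

/-- A maximal subgroup with `κ = τ₂ = ∅` supported outside itself is a Frobenius group with kernel
`M_F = M_σ` and cyclic complement; the kernel is not TI. -/
theorem frobenius_data (hG : Cfsg.IsMinSimpleOddOrder G) (B : NTBase G) (hM : IsCoatom M)
    (hκ : Cfsg.kappa M = ∅) (hτ : Cfsg.tau2 M = ∅) {x : G} (hx : x ∈ Cfsg.sigmaCore M) (hx1 : x ≠ 1)
    (hxM : ¬ Subgroup.centralizer ({x} : Set G) ≤ M) :
    (∃ K U : Subgroup G, Cfsg.IsSigmaDecomposition M K U ∧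
      Cfsg.fittingHallOf M = Cfsg.sigmaCore M ∧
      (∀ u ∈ U, u ≠ 1 → ∀ y ∈ Cfsg.sigmaCore M, u * y = y * u → y = 1) ∧
      Cfsg.IsFrobeniusComplement (U.subgroupOf M) ∧ IsCyclic ↥(U.subgroupOf M)) ∧
      ¬ Cfsg.IsTISubset (Cfsg.fittingHallOf M : Set G) := by
  obtain ⟨K, U, hKU⟩ := exists_decomposition B.h1350 hM B.h1351 B.h1352
  have hK : K = ⊥ := by
    by_contra hK
    obtain ⟨q, hq, hd⟩ := Nat.exists_prime_and_dvd (fun h => hK (Subgroup.card_eq_one.1 h))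
    have := hKU.hall.2.1 q hq hd
    rw [hκ] at this
    exact this
  have hU : U ≠ ⊥ := fun h => K_ne_bot_of_U_eq_bot hG B.h1350 B.h1426 hM hKU h hK
  have hF : Cfsg.fittingHallOf M = Cfsg.sigmaCore M := by
    by_contra hne
    exact hU (U_eq_bot_of_ne hG B.h1350 B.h1429 hM hKU hne)
  obtain ⟨c, hc, hcM⟩ := SetLike.not_le_iff_exists.1 hxM
  have hcx : c * x * c⁻¹ = x := by
    rw [Subgroup.mem_centralizer_singleton_iff.1 hc, mul_inv_cancel_right]
  have hxF : x ∈ Cfsg.fittingOf M := fittingHallOf_le_fittingOf M (hF ▸ hx)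
  have hX : Cfsg.fittingOf M ⊓ (Cfsg.fittingOf M).map (MulAut.conj c).toMonoidHom ≠ ⊥ := fun h => by
    have h1 : x ∈ Cfsg.fittingOf M ⊓ (Cfsg.fittingOf M).map (MulAut.conj c).toMonoidHom :=
      ⟨hxF, ⟨x, hxF, hcx⟩⟩
    rw [h, Subgroup.mem_bot] at h1
    exact hx1 h1
  refine ⟨?_, fun hTI => ?_⟩
  swap
  · have h1 := hTI c (fun h => hcM ?_) x (hF ▸ hx) (by rw [hcx, hF]; exact hx)
    · exact hx1 h1
    · rwa [normalizer_eq_of_normal hG hM (fittingHallOf_le M) (fittingHallOf_ne_bot hG B.toBase hM)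
        (le_normalizer_fittingHallOf M)] at h
  have hUM := U_le B.h1350 hM hKU
  have hcompl : Cfsg.IsComplIn U (Cfsg.sigmaCore M) M := by
    have h := hKU.compl
    rwa [hK, bot_sup_eq] at h
  -- `U` acts without fixed points
  have hreg : ∀ u ∈ U, u ≠ 1 → ∀ y ∈ Cfsg.sigmaCore M, u * y = y * u → y = 1 := by
    intro u hu hu1 y hy huy
    by_contra hy1
    obtain ⟨h, -⟩ := U_nonregular B.h1350 B.h1432 hM hKU hu hu1 hy hy1 huy
    obtain ⟨q, hq, hd⟩ := Nat.exists_prime_and_dvd (fun h => hu1 (orderOf_eq_one_iff.1 h))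
    have := h q hq hd
    rw [hτ] at this
    exact this
  -- `U` is abelian
  have hUc : IsMulCommutative U := by
    have hY : Cfsg.piCoreOf {q | q.Prime ∧ q ∉ Cfsg.sigma M} (Cfsg.fittingOf M) = ⊥ := by
      refine Subgroup.card_eq_one.1 (Nat.eq_one_iff_not_exists_prime_dvd.2 fun q hq hd => ?_)
      have := (fitting_sigmaPrime hG B.toBase hM).2.1 q hq hd
      rw [hτ] at this
      exact this
    have h1 : ⁅U, U⁆ ≤ U ⊓ Cfsg.sigmaCore M := le_inf (Subgroup.commutator_le_self U) <| by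
      refine (Subgroup.commutator_mono hUM hUM).trans
        ((derived_le_fittingOf_of_inter hG B hM hKU hcM hX).1.trans ?_)
      rw [fittingOf_eq_of_inter hG B hM hcM hX, hY, sup_bot_eq]
    rw [U_inf_sigmaCore B.h1350 hM hKU, le_bot_iff, Subgroup.commutator_eq_bot_iff_le_centralizer] at h1
    exact ⟨⟨fun a b => Subtype.ext (Subgroup.mem_centralizer_iff.1 (h1 b.2) a a.2)⟩⟩
  have hrank : Cfsg.RankLE 1 U := by
    intro p hp
    by_cases hpσ : p ∈ Cfsg.sigma M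
    · refine (CfsgLib.PGroup.pRankLE_subgroup_iff U).2 fun A hA hAe => ?_
      haveI := Fact.mk hp
      obtain ⟨n, hn⟩ := CfsgLib.PGroup.elemAb_card hAe
      rcases Nat.eq_zero_or_pos n with h | h
      · rw [hn, h, pow_zero, pow_one]; exact hp.one_lt.le
      · exact absurd hpσ (U_primes B.h1350 hM hKU hp
          ((dvd_pow_self p h.ne').trans (hn ▸ Subgroup.card_dvd_of_le hA))).1
    · have h1 : Cfsg.PRankLE p 1 M := by
        by_contra h1
        have : p ∈ Cfsg.tau2 M :=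
          ⟨hp, hpσ, rankLE_two_of_notMem_sigma B.h1350 B.h1405 hM hp hpσ, h1⟩
        rw [hτ] at this
        exact this
      exact CfsgLib.PGroup.pRankLE_of_injective h1 (Subgroup.inclusion hUM)
        (Subgroup.inclusion_injective hUM)
  have hUcyc := isCyclic_of_comm_rankLE_one hUc (hG.1.of_dvd_nat U.card_subgroup_dvd_card) hrank
  refine ⟨K, U, hKU, hF, hreg, ⟨?_, ?_, ?_⟩, isCyclic_of_surjective _
    (Subgroup.subgroupOfEquivOfLe hUM).symm.surjective⟩
  · rw [Ne, Subgroup.subgroupOf_eq_bot, disjoint_iff, inf_eq_left.2 hUM]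
    exact hU
  · rw [Ne, Subgroup.subgroupOf_eq_top]
    intro hle
    refine fittingHallOf_ne_bot hG B.toBase hM (le_bot_iff.1 ?_)
    rw [hF, ← hcompl.2.2.1]
    exact le_inf ((sigmaCore_le M).trans hle) le_rfl
  · rintro ⟨h, hhM⟩ hh
    rw [eq_bot_iff]
    rintro ⟨y, hyM⟩ ⟨hy, hy'⟩
    rw [Subgroup.mem_bot]
    refine Subtype.ext ?_
    replace hy' : (⟨y, hyM⟩ : M) ∈ MulAut.conj (⟨h, hhM⟩ : M) • U.subgroupOf M := hy'
    rw [Subgroup.mem_pointwise_smul_iff_inv_smul_mem] at hy'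
    rw [← map_inv, MulAut.smul_def, MulAut.conj_apply] at hy'
    replace hy' : h⁻¹ * y * h⁻¹⁻¹ ∈ U := hy'
    rw [inv_inv] at hy'
    obtain ⟨e, he, s, hs, rfl⟩ := hcompl.2.2.2 h hhM
    show y = 1
    set y₀ := (e * s)⁻¹ * y * (e * s)
    have hy₁ : e⁻¹ * y * e ∈ U := U.mul_mem (U.mul_mem (U.inv_mem he) hy) he
    have hs1 : s ≠ 1 := fun h1 => hh (by
      show e * s ∈ U
      rw [h1, mul_one]; exact he)
    have h1 : ⁅s, y₀⁆ ∈ U ⊓ Cfsg.sigmaCore M := by
      constructor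
      · have : ⁅s, y₀⁆ = (e⁻¹ * y * e) * y₀⁻¹ := by
          simp only [y₀, commutatorElement_def]; group
        rw [this]
        exact U.mul_mem hy₁ (U.inv_mem hy')
      · have h2 := (Cfsg.sigmaCore M).mul_mem hs ((Subgroup.mem_normalizer_iff.1
          (le_normalizer_sigmaCore M (hUM hy')) _).1 ((Cfsg.sigmaCore M).inv_mem hs))
        simpa [commutatorElement_def, mul_assoc] using h2
    rw [U_inf_sigmaCore B.h1350 hM hKU, Subgroup.mem_bot, commutatorElement_eq_one_iff_mul_comm] at h1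
    have hy0 : y₀ = 1 := by
      by_contra hne
      exact hs1 (hreg y₀ hy' hne s hs h1.symm)
    calc y = (e * s) * y₀ * (e * s)⁻¹ := by simp only [y₀]; group
      _ = 1 := by rw [hy0]; group

/-- A maximal subgroup with `κ = τ₂ = ∅` supported outside itself is a Frobenius group with cyclic
complement whose kernel is not TI. -/
theorem frobenius_of_regular (hG : Cfsg.IsMinSimpleOddOrder G) (B : NTBase G) (hM : IsCoatom M)
    (hκ : Cfsg.kappa M = ∅) (hτ : Cfsg.tau2 M = ∅) {x : G} (hx : x ∈ Cfsg.sigmaCore M) (hx1 : x ≠ 1)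
    (hxM : ¬ Subgroup.centralizer ({x} : Set G) ≤ M) :
    (∃ E : Subgroup ↥M, Cfsg.IsFrobeniusComplement E ∧ IsCyclic E) ∧
      ¬ Cfsg.IsTISubset (Cfsg.fittingHallOf M : Set G) := by
  obtain ⟨⟨K, U, -, -, -, h1, h2⟩, h3⟩ := frobenius_data hG B hM hκ hτ hx hx1 hxM
  exact ⟨⟨_, h1, h2⟩, h3⟩

/-- A subgroup supported by a subgroup of type P has `κ = τ₂ = ∅`. -/
theorem supported_kappa_tau2 (hG : Cfsg.IsMinSimpleOddOrder G) (B : SigBase G) (hM : IsCoatom M)
    {x : G} (hx : x ∈ Cfsg.sigmaCore M) (hx1 : x ≠ 1) (hxM : ¬ Subgroup.centralizer ({x} : Set G) ≤ M)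
    (hN : IsCoatom N) (hxN : Subgroup.centralizer ({x} : Set G) ≤ N)
    (hkN : (Cfsg.kappa N).Nonempty) : Cfsg.kappa M = ∅ ∧ Cfsg.tau2 M = ∅ := by
  obtain ⟨N', -, huN, -, -, -, hMN, hdata⟩ := B.h1375 M hM x hx hx1 hxM
  obtain rfl : N = N' := huN N hN hxN
  obtain ⟨K, U, hKU⟩ := exists_decomposition B.h1350 hN B.h1351 B.h1352
  obtain ⟨hU1, hxA, hxNσ⟩ := hdata K U hKU
  have hK1 : K ≠ ⊥ := K_ne_bot_of_mem_kappa hKU hkN.choose_spec
  obtain ⟨⟨hxMem, y, hy, hy1, hxy⟩, hxUs⟩ := hxA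
  have hxσ : ∀ p : ℕ, p.Prime → p ∣ orderOf x → p ∉ Cfsg.sigma N := by
    intro p hp hd hσ
    have hxMN : x ∈ M ⊓ N := ⟨sigmaCore_le M hx, hxMem⟩
    obtain ⟨h1, h2⟩ := relIndex_of_isComplIn hMN
    refine (B.h1350 N hN).1.2.2 p hp hσ ?_
    rw [h1]
    exact hd.trans (Subgroup.orderOf_dvd_natCard _ hxMN)
  -- move `x` into `U`
  obtain ⟨n, hnN, hn⟩ := exists_conj_le_piHall (maximal_solvable hG hN)
    (isPiHallOf_U B.h1350 hN hKU) (Subgroup.zpowers_le.2 hxMem) (fun p hp hd => by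
      rw [Nat.card_zpowers] at hd
      exact ⟨hp, not_kappa_of_dvd_UMs B.h1350 hN hKU hp
        (hd.trans (Subgroup.orderOf_dvd_natCard _ hxUs)), hxσ p hp hd⟩)
  set x₁ := n * x * n⁻¹
  have hx₁U : x₁ ∈ U := hn (conj_mem_map_conj (Subgroup.mem_zpowers x))
  have hx₁1 : x₁ ≠ 1 := fun h => hx1 (conj_eq_one_iff.1 h)
  set M₁ := M.map (MulAut.conj n).toMonoidHom
  have hM₁ := isCoatom_map_conj hM n
  have hx₁M : x₁ ∈ Cfsg.sigmaCore M₁ := by
    rw [sigmaCore_map_conj B.h1350 hM n]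
    exact conj_mem_map_conj hx
  have hC₁ : ¬ Subgroup.centralizer ({x₁} : Set G) ≤ M₁ := by
    intro h
    rw [centralizer_singleton_conj] at h
    exact hxM ((Subgroup.map_le_map_iff_of_injective (MulAut.conj n).injective).1 h)
  have hy₁ : n * y * n⁻¹ ∈ Cfsg.sigmaCore N :=
    (Subgroup.mem_normalizer_iff.1 (le_normalizer_sigmaCore N hnN) y).1 hy
  have hx₁C : Subgroup.centralizer ({x₁} : Set G) ≤ N :=
    (U_nonregular B.h1350 B.h1432 hN hKU hx₁U hx₁1 hy₁ (fun h => hy1 (conj_eq_one_iff.1 h)) (by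
      calc x₁ * (n * y * n⁻¹) = n * (x * y) * n⁻¹ := by simp only [x₁]; group
        _ = n * y * n⁻¹ * x₁ := by rw [hxy]; simp only [x₁]; group)).2.1
  -- the maximal subgroup above the normaliser of a Sylow subgroup of `U`
  obtain ⟨Ms, ⟨hMs, hKst, hKstH⟩, -⟩ := B.h1366 N hN K U hKU hK1
  obtain ⟨r, hr, hrd⟩ := Nat.exists_prime_and_dvd (fun h => hU1 (Subgroup.card_eq_one.1 h))
  haveI := Fact.mk hr
  obtain ⟨R⟩ : Nonempty (Sylow r U) := inferInstance
  set R' : Subgroup G := (R : Subgroup U).map U.subtype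
  have hR1 : R' ≠ ⊥ := fun h => R.ne_bot_of_dvd_card hrd
    (Subgroup.map_injective U.subtype_injective (h.trans (Subgroup.map_bot _).symm))
  obtain ⟨H, hH, hNR⟩ := exists_maximal_ge (normalizer_ne_top hG hR1 fun h => hN.1 (top_le_iff.1
    (h ▸ (Subgroup.map_subtype_le _).trans (U_le B.h1350 hN hKU))))
  obtain ⟨hκH, hUH, -⟩ := B.h1435 N hN K U hKU hK1 hU1 Ms hMs hKst hKstH r hrd R H hH hNR
  have hτH := tau2_eq_empty_of_P2 hG B hN hKU hK1 hU1 hMs hKst hKstH hrd R hH hNR hx₁U hx₁C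
  -- `H` is conjugate to `M`
  obtain ⟨q, hq, hqd⟩ := Nat.exists_prime_and_dvd (fun h => hx₁1 (orderOf_eq_one_iff.1 h))
  obtain ⟨g, hg⟩ := B.h1378.2 H M₁ hH hM₁
    ⟨q, prime_mem_sigma_of_mem_sigmaCore B.h1350 hH (hUH hx₁U) hq hqd,
      prime_mem_sigma_of_mem_sigmaCore B.h1350 hM₁ hx₁M hq hqd⟩
  have hMg : M = H.map (MulAut.conj (n⁻¹ * g)).toMonoidHom := by
    rw [← map_conj_map_conj, ← hg, map_conj_inv_map]
  have hκ : Cfsg.kappa M = ∅ := by rw [hMg, kappa_map_conj B.h1350 hH, hκH]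
  have hτ : Cfsg.tau2 M = ∅ := by rw [hMg, tau2_map_conj, hτH]
  exact ⟨hκ, hτ⟩

/-- The content of S1376. -/
theorem supporting_frobenius (hG : Cfsg.IsMinSimpleOddOrder G) (B : SigBase G) (hM : IsCoatom M)
    {x : G} (hx : x ∈ Cfsg.sigmaCore M) (hx1 : x ≠ 1) (hxM : ¬ Subgroup.centralizer ({x} : Set G) ≤ M)
    (hN : IsCoatom N) (hxN : Subgroup.centralizer ({x} : Set G) ≤ N)
    (hkN : (Cfsg.kappa N).Nonempty) :
    Cfsg.kappa M = ∅ ∧ (∃ E : Subgroup ↥M, Cfsg.IsFrobeniusComplement E ∧ IsCyclic E) ∧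
      ¬ Cfsg.IsTISubset (Cfsg.fittingHallOf M : Set G) := by
  obtain ⟨hκ, hτ⟩ := supported_kappa_tau2 hG B hM hx hx1 hxM hN hxN hkN
  exact ⟨hκ, frobenius_of_regular hG B.toNTBase hM hκ hτ hx hx1 hxM⟩

end CfsgLib.OddLocal.S15
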