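import Cfsg.Agent.Lib.OddLocal.S16Types
import Cfsg.Agent.Lib.PGroup.CoprimeHall

/-!
# Section 16: the sets `A(M)`, `A₀(M)`
-/

set_option autoImplicit false
set_option linter.style.haveILetI false
set_option linter.unusedSectionVars false

open scoped Pointwise commutatorElement

namespace CfsgLib.OddLocal.S15

universe u

variable {G : Type u} [Group G] [Finite G] {M N K U : Subgroup G}

/-- The `π'`- and `π`-parts of an element. -/
theorem exists_pi_split (π : Set ℕ) (a : G) :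
    ∃ s t : G, s ∈ Subgroup.zpowers a ∧ t ∈ Subgroup.zpowers a ∧ a = s * t ∧
      (∀ p : ℕ, p.Prime → p ∣ orderOf s → p ∉ π) ∧ ∀ p : ℕ, p.Prime → p ∣ orderOf t → p ∈ π := by
  obtain ⟨m, k, hn, hm, hk⟩ := CfsgLib.PGroup.exists_pi_factor π (orderOf a) (orderOf_pos a)
  have hcop : m.Coprime k := hm.coprime hk
  have hb : (1 : ℤ) = m * Nat.gcdA m k + k * Nat.gcdB m k := by
    have h := Nat.gcd_eq_gcd_ab m k
    rwa [hcop.gcd_eq_one, Nat.cast_one] at h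
  have key : ∀ (i : ℕ) (c : ℤ), orderOf a ∣ i → (a ^ c) ^ i = 1 := fun i c hi => by
    rw [← zpow_natCast, ← zpow_mul, mul_comm, zpow_mul, zpow_natCast,
      orderOf_dvd_iff_pow_eq_one.1 hi, one_zpow]
  refine ⟨a ^ ((m : ℤ) * Nat.gcdA m k), a ^ ((k : ℤ) * Nat.gcdB m k),
    Subgroup.zpow_mem_zpowers _ _, Subgroup.zpow_mem_zpowers _ _, ?_,
    fun p hp hd hπ => ?_, fun p hp hd => ?_⟩
  · rw [← zpow_add, ← hb, zpow_one]
  · refine hk p hp hπ (hd.trans (orderOf_dvd_of_pow_eq_one ?_))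
    rw [zpow_mul, zpow_natCast, ← zpow_natCast, ← zpow_mul, mul_comm, zpow_mul, zpow_natCast,
      ← pow_mul, ← hn, pow_orderOf_eq_one, one_zpow]
  · refine hm p hp (hd.trans (orderOf_dvd_of_pow_eq_one ?_))
    rw [zpow_mul, zpow_natCast, ← zpow_natCast, ← zpow_mul, mul_comm, zpow_mul, zpow_natCast,
      ← pow_mul, mul_comm k m, ← hn, pow_orderOf_eq_one, one_zpow]

theorem commute_of_mem_zpowers {a b y : G} (hb : b ∈ Subgroup.zpowers a) (h : a * y = y * a) :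
    b * y = y * b := by
  obtain ⟨i, rfl⟩ := Subgroup.mem_zpowers_iff.1 hb
  exact ((show Commute a y from h).zpow_left i).eq

theorem sigma_part_mem (h1350 : Hyp1350 G) (hM : IsCoatom M) {t : G} (ht : t ∈ M)
    (htσ : ∀ p : ℕ, p.Prime → p ∣ orderOf t → p ∈ Cfsg.sigma M) : t ∈ Cfsg.sigmaCore M :=
  mem_sigmaCore h1350 hM ht htσ

theorem exists_sigma_split (h1350 : Hyp1350 G) (hM : IsCoatom M) {a : G} (ha : a ∈ M) :
    ∃ s t : G, s ∈ Subgroup.zpowers a ∧ t ∈ Subgroup.zpowers a ∧ a = s * t ∧ s ∈ M ∧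
      t ∈ Cfsg.sigmaCore M ∧ ∀ p : ℕ, p.Prime → p ∣ orderOf s → p ∉ Cfsg.sigma M := by
  obtain ⟨s, t, hs, ht, he, hsσ, htσ⟩ := exists_pi_split (Cfsg.sigma M) a
  exact ⟨s, t, hs, ht, he, (Subgroup.zpowers_le.2 ha) hs,
    sigma_part_mem h1350 hM ((Subgroup.zpowers_le.2 ha) ht) htσ, hsσ⟩

/-- Elements of `U M_σ` outside `M_σ` with a fixed point on `M_σ^#`. -/
theorem exists_tau2_part (hG : Cfsg.IsMinSimpleOddOrder G) (B : Base G) (hM : IsCoatom M)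
    (hKU : Cfsg.IsSigmaDecomposition M K U) {a : G} (ha : a ∈ Cfsg.sigmaA M U)
    (haσ : a ∉ Cfsg.sigmaCore M) :
    ∃ s ∈ Subgroup.zpowers a, s ≠ 1 ∧ (∀ p : ℕ, p.Prime → p ∣ orderOf s → p ∉ Cfsg.sigma M) ∧
      Subgroup.centralizer ({s} : Set G) ≤ M ∧
      ∀ L : Subgroup G, IsCoatom L → Subgroup.centralizer ({s} : Set G) ≤ L → L = M := by
  obtain ⟨⟨haM, y, hy, hy1, hay⟩, haU⟩ := ha
  obtain ⟨s, t, hs, -, he, hsM, htσ, hsσ⟩ := exists_sigma_split B.h1350 hM haM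
  have hs1 : s ≠ 1 := fun h => haσ (by rw [he, h, one_mul]; exact htσ)
  rcases B.h1432 M hM y hy hy1 s
      ⟨hsM, Subgroup.mem_centralizer_singleton_iff.2 (commute_of_mem_zpowers hs hay)⟩ hs1 hsσ with
    ⟨hκ, -⟩ | ⟨-, -, hle, hu⟩
  · exfalso
    obtain ⟨p, hp, hd⟩ := Nat.exists_prime_and_dvd (fun h => hs1 (orderOf_eq_one_iff.1 h))
    exact not_kappa_of_dvd_UMs B.h1350 hM hKU hp
      (hd.trans (Subgroup.orderOf_dvd_natCard _ ((Subgroup.zpowers_le.2 haU) hs))) (hκ p hp hd)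
  · exact ⟨s, hs, hs1, hsσ, hle, hu⟩

theorem mem_of_map_conj_eq (hG : Cfsg.IsMinSimpleOddOrder G) (hM : IsCoatom M) (hMs : M ≠ ⊥) {g : G}
    (h : M.map (MulAut.conj g).toMonoidHom = M) : g ∈ M := by
  have h1 := map_conj_eq_self_iff.1 h
  rwa [normalizer_eq_of_normal hG hM le_rfl hMs Subgroup.le_normalizer] at h1

theorem sigmaCore_ne_bot (hG : Cfsg.IsMinSimpleOddOrder G) (B : Base G) (hM : IsCoatom M) :
    Cfsg.sigmaCore M ≠ ⊥ := fun h => fittingHallOf_ne_bot hG B hM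
  (le_bot_iff.1 (h ▸ fittingHallOf_le_sigmaCore B.h1350 hM hG))

theorem maximal_ne_bot (hG : Cfsg.IsMinSimpleOddOrder G) (B : Base G) (hM : IsCoatom M) : M ≠ ⊥ :=
  fun h => sigmaCore_ne_bot hG B hM (le_bot_iff.1 ((sigmaCore_le M).trans h.le))

theorem conj_mem_sigmaHat {m a : G} (hm : m ∈ M) (ha : a ∈ Cfsg.sigmaHat M) :
    m * a * m⁻¹ ∈ Cfsg.sigmaHat M := by
  obtain ⟨haM, y, hy, hy1, hay⟩ := ha
  refine ⟨M.mul_mem (M.mul_mem hm haM) (M.inv_mem hm), m * y * m⁻¹,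
    (Subgroup.mem_normalizer_iff.1 (le_normalizer_sigmaCore M hm) y).1 hy,
    fun h => hy1 (conj_eq_one_iff.1 h), ?_⟩
  calc m * a * m⁻¹ * (m * y * m⁻¹) = m * (a * y) * m⁻¹ := by group
    _ = m * (y * a) * m⁻¹ := by rw [hay]
    _ = m * y * m⁻¹ * (m * a * m⁻¹) := by group

theorem conj_mem_sigmaA (B : Base G) (hM : IsCoatom M) (hKU : Cfsg.IsSigmaDecomposition M K U)
    {m a : G} (hm : m ∈ M) (ha : a ∈ Cfsg.sigmaA M U) : m * a * m⁻¹ ∈ Cfsg.sigmaA M U :=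
  ⟨conj_mem_sigmaHat hm ha.1, (Subgroup.mem_normalizer_iff.1
    ((B.h1352 M hM K hKU.cyclic hKU.hall).2 U hKU hm) a).1 ha.2⟩

theorem le_normalizer_sigmaA_diff (B : Base G) (hM : IsCoatom M)
    (hKU : Cfsg.IsSigmaDecomposition M K U) :
    M ≤ Subgroup.normalizer (Cfsg.sigmaA M U \ (Cfsg.sigmaCore M : Set G)) := by
  intro m hm
  refine Subgroup.mem_set_normalizer_iff.2 fun a => ⟨fun h => ⟨conj_mem_sigmaA B hM hKU hm h.1,
    fun h' => h.2 ?_⟩, fun h => ?_⟩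
  · exact (Subgroup.mem_normalizer_iff.1 (le_normalizer_sigmaCore M hm) a).2 h'
  · refine ⟨?_, fun h' => h.2 ((Subgroup.mem_normalizer_iff.1 (le_normalizer_sigmaCore M hm) a).1 h')⟩
    have := conj_mem_sigmaA B hM hKU (inv_mem hm) h.1
    rwa [inv_inv, show m⁻¹ * (m * a * m⁻¹) * m = a by group] at this

/-- An element of `A(M)∖M_σ` has its centraliser in `M`. -/
theorem centralizer_le_of_sigmaA (hG : Cfsg.IsMinSimpleOddOrder G) (B : Base G) (hM : IsCoatom M)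
    (hKU : Cfsg.IsSigmaDecomposition M K U) {a : G} (ha : a ∈ Cfsg.sigmaA M U)
    (haσ : a ∉ Cfsg.sigmaCore M) : Subgroup.centralizer ({a} : Set G) ≤ M := by
  obtain ⟨s, hs, -, -, hle, -⟩ := exists_tau2_part hG B hM hKU ha haσ
  refine le_trans (fun c hc => ?_) hle
  exact Subgroup.mem_centralizer_singleton_iff.2
    (commute_of_mem_zpowers hs (Subgroup.mem_centralizer_singleton_iff.1 hc).symm).symm

/-- Fusion of `A(M)∖M_σ` takes place in `M`. -/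
theorem mem_of_sigmaA_conj (hG : Cfsg.IsMinSimpleOddOrder G) (B : Base G) (hM : IsCoatom M)
    (hKU : Cfsg.IsSigmaDecomposition M K U) {a g : G} (ha : a ∈ Cfsg.sigmaA M U)
    (haσ : a ∉ Cfsg.sigmaCore M) (hga : g * a * g⁻¹ ∈ Cfsg.sigmaA M U) : g ∈ M := by
  obtain ⟨s, hs, hs1, hsσ, hle, hu⟩ := exists_tau2_part hG B hM hKU ha haσ
  obtain ⟨i, rfl⟩ := Subgroup.mem_zpowers_iff.1 hs
  obtain ⟨⟨hgM, z, hz, hz1, hgz⟩, hgU⟩ := hga
  set s' := g * a ^ i * g⁻¹ with hs'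
  have hs'a : s' ∈ Subgroup.zpowers (g * a * g⁻¹) := ⟨i, conj_zpow⟩
  have hs'σ : ∀ q : ℕ, q.Prime → q ∣ orderOf s' → q ∉ Cfsg.sigma M := by
    intro q hq hd
    rw [hs', orderOf_conj] at hd
    exact hsσ q hq hd
  have hs'1 : s' ≠ 1 := fun h => hs1 (conj_eq_one_iff.1 h)
  rcases B.h1432 M hM z hz hz1 s' ⟨(Subgroup.zpowers_le.2 hgM) hs'a,
      Subgroup.mem_centralizer_singleton_iff.2 (commute_of_mem_zpowers hs'a hgz)⟩ hs'1 hs'σ with
    ⟨hκ, -⟩ | ⟨-, -, hle', -⟩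
  · exfalso
    obtain ⟨p, hp, hd⟩ := Nat.exists_prime_and_dvd (fun h => hs'1 (orderOf_eq_one_iff.1 h))
    exact not_kappa_of_dvd_UMs B.h1350 hM hKU hp
      (hd.trans (Subgroup.orderOf_dvd_natCard _ ((Subgroup.zpowers_le.2 hgU) hs'a))) (hκ p hp hd)
  · refine mem_of_map_conj_eq hG hM (maximal_ne_bot hG B hM) ?_
    -- `g⁻¹ M g` contains `C(s)`
    have h1 : Subgroup.centralizer ({a ^ i} : Set G) ≤ M.map (MulAut.conj g⁻¹).toMonoidHom := by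
      intro c hc
      refine ⟨g * c * g⁻¹, hle' (Subgroup.mem_centralizer_singleton_iff.2 ?_), by simp [mul_assoc]⟩
      have hc' := Subgroup.mem_centralizer_singleton_iff.1 hc
      calc g * c * g⁻¹ * (g * a ^ i * g⁻¹) = g * (c * a ^ i) * g⁻¹ := by group
        _ = g * (a ^ i * c) * g⁻¹ := by rw [hc']
        _ = g * a ^ i * g⁻¹ * (g * c * g⁻¹) := by group
    have h2 := hu _ (isCoatom_map_conj hM g⁻¹) h1
    have h3 := congrArg (Subgroup.map (MulAut.conj g).toMonoidHom) h2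
    have h4 := map_conj_inv_map g⁻¹ M
    rw [inv_inv] at h4
    exact h3.symm.trans h4

/-- S1362. -/
theorem sigmaA_diff_TI (hG : Cfsg.IsMinSimpleOddOrder G) (B : Base G) (hM : IsCoatom M)
    (hKU : Cfsg.IsSigmaDecomposition M K U) :
    Cfsg.IsTISubset (Cfsg.sigmaA M U \ (Cfsg.sigmaCore M : Set G)) := by
  intro g hg x hx hgx
  exact absurd (le_normalizer_sigmaA_diff B hM hKU
    (mem_of_sigmaA_conj hG B hM hKU hx.1 hx.2 hgx.1)) hg

theorem one_mem_sigmaA (hG : Cfsg.IsMinSimpleOddOrder G) (B : Base G) (hM : IsCoatom M) :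
    (1 : G) ∈ Cfsg.sigmaA M U := by
  obtain ⟨y, hy, hy1⟩ := (Subgroup.bot_or_exists_ne_one _).resolve_left (sigmaCore_ne_bot hG B hM)
  exact ⟨⟨one_mem M, y, hy, hy1, by rw [one_mul, mul_one]⟩, one_mem _⟩

theorem sigmaCore_subset_sigmaA (hG : Cfsg.IsMinSimpleOddOrder G) (B : Base G) (hM : IsCoatom M)
    {a : G} (ha : a ∈ Cfsg.sigmaCore M) : a ∈ Cfsg.sigmaA M U := by
  by_cases ha1 : a = 1
  · exact ha1 ▸ one_mem_sigmaA hG B hM
  · exact ⟨⟨sigmaCore_le M ha, a, ha, ha1, rfl⟩, Subgroup.mem_sup_right ha⟩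

theorem typeA1_eq (hG : Cfsg.IsMinSimpleOddOrder G) (B : S16Base G) (hM : IsCoatom M) :
    Cfsg.typeA1 M = (Cfsg.sigmaCore M : Set G) \ {1} := by
  rw [Cfsg.typeA1, typeCore_eq hG B hM]

theorem isTypeICore_iff (hG : Cfsg.IsMinSimpleOddOrder G) (B : S16Base G) (hM : IsCoatom M)
    (hKU : Cfsg.IsSigmaDecomposition M K U) : IsTypeICore M ↔ K = ⊥ :=
  ⟨fun h => K_eq_bot_of_typeF hG B.toBase hM hKU h.1, typeI_of_K_eq_bot hG B hM hKU⟩

theorem UMs_eq_of_K_eq_bot (B : Base G) (hM : IsCoatom M) (hKU : Cfsg.IsSigmaDecomposition M K U)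
    (hK : K = ⊥) : U ⊔ Cfsg.sigmaCore M = M := by
  refine le_antisymm (U_sup_sigmaCore_le B.h1350 hM hKU) fun m hm => ?_
  obtain ⟨a, ha, b, hb, rfl⟩ := hKU.compl.2.2.2 m hm
  rw [hK, bot_sup_eq] at hb
  exact mul_mem (Subgroup.mem_sup_left ha) (Subgroup.mem_sup_right hb)

/-- `A(M)` in the language of types. -/
theorem typeACore_eq (hG : Cfsg.IsMinSimpleOddOrder G) (B : S16Base G) (hM : IsCoatom M)
    (hKU : Cfsg.IsSigmaDecomposition M K U) : typeACore M = Cfsg.sigmaA M U \ {1} := by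
  classical
  by_cases hK : K = ⊥
  · rw [typeACore, if_pos ((isTypeICore_iff hG B hM hKU).2 hK),
      fittingHallOf_eq_of_not_both hG B.toBase hM hKU (U_ne_bot_of_K_eq_bot hG B.toBase hM hKU hK)]
    ext a
    simp only [Cfsg.sigmaA, Cfsg.sigmaHat, UMs_eq_of_K_eq_bot B.toBase hM hKU hK, Set.mem_setOf_eq,
      Set.mem_sdiff, Set.mem_inter_iff, Set.mem_singleton_iff, SetLike.mem_coe]
    tauto
  · rw [typeACore, if_neg (fun h => hK ((isTypeICore_iff hG B hM hKU).1 h)), typeCore_eq hG B hM,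
      derived_eq B.h1350 B.h1352 B.h1353 B.h1426 hM hKU hK]
    ext a
    have hle := U_sup_sigmaCore_le B.h1350 hM hKU
    simp only [Cfsg.sigmaA, Cfsg.sigmaHat, Set.mem_setOf_eq,
      Set.mem_sdiff, Set.mem_inter_iff, Set.mem_singleton_iff, SetLike.mem_coe]
    exact ⟨fun ⟨h1, h2, h3⟩ => ⟨⟨⟨hle h1, h3⟩, h1⟩, h2⟩, fun ⟨⟨⟨_, h3⟩, h1⟩, h2⟩ => ⟨h1, h2, h3⟩⟩

/-- An element of `M` outside `U M_σ` with a fixed point on `M_σ^#` and not conjugate into `K` is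
conjugate to an element of `Ẑ`. -/
theorem exists_hat_conj (hG : Cfsg.IsMinSimpleOddOrder G) (B : Base G) (hM : IsCoatom M)
    (hKU : Cfsg.IsSigmaDecomposition M K U) {a : G} (ha : a ∈ Cfsg.sigmaHat M)
    (haU : a ∉ U ⊔ Cfsg.sigmaCore M)
    (hnK : ¬ ∃ k ∈ K, k ≠ 1 ∧ ∃ m ∈ M, a = m * k * m⁻¹) :
    K ≠ ⊥ ∧ ∃ m ∈ M, ∃ k ∈ K, k ≠ 1 ∧ ∃ t ∈ Cfsg.sigmaCore M ⊓ Subgroup.centralizer (K : Set G),
      t ≠ 1 ∧ a = m * (k * t) * m⁻¹ := by
  obtain ⟨haM, y, hy, hy1, hay⟩ := ha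
  obtain ⟨s, t, hs, ht, he, hsM, htσ, hsσ⟩ := exists_sigma_split B.h1350 hM haM
  have hs1 : s ≠ 1 := fun h => haU (by rw [he, h, one_mul]; exact Subgroup.mem_sup_right htσ)
  rcases B.h1432 M hM y hy hy1 s
      ⟨hsM, Subgroup.mem_centralizer_singleton_iff.2 (commute_of_mem_zpowers hs hay)⟩ hs1 hsσ with
    ⟨hκ, -⟩ | ⟨hτ, -⟩
  swap
  · exfalso
    refine haU (he ▸ mul_mem (le_U_sup_sigmaCore B.h1350 hM hKU ((B.h1352 M hM K hKU.cyclic hKU.hall).2 U hKU)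
      (Subgroup.zpowers_le.2 hsM) (fun q hq hd => ?_) (Subgroup.mem_zpowers s)) (Subgroup.mem_sup_right htσ))
    rw [Nat.card_zpowers] at hd
    exact tau2_notMem_kappa (hτ q hq hd)
  obtain ⟨m, hm, hmk⟩ := exists_conj_mem_K hG hM hKU hsM (fun q hq hd => hκ q hq hd)
  set k := m * s * m⁻¹ with hk
  have hk1 : k ≠ 1 := fun h => hs1 (conj_eq_one_iff.1 h)
  have hK1 : K ≠ ⊥ := fun h => hk1 (by rw [h, Subgroup.mem_bot] at hmk; exact hmk)
  have hst : s * t = t * s := commute_of_mem_zpowers hs (commute_of_mem_zpowers ht rfl).symm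
  have ht' : m * t * m⁻¹ ∈ Cfsg.sigmaCore M :=
    (Subgroup.mem_normalizer_iff.1 (le_normalizer_sigmaCore M hm) t).1 htσ
  have htK : m * t * m⁻¹ ∈ Cfsg.sigmaCore M ⊓ Subgroup.centralizer (K : Set G) :=
    mem_kstar_of_commute B.h1430 hM hKU hK1 hmk hk1 ht' (by
      calc m * t * m⁻¹ * k = m * (t * s) * m⁻¹ := by rw [hk]; group
        _ = m * (s * t) * m⁻¹ := by rw [hst]
        _ = k * (m * t * m⁻¹) := by rw [hk]; group)
  refine ⟨hK1, m⁻¹, inv_mem hm, k, hmk, hk1, _, htK, fun h => hnK ⟨k, hmk, hk1, m⁻¹, inv_mem hm, ?_⟩,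
    by rw [hk, he]; group⟩
  rw [conj_eq_one_iff.1 h] at he
  rw [he, hk]; group

theorem hat_mem_sigmaA0 (B : Base G) (hM : IsCoatom M) (hKU : Cfsg.IsSigmaDecomposition M K U)
    {w₁ w₂ m : G} (hw₁ : w₁ ∈ M) (hw₂ : w₂ ∈ Cfsg.sigmaCore M) (hw₂1 : w₂ ≠ 1)
    (hc : w₁ * w₂ = w₂ * w₁) (hw₁σ : ∀ p : ℕ, p.Prime → p ∣ orderOf w₁ → p ∉ Cfsg.sigma M)
    (hm : m ∈ M) : m * (w₁ * w₂) * m⁻¹ ∈ Cfsg.sigmaA0 M K \ {1} := by
  have hy : (w₁ * w₂) * w₂ = w₂ * (w₁ * w₂) := by rw [hc, mul_assoc, hc]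
  have hhat := conj_mem_sigmaHat hm (⟨M.mul_mem hw₁ (sigmaCore_le M hw₂), w₂, hw₂, hw₂1, hy⟩ :
    w₁ * w₂ ∈ Cfsg.sigmaHat M)
  have hne : ∀ v : G, (∀ p : ℕ, p.Prime → p ∣ orderOf v → p ∉ Cfsg.sigma M) → w₁ * w₂ ≠ v := by
    intro v hv e
    -- the `σ`-part of `w₁ w₂` is not trivial
    obtain ⟨p, hp, hd⟩ := Nat.exists_prime_and_dvd (fun h => hw₂1 (orderOf_eq_one_iff.1 h))
    have hσ := prime_mem_sigma_of_mem_sigmaCore B.h1350 hM hw₂ hp hd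
    refine hv p hp ?_ hσ
    rw [← e, (show Commute w₁ w₂ from hc).orderOf_mul_eq_mul_orderOf_of_coprime
      (Nat.coprime_of_dvd fun q hq h1 h2 =>
        hw₁σ q hq h1 (prime_mem_sigma_of_mem_sigmaCore B.h1350 hM hw₂ hq h2))]
    exact hd.trans (dvd_mul_left _ _)
  refine ⟨⟨hhat, ?_⟩, fun h => ?_⟩
  · rintro ⟨k, hk, -, m', hm', e⟩
    refine hne (m⁻¹ * m' * k * (m⁻¹ * m')⁻¹) (fun p hp hd => ?_) ?_
    · rw [orderOf_conj] at hd
      exact (hKU.hall.2.1 p hp (hd.trans (Subgroup.orderOf_dvd_natCard _ hk))).2.2.1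
    · calc w₁ * w₂ = m⁻¹ * (m * (w₁ * w₂) * m⁻¹) * m := by group
        _ = m⁻¹ * (m' * k * m'⁻¹) * m := by rw [e]
        _ = _ := by group
  · refine hne 1 (fun p hp hd => absurd ?_ hp.ne_one) ?_
    · rw [orderOf_one] at hd
      exact Nat.eq_one_of_dvd_one hd
    · exact conj_eq_one_iff.1 (Set.mem_singleton_iff.1 h)

/-- `A(M) ⊆ A₀(M)`. -/
theorem sigmaA_subset_sigmaA0 (B : Base G) (hM : IsCoatom M)
    (hKU : Cfsg.IsSigmaDecomposition M K U) : Cfsg.sigmaA M U ⊆ Cfsg.sigmaA0 M K := by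
  rintro a ⟨ha, haU⟩
  refine ⟨ha, fun ⟨k, hk, hk1, m, hm, e⟩ => ?_⟩
  obtain ⟨p, hp, hd⟩ := Nat.exists_prime_and_dvd (fun h => hk1 (orderOf_eq_one_iff.1 h))
  refine not_kappa_of_dvd_UMs B.h1350 hM hKU hp ?_
    (hKU.hall.2.1 p hp (hd.trans (Subgroup.orderOf_dvd_natCard _ hk)))
  rw [← orderOf_conj m k, ← e] at hd
  exact hd.trans (Subgroup.orderOf_dvd_natCard _ haU)

/-- The elements of `A₀(M)` in the language of types. -/
theorem typeA0Core_eq (hG : Cfsg.IsMinSimpleOddOrder G) (B : S16Base G) (hM : IsCoatom M)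
    (hKU : Cfsg.IsSigmaDecomposition M K U) : typeA0Core M = Cfsg.sigmaA0 M K \ {1} := by
  ext a
  constructor
  · rintro (h | ⟨-, W₁, V, W₂, hP, m, hm, w, hw, hw1, hw2, rfl⟩)
    · rw [typeACore_eq hG B hM hKU] at h
      exact ⟨sigmaA_subset_sigmaA0 B.toBase hM hKU h.1, h.2⟩
    have hc := hP.selfNormalizing.2.2.2.1
    obtain ⟨w₁, h1, w₂, h2, rfl⟩ := eq_mul_of_mem_sup (K := W₂) (U := W₁)
      (fun b hb => Subgroup.centralizer_le_normalizer _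
        (Subgroup.mem_centralizer_iff.2 fun x hx => hc x hx b hb)) hw
    have hW₁M : W₁ ≤ M := hP.W₁_compl.2.1
    refine hat_mem_sigmaA0 B.toBase hM hKU (hW₁M h1)
      (fittingHallOf_le_sigmaCore B.h1350 hM hG ((hP.W₂_le.trans inf_le_left) h2))
      (fun h => hw1 (by rw [h, mul_one]; exact h1)) (hc w₁ h1 w₂ h2) (fun p hp hd hσ => ?_) hm
    -- `W₁` has no `σ`-prime
    have hpW : p ∣ Nat.card W₁ := hd.trans (Subgroup.orderOf_dvd_natCard _ h1)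
    haveI := Fact.mk hp
    obtain ⟨⟨b, hbW⟩, hbo⟩ := exists_prime_orderOf_dvd_card' p hpW
    rw [← Subgroup.orderOf_coe] at hbo
    change orderOf b = p at hbo
    have hbσ : b ∈ Cfsg.sigmaCore M := mem_sigmaCore B.h1350 hM (hW₁M hbW) (fun q hq hqd => by
      rw [hbo] at hqd
      exact (Nat.prime_dvd_prime_iff_eq hq hp).1 hqd ▸ hσ)
    have hbM' : b ∈ ⁅M, M⁆ ⊓ W₁ :=
      ⟨sigmaCore_le_derived B.h1350 B.h1426 hM hKU hbσ, hbW⟩
    rw [hP.W₁_compl.2.2.1, Subgroup.mem_bot] at hbM'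
    exact hp.ne_one (by rw [← hbo, hbM', orderOf_one])
  · rintro ⟨⟨ha, hnK⟩, ha1⟩
    by_cases haU : a ∈ U ⊔ Cfsg.sigmaCore M
    · exact Or.inl (by rw [typeACore_eq hG B hM hKU]; exact ⟨⟨ha, haU⟩, ha1⟩)
    obtain ⟨hK1, m, hm, k, hk, hk1, t, ht, ht1, rfl⟩ := exists_hat_conj hG B.toBase hM hKU ha haU hnK
    obtain ⟨U', hP, -⟩ := typeP_data hG B hM hKU hK1
    have hkt := mul_mem (Subgroup.mem_sup_left hk)
      (Subgroup.mem_sup_right ht (S := K))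
    refine Or.inr ⟨fun h => hK1 ((isTypeICore_iff hG B hM hKU).1 h), K, U', _, hP, m, hm, k * t,
      hkt, fun h => ht1 ?_, fun h => hk1 ?_, rfl⟩
    · have h' : t ∈ Cfsg.sigmaCore M ⊓ K := ⟨ht.1, by simpa using K.mul_mem (K.inv_mem hk) h⟩
      rwa [sigmaCore_inf_K B.h1350 hM hKU, Subgroup.mem_bot] at h'
    · have h' : k ∈ Cfsg.sigmaCore M ⊓ K := ⟨(Subgroup.mul_mem_cancel_right _ ht.1).1 h.1, hk⟩
      rwa [sigmaCore_inf_K B.h1350 hM hKU, Subgroup.mem_bot] at h'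


end CfsgLib.OddLocal.S15
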