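import Cfsg.Agent.Lib.OddLocal.Sec14Duality

/-!
BG Theorem 14.7 and its corollaries: the contents of S1434, S1368-S1372 relative to `Pre'`.
-/

set_option autoImplicit false
set_option linter.unusedSectionVars false

open scoped Pointwise

namespace CfsgLib.OddLocal.Sec13

open Cfsg Subgroup
open CfsgLib.Solvable (conj_smul_le_iff mem_conj_smul_iff card_conj_smul conj_smul_conj_smul
  conj_smul_mono conj_smul_self_of_mem_normalizer conj_smul_eq_map)

/-- `K*`. -/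
local notation "Ks(" M ", " K ")" => sigmaCore M ⊓ centralizer ((K : Subgroup _) : Set _)

universe u
variable {G : Type u} [Group G] [Finite G]

/-- `Ẑ = Z ∖ (K ∪ K*)`. -/
def Zhat (M K : Subgroup G) : Set G :=
  (↑(K ⊔ Ks(M, K)) : Set G) \ ((K : Set G) ∪ ↑(Ks(M, K)))

theorem mem_Zhat {M K : Subgroup G} (hK : IsPiHallOf (kappa M) K M) {z : G} :
    z ∈ Zhat M K ↔ ∃ a ∈ K, ∃ b ∈ Ks(M, K), a ≠ 1 ∧ b ≠ 1 ∧ z = a * b := by
  constructor
  · rintro ⟨hz, hn⟩
    obtain ⟨a, ha, b, hb, rfl⟩ := exists_mul_of_mem_Z hz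
    refine ⟨a, ha, b, hb, fun e => hn (Or.inr ?_), fun e => hn (Or.inl ?_), rfl⟩
    · subst e; rw [one_mul]; exact hb
    · subst e; rw [mul_one]; exact ha
  · rintro ⟨a, ha, b, hb, ha1, hb1, rfl⟩
    refine ⟨Subgroup.mul_mem _ (mem_sup_left ha) (mem_sup_right hb), ?_⟩
    rintro (h' | h')
    · exact hb1 (Z_decomp hK ha hb (c := a * b) (d := 1) h' (one_mem _) (by rw [mul_one])).2
    · exact ha1 (Z_decomp hK ha hb (c := 1) (d := a * b) (one_mem _) h' (by rw [one_mul])).1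

variable (h : Pre' G)
include h

theorem Pre'.Z_le {M K : Subgroup G} (hK : IsPiHallOf (kappa M) K M) : K ⊔ Ks(M, K) ≤ M :=
  sup_le hK.1 (inf_le_left.trans (piCoreOf_le _ _))

theorem Pre'.Z_le_centralizer {M K : Subgroup G} (hM : IsCoatom M) (hK : IsPiHallOf (kappa M) K M)
    (hK1 : K ≠ ⊥) {z : G} (hz : z ∈ K ⊔ Ks(M, K)) : K ⊔ Ks(M, K) ≤ centralizer ({z} : Set G) := by
  intro w hw
  have := h.Z_cyclic hM hK hK1
  exact mem_centralizer_singleton_iff.2 (congrArg Subtype.val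
    (this.isMulCommutative.is_comm.comm (⟨w, hw⟩ : ↥(K ⊔ Ks(M, K))) ⟨z, hz⟩))

/-- `C_M(x) = K K*` for `x ∈ K#`. -/
theorem Pre'.centralizer_kappa {M K : Subgroup G} (hM : IsCoatom M) (hK : IsPiHallOf (kappa M) K M)
    {x : G} (hx : x ∈ K) (hx1 : x ≠ 1) :
    M ⊓ centralizer ({x} : Set G) = K ⊔ Ks(M, K) := by
  have hK1 : K ≠ ⊥ := fun e => hx1 (mem_bot.1 (e ▸ hx))
  refine le_antisymm ?_ (le_inf (h.Z_le hK) (h.Z_le_centralizer hM hK hK1 (mem_sup_left hx)))
  obtain ⟨p, n, hp, -, hpo⟩ := exists_pow_prime_order hx1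
  rw [← h.inter_normalizer_eq hM hK (zpowers_le.2 (pow_mem hx n)) (by rw [Nat.card_zpowers, hpo]; exact hp)]
  refine inf_le_inf_left _ (le_trans ?_ (centralizer_le_normalizer _))
  rw [centralizer_zpowers]
  intro c hc
  exact mem_centralizer_singleton_iff.2
    ((show Commute c x from mem_centralizer_singleton_iff.1 hc).pow_right n).eq

/-- `C(xy) = K K*`. -/
theorem Pre'.centralizer_Zhat {M K : Subgroup G} (hM : IsCoatom M) (hK : IsPiHallOf (kappa M) K M)
    {x y : G} (hx : x ∈ K) (hx1 : x ≠ 1) (hy : y ∈ Ks(M, K)) (hy1 : y ≠ 1) :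
    centralizer ({x * y} : Set G) = K ⊔ Ks(M, K) := by
  have hK1 : K ≠ ⊥ := fun e => hx1 (mem_bot.1 (e ▸ hx))
  have hz : x * y ∈ K ⊔ Ks(M, K) := Subgroup.mul_mem _ (mem_sup_left hx) (mem_sup_right hy)
  refine le_antisymm (fun g hg => h.Z_ti hM hK hK1 hx hx1 hy hy1 ?_) (h.Z_le_centralizer hM hK hK1 hz)
  rwa [mem_centralizer_singleton_iff.1 hg, mul_inv_cancel_right]

/-- `Ẑ ∩ gMg⁻¹ = ∅` for `g ∉ M`. -/
theorem Pre'.Zhat_not_mem_conj {M K : Subgroup G} (hM : IsCoatom M) (hK : IsPiHallOf (kappa M) K M)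
    {z g : G} (hz : z ∈ Zhat M K) (hg : z ∈ MulAut.conj g • M) : g ∈ M := by
  obtain ⟨a, ha, b, hb, ha1, hb1, rfl⟩ := (mem_Zhat hK).1 hz
  have hK1 : K ≠ ⊥ := fun e => ha1 (mem_bot.1 (e ▸ ha))
  refine h.kstar_inter_conj hM hK hK1 hb hb1 ?_
  obtain ⟨j, hj⟩ := exists_pow_eq_self_of_coprime (x := b) (n := orderOf a)
    (Nat.coprime_of_dvd fun p hp h1 h2 => kappaHall_orderOf hK ha hp h1 (sigmaCore_orderOf hb.1 hp h2))
  have e : (a * b) ^ (orderOf a * j) = b := by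
    rw [pow_mul, (kstar_commute ha hb).mul_pow, pow_orderOf_eq_one, one_mul, hj]
  exact e ▸ pow_mem hg _

/-- S1370. -/
theorem Pre'.Zhat_ti {M K : Subgroup G} (hM : IsCoatom M) (hK : IsPiHallOf (kappa M) K M)
    (hK1 : K ≠ ⊥) : IsTISubset (Zhat M K) ∧ normalizer (Zhat M K) = K ⊔ Ks(M, K) := by
  have hne : ∀ g : G, ∀ z ∈ Zhat M K, g * z * g⁻¹ ∈ Zhat M K → g ∈ K ⊔ Ks(M, K) := by
    intro g z hz hg
    obtain ⟨a, ha, b, hb, ha1, hb1, rfl⟩ := (mem_Zhat hK).1 hz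
    exact h.Z_ti hM hK hK1 ha ha1 hb hb1 hg.1
  have hN : normalizer (Zhat M K) = K ⊔ Ks(M, K) := by
    obtain ⟨a, ha, ha1⟩ := (bot_or_exists_ne_one K).resolve_left hK1
    obtain ⟨b, hb, hb1⟩ := (bot_or_exists_ne_one _).resolve_left (h.kstar_ne_bot hM hK hK1)
    have hz : a * b ∈ Zhat M K := (mem_Zhat hK).2 ⟨a, ha, b, hb, ha1, hb1, rfl⟩
    refine le_antisymm (fun g hg => hne g _ hz ((mem_set_normalizer_iff.1 hg _).1 hz)) fun g hg => ?_
    refine mem_set_normalizer_iff.2 fun x => ?_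
    have hfix : x ∈ K ⊔ Ks(M, K) → g * x * g⁻¹ = x := fun hx => by
      rw [mem_centralizer_singleton_iff.1 (h.Z_le_centralizer hM hK hK1 hx hg), mul_inv_cancel_right]
    constructor
    · intro hx; rwa [hfix hx.1]
    · intro hx
      have h1 : x ∈ K ⊔ Ks(M, K) := by
        have := Subgroup.mul_mem _ (Subgroup.mul_mem _ (inv_mem hg) hx.1) hg
        simpa [mul_assoc] using this
      rwa [hfix h1] at hx
  exact ⟨fun g hg x hx hgx => absurd (hN.symm ▸ hne g x hx hgx) hg, hN⟩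

/-- S1371. -/
theorem Pre'.conj_Zhat_eq {M K U : Subgroup G} (hM : IsCoatom M) (hKU : IsSigmaDecomposition M K U)
    (hK1 : K ≠ ⊥) :
    {a : G | ∃ m ∈ M, ∃ z ∈ Zhat M K, a = m * z * m⁻¹} = sigmaA0 M K \ sigmaA M U ∧
      IsTISubset (sigmaA0 M K \ sigmaA M U) := by
  have hK := hKU.hall
  have hn := decomposition_normal hKU
  have hord : ∀ (m z : G), orderOf (m * z * m⁻¹) = orderOf z := fun m z => (MulAut.conj m).orderOf_eq z
  have e : {a : G | ∃ m ∈ M, ∃ z ∈ Zhat M K, a = m * z * m⁻¹} = sigmaA0 M K \ sigmaA M U := by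
    ext x
    constructor
    · rintro ⟨m, hm, z, hz, rfl⟩
      obtain ⟨a, ha, b, hb, ha1, hb1, rfl⟩ := (mem_Zhat hK).1 hz
      have hab : a * b ∈ M := M.mul_mem (hK.1 ha) (piCoreOf_le _ _ hb.1)
      refine ⟨⟨⟨M.mul_mem (M.mul_mem hm hab) (M.inv_mem hm), m * b * m⁻¹,
        (mem_normalizer_iff.1 (le_normalizer_piCoreOf (sigma M) M hm) b).1 hb.1,
        fun h1 => hb1 (conj_eq_one_iff.1 h1), ?_⟩, ?_⟩, ?_⟩
      · have hcb : Commute (a * b) b := (kstar_commute ha hb).mul_left (Commute.refl b)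
        calc m * (a * b) * m⁻¹ * (m * b * m⁻¹) = m * ((a * b) * b) * m⁻¹ := by group
          _ = m * (b * (a * b)) * m⁻¹ := by rw [hcb.eq]
          _ = m * b * m⁻¹ * (m * (a * b) * m⁻¹) := by group
      · rintro ⟨k, hk, -, m', -, he⟩
        obtain ⟨r, hr, hrd⟩ := exists_prime_orderOf hb1
        have h2 : orderOf (a * b) = orderOf k := by rw [← hord m, he, hord m']
        refine kappaHall_orderOf hK hk hr (h2 ▸ hrd.trans ?_) (sigmaCore_orderOf hb.1 hr hrd)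
        rw [(kstar_commute ha hb).orderOf_mul_eq_mul_orderOf_of_coprime (Nat.coprime_of_dvd fun p hp h1 h2 =>
          kappaHall_orderOf hK ha hp h1 (sigmaCore_orderOf hb.1 hp h2))]
        exact dvd_mul_left _ _
      · rintro ⟨-, hA⟩
        have h1 : a * b ∈ U ⊔ sigmaCore M := (mem_normalizer_iff.1 (hn hm) _).2 hA
        have h2 : a ∈ U ⊔ sigmaCore M := by
          simpa using Subgroup.mul_mem _ h1 (mem_sup_right ((sigmaCore M).inv_mem hb.1))
        obtain ⟨r, hr, hrd⟩ := exists_prime_orderOf ha1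
        exact S15.not_kappa_of_dvd_UMs h.toPre.hyp1350 hM hKU hr
          (hrd.trans (Subgroup.orderOf_dvd_natCard _ h2)) (hK.2.1 r hr (hrd.trans (K.orderOf_dvd_natCard ha)))
    · rintro ⟨⟨hhat, hnk⟩, hnA⟩
      obtain ⟨r, hr, hrd, hrκ⟩ : ∃ r : ℕ, r.Prime ∧ r ∣ orderOf x ∧ r ∈ kappa M := by
        by_contra hno
        push Not at hno
        refine hnA ⟨hhat, S15.le_U_sup_sigmaCore h.toPre.hyp1350 hM hKU hn (zpowers_le.2 hhat.1) ?_ (mem_zpowers x)⟩
        intro p hp hd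
        exact hno p hp (Nat.card_zpowers x ▸ hd)
      have : Fact r.Prime := ⟨hr⟩
      set v := x ^ (orderOf x / r) with hv
      have hvo : orderOf v = r := orderOf_pow_orderOf_div (orderOf_pos x).ne' hrd
      obtain ⟨m, hm, hle⟩ := exists_conj_le_hallOf (h.toPre.isSolvable hM.1) hK
        (zpowers_le.2 (pow_mem hhat.1 _))
        (isPi_zpowers_singleton hr hvo hrκ)
      have hv' : m * v * m⁻¹ ∈ K := hle (conj_smul_le_iff.1 le_rfl v (mem_zpowers v))
      have hv1 : m * v * m⁻¹ ≠ 1 := fun e1 => hr.ne_one (by rw [← hvo, conj_eq_one_iff.1 e1, orderOf_one])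
      have hmx : m * x * m⁻¹ ∈ K ⊔ Ks(M, K) := by
        rw [← h.centralizer_kappa hM hK hv' hv1]
        refine ⟨M.mul_mem (M.mul_mem hm hhat.1) (M.inv_mem hm), mem_centralizer_singleton_iff.2 ?_⟩
        calc m * x * m⁻¹ * (m * v * m⁻¹) = m * (x * v) * m⁻¹ := by group
          _ = m * (v * x) * m⁻¹ := by rw [((Commute.refl x).pow_right _).eq]
          _ = m * v * m⁻¹ * (m * x * m⁻¹) := by group
      obtain ⟨a, ha, b, hb, hab⟩ := exists_mul_of_mem_Z hmx
      refine ⟨m⁻¹, M.inv_mem hm, a * b, (mem_Zhat hK).2 ⟨a, ha, b, hb, ?_, ?_, rfl⟩, by rw [← hab]; group⟩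
      · intro ha'
        rw [ha', one_mul] at hab
        exact hrκ.2.2.1 (sigmaCore_orderOf hb.1 hr (hab ▸ (hord m x).symm ▸ hrd))
      · intro hb'
        rw [hb', mul_one] at hab
        exact hnk ⟨a, ha, fun ha' => hr.ne_one (Nat.eq_one_of_dvd_one (by
          rw [ha'] at hab; rwa [← hord m x, hab, orderOf_one] at hrd)), m⁻¹, M.inv_mem hm, by rw [← hab]; group⟩
  refine ⟨e, ?_⟩
  rw [← e]
  intro g hg x hx hgx
  exfalso
  obtain ⟨m, hm, z, hz, rfl⟩ := hx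
  obtain ⟨m', hm', z', hz', e'⟩ := hgx
  obtain ⟨a, ha, b, hb, ha1, hb1, rfl⟩ := (mem_Zhat hK).1 hz
  have h1 : m'⁻¹ * g * m ∈ K ⊔ Ks(M, K) := h.Z_ti hM hK hK1 ha ha1 hb hb1 (by
    rw [show m'⁻¹ * g * m * (a * b) * (m'⁻¹ * g * m)⁻¹ = m'⁻¹ * (g * (m * (a * b) * m⁻¹) * g⁻¹) * m' by group,
      e', show m'⁻¹ * (m' * z' * m'⁻¹) * m' = z' by group]
    exact hz'.1)
  have hgM : g ∈ M := by
    have := M.mul_mem (M.mul_mem hm' (h.Z_le hK h1)) (M.inv_mem hm)
    simpa [mul_assoc] using this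
  refine hg (mem_set_normalizer_iff.2 fun y => ⟨?_, ?_⟩)
  · rintro ⟨n, hn', w, hw, rfl⟩
    exact ⟨g * n, M.mul_mem hgM hn', w, hw, by group⟩
  · rintro ⟨n, hn', w, hw, hy⟩
    exact ⟨g⁻¹ * n, M.mul_mem (M.inv_mem hgM) hn', w, hw, by
      rw [show y = g⁻¹ * (g * y * g⁻¹) * g by group, hy]; group⟩

/-- The count of S1434. -/
theorem Pre'.ncard_conj_Zhat {M K : Subgroup G} (hM : IsCoatom M) (hK : IsPiHallOf (kappa M) K M)
    (hK1 : K ≠ ⊥) :
    Nat.card K * Nat.card ↥Ks(M, K) * (conjSet (Zhat M K)).ncard =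
        (Nat.card K * Nat.card ↥Ks(M, K) - Nat.card K - Nat.card ↥Ks(M, K) + 1) * Nat.card G ∧
      Nat.card G < 2 * (conjSet (Zhat M K)).ncard := by
  obtain ⟨hti, hN⟩ := h.Zhat_ti hM hK hK1
  have hc : (conjSet (Zhat M K)).ncard = (K ⊔ Ks(M, K)).index * (Zhat M K).ncard := by
    refine ncard_conjSet (fun g z hz hgz => ?_) (fun g hg z hz => ?_)
    · obtain ⟨a, ha, b, hb, ha1, hb1, rfl⟩ := (mem_Zhat hK).1 hz
      exact h.Z_ti hM hK hK1 ha ha1 hb hb1 hgz.1
    · rw [← hN] at hg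
      exact (mem_set_normalizer_iff.1 hg z).1 hz
  have hZ : (Zhat M K).ncard + Nat.card K + Nat.card ↥Ks(M, K) = Nat.card K * Nat.card ↥Ks(M, K) + 1 := by
    have hsub : (K : Set G) ∪ ↑(Ks(M, K)) ⊆ ↑(K ⊔ Ks(M, K)) :=
      Set.union_subset (SetLike.coe_subset_coe.2 le_sup_left) (SetLike.coe_subset_coe.2 le_sup_right)
    have h1 := Set.ncard_diff_add_ncard_of_subset hsub (Set.toFinite _)
    have h2 := Set.ncard_union_add_ncard_inter (K : Set G) (↑(Ks(M, K))) (Set.toFinite _) (Set.toFinite _)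
    rw [← Subgroup.coe_inf, kappa_inf_kstar hK, Subgroup.coe_bot, Set.ncard_singleton] at h2
    simp only [← Nat.card_coe_set_eq, SetLike.coe_sort_coe] at h1 h2
    have h3 := card_Z hK
    rw [← Nat.card_coe_set_eq]
    show Nat.card ↑((↑(K ⊔ Ks(M, K)) : Set G) \ ((K : Set G) ∪ ↑(Ks(M, K)))) + _ + _ = _
    omega
  have h3 : ∀ {X : Subgroup G}, X ≠ ⊥ → 3 ≤ Nat.card X := by
    intro X hX
    obtain ⟨p, Y, hp, hY, hYc⟩ := exists_prime_subgroup hX
    have := h.toPre.ne_two ((dvd_of_eq hYc.symm).trans (card_dvd_of_le hY))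
    have := hp.two_le
    have := card_le_of_le hY
    omega
  have hk := h3 hK1
  have hk' := h3 (h.kstar_ne_bot hM hK hK1)
  have hodd : ∀ X : Subgroup G, Nat.card X ≠ 4 := fun X e =>
    h.toPre.ne_two (p := 2) (X := X) (e ▸ (by norm_num : 2 ∣ 4)) rfl
  have hk4 := hodd K
  have hk4' := hodd Ks(M, K)
  have hne : Nat.card K ≠ Nat.card ↥Ks(M, K) := by
    intro e
    obtain ⟨p, X, hp, hX, hXc⟩ := exists_prime_subgroup hK1
    have hd := (dvd_of_eq hXc.symm).trans (card_dvd_of_le hX)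
    exact (hK.2.1 p hp hd).2.2.1 (IsPi.of_le (isPi_piCoreOf (sigma M) M) inf_le_left p hp (e ▸ hd))
  have hG : Nat.card K * Nat.card ↥Ks(M, K) * (K ⊔ Ks(M, K)).index = Nat.card G := by
    rw [← card_Z hK, card_mul_index]
  have hG0 : 0 < Nat.card G := Nat.card_pos
  generalize Nat.card K = k at *
  generalize Nat.card ↥Ks(M, K) = k' at *
  generalize (Zhat M K).ncard = n at *
  generalize (K ⊔ Ks(M, K)).index = i at *
  have hkk : k + k' ≤ k * k' := by nlinarith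
  constructor
  · rw [hc, show k * k' - k - k' + 1 = n by omega, ← hG]
    ring
  · have h2 : k * k' < 2 * n := by
      rcases lt_or_gt_of_ne hne with hlt | hlt
      · have h5 : 5 ≤ k' := by omega
        nlinarith [Nat.mul_le_mul hk h5]
      · have h5 : 5 ≤ k := by omega
        nlinarith [Nat.mul_le_mul h5 hk']
    rw [hc, ← hG]
    have hi : 0 < i := Nat.pos_of_ne_zero fun e => by rw [e, mul_zero] at hG; omega
    nlinarith

/-- S1369, second part: a maximal subgroup with `κ ≠ ∅` is conjugate to `M` or to `M*`. -/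
theorem Pre'.kappa_classes {M K L H : Subgroup G} (hM : IsCoatom M) (hK : IsPiHallOf (kappa M) K M)
    (hK1 : K ≠ ⊥) (hd : IsDual M K L) (hH : IsCoatom H) (hκ : (kappa H).Nonempty) :
    ∃ g : G, H = MulAut.conj g • M ∨ H = MulAut.conj g • L := by
  obtain ⟨q, hq⟩ := hκ
  obtain ⟨K', hK'⟩ := CfsgLib.PGroup.exists_isPiHallOf (kappa H) H (h.toPre.isSolvable hH.1)
  have hK'1 : K' ≠ ⊥ := fun e => by
    have := dvd_card_of_hallOf hK' hq.1 hq hq.2.1
    rw [e, Subgroup.card_bot] at this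
    exact hq.1.not_dvd_one this
  obtain ⟨L', hd'⟩ := h.exists_dual hH hK' hK'1
  obtain ⟨w, hw, hw'⟩ : ∃ w, w ∈ conjSet (Zhat M K) ∧ w ∈ conjSet (Zhat H K') := by
    by_contra hno
    push Not at hno
    have h1 := (h.ncard_conj_Zhat hM hK hK1).2
    have h2 := (h.ncard_conj_Zhat hH hK' hK'1).2
    have h3 := Set.ncard_union_eq (Set.disjoint_left.2 hno) (Set.toFinite _) (Set.toFinite _)
    have h4 := (Set.ncard_le_ncard (Set.subset_univ (conjSet (Zhat M K) ∪ conjSet (Zhat H K')))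
      (Set.toFinite _)).trans_eq (Set.ncard_univ G)
    omega
  obtain ⟨g, z, hz, rfl⟩ := hw
  obtain ⟨g', z', hz', e⟩ := hw'
  have hord : orderOf z = orderOf z' := by
    rw [← (MulAut.conj g).orderOf_eq z, ← (MulAut.conj g').orderOf_eq z']
    exact congrArg orderOf e
  obtain ⟨a, ha, b, hb, ha1, hb1, rfl⟩ := (mem_Zhat hK).1 hz
  obtain ⟨a', ha', b', hb', -, -, rfl⟩ := (mem_Zhat hK').1 hz'
  have hdiv : ∀ {r : ℕ}, r.Prime → r ∣ orderOf (a * b) → r ∈ sigma H ∨ r ∈ sigma L' := by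
    intro r hr hrd
    rw [hord] at hrd
    rcases hr.dvd_mul.1 (hrd.trans ((kstar_commute ha' hb').orderOf_mul_dvd_mul_orderOf)) with h1 | h1
    · exact Or.inr (sigmaCore_orderOf (hd'.le_sigmaCore ha') hr h1)
    · exact Or.inl (sigmaCore_orderOf hb'.1 hr h1)
  have hcop : (orderOf a).Coprime (orderOf b) := Nat.coprime_of_dvd fun p hp h1 h2 =>
    kappaHall_orderOf hK ha hp h1 (sigmaCore_orderOf hb.1 hp h2)
  have hab := (kstar_commute ha hb).orderOf_mul_eq_mul_orderOf_of_coprime hcop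
  obtain ⟨r, hr, hrd⟩ := exists_prime_orderOf hb1
  obtain ⟨s, hs, hsd⟩ := exists_prime_orderOf ha1
  have hconj : ∀ {A B : Subgroup G} {t : ℕ}, IsCoatom A → IsCoatom B → t ∈ sigma A → t ∈ sigma B →
      ∃ g : G, B = MulAut.conj g • A := by
    intro A B t hA hB h1 h2
    by_contra hno
    push Not at hno
    exact h.not_sigma_inter hA hB hno h1 h2
  rcases hdiv hr (hab ▸ dvd_mul_of_dvd_right hrd _) with h1 | h1
  · obtain ⟨c, hc⟩ := hconj hM hH (sigmaCore_orderOf hb.1 hr hrd) h1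
    exact ⟨c, Or.inl hc⟩
  rcases hdiv hs (hab ▸ dvd_mul_of_dvd_left hsd _) with h2 | h2
  · obtain ⟨c, hc⟩ := hconj hd.1 hH (sigmaCore_orderOf (hd.le_sigmaCore ha) hs hsd) h2
    exact ⟨c, Or.inr hc⟩
  obtain ⟨c, hc⟩ := hconj hM hd'.1 (sigmaCore_orderOf hb.1 hr hrd) h1
  obtain ⟨c', hc'⟩ := hconj hd.1 hd'.1 (sigmaCore_orderOf (hd.le_sigmaCore ha) hs hsd) h2
  refine absurd ?_ (h.dual_ne hM hK hK1 hd (c'⁻¹ * c))
  rw [← conj_smul_conj_smul, ← hc, hc', conj_smul_inv_self]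

/-- S1372: `F(M)` is a TI-subset. -/
theorem Pre'.fitting_ti {M K U : Subgroup G} (hM : IsCoatom M) (hKU : IsSigmaDecomposition M K U)
    (hK1 : K ≠ ⊥) (hU1 : U ≠ ⊥) :
    IsTISubset (fittingOf M : Set G) ∧ sigmaCore M ≤ fittingOf M := by
  have hF : sigmaCore M ≤ fittingOf M :=
    le_fittingOf (piCoreOf_le _ _) (le_normalizer_piCoreOf (sigma M) M) (h.U_fixed_bot hM hKU hU1).2
  refine ⟨?_, hF⟩
  intro g hg x hx hgx
  by_contra hx1
  have hgM : g ∉ M := fun hgM => hg (le_normalizer_fittingOf M hgM)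
  obtain ⟨p, n, hp, -, hpo⟩ := exists_pow_prime_order hx1
  have : Fact p.Prime := ⟨hp⟩
  set y := x ^ n with hy
  have hyF : y ∈ fittingOf M := pow_mem hx n
  have hgyF : g * y * g⁻¹ ∈ fittingOf M := by
    rw [hy, ← conj_pow]; exact pow_mem hgx n
  have hy1 : y ≠ 1 := fun e => hp.ne_one (by rw [← hpo, e, orderOf_one])
  have hyM : y ∈ M := fittingOf_le M hyF
  by_cases hpσ : p ∈ sigma M
  · have hyσ : y ∈ sigmaCore M := h.toPre.le_sigmaCore hM (zpowers_le.2 hyM)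
      (isPi_zpowers_singleton hp hpo hpσ) (mem_zpowers y)
    obtain ⟨r, hr, e⟩ := h.exists_support_conj hM hyσ hy1 (g := g⁻¹)
      (mem_conj_smul_iff.2 (by simpa using fittingOf_le M hgyF))
    rcases hr with rfl | ⟨hn, -⟩
    · rw [conj_one_smul] at e
      refine hgM (inv_mem_iff.1 ?_)
      rw [← h.toPre.normalizer_maximal hM]
      exact CfsgLib.Solvable.mem_normalizer_iff_conj_smul.2 e
    · exact hn (h.centralizer_le_of_U hM hKU hK1 hU1 hyσ hy1)
  · have key : ∀ z ∈ fittingOf M, orderOf z = p → centralizer ({z} : Set G) ≤ M ∧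
        ∀ L : Subgroup G, IsCoatom L → centralizer ({z} : Set G) ≤ L → L = M := by
      intro z hz hzo
      have hz1 : z ≠ 1 := fun e => hp.ne_one (by rw [← hzo, e, orderOf_one])
      have hzM : z ∈ M := fittingOf_le M hz
      have hzC : sigmaCore M ≤ centralizer ({z} : Set G) := by
        intro s hs
        refine mem_centralizer_singleton_iff.2 (CfsgLib.OddLocal.commute_of_mem_nilpotent
          (isNilpotent_fittingOf M) (hF hs) hz ?_)
        rw [hzo]
        exact ((hp.coprime_iff_not_dvd).2 fun hd => hpσ (sigmaCore_orderOf hs hp hd)).symm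
      obtain ⟨s, hs, hs1⟩ := (bot_or_exists_ne_one _).resolve_left (h.toPre.sigmaCore_ne_bot hM)
      rcases h.sigma_element_dichotomy hM hs hs1 hzM (mem_centralizer_singleton_iff.1 (hzC hs)) hz1
        (fun q hq hd => by rwa [(Nat.prime_dvd_prime_iff_eq hq hp).1 (hd.trans (dvd_of_eq hzo))])
        with ⟨h1, -⟩ | ⟨-, -, h3⟩
      · exfalso
        have hpκ := h1 p hp (dvd_of_eq hzo.symm)
        obtain ⟨m, hm, hle⟩ := exists_conj_le_hallOf (h.toPre.isSolvable hM.1) hKU.hall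
          (zpowers_le.2 hzM) (isPi_zpowers_singleton hp hzo hpκ)
        have hk : m * z * m⁻¹ ∈ K := hle (conj_smul_le_iff.1 le_rfl z (mem_zpowers z))
        refine h.kstar_ne_sigmaCore hM hKU.hall hK1 fun w hw => ?_
        refine ((h.kappa_fixed_eq hM hKU.hall hk fun e => hz1 (conj_eq_one_iff.1 e)).le ⟨hw, ?_⟩).2
        have hmw : m⁻¹ * w * m ∈ sigmaCore M := by
          rw [sigmaCore_def]
          simpa using (mem_normalizer_iff.1 (le_normalizer_piCoreOf (sigma M) M (M.inv_mem hm)) w).1 hw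
        have h2 := mem_centralizer_singleton_iff.1 (hzC hmw)
        refine mem_centralizer_singleton_iff.2 ?_
        calc w * (m * z * m⁻¹) = m * (m⁻¹ * w * m * z) * m⁻¹ := by group
          _ = m * z * m⁻¹ * w := by rw [h2]; group
      · exact h3
    have hgo : orderOf (g * y * g⁻¹) = p := ((MulAut.conj g).orderOf_eq y).trans hpo
    have hle : centralizer ({y} : Set G) ≤ MulAut.conj g⁻¹ • M := by
      intro c hc
      rw [mem_conj_smul_iff, inv_inv]
      refine (key _ hgyF hgo).1 (mem_centralizer_singleton_iff.2 ?_)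
      calc g * c * g⁻¹ * (g * y * g⁻¹) = g * (c * y) * g⁻¹ := by group
        _ = g * y * g⁻¹ * (g * c * g⁻¹) := by rw [mem_centralizer_singleton_iff.1 hc]; group
    refine hgM (inv_mem_iff.1 ?_)
    rw [← h.toPre.normalizer_maximal hM]
    exact CfsgLib.Solvable.mem_normalizer_iff_conj_smul.2 ((key y hyF hpo).2 _ (isCoatom_conj hM _) hle)

end CfsgLib.OddLocal.Sec13
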