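import Cfsg.Agent.Lib.OddLocal.Sec14Iface
import Cfsg.Agent.Lib.OddLocal.Sec14Main
import Cfsg.Agent.Lib.OddLocal.ActionTools
import Cfsg.Agent.Lib.OddLocal.S15SignalizerMain
import Cfsg.Agent.Lib.OddLocal.S16Sets

/-!
BG 14.5-14.6: every element `≠ 1` lies in some spread or in a conjugate of some `Ẑ`.
-/

set_option autoImplicit false
set_option linter.unusedSectionVars false

open scoped Pointwise

namespace CfsgLib.OddLocal.Sec13

open Cfsg Subgroup
open CfsgLib.Solvable (conj_smul_conj_smul conj_smul_eq_map mem_conj_smul_iff conj_smul_mono card_conj_smul)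

/-- `K*`. -/
local notation "Ks(" M ", " K ")" => sigmaCore M ⊓ centralizer ((K : Subgroup _) : Set _)

universe u
variable {G : Type u} [Group G] [Finite G]

theorem conjSet_conj {S : Set G} {g : G} (hg : g ∈ conjSet S) (c : G) : c * g * c⁻¹ ∈ conjSet S := by
  obtain ⟨y, z, hz, rfl⟩ := hg
  exact ⟨c * y, z, hz, by group⟩

theorem sigmaSpread_conj_eq (c : G) (M : Subgroup G) :
    sigmaSpread (MulAut.conj c • M) = sigmaSpread M := by
  ext g
  constructor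
  · rintro ⟨a, x, r, hx, hx1, hr, e⟩
    rw [conj_smul_conj_smul] at hx hr
    exact ⟨a * c, x, r, hx, hx1, hr, e⟩
  · rintro ⟨a, x, r, hx, hx1, hr, e⟩
    refine ⟨a * c⁻¹, x, r, ?_⟩
    rw [conj_smul_conj_smul, inv_mul_cancel_right]
    exact ⟨hx, hx1, hr, e⟩

theorem sigmaSpread_conj {M : Subgroup G} {g : G} (hg : g ∈ sigmaSpread M) (c : G) :
    c * g * c⁻¹ ∈ sigmaSpread M := by
  obtain ⟨a, x, r, hx, hx1, hr, rfl⟩ := hg
  refine ⟨c * a, c * x * c⁻¹, c * r * c⁻¹, ?_, fun e => hx1 (conj_eq_one_iff.1 e), ?_, by group⟩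
  · rw [← conj_smul_conj_smul, sigmaCore_conj, mem_conj_smul_iff,
      show c⁻¹ * (c * x * c⁻¹) * c = x by group]
    exact hx
  · rw [← conj_smul_conj_smul]
    exact hr.conj c

theorem mul_mem_sigmaSpread {M : Subgroup G} {x r : G} (hx : x ∈ sigmaCore M) (hx1 : x ≠ 1)
    (hr : InSupport M x r) : x * r ∈ sigmaSpread M :=
  ⟨1, x, r, by rwa [conj_one_smul], hx1, by rwa [conj_one_smul], rfl⟩

/-- The conjugates of `Ẑ(M, K)` contain those of `Ẑ` of a conjugate pair. -/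
theorem Zhat_conj {M K : Subgroup G} (hK : IsPiHallOf (kappa M) K M) {c : G} {K' : Subgroup G}
    (hK' : IsPiHallOf (kappa (MulAut.conj c • M)) K' (MulAut.conj c • M))
    (e : K' = MulAut.conj c • K) {z : G} (hz : z ∈ Zhat (MulAut.conj c • M) K') :
    z ∈ conjSet (Zhat M K) := by
  obtain ⟨a, ha, b, hb, ha1, hb1, rfl⟩ := (mem_Zhat hK').1 hz
  subst e
  rw [mem_conj_smul_iff] at ha
  have hbσ : b ∈ sigmaCore (MulAut.conj c • M) := hb.1
  rw [sigmaCore_conj, mem_conj_smul_iff] at hbσ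
  have hbC : c⁻¹ * b * c ∈ centralizer (K : Set G) := mem_centralizer_iff.2 fun k hk => by
    have h1 := mem_centralizer_iff.1 hb.2 (c * k * c⁻¹)
      (mem_conj_smul_iff.2 (by rwa [show c⁻¹ * (c * k * c⁻¹) * c = k by group]))
    calc k * (c⁻¹ * b * c) = c⁻¹ * (c * k * c⁻¹ * b) * c := by group
      _ = c⁻¹ * (b * (c * k * c⁻¹)) * c := by rw [h1]
      _ = c⁻¹ * b * c * k := by group
  refine ⟨c, c⁻¹ * a * c * (c⁻¹ * b * c), (mem_Zhat hK).2
    ⟨_, ha, _, ⟨hbσ, hbC⟩, fun e => ha1 ?_, fun e => hb1 ?_, rfl⟩, by group⟩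
  · calc a = c * (c⁻¹ * a * c) * c⁻¹ := by group
      _ = 1 := by rw [e]; group
  · calc b = c * (c⁻¹ * b * c) * c⁻¹ := by group
      _ = 1 := by rw [e]; group

variable (h : Pre' G)
include h

/-- The two kinds of elements. -/
def Covered (g : G) : Prop :=
  (∃ M : Subgroup G, IsCoatom M ∧ g ∈ sigmaSpread M) ∨
    ∃ M K : Subgroup G, IsCoatom M ∧ IsPiHallOf (kappa M) K M ∧ K ≠ ⊥ ∧ g ∈ conjSet (Zhat M K)

omit h in
theorem Covered.conj {g : G} (hg : Covered g) (c : G) : Covered (c * g * c⁻¹) := by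
  rcases hg with ⟨M, hM, hg⟩ | ⟨M, K, hM, hK, hK1, hg⟩
  · exact Or.inl ⟨M, hM, sigmaSpread_conj hg c⟩
  · exact Or.inr ⟨M, K, hM, hK, hK1, conjSet_conj hg c⟩

/-- A product of `x ∈ M_σ#` and a commuting `σ(M)'`-element of `M`. -/
theorem Pre'.covered_of_mem {M : Subgroup G} (hM : IsCoatom M) {x y : G} (hx : x ∈ sigmaCore M)
    (hx1 : x ≠ 1) (hyM : y ∈ M) (hxy : Commute x y)
    (hy : ∀ p : ℕ, p.Prime → p ∣ orderOf y → p ∉ sigma M) : Covered (x * y) := by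
  rcases eq_or_ne y 1 with rfl | hy1
  · exact Or.inl ⟨M, hM, mul_mem_sigmaSpread hx hx1 (Or.inl rfl)⟩
  rcases h.sigma_element_dichotomy hM hx hx1 hyM hxy hy1 hy with
    ⟨hκ, -⟩ | ⟨-, ⟨L, hL, hσL⟩, hCy, hu⟩
  · obtain ⟨K, hK⟩ := CfsgLib.PGroup.exists_isPiHallOf (kappa M) M (h.toPre.isSolvable hM.1)
    obtain ⟨m, hm, hle⟩ := CfsgLib.OddLocal.exists_conj_le_piHall (h.toPre.isSolvable hM.1) hK
      (zpowers_le.2 hyM) fun p hp hd => hκ p hp (by rwa [Nat.card_zpowers] at hd)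
    have hyK : m * y * m⁻¹ ∈ K := hle ⟨y, mem_zpowers y, rfl⟩
    have hy1' : m * y * m⁻¹ ≠ 1 := fun e => hy1 (conj_eq_one_iff.1 e)
    have hxK : m * x * m⁻¹ ∈ Ks(M, K) := by
      rw [← h.kappa_fixed_eq hM hK hyK hy1']
      exact ⟨(mem_normalizer_iff.1 (le_normalizer_piCoreOf (sigma M) M hm) x).1 hx,
        mem_centralizer_singleton_iff.2 (hxy.map (MulAut.conj m).toMonoidHom).eq⟩
    refine Or.inr ⟨M, K, hM, hK, fun e => hy1' (mem_bot.1 (e ▸ hyK)), m⁻¹,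
      m * y * m⁻¹ * (m * x * m⁻¹), (mem_Zhat hK).2
        ⟨_, hyK, _, hxK, hy1', fun e => hx1 (conj_eq_one_iff.1 e), rfl⟩, ?_⟩
    calc x * y = y * x := hxy.eq
      _ = _ := by group
  · obtain ⟨a, ha⟩ := h.s1425 L hL (zpowers y) (zpowers_ne_bot.2 hy1)
      fun p hp hd => hσL p hp (by rwa [Nat.card_zpowers] at hd)
    have hyL : y ∈ sigmaCore (MulAut.conj a⁻¹ • L) := by
      rw [sigmaCore_conj, mem_conj_smul_iff, inv_inv]
      exact ha ⟨y, mem_zpowers y, rfl⟩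
    refine Or.inl ⟨_, isCoatom_conj hL a⁻¹, ?_⟩
    rw [hxy.eq]
    refine mul_mem_sigmaSpread hyL hy1 (Or.inr ⟨fun hle => ?_,
      mem_centralizer_singleton_iff.2 hxy.eq, M, hM, hCy, hx⟩)
    rw [hu _ (isCoatom_conj hL a⁻¹) hle] at hyL
    obtain ⟨p, hp, hd⟩ := exists_prime_orderOf hy1
    exact hy p hp hd (sigmaCore_orderOf hyL hp hd)

/-- BG 14.5-14.6: the covering. -/
theorem Pre'.covered {g : G} (hg : g ≠ 1) : Covered g := by
  obtain ⟨p, hp, hd⟩ := exists_prime_orderOf hg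
  obtain ⟨M₀, hM₀, hpσ⟩ := h.hyp1378.1 p hp (hd.trans (orderOf_dvd_natCard g))
  obtain ⟨s, t, hs, ht, hgst, hsπ, htπ⟩ := S15.exists_pi_split (sigma M₀) g
  have hst : Commute s t := by
    obtain ⟨i, rfl⟩ := mem_zpowers_iff.1 hs
    obtain ⟨j, rfl⟩ := mem_zpowers_iff.1 ht
    exact ((Commute.refl g).zpow_zpow i j)
  have ht1 : t ≠ 1 := fun e => hsπ p hp (by rwa [hgst, e, mul_one] at hd) hpσ
  obtain ⟨a, ha⟩ := h.s1425 M₀ hM₀ (zpowers t) (zpowers_ne_bot.2 ht1)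
    fun q hq hqd => htπ q hq (by rwa [Nat.card_zpowers] at hqd)
  obtain ⟨M, hM, hσM, htM⟩ : ∃ M : Subgroup G, IsCoatom M ∧ sigma M = sigma M₀ ∧ t ∈ sigmaCore M := by
    refine ⟨MulAut.conj a⁻¹ • M₀, isCoatom_conj hM₀ a⁻¹, sigma_conj _ _, ?_⟩
    rw [sigmaCore_conj, mem_conj_smul_iff, inv_inv]
    exact ha ⟨t, mem_zpowers t, rfl⟩
  rw [← hσM] at hsπ htπ
  by_cases htC : centralizer ({t} : Set G) ≤ M
  · rw [hgst, hst.eq]
    exact h.covered_of_mem hM htM ht1 (htC (mem_centralizer_singleton_iff.2 hst.eq)) hst.symm hsπ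
  obtain ⟨N, hN, hxN, -, hne, hτ, hE, -⟩ := h.supporting_maximal hM htM ht1 htC
  have hgN : g ∈ N := hgst ▸ mul_mem (hxN (mem_centralizer_singleton_iff.2 hst.eq))
    (hxN (mem_centralizer_singleton_self t))
  obtain ⟨v, u, hv, hu, hgvu, hvπ, huπ⟩ := S15.exists_pi_split (sigma N) g
  have hvu : Commute v u := by
    obtain ⟨i, rfl⟩ := mem_zpowers_iff.1 hv
    obtain ⟨j, rfl⟩ := mem_zpowers_iff.1 hu
    exact ((Commute.refl g).zpow_zpow i j)
  have huN : u ∈ N := zpowers_le.2 hgN hu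
  have hvN : v ∈ N := zpowers_le.2 hgN hv
  rcases eq_or_ne u 1 with hu1 | hu1
  · rw [hu1, mul_one] at hgvu
    obtain ⟨n, hn, hle⟩ := CfsgLib.OddLocal.exists_conj_le_piHall (h.toPre.isSolvable hN.1)
      (h.toPre.compl_hall hN hE) (zpowers_le.2 hgN)
      fun q hq hqd => hvπ q hq (by rwa [Nat.card_zpowers, hgvu] at hqd)
    have hg' : n * g * n⁻¹ ∈ M := (hle ⟨g, mem_zpowers g, rfl⟩).1
    have hord : ∀ z : G, orderOf (n * z * n⁻¹) = orderOf z := (MulAut.conj n).orderOf_eq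
    have hmem : ∀ z ∈ zpowers g, n * z * n⁻¹ ∈ M := fun z hz => by
      obtain ⟨i, rfl⟩ := mem_zpowers_iff.1 hz
      rw [← conj_zpow]
      exact zpow_mem hg' i
    have hcov := h.covered_of_mem hM (x := n * t * n⁻¹) (y := n * s * n⁻¹)
      (S15.mem_sigmaCore h.toPre.hyp1350 hM (hmem t ht) fun q hq hqd => htπ q hq (hord t ▸ hqd))
      (fun e => ht1 (conj_eq_one_iff.1 e)) (hmem s hs) (hst.symm.map (MulAut.conj n).toMonoidHom)
      fun q hq hqd => hsπ q hq (hord s ▸ hqd)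
    have := hcov.conj n⁻¹
    rwa [show n⁻¹ * (n * t * n⁻¹ * (n * s * n⁻¹)) * n⁻¹⁻¹ = g by rw [hgst, hst.eq]; group] at this
  · have huσ : u ∈ sigmaCore N := S15.mem_sigmaCore h.toPre.hyp1350 hN huN huπ
    obtain ⟨r, hr, hrd⟩ := exists_prime_orderOf ht1
    have hrτ := (hτ r hr hrd).1
    have hrv : r ∣ orderOf v := by
      have h1 : r ∣ orderOf v * orderOf u :=
        hrd.trans ((orderOf_dvd_of_mem_zpowers ht).trans (hgvu ▸ hvu.orderOf_mul_dvd_mul_orderOf))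
      exact (hr.dvd_mul.1 h1).resolve_right fun h2 => hrτ.2.1 (huπ r hr h2)
    have hv1 : v ≠ 1 := fun e => hr.not_dvd_one (by rwa [e, orderOf_one] at hrv)
    rcases h.sigma_element_dichotomy hN huσ hu1 hvN hvu.symm hv1 hvπ with
      ⟨hκ, -⟩ | ⟨-, ⟨L, hL, hσL⟩, -⟩
    · exact absurd (h.toPre.kappa_tau13 hN (hκ r hr hrv)).rank hrτ.2.2.2
    obtain ⟨c, hc⟩ : ∃ c : G, L = MulAut.conj c • M := by
      by_contra hno
      push Not at hno
      exact h.not_sigma_inter hM hL hno (htπ r hr hrd) (hσL r hr hrv)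
    have hvσ : ∀ q : ℕ, q.Prime → q ∣ orderOf v → q ∈ sigma M := fun q hq hqd => by
      have := hσL q hq hqd
      rwa [hc, sigma_conj] at this
    obtain ⟨-, e2⟩ := eq_of_mul_eq_mul_of_primes (π := sigma M) hst.symm hvu
      (isOfFinOrder_of_finite _) (isOfFinOrder_of_finite _) (isOfFinOrder_of_finite _)
      (isOfFinOrder_of_finite _) htπ hsπ hvσ
      (fun q hq hqd hqσ => h.not_sigma_inter hM hN hne hqσ (huπ q hq hqd))
      (by rw [← hst.eq, ← hgst, ← hgvu])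
    refine Or.inl ⟨M, hM, ?_⟩
    rw [hgst, hst.eq]
    exact mul_mem_sigmaSpread htM ht1 (Or.inr ⟨htC, mem_centralizer_singleton_iff.2 hst.eq, N, hN,
      hxN, e2 ▸ huσ⟩)

/-- Statement S1379. -/
theorem Pre'.hyp1379 :
    (∀ M N : Subgroup G, IsCoatom M → IsCoatom N → (∀ g : G, N ≠ M.map (MulAut.conj g).toMonoidHom) →
        tildeOf M ((sigmaCore M : Set G) \ {1}) ∩ tildeOf N ((sigmaCore N : Set G) \ {1}) = ∅) ∧
      ((∀ M : Subgroup G, IsCoatom M → kappa M = ∅) →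
        ∀ g : G, g ≠ 1 → ∃ M : Subgroup G, IsCoatom M ∧ g ∈ tildeOf M ((sigmaCore M : Set G) \ {1})) ∧
      ∀ (M K U : Subgroup G), IsCoatom M → IsSigmaDecomposition M K U → K ≠ ⊥ →
        (∀ g : G, g ≠ 1 → (∃ N : Subgroup G, IsCoatom N ∧ g ∈ tildeOf N ((sigmaCore N : Set G) \ {1})) ∨
            ∃ y : G, ∃ z ∈ Zhat M K, g = y * z * y⁻¹) ∧
        ∀ N : Subgroup G, IsCoatom N → ∀ y : G, ∀ z ∈ Zhat M K,
          y * z * y⁻¹ ∉ tildeOf N ((sigmaCore N : Set G) \ {1}) := by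
  refine ⟨fun M N hM hN => h.tildeOf_disjoint hM hN, fun hκ g hg => ?_,
    fun M K U hM hKU hK1 => ⟨fun g hg => ?_, fun N hN y z hz => ?_⟩⟩
  · rcases h.covered hg with ⟨M, hM, hgM⟩ | ⟨M, K, hM, hK, hK1, -⟩
    · exact ⟨M, hM, by rwa [h.tildeOf_eq hM]⟩
    · obtain ⟨q, hq, hd⟩ := Nat.exists_prime_and_dvd fun e => hK1 (Subgroup.card_eq_one.1 e)
      exact absurd (hK.2.1 q hq hd) (by rw [hκ M hM]; exact Set.notMem_empty q)
  · obtain ⟨L, hd⟩ := h.exists_dual hM hKU.hall hK1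
    rcases h.covered hg with ⟨N, hN, hgN⟩ | ⟨H, K', hH, hK', hK'1, hgH⟩
    · exact Or.inl ⟨N, hN, by rwa [h.tildeOf_eq hN]⟩
    refine Or.inr ?_
    obtain ⟨y, z, hz, rfl⟩ := hgH
    have key : ∀ {A B : Subgroup G}, IsCoatom A → IsPiHallOf (kappa A) B A → ∀ c : G,
        H = MulAut.conj c • A → z ∈ conjSet (Zhat A B) := by
      intro A B hA hB c e
      subst e
      have e1 : kappa (MulAut.conj c • A) = kappa A := by
        rw [conj_smul_eq_map]; exact S15.kappa_map_conj h.toPre.hyp1350 hA c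
      obtain ⟨m, hm, hle⟩ := CfsgLib.OddLocal.exists_conj_le_piHall (h.toPre.isSolvable hH.1)
        (hallOf_conj hB c) hK'.1 fun p hp hpd => e1 ▸ hK'.2.1 p hp hpd
      have em : MulAut.conj m • K' = MulAut.conj c • B := by
        refine eq_of_le_of_card_ge (by rw [conj_smul_eq_map]; exact hle) (le_of_eq ?_)
        rw [card_conj_smul m K']
        exact card_of_hallOf_eq (h.toPre.isSolvable hH.1) (e1 ▸ hallOf_conj hB c) hK'
      have eK : K' = MulAut.conj (m⁻¹ * c) • B := by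
        rw [← conj_smul_conj_smul, ← em, conj_smul_inv_self]
      have eA : MulAut.conj c • A = MulAut.conj (m⁻¹ * c) • A := by
        rw [← conj_smul_conj_smul, CfsgLib.Solvable.conj_smul_self_of_mem_normalizer
          (le_normalizer (inv_mem hm))]
      rw [eA] at hz hK'
      exact Zhat_conj hB hK' eK hz
    obtain ⟨c, e | e⟩ := h.kappa_classes hM hKU.hall hK1 hd hH (by
      obtain ⟨q, hq, hqd⟩ := Nat.exists_prime_and_dvd fun e => hK'1 (Subgroup.card_eq_one.1 e)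
      exact ⟨q, hK'.2.1 q hq hqd⟩)
    · exact conjSet_conj (key hM hKU.hall c e) y
    · have hmem := key hd.1 hd.2.2 c e
      rw [show Zhat L Ks(M, K) = Zhat M K by
        unfold Zhat; rw [← hd.2.1, sup_comm, Set.union_comm]] at hmem
      exact conjSet_conj hmem y
  · intro hmem
    rw [h.tildeOf_eq hN] at hmem
    obtain ⟨a, ha, b, hb, ha1, hb1, rfl⟩ := (mem_Zhat hKU.hall).1 hz
    obtain ⟨L, hd⟩ := h.exists_dual hM hKU.hall hK1
    obtain ⟨t, x, r, -, hx1, -, e, hxr, hxπ, hrπ⟩ := h.spread_part hN hmem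
    obtain ⟨q, hq, hqd⟩ := exists_prime_orderOf hx1
    have hqz : q ∣ orderOf a * orderOf b := by
      have h1 : (orderOf x).Coprime (orderOf r) :=
        Nat.coprime_of_dvd fun p hp h2 h3 => hrπ p hp h3 (hxπ p hp h2)
      have h2 : q ∣ orderOf (x * r) := by
        rw [hxr.orderOf_mul_eq_mul_orderOf_of_coprime h1]; exact hqd.mul_right _
      rw [← e, show orderOf (y * (a * b) * y⁻¹) = orderOf (a * b) from (MulAut.conj y).orderOf_eq _] at h2
      exact h2.trans (kstar_commute ha hb).orderOf_mul_dvd_mul_orderOf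
    rcases hq.dvd_mul.1 hqz with h2 | h2
    · obtain ⟨c, rfl⟩ : ∃ c : G, N = MulAut.conj c • L := by
        by_contra hno
        push Not at hno
        exact h.not_sigma_inter hd.1 hN hno (sigmaCore_orderOf (hd.le_sigmaCore ha) hq h2) (hxπ q hq hqd)
      rw [sigmaSpread_conj_eq, (kstar_commute ha hb).eq] at hmem
      exact h.Z_not_mem_spread hd.1 hd.2.2 (h.kstar_ne_bot hM hKU.hall hK1) hb (hd.2.1 ▸ ha) hb1 hmem
    · obtain ⟨c, rfl⟩ : ∃ c : G, N = MulAut.conj c • M := by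
        by_contra hno
        push Not at hno
        exact h.not_sigma_inter hM hN hno (sigmaCore_orderOf hb.1 hq h2) (hxπ q hq hqd)
      rw [sigmaSpread_conj_eq] at hmem
      exact h.Z_not_mem_spread hM hKU.hall hK1 ha hb ha1 hmem

end CfsgLib.OddLocal.Sec13
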