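import Cfsg.Agent.Lib.OddLocal.BG12d

/-!
The statements of Bender-Glauberman 12.4-12.6 in their frozen form, from the hypothesis bundle.
-/

set_option autoImplicit false
set_option linter.unusedSectionVars false

namespace CfsgLib.OddLocal.BG

open Cfsg Subgroup CfsgLib.Solvable
open scoped Pointwise commutatorElement

variable {G : Type*} [Group G] [Finite G]

/-- Statement S1416. -/
theorem Ten.s1416 (h : Ten G)
    (M : Subgroup G) (hM : IsCoatom M) (p : ℕ) [Fact p.Prime] (A : Subgroup G) (hA : (A ≤ M ∧ Cfsg.IsElementaryAbelian p A ∧ Nat.card A = p ^ 2)) :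
    Subgroup.centralizer (A : Set G) ≤ M ∧
      ((∀ A₀ : Subgroup G, A₀ ≤ A → Nat.card A₀ = p →
          ¬ (Subgroup.normalizer (A₀ : Set G) ≤ M ∧ ∀ L : Subgroup G, IsCoatom L → Subgroup.normalizer (A₀ : Set G) ≤ L → L = M)) →
        p ∈ Cfsg.sigma M ∧ Cfsg.alphaCore M = ⊥ ∧ Group.IsNilpotent (Cfsg.sigmaCore M)) :=
  h.cent_plane hM hA.1 ⟨hA.2.1, hA.2.2⟩

/-- Statement S1417. -/
theorem Ten.s1417 (h : Ten G)
    (M : Subgroup G) (hM : IsCoatom M) (p : ℕ) [Fact p.Prime] (hp : p ∈ Cfsg.tau2 M) (A : Subgroup G) (hA : (A ≤ M ∧ Cfsg.IsElementaryAbelian p A ∧ Nat.card A = p ^ 2)) :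
    Group.IsNilpotent (Cfsg.sigmaCore M) ∧
      (∀ P : Sylow p M, IsMulCommutative (P : Subgroup M) ∧
        (A ≤ (P : Subgroup M).map M.subtype →
          (∀ x ∈ (P : Subgroup M).map M.subtype, x ^ p = 1 ↔ x ∈ A) ∧
          ¬ Subgroup.normalizer ((((P : Subgroup M).map M.subtype : Subgroup G)) : Set G) ≤ M)) ∧
      M ≤ Subgroup.normalizer ((Cfsg.sigmaCore M ⊔ A : Subgroup G) : Set G) ∧
      Cfsg.sigmaCore M ⊓ Subgroup.centralizer (A : Set G) = ⊥ ∧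
      (∀ Mstar : Subgroup G, IsCoatom Mstar → Mstar ≠ M → A ≤ Mstar → Cfsg.sigmaCore M ⊓ Mstar = ⊥) ∧
      ∃ A₁ : Subgroup G, A₁ ≤ A ∧ Nat.card A₁ = p ∧ Cfsg.sigmaCore M ⊓ Subgroup.centralizer (A₁ : Set G) = ⊥ := by
  have hA' : Plane p A := ⟨hA.2.1, hA.2.2⟩
  obtain ⟨A0, hx, -⟩ := h.exists_exc hM hp.2.1 hA.1 hA'
  refine ⟨hx.nilpotent h, fun P => ?_, hx.normal_sup h, hx.cent_sigma h,
    fun H hH hne hAH => h.sigmaCore_inf_eq_bot hM hp.2.1 hA.1 hA' hH hne hAH, hx.exists_fpf_line h⟩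
  set S := (P : Subgroup M).map M.subtype with hS'
  have hS : SylIn p S M := sylIn_map P
  obtain ⟨T, hT, hAT⟩ := exists_sylIn_ge hA'.isPGroup hA.1
  obtain ⟨hab, -, -⟩ := hx.sylow h hT hAT
  obtain ⟨m, -, he⟩ := hT.exists_conj_eq hS
  have hPab : IsMulCommutative (P : Subgroup M) := by
    refine ⟨⟨fun a b => Subtype.ext (Subtype.ext ?_)⟩⟩
    have hmem : ∀ c : (P : Subgroup M), m * ((c : M) : G) * m⁻¹ ∈ T := fun c =>
      he.le (conj_smul_le_iff.1 le_rfl _ (mem_map_of_mem M.subtype c.2))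
    have h1 := hab _ (hmem a) _ (hmem b)
    show ((a : M) : G) * ((b : M) : G) = ((b : M) : G) * ((a : M) : G)
    calc ((a : M) : G) * ((b : M) : G)
        = m⁻¹ * ((m * ((a : M) : G) * m⁻¹) * (m * ((b : M) : G) * m⁻¹)) * m := by group
      _ = m⁻¹ * ((m * ((b : M) : G) * m⁻¹) * (m * ((a : M) : G) * m⁻¹)) * m := by rw [h1]
      _ = _ := by group
  refine ⟨hPab, fun hAS => ?_⟩
  obtain ⟨-, hom, g, hgn, -, hgM⟩ := hx.sylow h hS hAS
  exact ⟨fun x hxS => ⟨hom x hxS, fun hxA => hA.2.1.2 x hxA⟩, fun hle => hgM (hle hgn)⟩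

/-- Statement S1418. -/
theorem Ten.s1418 (h : Ten G)
    (M : Subgroup G) (hM : IsCoatom M) (E : Subgroup G) (hE : Cfsg.IsComplIn E (Cfsg.sigmaCore M) M) (p : ℕ) [Fact p.Prime] (hp : p ∈ Cfsg.tau2 M) (A : Subgroup G) (hA : (A ≤ E ∧ Cfsg.IsElementaryAbelian p A ∧ Nat.card A = p ^ 2)) :
    (E ≤ Subgroup.normalizer (A : Set G) ∧ ∀ X : Subgroup G, X ≤ E → Nat.card X = p → X ≤ A) ∧
      (Subgroup.centralizer (A : Set G) ≤ M ⊓ Subgroup.normalizer (A : Set G) ∧ M ⊓ Subgroup.normalizer (A : Set G) = E ∧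
        ¬ Subgroup.normalizer (A : Set G) ≤ M) ∧
      ∀ X : Subgroup G, X ≤ A → Nat.card X = p → Cfsg.sigmaCore M ⊓ Subgroup.centralizer (X : Set G) ≠ ⊥ → (Subgroup.centralizer (X : Set G) ≤ M ∧ ∀ L : Subgroup G, IsCoatom L → Subgroup.centralizer (X : Set G) ≤ L → L = M) := by
  have hA' : Plane p A := ⟨hA.2.1, hA.2.2⟩
  obtain ⟨hn, hall, hC, heq, hnot⟩ := h.tau2_compl hM hE hp.2.1 hA.1 hA'
  exact ⟨⟨hn, hall⟩, ⟨le_inf hC (centralizer_le_normalizer _), heq, hnot⟩, fun X hXA hX hne =>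
    h.centralizer_unique hM hp.2.1 (hA.1.trans hE.1) hA' (ne_bot_of_card_prime hX)
      (h.ne_top_of_isPGroup (isPGroup_of_card_prime p hX)) (hA'.le_centralizer.trans (centralizer_le hXA))
      hne⟩

/-- Statement S1419. -/
theorem Ten.s1419 (h : Ten G)
    (M : Subgroup G) (hM : IsCoatom M) (E : Subgroup G) (hE : Cfsg.IsComplIn E (Cfsg.sigmaCore M) M) (p : ℕ) [Fact p.Prime] (hp : p ∈ Cfsg.tau2 M) (hS : ∀ S : Sylow p G, ¬ IsMulCommutative (S : Subgroup G))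
    (A : Subgroup G) (hA : (A ≤ E ∧ Cfsg.IsElementaryAbelian p A ∧ Nat.card A = p ^ 2)) :
    Cfsg.tau2 M = {p} ∧
      (Nat.card ↥(A ⊓ Subgroup.centralizer (Cfsg.sigmaCore M : Set G)) = p ∧
        Cfsg.fittingOf M = Cfsg.sigmaCore M ⊔ (A ⊓ Subgroup.centralizer (Cfsg.sigmaCore M : Set G))) ∧
      ∀ X : Subgroup G, X ≤ E → Nat.card X = p → X ≠ A ⊓ Subgroup.centralizer (Cfsg.sigmaCore M : Set G) →
        Cfsg.sigmaCore M ⊓ Subgroup.centralizer (X : Set G) = ⊥ ∧ ¬ Subgroup.centralizer (X : Set G) ≤ M :=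
  h.tau2_nonabelian hM hE hp hS hA.1 ⟨hA.2.1, hA.2.2⟩

end CfsgLib.OddLocal.BG
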