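import Cfsg.Agent.Lib.OddLocal.BG13
import Cfsg.Agent.Lib.OddLocal.BG12Stmts
import Cfsg.Agent.Lib.OddLocal.Ten.Discharge

/-!
Sections 11-12 of Bender-Glauberman and the hypotheses of the following ones, discharged.
-/

set_option autoImplicit false

namespace CfsgLib.OddLocal.BG

open Cfsg

universe u

/-- The predecessors of sections 13 and 14 hold in a minimal simple group of odd order. -/
theorem pre'_of_minimal {G : Type u} [Group G] [Finite G] (hG : IsMinSimpleOddOrder G) :
    CfsgLib.OddLocal.Sec13.Pre' G :=
  (CfsgLib.OddLocal.Ten.ten_of_minimal hG).pre'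

end CfsgLib.OddLocal.BG
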