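import Cfsg.Agent.Lib.OddLocal.S15SignalizerMain

/-!
# Section 16: the data of a subgroup of type P
-/

set_option autoImplicit false
set_option linter.style.haveILetI false
set_option linter.unusedSectionVars false

open scoped Pointwise commutatorElement
open CfsgLib.Solvable (nilPart)

namespace CfsgLib.OddLocal.S15

universe u

variable {G : Type u} [Group G] [Finite G] {M K U T : Subgroup G}

/-- The hypotheses used in section 16. -/
structure S16Base (G : Type u) [Group G] [Finite G] : Prop extends SigBase G where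
  h1367 : Hyp1367 G
  h1368 : Hyp1368 G
  h1370 : Hyp1370 G
  h1433 : Hyp1433 G
  h1434 : Hyp1434 G
  h1436 : Hyp1436 G

theorem derived_le (M : Subgroup G) : ⁅M, M⁆ ≤ M := Subgroup.commutator_le_self M

theorem le_normalizer_derived (M : Subgroup G) :
    M ≤ Subgroup.normalizer ((⁅M, M⁆ : Subgroup G) : Set G) := fun m hm => by
  rw [← map_conj_eq_self_iff, Subgroup.map_commutator, map_conj_eq_self_iff.2 (Subgroup.le_normalizer hm)]

theorem sigmaCore_le_UMs : Cfsg.sigmaCore M ≤ U ⊔ Cfsg.sigmaCore M := le_sup_right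

/-- `M'` and `K` are complements. -/
theorem derived_compl_K (B : Base G) (hM : IsCoatom M) (hKU : Cfsg.IsSigmaDecomposition M K U)
    (hK1 : K ≠ ⊥) : Cfsg.IsComplIn ⁅M, M⁆ K M := by
  rw [derived_eq B.h1350 B.h1352 B.h1353 B.h1426 hM hKU hK1]
  have hKM := K_le B.h1350 hM hKU
  have hle : U ⊔ Cfsg.sigmaCore M ≤ M := U_sup_sigmaCore_le B.h1350 hM hKU
  refine ⟨hle, hKM, inf_eq_bot_of_coprime (Nat.coprime_of_dvd fun q hq h1 h2 =>
    not_kappa_of_dvd_UMs B.h1350 hM hKU hq h1 (hKU.hall.2.1 q hq h2)), fun m hm => ?_⟩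
  obtain ⟨a, ha, b, hb, rfl⟩ := hKU.compl.2.2.2 m hm
  rw [sup_comm] at hb
  obtain ⟨s, hs, k, hk, rfl⟩ := eq_mul_of_mem_sup (hKM.trans (le_normalizer_sigmaCore M)) hb
  exact ⟨a * s, mul_mem (Subgroup.mem_sup_left ha) (Subgroup.mem_sup_right hs), k, hk, by group⟩

/-- The Fitting Hall subgroup of `M'`. -/
theorem fittingHallOf_derived (hG : Cfsg.IsMinSimpleOddOrder G) (B : Base G) (hM : IsCoatom M)
    (hKU : Cfsg.IsSigmaDecomposition M K U) (hK1 : K ≠ ⊥) :
    Cfsg.fittingHallOf ⁅M, M⁆ = Cfsg.fittingHallOf M := by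
  have hd := derived_compl_K B hM hKU hK1
  have hFM : Cfsg.fittingHallOf M ≤ ⁅M, M⁆ := (fittingHallOf_le_sigmaCore B.h1350 hM hG).trans
    (sigmaCore_le_derived B.h1350 B.h1426 hM hKU)
  have hco : (Nat.card (Cfsg.fittingHallOf M)).Coprime ((Cfsg.fittingHallOf M).relIndex M) :=
    coprime_fittingHallOf M
  refine le_antisymm ?_ (le_fittingHallOf hFM ((derived_le M).trans (le_normalizer_fittingHallOf M))
    (isNilpotent_fittingHallOf M) (hco.coprime_dvd_right ?_))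
  swap
  · exact ⟨_, (Subgroup.relIndex_mul_relIndex _ _ M hFM (derived_le M)).symm⟩
  set N := Cfsg.fittingHallOf ⁅M, M⁆
  have hNd : N ≤ ⁅M, M⁆ := fittingHallOf_le _
  have hNn : M ≤ Subgroup.normalizer (N : Set G) := fun m hm => by
    have := fittingHallOf_map_conj m ⁅M, M⁆
    rw [map_conj_eq_self_iff.2 (le_normalizer_derived M hm)] at this
    exact map_conj_eq_self_iff.1 this.symm
  refine le_fittingHallOf (hNd.trans (derived_le M)) hNn (isNilpotent_fittingHallOf _) ?_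
  rw [← Subgroup.relIndex_mul_relIndex _ _ M hNd (derived_le M), (relIndex_of_isComplIn hd).2]
  refine Nat.Coprime.mul_right (coprime_fittingHallOf _) (Nat.coprime_of_dvd fun q hq h1 h2 => ?_)
  have h3 := h1.trans (Subgroup.card_dvd_of_le hNd)
  rw [derived_eq B.h1350 B.h1352 B.h1353 B.h1426 hM hKU hK1] at h3
  exact not_kappa_of_dvd_UMs B.h1350 hM hKU hq h3 (hKU.hall.2.1 q hq h2)

/-- Complements of `M_σ` in `M'` are conjugates of `U`. -/
theorem compl_conj_U (hG : Cfsg.IsMinSimpleOddOrder G) (B : Base G) (hM : IsCoatom M)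
    (hKU : Cfsg.IsSigmaDecomposition M K U) (hK1 : K ≠ ⊥)
    (hT : Cfsg.IsComplIn (Cfsg.sigmaCore M) T ⁅M, M⁆) :
    ∃ m ∈ M, T.map (MulAut.conj m).toMonoidHom = U := by
  have hcard : Nat.card T = Nat.card U := by
    have h := card_of_isComplIn hT
    rw [derived_eq B.h1350 B.h1352 B.h1353 B.h1426 hM hKU hK1,
      card_U_sup_sigmaCore B.h1350 hM hKU, mul_comm] at h
    exact (Nat.eq_of_mul_eq_mul_left Nat.card_pos h).symm
  obtain ⟨m, hm, hle⟩ := exists_conj_le_piHall (maximal_solvable hG hM)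
    (isPiHallOf_U B.h1350 hM hKU) (hT.2.1.trans (derived_le M)) (fun q hq hd => by
      rw [hcard] at hd
      have := U_primes B.h1350 hM hKU hq hd
      exact ⟨hq, this.2, this.1⟩)
  exact ⟨m, hm, Subgroup.eq_of_le_of_card_ge hle (by rw [card_map_conj, hcard])⟩

/-- A complement of `M_F` in `M_σ` when `M_F ≠ M_σ`. -/
theorem compl_fcore (hG : Cfsg.IsMinSimpleOddOrder G) (B : Base G) (hM : IsCoatom M)
    (hKU : Cfsg.IsSigmaDecomposition M K U) (hne : Cfsg.fittingHallOf M ≠ Cfsg.sigmaCore M)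
    (hT : Cfsg.IsComplIn (Cfsg.fittingHallOf M) T ⁅M, M⁆) :
    T ≠ ⊥ ∧ Group.IsNilpotent T ∧ Subgroup.normalizer (T : Set G) ≤ M := by
  obtain ⟨-, -, hMd, -, hq, -, -, Q, hQF, hQs, hMQ, hKsQ, hQp, hQi, ⟨D, hD⟩, hall⟩ :=
    fcore_structure hG B.h1445 B.h1446 B.h1350 B.h1351 B.h1352 B.h1354 B.h1366 B.h1369 B.h1372
      B.h1414 B.h1426 B.h1429 B.h1430 hM hKU hne
  rw [← hMd] at hT
  set q := Nat.card ↥(Cfsg.sigmaCore M ⊓ Subgroup.centralizer (K : Set G))
  haveI := Fact.mk hq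
  have hT1 : T ≠ ⊥ := by
    intro h
    refine hne (le_antisymm (fittingHallOf_le_sigmaCore B.h1350 hM hG) fun x hx => ?_)
    obtain ⟨a, ha, b, hb, rfl⟩ := hT.2.2.2 x hx
    rw [h, Subgroup.mem_bot] at hb
    rwa [hb, mul_one]
  obtain ⟨e1, e2⟩ := relIndex_of_isComplIn hT
  have hco : (Nat.card (Cfsg.fittingHallOf M)).Coprime (Nat.card T) := by
    rw [← e2]
    exact (coprime_fittingHallOf M).coprime_dvd_right
      ⟨_, (Subgroup.relIndex_mul_relIndex _ _ M hT.1 (sigmaCore_le M)).symm⟩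
  have hTq : ¬ q ∣ Nat.card T := fun h => Nat.not_coprime_of_dvd_of_dvd hq.one_lt
    ((Subgroup.card_dvd_of_le hKsQ).trans (Subgroup.card_dvd_of_le hQF)) h hco
  have hhall : Cfsg.IsPiHallOf {p : ℕ | p.Prime ∧ p ≠ q} D (Cfsg.sigmaCore M) := by
    obtain ⟨d1, d2⟩ := relIndex_of_isComplIn hD
    refine ⟨hD.2.1, fun p hp hd => ⟨hp, fun h => hQi (h ▸ d2 ▸ hd)⟩, fun p hp hpq hd => ?_⟩
    rw [d1] at hd
    obtain ⟨j, hj⟩ := hQp.exists_card_eq
    exact hpq.2 ((Nat.prime_dvd_prime_iff_eq hp hq).1 (hp.dvd_of_dvd_pow (hj ▸ hd)))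
  obtain ⟨g, -, hgT⟩ := exists_conj_le_piHall
    (CfsgLib.Solvable.isSolvable_of_le (maximal_solvable hG hM) (sigmaCore_le M)) hhall hT.2.1
    (fun p hp hd => ⟨hp, fun h => hTq (h ▸ hd)⟩)
  have hTn : Group.IsNilpotent T := by
    have h1 := CfsgLib.Cores.isNilpotent_map (isNilpotent_of_le (hall D hD).1 hgT)
      (MulAut.conj g⁻¹).toMonoidHom
    rwa [map_conj_inv_map] at h1
  refine ⟨hT1, hTn, ?_⟩
  obtain ⟨r, hr, hrd⟩ := Nat.exists_prime_and_dvd (fun h => hT1 (Subgroup.card_eq_one.1 h))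
  haveI := Fact.mk hr
  set R := nilPart r T
  have hRT : R ≤ T := CfsgLib.Solvable.nilPart_le
  have hrσ : r ∈ Cfsg.sigma M :=
    (B.h1350 M hM).1.2.1 r hr (hrd.trans (Subgroup.card_dvd_of_le hT.2.1))
  refine (CfsgLib.Solvable.normalizer_le_normalizer_nilPart r T).trans (normalizer_sylow_le hrσ
    ((hRT.trans hT.2.1).trans (sigmaCore_le M)) CfsgLib.Solvable.isPGroup_nilPart fun h => ?_)
  rw [← Subgroup.relIndex_mul_relIndex R T M hRT (hT.2.1.trans (sigmaCore_le M)), hr.dvd_mul] at h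
  rcases h with h | h
  · have h1 : Nat.card R * R.relIndex T = Nat.card T := by
      rw [← Subgroup.relIndex_bot_left, ← Subgroup.relIndex_bot_left,
        Subgroup.relIndex_mul_relIndex ⊥ R T bot_le hRT]
    rw [CfsgLib.Solvable.card_nilPart hTn] at h1
    refine Nat.pow_succ_factorization_not_dvd (n := Nat.card T) Nat.card_pos.ne' hr ?_
    rw [pow_succ]
    exact (Nat.mul_dvd_mul dvd_rfl h).trans h1.dvd
  · rw [← Subgroup.relIndex_mul_relIndex T _ M hT.2.1 (sigmaCore_le M), e1, hr.dvd_mul] at h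
    rcases h with h | h
    · exact Nat.not_coprime_of_dvd_of_dvd hr.one_lt h hrd hco
    · exact (B.h1350 M hM).1.2.2 r hr hrσ h

/-- An invariant complement of `M_F` in `M_σ`. -/
theorem exists_compl_fcore (hG : Cfsg.IsMinSimpleOddOrder G) (B : Base G) (hM : IsCoatom M)
    (hKU : Cfsg.IsSigmaDecomposition M K U) :
    ∃ T : Subgroup G, Cfsg.IsComplIn (Cfsg.fittingHallOf M) T (Cfsg.sigmaCore M) ∧
      K ≤ Subgroup.normalizer (T : Set G) := by
  set H := Cfsg.fittingHallOf M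
  set N := Cfsg.sigmaCore M
  have hHN : H ≤ N := fittingHallOf_le_sigmaCore B.h1350 hM hG
  have hKM := K_le B.h1350 hM hKU
  obtain ⟨T, ⟨hTN, hTπ, hTi⟩, hKT⟩ := CfsgLib.PGroup.exists_invariant_hall
    {p : ℕ | p.Prime ∧ ¬ p ∣ Nat.card H} (hKM.trans (le_normalizer_sigmaCore M))
    ((coprime_sigmaCore B.h1350 hM fun p hp hd => sigma_inter_kappa (hKU.hall.2.1 p hp hd)).symm)
    (CfsgLib.Solvable.isSolvable_of_le (maximal_solvable hG hM) (sigmaCore_le M))
  refine ⟨T, ⟨hHN, hTN, inf_eq_bot_of_coprime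
    (Nat.coprime_of_dvd fun p hp h1 h2 => (hTπ p hp h2).2 h1), fun x hx => ?_⟩, hKT⟩
  refine eq_mul_of_mem_sup ((hTN.trans (sigmaCore_le M)).trans (le_normalizer_fittingHallOf M))
    ((Subgroup.relIndex_eq_one.1 (Nat.eq_one_iff_not_exists_prime_dvd.2 fun p hp hpd => ?_)) hx)
  by_cases hpH : p ∣ Nat.card H
  · exact Nat.not_coprime_of_dvd_of_dvd hp.one_lt hpH
      ((hpd.trans (Subgroup.relIndex_dvd_of_le_left N le_sup_left)).trans
        ⟨_, (Subgroup.relIndex_mul_relIndex _ _ M hHN (sigmaCore_le M)).symm⟩)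
      (coprime_fittingHallOf M)
  · exact hTi p hp ⟨hp, hpH⟩ (hpd.trans (Subgroup.relIndex_dvd_of_le_left N le_sup_right))

/-- `K` and `K*` form a self-normalizing cyclic subgroup. -/
theorem selfNormalizing (B : S16Base G) (hM : IsCoatom M) (hKU : Cfsg.IsSigmaDecomposition M K U)
    (hK1 : K ≠ ⊥) :
    Cfsg.IsSelfNormalizingCyclic K (Cfsg.sigmaCore M ⊓ Subgroup.centralizer (K : Set G)) := by
  set Ks := Cfsg.sigmaCore M ⊓ Subgroup.centralizer (K : Set G)
  obtain ⟨Ms, ⟨hMs, hKst, hKstH⟩, -⟩ := B.h1366 M hM K U hKU hK1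
  have hcyc := (B.h1368 M hM K U hKU hK1 Ms hMs hKst hKstH).2
  refine ⟨hK1, (B.h1354 M hM K hKU.cyclic hKU.hall).1,
    le_bot_iff.1 ((inf_le_inf_left K inf_le_left).trans ((inf_comm _ _).trans
      (sigmaCore_inf_K B.h1350 hM hKU)).le), fun a ha b hb => Subgroup.mem_centralizer_iff.1 hb.2 a ha,
    hcyc, fun X hX hne => ?_⟩
  obtain ⟨hTI, hN⟩ := B.h1370 M hM K U hKU hK1
  refine le_antisymm (fun g hg => ?_) fun w hw => ?_
  · obtain ⟨z, hz⟩ := hne
    rw [← hN]
    by_contra hgN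
    have hz' := hX hz
    have h1 := hTI g hgN z hz' (hX ((Subgroup.mem_set_normalizer_iff.1 hg z).1 hz))
    exact hz'.2 (Or.inl (h1 ▸ one_mem K))
  · haveI := hcyc
    have hfix : ∀ y ∈ K ⊔ Ks, w * y * w⁻¹ = y := fun y hy => by
      have := congrArg Subtype.val (mul_comm' (⟨w, hw⟩ : ↥(K ⊔ Ks)) ⟨y, hy⟩)
      change w * y = y * w at this
      rw [this, mul_inv_cancel_right]
    refine Subgroup.mem_set_normalizer_iff.2 fun y => ⟨fun hy => ?_, fun hy => ?_⟩
    · rw [hfix y (hX hy).1]; exact hy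
    · have h1 : w⁻¹ * (w * y * w⁻¹) * w = y := by group
      have h2 := hfix _ (hX hy).1
      have h3 : w * y * w⁻¹ = y := mul_left_cancel (a := w) (mul_right_cancel (b := w⁻¹) (by
        calc w * (w * y * w⁻¹) * w⁻¹ = w * y * w⁻¹ := h2))
      exact h3 ▸ hy

/-- The type-P data given by a decomposition with `K ≠ 1`. -/
theorem typeP_data (hG : Cfsg.IsMinSimpleOddOrder G) (B : S16Base G) (hM : IsCoatom M)
    (hKU : Cfsg.IsSigmaDecomposition M K U) (hK1 : K ≠ ⊥) :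
    ∃ U' : Subgroup G,
      Cfsg.IsTypePWith M K U' (Cfsg.sigmaCore M ⊓ Subgroup.centralizer (K : Set G)) ∧
      (Cfsg.fittingHallOf M = Cfsg.sigmaCore M → U' = U) := by
  set Ks := Cfsg.sigmaCore M ⊓ Subgroup.centralizer (K : Set G)
  have hd := derived_eq B.h1350 B.h1352 B.h1353 B.h1426 hM hKU hK1
  obtain ⟨U', hnil, hKn, hc, heq⟩ : ∃ U' : Subgroup G, Group.IsNilpotent U' ∧
      K ≤ Subgroup.normalizer (U' : Set G) ∧ Cfsg.IsComplIn (Cfsg.fittingHallOf M) U' ⁅M, M⁆ ∧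
      (Cfsg.fittingHallOf M = Cfsg.sigmaCore M → U' = U) := by
    by_cases hne : Cfsg.fittingHallOf M = Cfsg.sigmaCore M
    · refine ⟨U, ?_, hKU.normal, ?_, fun _ => rfl⟩
      · haveI := U_commutative hG B.h1350 B.h1430 hM hKU hK1
        letI : CommGroup U :=
          { (inferInstance : Group U) with mul_comm := fun a b => Subtype.ext (comm_of_mem
              (U_commutative hG B.h1350 B.h1430 hM hKU hK1) a.2 b.2) }
        infer_instance
      · rw [hd, hne, sup_comm U]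
        exact isComplIn_sup ((U_le B.h1350 hM hKU).trans (le_normalizer_sigmaCore M))
          (by rw [inf_comm]; exact U_inf_sigmaCore B.h1350 hM hKU)
    · obtain ⟨T, hT, hKT⟩ := exists_compl_fcore hG B.toBase hM hKU
      have hU := U_eq_bot_of_ne hG B.h1350 B.h1429 hM hKU hne
      have hd' : ⁅M, M⁆ = Cfsg.sigmaCore M := by rw [hd, hU, bot_sup_eq]
      rw [← hd'] at hT
      exact ⟨T, (compl_fcore hG B.toBase hM hKU hne hT).2.1, hKT, hT, fun h => absurd h hne⟩
  obtain ⟨hKsc, -, hKsF, hHnc⟩ := kappa_type_fittingHall hG B.toBase hM hKU hK1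
  have hF := fittingOf_eq hG B.toBase hM
  refine ⟨U', ?_, heq⟩
  constructor
  · exact hK1
  · exact hKU.cyclic
  · exact coprime_of_pi hKU.hall.2.1 hKU.hall.2.2
  · exact derived_compl_K B.toBase hM hKU hK1
  · exact hnil
  · exact hKn
  · exact hc
  · exact hHnc
  · rw [sup_comm, ← hF]
    exact derived_two_le_fittingOf hG B.toBase hM
  · rw [sup_comm, ← hF]
  · refine fittingOf_le_derived hG B.toBase hM ?_
    obtain ⟨q, hq, hqd⟩ := Nat.exists_prime_and_dvd (fun h => hK1 (Subgroup.card_eq_one.1 h))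
    exact ⟨q, hKU.hall.2.1 q hq hqd⟩
  · exact le_inf hKsF (centralizer_K_le_derived_two hG B.h1350 B.h1352 B.h1353 B.h1426 hM hKU hK1)
  · intro x hx hx1
    refine le_antisymm ?_ (le_inf ?_ ?_)
    · rintro y ⟨hy, hyc⟩
      have h1 : y ∈ M ⊓ Subgroup.centralizer ({x} : Set G) := ⟨derived_le M hy, hyc⟩
      rw [(B.h1354 M hM K hKU.cyclic hKU.hall).2 hK1 x hx hx1] at h1
      rw [sup_comm] at h1
      have hKKs : K ≤ Subgroup.normalizer ((Cfsg.sigmaCore M ⊓ Subgroup.centralizer (K : Set G) : Subgroup G) : Set G) :=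
        (Subgroup.le_centralizer_iff.1 inf_le_right).trans (Subgroup.centralizer_le_normalizer _)
      obtain ⟨a, ha, b, hb, rfl⟩ := eq_mul_of_mem_sup hKKs h1
      have hb' : b ∈ ⁅M, M⁆ ⊓ K := ⟨by
        have := (⁅M, M⁆).mul_mem ((⁅M, M⁆).inv_mem (hd.ge (Subgroup.mem_sup_right ha.1))) hy
        simpa using this, hb⟩
      rw [(derived_compl_K B.toBase hM hKU hK1).2.2.1, Subgroup.mem_bot] at hb'
      rw [hb', mul_one]
      exact ha
    · exact inf_le_left.trans (le_sup_right.trans hd.ge)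
    · exact inf_le_right.trans (Subgroup.centralizer_le (by simpa using hx))
  · exact selfNormalizing B hM hKU hK1

end CfsgLib.OddLocal.S15
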