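import Cfsg.Agent.Lib.OddLocal.Sec14Main

/-!
BG Lemma 14.12 (S1435): the maximal subgroup over the normaliser of a Sylow subgroup of `U`.
-/

set_option autoImplicit false
set_option linter.unusedSectionVars false

open scoped Pointwise

namespace CfsgLib.OddLocal.Sec13

open Cfsg Subgroup
open scoped commutatorElement
open CfsgLib.Solvable (conj_smul_le_iff mem_conj_smul_iff card_conj_smul conj_smul_conj_smul
  conj_smul_mono conj_smul_self_of_mem_normalizer conj_smul_eq_map)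

/-- `K*`. -/
local notation "Ks(" M ", " K ")" => sigmaCore M ⊓ centralizer ((K : Subgroup _) : Set _)

universe u
variable {G : Type u} [Group G] [Finite G]

variable (h : Pre' G)
include h

/-- If `a` acts without fixed points on `H_σ` and on the `σ(H)'`-group `S`, `S` centralises `H_σ`. -/
theorem Pre'.centralizes_core_of_fpf {H S A : Subgroup G} (hH : IsCoatom H) (hSH : S ≤ H) (hAH : A ≤ H)
    (hAp : (Nat.card A).Prime) (hAS : A ≤ normalizer (S : Set G)) (hS : IsPi {r | r ∉ sigma H} S)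
    (hA : IsPi {r | r ∉ sigma H} A) (hfree : S ⊓ centralizer (A : Set G) = ⊥)
    (hfix : sigmaCore H ⊓ centralizer (A : Set G) = ⊥) : S ≤ centralizer (sigmaCore H : Set G) := by
  obtain ⟨a, -, hao, rfl⟩ := exists_zpowers_of_card hAp rfl
  rw [centralizer_zpowers] at hfree hfix
  refine h.toPre.centralizes_of_fixed (a := a) (h.toPre.isSolvable_le hH (piCoreOf_le _ _))
    (hao ▸ hAp) (hAS (mem_zpowers a)) ((sup_le hSH hAH).trans (le_normalizer_piCoreOf _ _)) ?_ hfree
    fun w hw hwp haw => ?_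
  · refine coprime_of_isPi (π := {r | r ∉ sigma H}) ?_ (isPi_piCoreOf (sigma H) H) fun r _ h1 h2 => h1 h2
    exact IsPi.sup hS hA hAS
  · exfalso
    have hw1 : w = 1 := mem_bot.1 (hfix.le ⟨hw, mem_centralizer_singleton_iff.2 haw.symm⟩)
    rw [hw1, orderOf_one] at hwp
    exact Nat.not_prime_one hwp

/-- BG 14.12 (S1435). -/
theorem Pre'.normalizer_neighbour {M K U L R H : Subgroup G} (hM : IsCoatom M)
    (hKU : IsSigmaDecomposition M K U) (hK1 : K ≠ ⊥) (hU1 : U ≠ ⊥) (hd : IsDual M K L) {r : ℕ}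
    [hr' : Fact r.Prime] (hr : r ∣ Nat.card U) (hR : IsPiHallOf {r} R U) (hH : IsCoatom H)
    (hNR : normalizer (R : Set G) ≤ H) :
    kappa H = ∅ ∧ U ≤ sigmaCore H ∧ M ⊓ H = U ⊔ K ∧ ¬ H ⊓ normalizer (U : Set G) ≤ M ∧
      K ≤ fittingOf (H ⊓ L) ∧ IsComplIn (H ⊓ L) (sigmaCore H) H := by
  have hK := hKU.hall
  obtain ⟨hE, hUab, hUn, hfree, hcase⟩ := h.decomposition_struct hM hKU hK1
  have hKp := h.kappaHall_prime hM hKU hK1 hU1
  set p := Nat.card K with hp
  have : Fact p.Prime := ⟨hKp⟩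
  have hUh := S15.isPiHallOf_U h.toPre.hyp1350 hM hKU
  obtain ⟨-, hrκ, hrσ⟩ := hUh.2.1 r hr'.out hr
  have hRM : IsPiHallOf {r} R M := CfsgLib.PGroup.isPiHallOf_trans hR hUh.1 fun s _ hs hsd => by
    rw [Set.mem_singleton_iff.1 hs] at hsd
    exact hUh.2.2 r hr'.out ⟨hr'.out, hrκ, hrσ⟩ hsd
  have hrR : r ∣ Nat.card R := dvd_card_of_hallOf hR hr'.out rfl hr
  have hUR : U ≤ normalizer (R : Set G) := fun u hu => centralizer_le_normalizer _
    (mem_centralizer_iff.2 fun y hy =>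
      congrArg Subtype.val (hUab.is_comm.comm (⟨y, hR.1 hy⟩ : U) ⟨u, hu⟩))
  have hKR : K ≤ normalizer (R : Set G) := fun k hk =>
    CfsgLib.Solvable.mem_normalizer_iff_conj_smul.2 (eq_of_le_of_card_ge
      (le_of_normal_hallOf hR hUR ((conj_smul_mono k hR.1).trans
        (conj_smul_self_of_mem_normalizer (hKU.normal hk)).le) (IsPi.conj hR.2.1 k))
      (card_conj_smul k R).ge)
  have hEH : U ⊔ K ≤ H := (sup_le hUR hKR).trans hNR
  have hKH : K ≤ H := le_sup_right.trans hEH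
  have hUH : U ≤ H := le_sup_left.trans hEH
  -- `H` is conjugate neither to `M` nor to `M*`
  have hneM : ∀ g : G, H ≠ MulAut.conj g • M := by
    rintro g rfl
    have hR' : MulAut.conj g⁻¹ • R ≤ M :=
      (conj_smul_mono g⁻¹ ((hR.1.trans hUH))).trans (conj_smul_inv_self g M).le
    obtain ⟨m, hm, hle⟩ := exists_conj_le_hallOf (h.toPre.isSolvable hM.1) hRM hR' (IsPi.conj hR.2.1 _)
    rw [conj_smul_conj_smul] at hle
    have hn : m * g⁻¹ ∈ normalizer (R : Set G) := CfsgLib.Solvable.mem_normalizer_iff_conj_smul.2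
      (eq_of_le_of_card_ge hle (card_conj_smul _ R).ge)
    have h1 := mem_conj_smul_iff.1 (hNR hn)
    have hgM : g ∈ M := by
      have h2 : g⁻¹ * m ∈ M := by simpa [mul_assoc] using h1
      simpa using M.inv_mem (M.mul_mem h2 (M.inv_mem hm))
    rw [conj_smul_self_of_mem_normalizer (le_normalizer hgM)] at hNR
    exact hrσ (mem_sigma_of_normalizer_le (hrR.trans (card_dvd_of_le hRM.1)) hRM hNR)
  have hpL : p ∈ sigma L := isPi_piCoreOf (sigma L) L p hKp (card_dvd_of_le hd.le_sigmaCore)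
  have hpπ : IsPGroup p K := isPGroup_of_card rfl
  have hKL : K ≤ L := hd.le_sigmaCore.trans (piCoreOf_le _ _)
  obtain ⟨hCK, huK⟩ := h.dual_unique_centralizer hM hK hK1 hd le_rfl hKp
  have hneL : ∀ g : G, H ≠ MulAut.conj g • L := by
    intro g hg
    have e : H = L := h.toPre.eq_of_conj hd.1 hpL hpπ hK1 hKL hKH hCK hg
    subst e
    have hRZ : R ≤ K ⊔ Ks(M, K) := h.inter_dual hM hK hK1 hd ▸ le_inf hRM.1 (hR.1.trans hUH)
    have hd' := (hrR.trans (card_dvd_of_le hRZ))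
    rw [card_Z hK] at hd'
    rcases hr'.out.dvd_mul.1 hd' with h1 | h1
    · exact hrκ (hK.2.1 r hr'.out h1)
    · exact hrσ (IsPi.of_le (isPi_piCoreOf (sigma M) M) inf_le_left r hr'.out h1)
  have hκH : kappa H = ∅ := by
    by_contra hne
    obtain ⟨g, hg | hg⟩ := h.kappa_classes hM hK hK1 hd hH (Set.nonempty_iff_ne_empty.2 hne)
    exacts [hneM g hg, hneL g hg]
  have hσMH : ∀ {t : ℕ}, t ∈ sigma M → t ∉ sigma H := fun ht => h.not_sigma_inter hM hH hneM ht
  have hσLH : ∀ {t : ℕ}, t ∈ sigma L → t ∉ sigma H := fun ht => h.not_sigma_inter hd.1 hH hneL ht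
  have hpH : p ∉ sigma H := hσLH hpL
  have hKπ : IsPi {t | t ∉ sigma H} K :=
    IsPi.mono (isPi_singleton_of_isPGroup hpπ) (by rintro t rfl; exact hpH)
  obtain ⟨k, hk1, -, hkK⟩ := exists_zpowers_of_card hKp rfl
  have hkmem : k ∈ K := hkK ▸ mem_zpowers k
  have hHL : H ≠ L := fun e => hneL 1 (by rw [map_one, one_smul]; exact e)
  -- `C(K) ∩ H_σ = 1`
  have hfixH : sigmaCore H ⊓ centralizer (K : Set G) = ⊥ := by
    by_contra hne
    obtain ⟨l, W, hl, hW, hWc⟩ := exists_prime_subgroup hne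
    have : Fact l.Prime := ⟨hl⟩
    obtain ⟨w, hw1, hwo, hwW⟩ := exists_zpowers_of_card hl hWc
    have hlH : l ∈ sigma H := isPi_piCoreOf (sigma H) H l hl
      ((dvd_of_eq hWc.symm).trans (card_dvd_of_le (hW.trans inf_le_left)))
    have hwC : w ∈ centralizer (K : Set G) := (hW (hwW ▸ mem_zpowers w)).2
    rcases h.sigma_element_dichotomy hd.1 (hd.le_sigmaCore hkmem) hk1 (hCK hwC)
      (mem_centralizer_iff.1 hwC k hkmem) hw1 (fun t ht htd htL => hσLH htL
        (by rwa [(Nat.prime_dvd_prime_iff_eq ht hl).1 (htd.trans (dvd_of_eq hwo))]))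
      with ⟨h1, -⟩ | ⟨-, -, hCw, huw⟩
    · exact hσMH (isPi_piCoreOf (sigma M) M l hl ((dvd_card_of_hallOf hd.2.2 hl (h1 l hl (dvd_of_eq hwo.symm))
        (h1 l hl (dvd_of_eq hwo.symm)).2.1).trans (card_dvd_of_le inf_le_left))) hlH
    · have hNW : normalizer (W : Set G) ≤ L := h.toPre.normalizer_le_of_unique hd.1
        (((hW.trans inf_le_right)).trans hCK) (ne_bot_of_card hl hWc)
        (fun L' hL' hle => huw L' hL' (by rwa [← hwW, centralizer_zpowers] at hle))
      obtain ⟨-, hcase', S, hS, -, hSH, hNS⟩ := h.toPre.two_maximal hH hd.1 hlH (isPGroup_of_card hWc)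
        (ne_bot_of_card hl hWc) ((hW.trans inf_le_left).trans (piCoreOf_le _ _)) hNW hHL.symm
      have hl2 : l ∈ tau2 L := hcase'.resolve_left fun hc => hσLH hc hlH
      obtain ⟨hbot, -⟩ := h.toPre.two_maximal_tau2 hH hd.1 hHL.symm hl2 hS hSH hNS
      exact hK1 (le_bot_iff.1 ((le_inf hd.le_sigmaCore hKH).trans hbot.le))
  -- the plane lemma
  have hplane : ∀ {t : ℕ} [Fact t.Prime] {E₀ A : Subgroup G}, t ∈ tau2 H → t ∉ sigma M →
      IsComplIn E₀ (sigmaCore H) H → K ≤ E₀ → A ≤ E₀ → IsElementaryAbelian t A → Nat.card A = t ^ 2 →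
      A ≤ centralizer (K : Set G) := by
    intro t ht' E₀ A ht htM hE₀ hKE₀ hAE hA hAc
    obtain ⟨⟨hEA, -⟩, -, -⟩ := h.s1418 H hH E₀ hE₀ t ht A ⟨hAE, hA, hAc⟩
    have hAH : A ≤ H := hAE.trans hE₀.1
    have hA1 : A ≠ ⊥ := fun e => by
      rw [e, Subgroup.card_bot] at hAc
      exact (Nat.one_lt_pow two_ne_zero ht'.out.one_lt).ne hAc
    obtain ⟨L', hL', hNA⟩ := h.toPre.exists_maximal_normalizer hH hAH hA1
    obtain ⟨htL', -, -⟩ := h.tau2_plane_normalizer hH ht hAH hA hAc hL' hNA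
    have hKA : K ≤ normalizer (A : Set G) := hKE₀.trans hEA
    rcases eq_or_ne t p with htp | htp
    · subst htp
      obtain ⟨⟨-, hline⟩, -, -⟩ := h.s1418 H hH E₀ hE₀ _ ht A ⟨hAE, hA, hAc⟩
      intro a ha
      exact mem_centralizer_iff.2 fun x hx =>
        congrArg Subtype.val (hA.1.is_comm.comm (⟨x, hline K hKE₀ rfl hx⟩ : A) ⟨a, ha⟩)
    by_cases hc : ∃ g : G, L' = MulAut.conj g • L
    · obtain ⟨g, hg⟩ := hc
      obtain rfl : L' = L := h.toPre.eq_of_conj hd.1 hpL hpπ hK1 hKL (hKA.trans hNA) hCK hg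
      refine le_centralizer_iff.1 (h.toPre.centralizes_of_le_derived hL' (p := p) (q := t) htp.symm
        (hd.le_sigmaCore.trans (h.toPre.sigmaCore_le_commutator hL')) (le_normalizer.trans hNA) hpπ
        (CfsgLib.PGroup.elemAb_isPGroup hA) hKA ?_)
      exact fun hb => (h.s1408 H hH t ht.2.1 ht.2.2.1 ht.2.2.2).1 hb.2
    push Not at hc
    exfalso
    have hne : A ⊓ centralizer (K : Set G) ≠ ⊥ := by
      intro e
      refine h.toPre.sigmaCore_ne_bot hH (le_bot_iff.1 ((le_inf le_rfl (le_centralizer_iff.1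
        (h.centralizes_core_of_fpf hH hAH hKH hKp hKA
          (IsPi.mono (isPi_singleton_of_isPGroup (CfsgLib.PGroup.elemAb_isPGroup hA))
            (by rintro z rfl; exact ht.2.1)) hKπ e hfixH))).trans ?_))
      exact (h.s1417 H hH t ht A ⟨hAH, hA, hAc⟩).2.2.2.1.le
    obtain ⟨b, hb, hb1⟩ := (bot_or_exists_ne_one _).resolve_left hne
    have hbo : orderOf b = t := orderOf_eq_prime (hA.2 b hb.1) hb1
    rcases h.sigma_element_dichotomy hd.1 (hd.le_sigmaCore hkmem) hk1 (hCK hb.2)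
      (mem_centralizer_iff.1 hb.2 k hkmem) hb1 (fun s hs hsd hsL => h.not_sigma_inter hd.1 hL' hc hsL
        (by rwa [(Nat.prime_dvd_prime_iff_eq hs ht'.out).1 (hsd.trans (dvd_of_eq hbo))]))
      with ⟨h1, -⟩ | ⟨h2, -, hCb, -⟩
    · have := h1 t ht'.out (dvd_of_eq hbo.symm)
      exact htM (isPi_piCoreOf (sigma M) M t ht'.out ((dvd_card_of_hallOf hd.2.2 ht'.out this this.2.1).trans
        (card_dvd_of_le inf_le_left)))
    · have hAL : A ≤ L := fun a ha => hCb (mem_centralizer_singleton_iff.2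
        (congrArg Subtype.val (hA.1.is_comm.comm (⟨a, ha⟩ : A) ⟨b, hb.1⟩)))
      obtain ⟨-, -, -, -, he, -⟩ := h.s1417 L hd.1 t (h2 t ht'.out (dvd_of_eq hbo.symm)) A ⟨hAL, hA, hAc⟩
      exact hK1 (le_bot_iff.1 ((le_inf hd.le_sigmaCore hKH).trans (he H hH hHL hAH).le))
  -- all primes of `U` lie in `σ(H)`
  have hUσ : IsPi (sigma H) U := by
    intro t ht htd
    by_contra htH
    have : Fact t.Prime := ⟨ht⟩
    have htM : t ∉ sigma M := (hUh.2.1 t ht htd).2.2
    obtain ⟨X, hXe, hXU, hXiff⟩ := exists_omega_abelian (p := t) hUab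
    have hXt : IsPi {s | s ∉ sigma H} X := IsPi.mono
      (isPi_singleton_of_isPGroup (CfsgLib.PGroup.elemAb_isPGroup hXe)) (by rintro z rfl; exact htH)
    have hKX : K ≤ normalizer (X : Set G) := fun c hc => CfsgLib.Solvable.mem_normalizer_of_conj_mem
      fun x hx => (hXiff _).2 ⟨(mem_normalizer_iff.1 (hKU.normal hc) x).1 (hXU hx),
        by rw [conj_pow, ((hXiff x).1 hx).2, mul_one, mul_inv_cancel]⟩
    obtain ⟨Y, hY, hYc⟩ := exists_order_prime_le htd
    have hYX : Y ≤ X := fun y hy => (hXiff y).2 ⟨hY hy,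
      orderOf_dvd_iff_pow_eq_one.1 ((Y.orderOf_dvd_natCard hy).trans (dvd_of_eq hYc))⟩
    have hY1 : Y ≠ ⊥ := ne_bot_of_card ht hYc
    have hfX : X ⊓ centralizer (K : Set G) = ⊥ := le_bot_iff.1 ((inf_le_inf hXU
      (centralizer_singleton_of_mem hkmem)).trans (hfree k hkmem hk1).le)
    have hXH : X ≤ H := hXU.trans hUH
    have hcen := h.centralizes_core_of_fpf hH hXH hKH hKp hKX hXt hKπ hfX hfixH
    have hYfix : sigmaCore H ⊓ centralizer (Y : Set G) ≠ ⊥ := by
      rw [inf_eq_left.2 (le_centralizer_iff.1 (hYX.trans hcen))]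
      exact h.toPre.sigmaCore_ne_bot hH
    rcases h.toPre.tau_cases hH ht (htd.trans (card_dvd_of_le hUH)) htH with h1 | h1 | h1
    · exact Set.eq_empty_iff_forall_notMem.1 hκH t
        (h.toPre.kappa_of_fixed hH (Or.inl h1) (hY.trans hUH) hYc hYfix)
    · obtain ⟨E₀, hE₀, hle⟩ := h.toPre.exists_compl_ge hH (sup_le hXH hKH) (IsPi.sup hXt hKπ hKX)
      obtain ⟨A, hAE, hA, hAc⟩ := h.toPre.exists_plane_compl hH hE₀ h1
      obtain ⟨⟨-, hline⟩, -, -⟩ := h.s1418 H hH E₀ hE₀ t h1 A ⟨hAE, hA, hAc⟩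
      have hYA : Y ≤ A := hline Y ((hYX.trans le_sup_left).trans hle) hYc
      exact hY1 (le_bot_iff.1 ((le_inf hYX
        (hYA.trans (hplane h1 htM hE₀ (le_sup_right.trans hle) hAE hA hAc))).trans hfX.le))
    · exact Set.eq_empty_iff_forall_notMem.1 hκH t
        (h.toPre.kappa_of_fixed hH (Or.inr h1) (hY.trans hUH) hYc hYfix)
  have hUHσ : U ≤ sigmaCore H := h.toPre.le_sigmaCore hH hUH hUσ
  have hKn : K ≤ normalizer (sigmaCore H : Set G) := hKH.trans (le_normalizer_piCoreOf _ _)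
  -- `M ∩ H = U K`
  have hbotσ : sigmaCore M ⊓ sigmaCore H = ⊥ :=
    inf_eq_bot_of_isPi (isPi_piCoreOf (sigma M) M) (isPi_piCoreOf (sigma H) H) fun t _ h1 h2 => hσMH h1 h2
  have hMH : M ⊓ H = U ⊔ K := by
    refine le_antisymm ?_ (le_inf hE.1 hEH)
    rintro g ⟨hgM, hgH⟩
    obtain ⟨e, he, s, hs, rfl⟩ := hE.2.2.2 g hgM
    have hsH : s ∈ H := by simpa using H.mul_mem (H.inv_mem (hEH he)) hgH
    have hsU : s ∈ centralizer (U : Set G) := mem_centralizer_iff.2 fun u hu => by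
      have h1 : u * s * u⁻¹ * s⁻¹ ∈ sigmaCore M ⊓ sigmaCore H := by
        refine ⟨(sigmaCore M).mul_mem ((mem_normalizer_iff.1 (le_normalizer_piCoreOf (sigma M) M (hUh.1 hu)) s).1 hs)
          ((sigmaCore M).inv_mem hs), ?_⟩
        rw [show u * s * u⁻¹ * s⁻¹ = u * (s * u⁻¹ * s⁻¹) by group]
        exact (sigmaCore H).mul_mem (hUHσ hu)
          ((mem_normalizer_iff.1 (le_normalizer_piCoreOf (sigma H) H hsH) _).1 ((sigmaCore H).inv_mem (hUHσ hu)))
      rw [hbotσ, mem_bot, mul_inv_eq_one, mul_inv_eq_iff_eq_mul] at h1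
      exact h1
    have hs1 : s = 1 := mem_bot.1 ((h.U_fixed_bot hM hKU hU1).1.le ⟨hs, hsU⟩)
    rw [hs1, mul_one]
    exact he
  -- `N_H(U) ⊄ M`
  have hnil : Group.IsNilpotent (sigmaCore H) := by
    refine CfsgLib.OddLocal.isNilpotent_of_fpf_normalized hKp (k := k) (hKn hkmem)
      (by rw [← orderOf_dvd_iff_pow_eq_one]; exact K.orderOf_dvd_natCard hkmem) fun x hx hxk => ?_
    refine mem_bot.1 (hfixH.le ⟨hx, ?_⟩)
    show x ∈ centralizer _
    rw [← hkK, centralizer_zpowers, mem_centralizer_singleton_iff]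
    exact hxk
  have hNU : ¬ H ⊓ normalizer (U : Set G) ≤ M := by
    intro hle
    have := hnil
    have hlt : U.subgroupOf (sigmaCore H) = ⊤ := by
      refine normalizerCondition_iff_only_full_group_self_normalizing.1
        Group.normalizerCondition_of_isNilpotent _ (le_antisymm ?_ le_normalizer)
      intro x hx
      have hxN : (x : G) ∈ normalizer (U : Set G) := by
        refine CfsgLib.Solvable.mem_normalizer_of_conj_mem fun u hu => ?_
        exact (mem_normalizer_iff.1 hx ⟨u, hUHσ hu⟩).1 hu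
      have hxH : (x : G) ∈ H := piCoreOf_le (sigma H) H x.2
      obtain ⟨a, ha, b, hb, hab⟩ := eq_mul_of_mem_sup hKU.normal
        (hMH.le ⟨hle ⟨hxH, hxN⟩, hxH⟩ : (x : G) ∈ U ⊔ K)
      have hbσ : b ∈ K ⊓ sigmaCore H := ⟨hb, by
        simpa [hab] using (sigmaCore H).mul_mem ((sigmaCore H).inv_mem (hUHσ ha)) x.2⟩
      rw [sigmaCore_def, inf_eq_bot_of_isPi hKπ (isPi_piCoreOf (sigma H) H) fun _ _ h1 h2 => h1 h2, mem_bot] at hbσ
      show (x : G) ∈ U
      rw [hab, hbσ, mul_one]; exact ha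
    have hUeq : sigmaCore H ≤ U := subgroupOf_eq_top.1 hlt
    have heq : U = sigmaCore H := le_antisymm hUHσ hUeq
    have hHN : H ≤ normalizer (U : Set G) := heq ▸ le_normalizer_piCoreOf (sigma H) H
    have : H ≤ M := (le_inf le_rfl hHN).trans hle
    exact hneM 1 (by
      rw [map_one, one_smul]
      exact ((hH.le_iff_eq hM.1).1 this).symm)
  -- `H ∩ M*`
  have hbotHL : sigmaCore H ⊓ L = ⊥ := by
    refine le_bot_iff.1 fun w hw => hfixH.le ⟨hw.1, mem_centralizer_iff.2 fun c hc => ?_⟩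
    have hcσ : c ∈ sigmaCore L := hd.le_sigmaCore hc
    have h1 : c * w * c⁻¹ * w⁻¹ ∈ sigmaCore H ⊓ sigmaCore L := by
      refine ⟨(sigmaCore H).mul_mem ((mem_normalizer_iff.1 (hKn hc) w).1 hw.1) ((sigmaCore H).inv_mem hw.1), ?_⟩
      rw [show c * w * c⁻¹ * w⁻¹ = c * (w * c⁻¹ * w⁻¹) by group]
      exact (sigmaCore L).mul_mem hcσ
        ((mem_normalizer_iff.1 (le_normalizer_piCoreOf (sigma L) L hw.2) _).1 ((sigmaCore L).inv_mem hcσ))
    rw [sigmaCore_def, sigmaCore_def, inf_eq_bot_of_isPi (isPi_piCoreOf (sigma H) H)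
      (isPi_piCoreOf (sigma L) L) (fun t _ h1 h2 => hσLH h2 h1), mem_bot, mul_inv_eq_one,
      mul_inv_eq_iff_eq_mul] at h1
    exact h1
  obtain ⟨EH, hEH', hKEH⟩ := h.toPre.exists_compl_ge hH hKH hKπ
  have hpHd : p ∣ Nat.card H := card_dvd_of_le hKH
  have hkey : EH ≤ L ∧ K ≤ fittingOf EH := by
    rcases h.toPre.tau_cases hH hKp hpHd hpH with h1 | h1 | h1
    · -- `p ∈ τ₁(H)`: `K` centralises `E'`
      have hD : ⁅EH, EH⁆ ≤ centralizer (K : Set G) := by
        have hDn : EH ≤ normalizer ((⁅EH, EH⁆ : Subgroup G) : Set G) := commutator_normal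
        have hDab : IsMulCommutative ↥⁅EH, EH⁆ := (h.s1420 H hH EH hEH').2.1
        have hDπ : IsPi {t | t ∉ sigma H} ⁅EH, EH⁆ :=
          IsPi.of_le (h.toPre.compl_isPi hH hEH') (commutator_le_self _)
        set S := ⁅⁅EH, EH⁆, K⁆ with hS
        have hKD : K ≤ normalizer ((⁅EH, EH⁆ : Subgroup G) : Set G) := hKEH.trans hDn
        have hSD : S ≤ ⁅EH, EH⁆ := CfsgLib.Solvable.commutator_le_of_le_normalizer hKD
        have hcop : (Nat.card K).Coprime (Nat.card ↥⁅EH, EH⁆) := hKp.coprime_iff_not_dvd.2 fun hdd =>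
          h1.2.2.2.1 (hdd.trans (card_dvd_of_le (commutator_mono hEH'.1 hEH'.1)))
        have hSf : S ⊓ centralizer (K : Set G) = ⊥ := by
          rw [eq_bot_iff, ← CfsgLib.Solvable.inf_centralizer_inf_commutator K ⁅EH, EH⁆ hKD hcop]
          exact fun z hz => ⟨⟨hSD hz.1, hz.2⟩, hz.1⟩
        have hSH : S ≤ H := (hSD.trans (commutator_le_self _)).trans hEH'.1
        have hScen := h.centralizes_core_of_fpf hH hSH hKH hKp
          (CfsgLib.Solvable.le_normalizer_commutator_right hKD) (IsPi.of_le hDπ hSD) hKπ hSf hfixH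
        refine commutator_eq_bot_iff_le_centralizer.1 ?_
        by_contra hne
        obtain ⟨t, Y, ht, hY, hYc⟩ := exists_prime_subgroup hne
        have : Fact t.Prime := ⟨ht⟩
        have hYH : Y ≤ H := hY.trans hSH
        have htH : t ∉ sigma H := hDπ t ht ((dvd_of_eq hYc.symm).trans (card_dvd_of_le (hY.trans hSD)))
        have hYfix : sigmaCore H ⊓ centralizer (Y : Set G) ≠ ⊥ := by
          rw [inf_eq_left.2 (le_centralizer_iff.1 (hY.trans hScen))]
          exact h.toPre.sigmaCore_ne_bot hH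
        rcases h.toPre.tau_cases hH ht ((dvd_of_eq hYc.symm).trans (card_dvd_of_le hYH)) htH with h2 | h2 | h2
        · exact Set.eq_empty_iff_forall_notMem.1 hκH t (h.toPre.kappa_of_fixed hH (Or.inl h2) hYH hYc hYfix)
        · obtain ⟨A, hAE, hA, hAc⟩ := h.toPre.exists_plane_compl hH hEH' h2
          obtain ⟨⟨-, hline⟩, -, -⟩ := h.s1418 H hH EH hEH' t h2 A ⟨hAE, hA, hAc⟩
          have htM : t ∉ sigma M := fun hc =>
            (h.s1408 H hH t h2.2.1 h2.2.2.1 h2.2.2.2).1 (h.sigma_subset_beta hM hKU hK1 hU1 hc).2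
          exact ne_bot_of_card ht hYc (le_bot_iff.1 ((le_inf hY ((hline Y (hY.trans (hSD.trans
            (commutator_le_self _))) hYc).trans (hplane h2 htM hEH' hKEH hAE hA hAc))).trans hSf.le))
        · exact Set.eq_empty_iff_forall_notMem.1 hκH t (h.toPre.kappa_of_fixed hH (Or.inr h2) hYH hYc hYfix)
      have hSyl : IsPiHallOf {p} K (K ⊔ ⁅EH, EH⁆) := by
        refine ⟨le_sup_left, isPi_singleton_of_isPGroup hpπ, fun t ht htp hd' => ?_⟩
        rw [Set.mem_singleton_iff.1 htp] at hd'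
        refine h1.2.2.2.1 ((hd'.trans ?_).trans (card_dvd_of_le (commutator_mono hEH'.1 hEH'.1)))
        rw [sup_comm, CfsgLib.PGroup.relIndex_normalizing_sup
          (hKEH.trans commutator_normal : K ≤ normalizer ((⁅EH, EH⁆ : Subgroup G) : Set G))]
        exact relIndex_dvd_card _ _
      have hn : EH ≤ normalizer ((K ⊔ ⁅EH, EH⁆ : Subgroup G) : Set G) := fun e he =>
        CfsgLib.Solvable.mem_normalizer_iff_conj_smul.2 (eq_of_le_of_card_ge (by
          intro z hz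
          have hz' := mem_conj_smul_iff.1 hz
          have h3 : (e⁻¹ * z * e)⁻¹ * z ∈ ⁅EH, EH⁆ := by
            have hzE : e⁻¹ * z * e ∈ EH := (sup_le hKEH (commutator_le_self EH)) hz'
            have hzE' : z ∈ EH := by
              have := EH.mul_mem (EH.mul_mem he hzE) (EH.inv_mem he)
              simpa [mul_assoc] using this
            have := commutator_mem_commutator (EH.inv_mem he) (EH.inv_mem hzE')
            rw [commutatorElement_def] at this
            simpa [mul_assoc] using this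
          rw [show z = (e⁻¹ * z * e) * ((e⁻¹ * z * e)⁻¹ * z) by group]
          exact Subgroup.mul_mem _ hz' (mem_sup_right h3)) (card_conj_smul e _).ge)
      have hKn' : K ⊔ ⁅EH, EH⁆ ≤ normalizer (K : Set G) :=
        sup_le le_normalizer (hD.trans (centralizer_le_normalizer _))
      have hnK : EH ≤ normalizer (K : Set G) := fun e he =>
        CfsgLib.Solvable.mem_normalizer_iff_conj_smul.2 (eq_of_le_of_card_ge
          (le_of_normal_hallOf hSyl hKn' ((conj_smul_mono e le_sup_left).trans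
            (conj_smul_self_of_mem_normalizer (hn he)).le) (IsPi.conj hSyl.2.1 e))
          (card_conj_smul e K).ge)
      exact ⟨hnK.trans (h.dual_normalizer_le hM hK hK1 hd le_rfl hKp),
        le_fittingOf hKEH hnK (isPGroup_of_card rfl : IsPGroup p K).isNilpotent⟩
    · obtain ⟨A, hAE, hA, hAc⟩ := h.toPre.exists_plane_compl hH hEH' h1
      obtain ⟨⟨hEA, hline⟩, -, -⟩ := h.s1418 H hH EH hEH' p h1 A ⟨hAE, hA, hAc⟩
      have hA1 : A ≠ ⊥ := fun e => hK1 (le_bot_iff.1 (e ▸ hline K hKEH rfl))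
      obtain ⟨L', hL', hNA⟩ := h.toPre.exists_maximal_normalizer hH (hAE.trans hEH'.1) hA1
      obtain ⟨hpL', -, -⟩ := h.tau2_plane_normalizer hH h1 (hAE.trans hEH'.1) hA hAc hL' hNA
      obtain ⟨g, hg⟩ : ∃ g : G, L' = MulAut.conj g • L := by
        by_contra hno
        push Not at hno
        exact h.not_sigma_inter hd.1 hL' hno hpL hpL'
      obtain rfl : L' = L := h.toPre.eq_of_conj hd.1 hpL hpπ hK1 hKL ((hKEH.trans hEA).trans hNA) hCK hg
      exact ⟨hEA.trans hNA, (hline K hKEH rfl).trans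
        (le_fittingOf hAE hEA (CfsgLib.PGroup.elemAb_isPGroup hA).isNilpotent)⟩
    · obtain ⟨E₃, hE₃, hKE₃⟩ := exists_hallOf_ge (h.toPre.isSolvable_le hH hEH'.1) hKEH
        (IsPi.mono (isPi_singleton_of_isPGroup hpπ) (by rintro t rfl; exact h1) : IsPi (tau3 H) K)
      obtain ⟨hc, -, hn⟩ := (h.s1415 H hH EH hEH').2.2 E₃ hE₃
      have hnK : EH ≤ normalizer (K : Set G) := fun e he =>
        CfsgLib.Solvable.mem_normalizer_iff_conj_smul.2 (eq_of_cyclic_card hc
          ((conj_smul_mono e hKE₃).trans (conj_smul_self_of_mem_normalizer (hn he)).le) hKE₃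
          (card_conj_smul e K))
      exact ⟨hnK.trans (h.dual_normalizer_le hM hK hK1 hd le_rfl hKp),
        le_fittingOf hKEH hnK (isPGroup_of_card rfl : IsPGroup p K).isNilpotent⟩
  have hHL' : H ⊓ L = EH := by
    refine le_antisymm ?_ (le_inf hEH'.1 hkey.1)
    rintro g ⟨hgH, hgL⟩
    obtain ⟨e, he, s, hs, rfl⟩ := hEH'.2.2.2 g hgH
    have hs1 : s = 1 := mem_bot.1 (hbotHL.le ⟨hs, by simpa using L.mul_mem (L.inv_mem (hkey.1 he)) hgL⟩)
    rw [hs1, mul_one]
    exact he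
  exact ⟨hκH, hUHσ, hMH, hNU, hHL'.symm ▸ hkey.2, hHL'.symm ▸ hEH'⟩

end CfsgLib.OddLocal.Sec13
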