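import Cfsg.Agent.Lib.OddLocal.Sec14Main

/-!
BG Lemma 14.13 (S1436): primes of the supporting subgroup and conjugacy of supporting subgroups.
-/

set_option autoImplicit false
set_option linter.unusedSectionVars false

open scoped Pointwise

namespace CfsgLib.OddLocal.Sec13

open Cfsg Subgroup
open scoped commutatorElement
open CfsgLib.Solvable (conj_smul_le_iff mem_conj_smul_iff card_conj_smul conj_smul_conj_smul
  conj_smul_mono conj_smul_self_of_mem_normalizer conj_smul_eq_map)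

universe u
variable {G : Type u} [Group G] [Finite G]

section Pre
variable (h : Pre G)
include h

/-- If `X` of `t`-power order acts nontrivially on `M_σ`'s normal Sylow `q`-subgroup, `q ∉ β(M)`,
then `t ≤ q`. -/
theorem Pre.prime_le_of_action {M X : Subgroup G} (hM : IsCoatom M) {t q : ℕ} [ht : Fact t.Prime]
    [hq' : Fact q.Prime] (hX : IsPGroup t X) (hXM : X ≤ M) (hq : q ∈ sigma M) (hqβ : q ∉ beta M)
    (hnil : Group.IsNilpotent (sigmaCore M))
    (hfix : sigmaCore M ⊓ centralizer (X : Set G) = ⊥) : t ≤ q := by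
  obtain ⟨S, hS⟩ := exists_sylowOf (sigmaCore M) q
  have hqMσ : q ∣ Nat.card (sigmaCore M) := dvd_card_of_hallOf (h.sigmaCore_hall hM) hq'.out hq hq.2.1
  have hSn' : sigmaCore M ≤ normalizer (S : Set G) := le_normalizer_of_hall_of_nilpotent hnil hS.1
    (Nat.coprime_of_dvd fun r hr h1 h2 => hS.2.2 r hr (hS.2.1 r hr h1) h2)
  have hSn : M ≤ normalizer (S : Set G) := fun m hm =>
    CfsgLib.Solvable.mem_normalizer_iff_conj_smul.2 (eq_of_le_of_card_ge
      (le_of_normal_hallOf hS hSn' ((conj_smul_mono m hS.1).trans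
        (conj_smul_self_of_mem_normalizer (le_normalizer_piCoreOf (sigma M) M hm)).le) (IsPi.conj hS.2.1 m))
      (card_conj_smul m S).ge)
  have hSM : S ≤ M := hS.1.trans (piCoreOf_le _ _)
  set O := (pPrimeCore q M).map M.subtype with hO
  have hOn : M ≤ normalizer (O : Set G) := le_normalizer_map_subtype M _
  have hOS : O ≤ centralizer (S : Set G) := by
    intro o ho
    refine mem_centralizer_iff.2 fun s hs => ?_
    have h1 : o * s * o⁻¹ * s⁻¹ ∈ O ⊓ S := by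
      refine ⟨?_, S.mul_mem ((mem_normalizer_iff.1 (hSn (map_subtype_le _ ho)) s).1 hs) (S.inv_mem hs)⟩
      rw [show o * s * o⁻¹ * s⁻¹ = o * (s * o⁻¹ * s⁻¹) by group]
      exact O.mul_mem ho ((mem_normalizer_iff.1 (hOn (hSM hs)) _).1 (O.inv_mem ho))
    rw [inf_eq_bot_of_isPi (π := {r | r ≠ q}) (π' := {q}) (fun r hr hd e => ?_) hS.2.1
      (fun r _ h1 h2 => h1 h2), mem_bot, mul_inv_eq_one, mul_inv_eq_iff_eq_mul] at h1
    · exact h1.symm
    · rw [hO, card_map_of_injective M.subtype_injective] at hd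
      exact (CfsgLib.Cores.not_dvd_card_pPrimeCore (G := M) q) (e ▸ hd)
  refine ((h.s1414 M hM).2.2.2.2 q hq'.out hq.2.1 hqβ).2.2 t ht.out ?_
  by_contra hno
  have hXO : X ≤ O := by
    have e : (pPrimeCore q M).index = O.relIndex M := by
      unfold Subgroup.relIndex
      rw [hO, Subgroup.subgroupOf, comap_map_eq_self_of_injective M.subtype_injective]
    refine le_of_normalized_coprime hOn hXM ?_
    rw [← e]
    obtain ⟨n, hn⟩ := IsPGroup.iff_card.1 hX
    rw [hn]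
    exact (ht.out.coprime_iff_not_dvd.2 hno).pow_left n
  have hS1 : S = ⊥ := le_bot_iff.1 ((le_inf hS.1 (le_centralizer_iff.1 (hXO.trans hOS))).trans hfix.le)
  have := dvd_card_of_hallOf hS hq'.out rfl hqMσ
  rw [hS1, Subgroup.card_bot] at this
  exact hq'.out.not_dvd_one this

end Pre

variable (h : Pre' G)
include h

/-- `σ(N)` avoids `τ₂(M)` for a maximal subgroup `N` with some `q ∈ τ₂(N) ∩ σ(M) ∖ β(M)`. -/
theorem Pre'.not_tau2_of_supporting {M N : Subgroup G} (hM : IsCoatom M) (hN : IsCoatom N) {q t : ℕ}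
    (hq : q ∈ sigma M) (hqβ : q ∉ beta M) (hq2 : q ∈ tau2 N) (ht : t ∈ sigma N) : t ∉ tau2 M := by
  intro ht2
  have : Fact q.Prime := ⟨hq.1⟩
  have : Fact t.Prime := ⟨ht.1⟩
  obtain ⟨S, hS⟩ := exists_sylowOf M t
  obtain ⟨A, hAS, hA, hAc⟩ := h.toPre.exists_elementary_tau2 hM ht2 hS
  obtain ⟨hnilM, -, -, hfixA, -⟩ := h.s1417 M hM t ht2 A ⟨hAS.trans hS.1, hA, hAc⟩
  have h1 : t ≤ q := h.toPre.prime_le_of_action hM (CfsgLib.PGroup.elemAb_isPGroup hA) (hAS.trans hS.1)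
    hq hqβ hnilM hfixA
  obtain ⟨S', hS'⟩ := exists_sylowOf N q
  obtain ⟨A', hA'S, hA', hA'c⟩ := h.toPre.exists_elementary_tau2 hN hq2 hS'
  obtain ⟨hnilN, -, -, hfixA', -⟩ := h.s1417 N hN q hq2 A' ⟨hA'S.trans hS'.1, hA', hA'c⟩
  have htβ : t ∉ beta N := fun hb => (h.s1408 M hM t ht2.2.1 ht2.2.2.1 ht2.2.2.2).1 hb.2
  have h2 : q ≤ t := h.toPre.prime_le_of_action hN (CfsgLib.PGroup.elemAb_isPGroup hA')
    (hA'S.trans hS'.1) ht htβ hnilN hfixA'
  exact ht2.2.1 (le_antisymm h2 h1 ▸ hq)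

/-- S1436(a), `κ`: a prime of `σ(N)` in `π(M)` forces `κ(M) = ∅`. -/
theorem Pre'.kappa_empty_of_supporting {M N : Subgroup G} (hM : IsCoatom M) (hN : IsCoatom N) {x : G}
    (hx : x ∈ sigmaCore M) (hx1 : x ≠ 1) (hxM : ¬ centralizer ({x} : Set G) ≤ M)
    (hxN : centralizer ({x} : Set G) ≤ N) {s : ℕ} (hs : s ∈ sigma N) (hsM : s ∣ Nat.card M) :
    kappa M = ∅ := by
  refine Set.eq_empty_iff_forall_notMem.2 fun r hr => ?_
  obtain ⟨N', -, -, huN, hne, hτ, hE, hbot, -⟩ := h.supporting_maximal hM hx hx1 hxM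
  obtain rfl := huN N hN hxN
  obtain ⟨K, hK⟩ := CfsgLib.PGroup.exists_isPiHallOf (kappa M) M (h.toPre.isSolvable hM.1)
  have hK1 : K ≠ ⊥ := fun e => by
    have := dvd_card_of_hallOf hK hr.1 hr hr.2.1
    rw [e, Subgroup.card_bot] at this
    exact hr.1.not_dvd_one this
  obtain ⟨U, hU⟩ := h.exists_decomposition_of_cyclic hM (h.kappaHall_cyclic hM hK) hK
  have hU1 : U = ⊥ := by
    by_contra hU1
    exact hxM (h.centralizer_le_of_U hM hU hK1 hU1 hx hx1)
  have hsσ : s ∉ sigma M := fun hc => h.not_sigma_inter hM hN hne hc hs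
  have : Fact s.Prime := ⟨hs.1⟩
  have hsκ : s ∈ kappa M := by
    by_contra hc
    have := dvd_card_of_hallOf (S15.isPiHallOf_U h.toPre.hyp1350 hM hU) hs.1 ⟨hs.1, hc, hsσ⟩ hsM
    rw [hU1, Subgroup.card_bot] at this
    exact hs.1.not_dvd_one this
  -- the dual is conjugate to `N`
  obtain ⟨L, hd⟩ := h.exists_dual hM hK hK1
  obtain ⟨X, hX, hXc⟩ := exists_order_prime_le (dvd_card_of_hallOf hK hs.1 hsκ hsM)
  have hsL : s ∈ sigma L := isPi_piCoreOf (sigma L) L s hs.1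
    ((dvd_of_eq hXc.symm).trans (card_dvd_of_le (hX.trans hd.le_sigmaCore)))
  obtain ⟨c, rfl⟩ : ∃ c, L = MulAut.conj c • N := by
    by_contra hno
    push Not at hno
    exact h.not_sigma_inter hN hd.1 hno hs hsL
  -- a prime `ℓ ∈ σ(M) ∩ κ(N)`
  obtain ⟨ℓ, Z, hℓ, hZ, hZc⟩ := exists_prime_subgroup (h.kstar_ne_bot hM hK hK1)
  have : Fact ℓ.Prime := ⟨hℓ⟩
  have hℓκ := hd.2.2.2.1 ℓ hℓ ((dvd_of_eq hZc.symm).trans (card_dvd_of_le hZ))
  have hℓM : ℓ ∈ sigma M := isPi_piCoreOf (sigma M) M ℓ hℓ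
    ((dvd_of_eq hZc.symm).trans (card_dvd_of_le (hZ.trans inf_le_left)))
  have hℓN : ℓ ∈ kappa N := by
    obtain ⟨h13, P, hP, hPc, hfix⟩ := (h.toPre.mem_kappa_iff hd.1).1 hℓκ
    have hP' : MulAut.conj c⁻¹ • P ≤ N := (conj_smul_mono c⁻¹ hP).trans (conj_smul_inv_self c N).le
    have hfix' : sigmaCore N ⊓ centralizer ((MulAut.conj c⁻¹ • P : Subgroup G) : Set G) ≠ ⊥ := by
      obtain ⟨w, hw, hw1⟩ := (bot_or_exists_ne_one _).resolve_left hfix
      have hw' : c⁻¹ * w * c ∈ sigmaCore N ⊓ centralizer ((MulAut.conj c⁻¹ • P : Subgroup G) : Set G) := by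
        refine ⟨?_, mem_centralizer_iff.2 fun z hz => ?_⟩
        · have := hw.1
          rw [sigmaCore_conj] at this
          exact mem_conj_smul_iff.1 this
        · have h1 := mem_centralizer_iff.1 hw.2 _ (mem_conj_smul_iff.1 hz)
          rw [inv_inv] at h1
          calc z * (c⁻¹ * w * c) = c⁻¹ * ((c * z * c⁻¹) * w) * c := by group
            _ = c⁻¹ * w * c * z := by rw [h1]; group
      intro e
      rw [e, mem_bot] at hw'
      exact hw1 (by rw [show w = c * (c⁻¹ * w * c) * c⁻¹ by group, hw']; group)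
    have hσ : ℓ ∉ sigma N := sigma_conj c N ▸ hℓκ.2.2.1
    have hd' : ℓ ∣ Nat.card N := card_conj_smul c N ▸ hℓκ.2.1
    rcases h.toPre.tau_cases hN hℓ hd' hσ with h1 | h1 | h1
    · exact h.toPre.kappa_of_fixed hN (Or.inl h1) hP' (by rw [card_conj_smul, hPc]) hfix'
    · exact absurd (conj_smul_inv_self c N ▸ pRankLE_conj h13.rank c⁻¹) h1.2.2.2
    · exact h.toPre.kappa_of_fixed hN (Or.inr h1) hP' (by rw [card_conj_smul, hPc]) hfix'
  -- its Hall subgroup in `M ∩ N` centralises a plane for the primes of `x`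
  obtain ⟨q, hq, hqd⟩ := exists_prime_orderOf hx1
  have : Fact q.Prime := ⟨hq⟩
  obtain ⟨hq2, hqβ⟩ := hτ q hq hqd
  obtain ⟨A, hAE, hA, hAc⟩ := h.toPre.exists_plane_compl hN hE hq2
  obtain ⟨⟨hEA, -⟩, -, -⟩ := h.s1418 N hN _ hE q hq2 A ⟨hAE, hA, hAc⟩
  obtain ⟨Y, hY, hYc⟩ := exists_order_prime_le
    (dvd_card_of_hallOf (h.toPre.compl_hall hN hE) hℓ hℓN.2.2.1 hℓN.2.1)
  obtain ⟨K₀, hK₀E, hYK₀⟩ := exists_hallOf_ge (h.toPre.isSolvable_le hN hE.1) hY
    (IsPi.mono (isPi_singleton_of_isPGroup (isPGroup_of_card hYc)) (by rintro z rfl; exact hℓN) : IsPi (kappa N) Y)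
  have hK₀ : IsPiHallOf (kappa N) K₀ N := CfsgLib.PGroup.isPiHallOf_trans hK₀E hE.1
    fun z hz hzκ hzd => (h.toPre.compl_hall hN hE).2.2 z hz hzκ.2.2.1 hzd
  have hK₀1 : K₀ ≠ ⊥ := fun e => ne_bot_of_card hℓ hYc (le_bot_iff.1 (e ▸ hYK₀))
  obtain ⟨-, -, hn, -⟩ := h.kappa_struct hN hE hK₀ hK₀E.1 hK₀1
  have hYM : Y ≤ ⁅M, M⁆ := (h.toPre.le_sigmaCore hM (hY.trans inf_le_left)
    (IsPi.mono (isPi_singleton_of_isPGroup (isPGroup_of_card hYc)) (by rintro z rfl; exact hℓM))).trans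
    (h.toPre.sigmaCore_le_commutator hM)
  have hℓq : ℓ ≠ q := fun e => hq2.2.2.2 ((h.toPre.kappa_tau13 hN (e ▸ hℓN : q ∈ kappa N)).rank)
  have hcen := h.toPre.centralizes_of_le_derived hM hℓq hYM (hAE.trans inf_le_left) (isPGroup_of_card hYc)
    (CfsgLib.PGroup.elemAb_isPGroup hA) (hY.trans hEA) hqβ
  have hAK : A ≤ K₀ := (le_inf hAE ((le_centralizer_iff.1 hcen).trans (centralizer_le_normalizer _))).trans
    (hn Y hYK₀ (hYc.symm ▸ hℓ)).2
  have hqκ : q ∈ kappa N := hK₀.2.1 q hq (((dvd_pow_self q two_ne_zero).trans (dvd_of_eq hAc.symm)).trans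
    (card_dvd_of_le hAK))
  exact hq2.2.2.2 (h.toPre.kappa_tau13 hN hqκ).rank

/-- S1436(a). -/
theorem Pre'.supporting_primes {M N : Subgroup G} (hM : IsCoatom M) (hN : IsCoatom N) {x : G}
    (hx : x ∈ sigmaCore M) (hx1 : x ≠ 1) (hxM : ¬ centralizer ({x} : Set G) ≤ M)
    (hxN : centralizer ({x} : Set G) ≤ N) {s : ℕ} (hs : s ∈ sigma N) (hsM : s ∣ Nat.card M) :
    kappa M = ∅ ∧ tau2 M = ∅ := by
  have hκ := h.kappa_empty_of_supporting hM hN hx hx1 hxM hxN hs hsM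
  refine ⟨hκ, Set.eq_empty_iff_forall_notMem.2 fun t ht2 => ?_⟩
  obtain ⟨N', -, -, huN, hne, hτ, hE, hbot, -⟩ := h.supporting_maximal hM hx hx1 hxM
  obtain rfl := huN N hN hxN
  obtain ⟨q, hq, hqd⟩ := exists_prime_orderOf hx1
  have : Fact q.Prime := ⟨hq⟩
  obtain ⟨hq2, hqβ⟩ := hτ q hq hqd
  have hqM : q ∈ sigma M := sigmaCore_orderOf hx hq hqd
  have : Fact s.Prime := ⟨hs.1⟩
  have : Fact t.Prime := ⟨ht2.1⟩
  have hsσ : s ∉ sigma M := fun hc => h.not_sigma_inter hM hN hne hc hs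
  have hs2 : s ∉ tau2 M := h.not_tau2_of_supporting hM hN hqM hqβ hq2 hs
  have hs13 : IsTau13 M s := by
    rcases h.toPre.tau_cases hM hs.1 hsM hsσ with h1 | h1 | h1
    exacts [Or.inl h1, absurd h1 hs2, Or.inr h1]
  obtain ⟨E, hE'⟩ := h.toPre.exists_compl hM
  obtain ⟨A, hAE, hA, hAc⟩ := h.toPre.exists_plane_compl hM hE' ht2
  obtain ⟨hnilM, -, -, hfixA, -⟩ := h.s1417 M hM t ht2 A ⟨hAE.trans hE'.1, hA, hAc⟩
  obtain ⟨⟨hEA, -⟩, -, huni⟩ := h.s1418 M hM E hE' t ht2 A ⟨hAE, hA, hAc⟩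
  obtain ⟨Y, hYE, hYc⟩ := exists_order_prime_le
    (dvd_card_of_hallOf (h.toPre.compl_hall hM hE') hs.1 hsσ hsM)
  have hYM : Y ≤ M := hYE.trans hE'.1
  have hfixY : sigmaCore M ⊓ centralizer (Y : Set G) = ⊥ := by
    by_contra hne'
    exact Set.eq_empty_iff_forall_notMem.1 hκ s (h.toPre.kappa_of_fixed hM hs13 hYM hYc hne')
  -- `s` is ideal
  have hsβ : s ∈ beta N := by
    by_contra hβ
    have h1 : s ≤ q := h.toPre.prime_le_of_action hM (isPGroup_of_card hYc) hYM hqM hqβ hnilM hfixY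
    obtain ⟨A', hA'E, hA', hA'c⟩ := h.toPre.exists_plane_compl hN hE hq2
    obtain ⟨hnilN, -, -, hfixA', -⟩ := h.s1417 N hN q hq2 A' ⟨hA'E.trans hE.1, hA', hA'c⟩
    have h2 : q ≤ s := h.toPre.prime_le_of_action hN (CfsgLib.PGroup.elemAb_isPGroup hA')
      (hA'E.trans hE.1) hs hβ hnilN hfixA'
    exact hsσ (le_antisymm h1 h2 ▸ hqM)
  obtain ⟨L, hL, hNY⟩ := h.toPre.exists_maximal_normalizer hM hYM (ne_bot_of_card hs.1 hYc)
  have hsL : s ∈ sigma L := by
    by_contra hc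
    exact (h.s1409 L hL s hc Y hYc hNY).2.1 hsβ.2
  obtain ⟨c, rfl⟩ : ∃ c, L = MulAut.conj c • N := by
    by_contra hno
    push Not at hno
    exact h.not_sigma_inter hN hL hno hs hsL
  have hYL : Y ≤ MulAut.conj c • N := le_normalizer.trans hNY
  have hYLσ : Y ≤ sigmaCore (MulAut.conj c • N) := h.toPre.le_sigmaCore hL hYL
    (IsPi.mono (isPi_singleton_of_isPGroup (isPGroup_of_card hYc)) (by rintro z rfl; exact hsL))
  have hY1 : Y ≠ ⊥ := ne_bot_of_card hs.1 hYc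
  have htN : t ∉ sigma N := fun hc => h.not_tau2_of_supporting hM hN hqM hqβ hq2 hc ht2
  -- `Y` does not act without fixed points on a subgroup of `A` acting nontrivially on `M_σ`
  obtain ⟨y, hy1, hyo, hyY⟩ := exists_zpowers_of_card hs.1 hYc
  have hAM : A ≤ M := hAE.trans hE'.1
  have hAc' : IsMulCommutative A := hA.1
  have hYA : Y ≤ normalizer (A : Set G) := hYE.trans hEA
  have hcop : (Nat.card Y).Coprime (Nat.card A) := by
    rw [hYc, hAc]
    exact (((Nat.coprime_primes hs.1 ht2.1).2 fun e => hs2 (e ▸ ht2))).pow_right 2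
  have hcent : ∀ S : Subgroup G, S ≤ A → Y ≤ normalizer (S : Set G) → S ⊓ centralizer (Y : Set G) = ⊥ →
      S ≤ centralizer (sigmaCore M : Set G) := by
    intro S hSA hSn hfree
    refine h.toPre.centralizes_of_fixed (a := y) (h.toPre.isSolvable_le hM (piCoreOf_le _ _))
      (hyo.symm ▸ hs.1) (hSn (hyY ▸ mem_zpowers y)) ?_ ?_ ?_ fun w hw hwp hyw => ?_
    · rw [hyY]; exact (sup_le (hSA.trans hAM) hYM).trans (le_normalizer_piCoreOf _ _)
    · refine coprime_of_isPi (π := {r | r ∉ sigma M}) (fun r hr hd => ?_) (isPi_piCoreOf (sigma M) M)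
        fun r _ h1 h2 => h1 h2
      rw [hyY] at hd
      exact h.toPre.compl_isPi hM hE' r hr (hd.trans (card_dvd_of_le (sup_le (hSA.trans hAE) hYE)))
    · rw [← centralizer_zpowers, hyY]; exact hfree
    · exfalso
      refine Nat.not_prime_one ((?_ : w = 1) ▸ hwp |> fun e => by rwa [orderOf_one] at e)
      refine mem_bot.1 (hfixY.le ⟨hw, ?_⟩)
      show w ∈ centralizer _
      rw [← hyY, centralizer_zpowers]
      exact mem_centralizer_singleton_iff.2 hyw.symm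
  obtain ⟨B, hB, hBc⟩ : ∃ B ≤ A ⊓ centralizer (Y : Set G), Nat.card B = t := by
    refine exists_order_prime_le ?_
    refine (CfsgLib.PGroup.elemAb_isPGroup hA).to_le inf_le_left |> fun hp => dvd_card_of_isPGroup hp fun e => ?_
    exact h.toPre.sigmaCore_ne_bot hM (le_bot_iff.1 ((le_inf le_rfl
      (le_centralizer_iff.1 (hcent A le_rfl hYA e))).trans hfixA.le))
  have hBL : B ≤ MulAut.conj c • N :=
    ((hB.trans inf_le_right).trans (centralizer_le_normalizer _)).trans hNY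
  have hfixB : sigmaCore (MulAut.conj c • N) ⊓ centralizer (B : Set G) ≠ ⊥ := fun e =>
    hY1 (le_bot_iff.1 ((le_inf hYLσ (le_centralizer_iff.1 (hB.trans inf_le_right))).trans e.le))
  have htL : t ∉ sigma (MulAut.conj c • N) := by rwa [sigma_conj]
  have hAL : ∀ h1 : t ∈ tau2 (MulAut.conj c • N), False := by
    intro h1
    obtain ⟨E₀, hE₀, hBE₀⟩ := h.toPre.exists_compl_ge hL hBL
      (IsPi.mono (isPi_singleton_of_isPGroup (isPGroup_of_card hBc)) (by rintro z rfl; exact htL))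
    obtain ⟨A', hA'E, hA', hA'c⟩ := h.toPre.exists_plane_compl hL hE₀ h1
    obtain ⟨⟨-, hline⟩, -, huni'⟩ := h.s1418 _ hL E₀ hE₀ t h1 A' ⟨hA'E, hA', hA'c⟩
    have hAC : A ≤ centralizer (B : Set G) := fun a ha => mem_centralizer_iff.2 fun b hb =>
      congrArg Subtype.val (hAc'.is_comm.comm (⟨b, (hB hb).1⟩ : A) ⟨a, ha⟩)
    have hAL' := hAC.trans (huni' B (hline B hBE₀ hBc) hBc hfixB).1
    obtain ⟨-, -, -, -, he, -⟩ := h.s1417 _ hL t h1 A ⟨hAL', hA, hAc⟩
    have hne' : M ≠ MulAut.conj c • N := fun e => ne_conj_symm hne c e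
    exact hY1 (le_bot_iff.1 ((le_inf hYLσ hYM).trans (he M hM hne' hAM).le))
  have htL' : t ∈ kappa (MulAut.conj c • N) := by
    rcases h.toPre.tau_cases hL ht2.1 ((dvd_of_eq hBc.symm).trans (card_dvd_of_le hBL)) htL with h1 | h1 | h1
    · exact h.toPre.kappa_of_fixed hL (Or.inl h1) hBL hBc hfixB
    · exact (hAL h1).elim
    · exact h.toPre.kappa_of_fixed hL (Or.inr h1) hBL hBc hfixB
  have htNκ : t ∈ kappa N := by
    have hB' : MulAut.conj c⁻¹ • B ≤ N := (conj_smul_mono c⁻¹ hBL).trans (conj_smul_inv_self c N).le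
    have hfix' : sigmaCore N ⊓ centralizer ((MulAut.conj c⁻¹ • B : Subgroup G) : Set G) ≠ ⊥ := by
      have hYN : MulAut.conj c⁻¹ • Y ≤ sigmaCore N := by
        rw [sigmaCore_conj] at hYLσ
        exact (conj_smul_mono c⁻¹ hYLσ).trans (conj_smul_inv_self c _).le
      intro e
      refine hY1 (le_bot_iff.1 fun z hz => mem_bot.2 ?_)
      have h1 : c⁻¹ * z * c ∈ sigmaCore N ⊓ centralizer ((MulAut.conj c⁻¹ • B : Subgroup G) : Set G) := by
        refine ⟨hYN (mem_conj_smul_iff.2 (by simpa [mul_assoc] using hz)), mem_centralizer_iff.2 fun b hb => ?_⟩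
        have h2 := mem_centralizer_iff.1 ((hB (mem_conj_smul_iff.1 hb)).2) z hz
        rw [inv_inv] at h2
        calc b * (c⁻¹ * z * c) = c⁻¹ * ((c * b * c⁻¹) * z) * c := by group
          _ = c⁻¹ * z * c * b := by rw [← h2]; group
      rw [e, mem_bot] at h1
      rw [show z = c * (c⁻¹ * z * c) * c⁻¹ by group, h1]; group
    rcases h.toPre.tau_cases hN ht2.1 (card_conj_smul c N ▸ htL'.2.1) htN with h1 | h1 | h1
    · exact h.toPre.kappa_of_fixed hN (Or.inl h1) hB' (by rw [card_conj_smul, hBc]) hfix'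
    · exact absurd (conj_smul_inv_self c N ▸ pRankLE_conj (h.toPre.kappa_tau13 hL htL').rank c⁻¹) h1.2.2.2
    · exact h.toPre.kappa_of_fixed hN (Or.inr h1) hB' (by rw [card_conj_smul, hBc]) hfix'
  -- a line of `A` centralising `M_σ`
  have hYc' : Y ≤ normalizer ((⁅A, Y⁆ : Subgroup G) : Set G) :=
    CfsgLib.Solvable.le_normalizer_commutator_right hYA
  have hfree : ⁅A, Y⁆ ⊓ centralizer (Y : Set G) = ⊥ := by
    rw [eq_bot_iff, ← CfsgLib.Solvable.inf_centralizer_inf_commutator Y A hYA hcop]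
    exact fun z hz => ⟨⟨CfsgLib.Solvable.commutator_le_of_le_normalizer hYA hz.1, hz.2⟩, hz.1⟩
  have hAY : ⁅A, Y⁆ ≠ ⊥ := fun e => by
    have hAY' : A ≤ centralizer (Y : Set G) := commutator_eq_bot_iff_le_centralizer.1 e
    refine h.toPre.not_rank_one_of_plane ((hAY'.trans (centralizer_le_normalizer _)).trans hNY) hA hAc
      (h.toPre.kappa_tau13 hL htL').rank
  obtain ⟨A₁, hA₁, hA₁c⟩ := exists_order_prime_le (dvd_card_of_isPGroup
    ((CfsgLib.PGroup.elemAb_isPGroup hA).to_le (CfsgLib.Solvable.commutator_le_of_le_normalizer hYA)) hAY)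
  have hA₁σ : A₁ ≤ centralizer (sigmaCore M : Set G) :=
    hA₁.trans (hcent _ (CfsgLib.Solvable.commutator_le_of_le_normalizer hYA) hYc' hfree)
  have hA₁A : A₁ ≤ A := hA₁.trans (CfsgLib.Solvable.commutator_le_of_le_normalizer hYA)
  have hfix1 : sigmaCore M ⊓ centralizer (A₁ : Set G) ≠ ⊥ := by
    rw [inf_eq_left.2 (le_centralizer_iff.1 hA₁σ)]
    exact h.toPre.sigmaCore_ne_bot hM
  have hCM := (huni A₁ hA₁A hA₁c hfix1).1
  have hA₁N : A₁ ≤ N := fun a ha => hxN (mem_centralizer_singleton_iff.2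
    (mem_centralizer_iff.1 (hA₁σ ha) x hx).symm)
  refine h.toPre.fixed_ne_bot hN htNκ hA₁N hA₁c (le_bot_iff.1 ?_)
  exact (le_inf inf_le_left (inf_le_right.trans hCM)).trans hbot.le

/-- S1436(b). -/
theorem Pre'.supporting_conj {M N N' : Subgroup G} (hM : IsCoatom M) (hN : IsCoatom N) (hN' : IsCoatom N')
    {x y g : G} (hx : x ∈ sigmaCore M) (hx1 : x ≠ 1) (hxM : ¬ centralizer ({x} : Set G) ≤ M)
    (hxN : centralizer ({x} : Set G) ≤ N) (hy : y ∈ sigmaCore M) (hy1 : y ≠ 1)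
    (hyM : ¬ centralizer ({y} : Set G) ≤ M) (hyN : centralizer ({y} : Set G) ≤ N')
    (hg : MulAut.conj g • N' = N) : ∃ m ∈ M, MulAut.conj m • N' = N := by
  obtain ⟨N₁, -, -, huN, -, -, hE, -, -⟩ := h.supporting_maximal hM hx hx1 hxM
  obtain rfl := huN N hN hxN
  obtain ⟨N₂, -, -, huN', -, -, hE', -, -⟩ := h.supporting_maximal hM hy hy1 hyM
  obtain rfl := huN' N' hN' hyN
  have hH := h.toPre.compl_hall hN hE
  have hH' : IsPiHallOf {p | p ∉ sigma N} (MulAut.conj g • (M ⊓ N')) N := by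
    have h1 := hallOf_conj (h.toPre.compl_hall hN' hE') g
    rw [hg] at h1
    rwa [← hg, sigma_conj, hg]
  obtain ⟨n, hn, hle⟩ := exists_conj_le_hallOf (h.toPre.isSolvable hN.1) hH hH'.1 hH'.2.1
  have e : MulAut.conj n • MulAut.conj g • (M ⊓ N') = M ⊓ N := eq_of_le_of_card_ge hle (by
    rw [card_conj_smul]; exact (card_of_hallOf_eq (h.toPre.isSolvable hN.1) hH hH').le)
  rw [conj_smul_conj_smul] at e
  have hhN : MulAut.conj (n * g) • N' = N := by
    rw [← conj_smul_conj_smul, hg, conj_smul_self_of_mem_normalizer (le_normalizer hn)]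
  have hxM' : x ∈ MulAut.conj (n * g) • M := by
    have : x ∈ M ⊓ N := ⟨piCoreOf_le _ _ hx, hxN (mem_centralizer_singleton_self x)⟩
    rw [← e] at this
    exact conj_smul_mono _ inf_le_left this
  obtain ⟨r, hr, er⟩ := h.exists_support_conj hM hx hx1 hxM'
  have hrN : r ∈ N := by
    rcases hr with rfl | ⟨-, hc, -⟩
    · exact one_mem N
    · exact hxN hc
  refine ⟨r⁻¹ * (n * g), ?_, ?_⟩
  · rw [← h.toPre.normalizer_maximal hM]
    refine CfsgLib.Solvable.mem_normalizer_iff_conj_smul.2 ?_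
    rw [← conj_smul_conj_smul, er, conj_smul_inv_self]
  · rw [← conj_smul_conj_smul, hhN, conj_smul_self_of_mem_normalizer (le_normalizer (N.inv_mem hrN))]

end CfsgLib.OddLocal.Sec13
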