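import Cfsg.Agent.Lib.OddLocal.Sec14Iface
import Cfsg.Agent.Lib.OddLocal.Sec14Main
import Cfsg.Agent.Lib.OddLocal.Sec14Supporting
import Cfsg.Agent.Lib.OddLocal.Sec14Neighbour
import Cfsg.Agent.Lib.OddLocal.S16TypeP
import Cfsg.Agent.Lib.OddLocal.BG12All
import Cfsg.Agent.S1399
import Cfsg.Agent.S1453
import Cfsg.Agent.S1454

/-!
# The hypotheses of sections 15-16 from those of sections 13-14
-/

set_option autoImplicit false
set_option linter.unusedSectionVars false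

open scoped Pointwise commutatorElement

namespace CfsgLib.OddLocal.Sec13

open Cfsg Subgroup
open CfsgLib.Solvable (conj_smul_eq_map)

universe u
variable {G : Type u} [Group G] [Finite G] (h : Pre' G)
include h

theorem Pre'.hyp1351 : S15.Hyp1351 G := fun M hM =>
  ⟨CfsgLib.PGroup.exists_isPiHallOf (kappa M) M (h.toPre.isSolvable hM.1),
    fun _ hK => h.kappaHall_cyclic hM hK⟩

theorem Pre'.hyp1352 : S15.Hyp1352 G := fun M hM K hKc hK =>
  ⟨h.exists_decomposition_of_cyclic hM hKc hK, fun _ hU => decomposition_normal hU⟩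

theorem Pre'.hyp1353 : S15.Hyp1353 G := fun M hM K U hKU k hk hk1 =>
  (h.decomposition_struct hM hKU fun e => hk1 (mem_bot.1 (e ▸ hk))).2.2.2.1 k hk hk1

theorem Pre'.hyp1354 : S15.Hyp1354 G := by
  intro M hM K _ hK
  refine ⟨?_, fun _ k hk hk1 => h.centralizer_kappa hM hK hk hk1⟩
  rcases eq_or_ne K ⊥ with rfl | hK1
  · intro e
    refine h.toPre.sigmaCore_ne_bot hM (le_bot_iff.1 fun x hx => e ▸ ⟨hx, ?_⟩)
    exact mem_centralizer_iff.2 fun y hy => by simp [mem_bot.1 hy]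
  · exact h.kstar_ne_bot hM hK hK1

theorem Pre'.hyp1366 : S15.Hyp1366 G := by
  intro M hM K U hKU hK1
  obtain ⟨L, hd⟩ := h.exists_dual hM hKU.hall hK1
  exact ⟨L, hd, fun L' hd' => h.dual_eq hM hKU.hall hK1 hd hd'⟩

theorem Pre'.hyp1367 : S15.Hyp1367 G := by
  intro M hM K U hKU hK1 L hL h1 h2
  have hd : IsDual M K L := ⟨hL, h1, h2⟩
  refine ⟨fun X hX hXp => ?_, fun Y hY hYp => h.dual_unique_centralizer hM hKU.hall hK1 hd hY hYp⟩
  have : Fact (Nat.card X).Prime := ⟨hXp⟩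
  exact (h.kstar_unique hM hKU.hall hK1 rfl hX).1

theorem Pre'.hyp1368 : S15.Hyp1368 G := fun M hM K U hKU hK1 L hL h1 h2 =>
  ⟨h.inter_dual hM hKU.hall hK1 ⟨hL, h1, h2⟩, h.Z_cyclic hM hKU.hall hK1⟩

theorem Pre'.hyp1369 : S15.Hyp1369 G := by
  intro M hM K U hKU hK1 L hL h1 h2
  refine ⟨?_, fun H hH hκ => ?_⟩
  · by_cases hU : U = ⊥
    · exact Or.inr fun Us hUs => h.decomposition_dual hM hKU hK1 ⟨hL, h1, h2⟩ hUs hU
    · exact Or.inl hU
  · obtain ⟨g, hg⟩ := h.kappa_classes hM hKU.hall hK1 ⟨hL, h1, h2⟩ hH hκ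
    exact ⟨g, by simpa [conj_smul_eq_map] using hg⟩

theorem Pre'.hyp1370 : S15.Hyp1370 G := fun M hM K U hKU hK1 => h.Zhat_ti hM hKU.hall hK1

theorem Pre'.hyp1371 : S15.Hyp1371 G := fun M hM K U hKU hK1 => h.conj_Zhat_eq hM hKU hK1

theorem Pre'.hyp1372 : S15.Hyp1372 G := fun M hM K U hKU hK1 hU1 =>
  ⟨h.kappaHall_prime hM hKU hK1 hU1, h.fitting_ti hM hKU hK1 hU1⟩

theorem Pre'.hyp1429 : S15.Hyp1429 G := fun M hM _ p _ hpM hp S =>
  h.toPre.non_kappa_omega hM hpM (fun e => hp (Or.inl e)) (fun e => hp (Or.inr e)) S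

theorem Pre'.hyp1430 : S15.Hyp1430 G := fun M hM K hK hK1 =>
  ⟨fun _ hk hk1 => h.kappa_fixed_eq hM hK hk hk1, h.exists_U hM hK hK1, fun X hX hXp =>
    ⟨h.inter_normalizer_eq hM hK hX hXp, h.inter_normalizer_kappa hM hK hK1, fun L hL hNX =>
      haveI : Fact (Nat.card X).Prime := ⟨hXp⟩
      (h.kappa_normalizer_sigma hM hK hX rfl hL hNX).2.1⟩⟩

theorem Pre'.hyp1431 : S15.Hyp1431 G := by
  intro M hM K hK hK1
  refine ⟨fun g hg => ?_, fun g hgM hg => ?_, fun p hp hd S => ?_, fun Y hY hne => ?_⟩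
  · refine le_bot_iff.1 fun x hx => ?_
    by_contra hx1
    exact hg (h.kstar_inter_conj hM hK hK1 hx.1 (fun e => hx1 (mem_bot.2 e))
      (by rw [conj_smul_eq_map]; exact hx.2))
  · refine le_bot_iff.1 fun x hx => ?_
    by_contra hx1
    exact hg (h.kappa_inter_conj hM hK hgM hx.1 (fun e => hx1 (mem_bot.2 e))
      (by rw [conj_smul_eq_map]; exact hx.2))
  · have : Fact p.Prime := ⟨hp⟩
    have hS := hallOf_of_sylow S
    exact ⟨(h.kstar_sylow hM hK hK1 hd hS).1, hS.1.trans (piCoreOf_le _ _),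
      (h.kstar_sylow hM hK hK1 hd hS).2⟩
  · exact h.le_sigmaCore_of_inter_kstar hM hK hK1 hY hne

theorem Pre'.hyp1432 : S15.Hyp1432 G := fun M hM x hx hx1 x' hx' hx'1 hσ =>
  h.sigma_element_dichotomy hM hx hx1 hx'.1
    (mem_centralizer_singleton_iff.1 hx'.2).symm hx'1 hσ

theorem Pre'.hyp1433 : S15.Hyp1433 G := by
  intro M N hM hN x y hx hy hx1 hy1 hxy r hr s hs
  exact fun e => hxy (h.support_disjoint hM hN hx hy hx1 hy1
    (h.inSupport_of_mem_supportR hM hx hx1 hr) (h.inSupport_of_mem_supportR hN hy hy1 hs) e)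

theorem Pre'.hyp1434 : S15.Hyp1434 G := by
  intro M hM K U hKU hK1 L hL h1 h2
  have hd : IsDual M K L := ⟨hL, h1, h2⟩
  refine ⟨(h.kappa_eq_tau1 hM hKU.hall hK1).1, h.kstar_hall hM hKU.hall hK1 hd,
    fun x hx hx1 y hy hy1 => ⟨h.centralizer_kappa hM hKU.hall hx hx1, ?_,
      h.centralizer_Zhat hM hKU.hall hx hx1 hy hy1⟩, fun g hg z hz hzg => ?_, ?_⟩
  · rw [h.centralizer_kappa hL h2 hy hy1, sup_comm]
    exact congrArg (· ⊔ _) h1.symm
  · exact hg (h.Zhat_not_mem_conj hM hKU.hall hz (by rw [conj_smul_eq_map]; exact hzg))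
  · exact h.ncard_conj_Zhat hM hKU.hall hK1

theorem Pre'.hyp1435 : S15.Hyp1435 G := by
  intro M hM K U hKU hK1 hU1 L hL h1 h2 r _ hr R H hH hNR
  exact h.normalizer_neighbour hM hKU hK1 hU1 ⟨hL, h1, h2⟩ hr (hallOf_of_sylow R) hH hNR

theorem Pre'.hyp1436 : S15.Hyp1436 G := by
  intro M hM x hx hx1 hxM N hN hxN
  refine ⟨fun ⟨p, hp, hpM⟩ => h.supporting_primes hM hN hx hx1 hxM hxN hp hpM,
    fun y N' g hy hy1 hyM hN' hyN hg => ?_⟩
  obtain ⟨m, hm, e⟩ := h.supporting_conj hM hN hN' hx hx1 hxM hxN hy hy1 hyM hyN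
    (by rw [conj_smul_eq_map]; exact hg)
  exact ⟨m, hm, by rwa [conj_smul_eq_map] at e⟩

end CfsgLib.OddLocal.Sec13

namespace CfsgLib.OddLocal.S15

universe u
variable {G : Type u} [Group G] [Finite G]

/-- The bundle of section 16 from the three inputs not contained in `Ten`. -/
theorem s16Base_of (hG : Cfsg.IsMinSimpleOddOrder G) (h1421 : Hyp1421 G) (h1445 : Hyp1445.{u})
    (h1446 : Hyp1446.{u}) : S16Base G :=
  let h := BG.pre'_of_minimal hG
  { h1350 := h.toPre.hyp1350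
    h1351 := h.hyp1351
    h1352 := h.hyp1352
    h1353 := h.hyp1353
    h1354 := h.hyp1354
    h1366 := h.hyp1366
    h1369 := h.hyp1369
    h1372 := h.hyp1372
    h1405 := h.s1405
    h1414 := h.s1414
    h1417 := h.s1417
    h1420 := h.s1420
    h1421 := h1421
    h1426 := h.s1426
    h1429 := h.hyp1429
    h1430 := h.hyp1430
    h1431 := h.hyp1431
    h1432 := h.hyp1432
    h1445 := h1445
    h1446 := h1446
    h1374 := h.hyp1374
    h1399 := fun L K hL hK hKr => Cfsg.Agent.S1399.result hG L K hL hK hKr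
    h1403 := h.s1403
    h1412 := h.s1412
    h1422 := h.s1422
    h1423 := h.s1423
    h1453 := @Cfsg.Agent.S1453.result
    h1454 := @Cfsg.Agent.S1454.result
    h1375 := h.hyp1375
    h1378 := h.hyp1378
    h1418 := h.s1418
    h1419 := (Ten.ten_of_minimal hG).s1419
    h1435 := h.hyp1435
    h1367 := h.hyp1367
    h1368 := h.hyp1368
    h1370 := h.hyp1370
    h1433 := h.hyp1433
    h1434 := h.hyp1434
    h1436 := h.hyp1436 }

end CfsgLib.OddLocal.S15
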