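import Cfsg.Agent.Lib.OddLocal.S15FcoreQuot

/-!
# The structure of a maximal subgroup with `M_F ≠ M_σ`, and of `M_F` in general
-/

set_option autoImplicit false
set_option linter.style.haveILetI false
set_option linter.unusedSectionVars false

open scoped Pointwise commutatorElement

namespace CfsgLib.OddLocal.S15

universe u

variable {G : Type u} [Group G] [Finite G] {M K U : Subgroup G}

theorem exists_invariant_complement {A N Q : Subgroup G} {q : ℕ} (hq : q.Prime)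
    (hAN : A ≤ Subgroup.normalizer (N : Set G)) (hco : (Nat.card A).Coprime (Nat.card N))
    (hs : Group.IsSolvable N) (hQN : Q ≤ N) (hNQ : N ≤ Subgroup.normalizer (Q : Set G))
    (hQp : IsPGroup q Q) (hQi : ¬ q ∣ Q.relIndex N) :
    ∃ D : Subgroup G, Cfsg.IsComplIn Q D N ∧ A ≤ Subgroup.normalizer (D : Set G) := by
  haveI := Fact.mk hq
  obtain ⟨D, ⟨hDN, hDπ, hDi⟩, hAD⟩ :=
    CfsgLib.PGroup.exists_invariant_hall {p : ℕ | p.Prime ∧ p ≠ q} hAN hco hs
  have hd : Q ⊓ D = ⊥ := by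
    obtain ⟨j, hj⟩ := hQp.exists_card_eq
    refine inf_eq_bot_of_coprime ?_
    rw [hj]
    exact ((Nat.Prime.coprime_iff_not_dvd hq).2 fun h => (hDπ q hq h).2 rfl).pow_left j
  refine ⟨D, ⟨hQN, hDN, hd, fun x hx => ?_⟩, hAD⟩
  have hfull : (Q ⊔ D).relIndex N = 1 := by
    refine Nat.eq_one_iff_not_exists_prime_dvd.2 fun p hp hpd => ?_
    by_cases hpq : p = q
    · subst hpq
      exact hQi (hpd.trans (Subgroup.relIndex_dvd_of_le_left N le_sup_left))
    · exact hDi p hp ⟨hp, hpq⟩ (hpd.trans (Subgroup.relIndex_dvd_of_le_left N le_sup_right))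
  rw [Subgroup.relIndex_eq_one] at hfull
  exact eq_mul_of_mem_sup (hDN.trans hNQ) (hfull hx)

/-- Everything on the case `M_F ≠ M_σ`. -/
theorem fcore_structure (hG : Cfsg.IsMinSimpleOddOrder G) (h1445 : Hyp1445.{u})
    (h1446 : Hyp1446.{u}) (h1350 : Hyp1350 G) (h1351 : Hyp1351 G) (h1352 : Hyp1352 G)
    (h1354 : Hyp1354 G) (h1366 : Hyp1366 G) (h1369 : Hyp1369 G) (h1372 : Hyp1372 G)
    (h1414 : Hyp1414 G) (h1426 : Hyp1426 G) (h1429 : Hyp1429 G) (h1430 : Hyp1430 G)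
    (hM : IsCoatom M) (hKU : Cfsg.IsSigmaDecomposition M K U)
    (hne : Cfsg.fittingHallOf M ≠ Cfsg.sigmaCore M) :
    U = ⊥ ∧ K ≠ ⊥ ∧ Cfsg.sigmaCore M = ⁅M, M⁆ ∧ (Nat.card K).Prime ∧
      (Nat.card ↥(Cfsg.sigmaCore M ⊓ Subgroup.centralizer (K : Set G))).Prime ∧
      Nat.card ↥(Cfsg.sigmaCore M ⊓ Subgroup.centralizer (K : Set G)) ∣
        Nat.card (Cfsg.fittingHallOf M) ∧
      Nat.card ↥(Cfsg.sigmaCore M ⊓ Subgroup.centralizer (K : Set G)) ∈ Cfsg.beta M ∧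
      ∃ Q : Subgroup G, Q ≤ Cfsg.fittingHallOf M ∧ Q ≤ Cfsg.sigmaCore M ∧
        M ≤ Subgroup.normalizer (Q : Set G) ∧
        Cfsg.sigmaCore M ⊓ Subgroup.centralizer (K : Set G) ≤ Q ∧
        IsPGroup (Nat.card ↥(Cfsg.sigmaCore M ⊓ Subgroup.centralizer (K : Set G))) Q ∧
        ¬ Nat.card ↥(Cfsg.sigmaCore M ⊓ Subgroup.centralizer (K : Set G)) ∣
          Q.relIndex (Cfsg.sigmaCore M) ∧
        (∃ D : Subgroup G, Cfsg.IsComplIn Q D (Cfsg.sigmaCore M)) ∧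
        ∀ D : Subgroup G, Cfsg.IsComplIn Q D (Cfsg.sigmaCore M) →
          Group.IsNilpotent D ∧
          M ≤ Subgroup.normalizer ((Q ⊓ Subgroup.centralizer (D : Set G) : Subgroup G) : Set G) ∧
          Q ⊓ Subgroup.centralizer (D : Set G) < Q ∧
          Nat.card Q = Nat.card ↥(Q ⊓ Subgroup.centralizer (D : Set G)) *
            Nat.card ↥(Cfsg.sigmaCore M ⊓ Subgroup.centralizer (K : Set G)) ^ Nat.card K ∧
          (∀ a ∈ Q, ∀ b ∈ Q,
            a ^ Nat.card ↥(Cfsg.sigmaCore M ⊓ Subgroup.centralizer (K : Set G)) ∈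
              Q ⊓ Subgroup.centralizer (D : Set G) ∧
            a * b * a⁻¹ * b⁻¹ ∈ Q ⊓ Subgroup.centralizer (D : Set G)) ∧
          (∀ N : Subgroup G, Q ⊓ Subgroup.centralizer (D : Set G) < N → N < Q →
            ¬ M ≤ Subgroup.normalizer (N : Set G)) ∧
          ⁅D, D⁆ ≤ Subgroup.centralizer (Q : Set G) := by
  have hU := U_eq_bot_of_ne hG h1350 h1429 hM hKU hne
  have hK1 := K_ne_bot_of_U_eq_bot hG h1350 h1426 hM hKU hU
  have hq := card_centralizer_prime h1351 h1352 h1366 h1369 h1372 h1354 hM hKU hK1 hU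
  obtain ⟨Q, hQN, hMQ, hQp, hQi, hKsQ, hDnil⟩ :=
    exists_normal_sylow hG h1445 h1350 h1426 h1430 hM hKU hU hK1 hq hne
  set Ks := Cfsg.sigmaCore M ⊓ Subgroup.centralizer (K : Set G) with hKs
  set q := Nat.card Ks with hqdef
  haveI := Fact.mk hq
  have hNM := sigmaCore_le M
  have hKM := K_le h1350 hM hKU
  have hsolv : Group.IsSolvable (Cfsg.sigmaCore M) :=
    minSimple_solvable hG (fun h => hM.1 (top_le_iff.1 (h ▸ hNM)))
  have hcoK : (Nat.card K).Coprime (Nat.card (Cfsg.sigmaCore M)) :=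
    (coprime_sigmaCore h1350 hM fun p hp hd => sigma_inter_kappa (hKU.hall.2.1 p hp hd)).symm
  obtain ⟨D₁, hD₁, hKD₁⟩ := exists_invariant_complement hq
    (hKM.trans (le_normalizer_sigmaCore M)) hcoK hsolv hQN (hNM.trans hMQ) hQp hQi
  obtain ⟨hpK, hMC, hCQ, hcard, hpow, hchief, hder⟩ := invariant_complement hG h1446 h1350 h1430 hM
    hKU hU hK1 hne rfl hq hMQ hQp hQi hKsQ hD₁ (hDnil D₁ hD₁.2.1 hD₁.2.2.1) hKD₁
  have hqσ : q ∈ Cfsg.sigma M :=
    (sigmaCore_hallOf h1350 hM).2.1 q hq (Subgroup.card_dvd_of_le inf_le_left)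
  have hQF : Q ≤ Cfsg.fittingHallOf M := by
    refine le_fittingHallOf (hQN.trans hNM) hMQ hQp.isNilpotent ?_
    obtain ⟨j, hj⟩ := hQp.exists_card_eq
    rw [hj]
    refine ((Nat.Prime.coprime_iff_not_dvd hq).2 ?_).pow_left j
    rw [← Subgroup.relIndex_mul_relIndex Q _ M hQN hNM, hq.dvd_mul]
    rintro (h | h)
    · exact hQi h
    · exact (sigmaCore_hallOf h1350 hM).2.2 q hq hqσ h
  have hMder : Cfsg.sigmaCore M = ⁅M, M⁆ := by
    refine le_antisymm (sigmaCore_le_derived h1350 h1426 hM hKU) ?_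
    have h := derived_le_UMs h1350 h1352 hM hKU
    rwa [hU, bot_sup_eq] at h
  have hβ : q ∈ Cfsg.beta M := by
    by_contra hβ
    obtain ⟨-, -, -, -, h5⟩ := h1414 M hM
    obtain ⟨-, ⟨P, N', hN'n, hc⟩, -⟩ := h5 q hq
      ((Subgroup.card_dvd_of_le inf_le_left).trans (Subgroup.card_dvd_of_le hNM)) hβ
    obtain ⟨S₀, hS₀⟩ := exists_sylow_map_eq_of_not_dvd hQN hQp hQi
    obtain ⟨g, hg, hgP⟩ := CfsgLib.Solvable.exists_conj_sylow_map S₀ P
    have hS : (P : Subgroup (Cfsg.sigmaCore M)).map (Cfsg.sigmaCore M).subtype = Q := by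
      rw [← hgP, hS₀, ← map_conj_eq_smul]
      exact map_conj_eq_self_iff.2 (hMQ (hNM hg))
    set X := N'.map (Cfsg.sigmaCore M).subtype with hX
    have hcX : Cfsg.IsComplIn Q X (Cfsg.sigmaCore M) := by
      refine ⟨hQN, Subgroup.map_subtype_le _, ?_, fun x hx => ?_⟩
      · rw [← hS, hX, ← Subgroup.map_inf _ _ _ (Cfsg.sigmaCore M).subtype_injective, inf_comm,
          hc.disjoint.eq_bot, Subgroup.map_bot]
      · obtain ⟨⟨⟨a, ha⟩, ⟨b, hb⟩⟩, hab⟩ := hc.symm.2 ⟨x, hx⟩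
        refine ⟨a, hS ▸ ⟨a, ha, rfl⟩, b, ⟨b, hb, rfl⟩, ?_⟩
        exact (congrArg Subtype.val hab).symm
    refine not_le_centralizer_of_ne hG h1350 hM hne hcX hQp.isNilpotent
      (hDnil X hcX.2.1 hcX.2.2.1) ?_
    intro b hb
    rw [Subgroup.mem_centralizer_iff]
    intro a ha
    have hXn : Cfsg.sigmaCore M ≤ Subgroup.normalizer (X : Set G) := le_normalizer_map_subtype _ _
    have h1 : ⁅a, b⁆ ∈ Q ⊓ X := by
      constructor
      · have := Q.mul_mem ha ((Subgroup.mem_normalizer_iff.1 (hMQ (hNM (hcX.2.1 hb))) _).1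
          (Q.inv_mem ha))
        simpa [commutatorElement_def, mul_assoc] using this
      · have := X.mul_mem ((Subgroup.mem_normalizer_iff.1 (hXn (hQN ha)) _).1 hb) (X.inv_mem hb)
        simpa [commutatorElement_def, mul_assoc] using this
    rw [hcX.2.2.1, Subgroup.mem_bot, commutatorElement_eq_one_iff_mul_comm] at h1
    exact h1
  refine ⟨hU, hK1, hMder, hpK, hq, (Subgroup.card_dvd_of_le (hKsQ.trans hQF)), hβ, Q, hQF, hQN, hMQ,
    hKsQ, hQp, hQi, ⟨D₁, hD₁⟩, fun D hD => ⟨hDnil D hD.2.1 hD.2.2.1, ?_⟩⟩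
  -- transport to an arbitrary complement
  have hhall : ∀ {D : Subgroup G}, Cfsg.IsComplIn Q D (Cfsg.sigmaCore M) →
      Cfsg.IsPiHallOf {p : ℕ | p.Prime ∧ p ≠ q} D (Cfsg.sigmaCore M) := fun {D} hD => by
    have e := relIndex_of_isComplIn hD
    refine ⟨hD.2.1, fun p hp hd => ⟨hp, fun h => hQi (h ▸ e.2 ▸ hd)⟩, fun p hp hpq hd => ?_⟩
    rw [e.1] at hd
    obtain ⟨j, hj⟩ := hQp.exists_card_eq
    exact hpq.2 ((Nat.prime_dvd_prime_iff_eq hp hq).1 (hp.dvd_of_dvd_pow (hj ▸ hd)))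
  obtain ⟨g, hg, e⟩ := CfsgLib.PGroup.exists_conj_of_isPiHallOf hsolv (hhall hD₁) (hhall hD)
  rw [← map_conj_eq_smul] at e
  have hgM := hNM hg
  have hQg : Q.map (MulAut.conj g).toMonoidHom = Q := map_conj_eq_self_iff.2 (hMQ hgM)
  have hCg : Subgroup.centralizer (D : Set G) =
      (Subgroup.centralizer (D₁ : Set G)).map (MulAut.conj g).toMonoidHom := by
    ext x
    rw [← e, mem_map_conj, Subgroup.mem_centralizer_iff, Subgroup.mem_centralizer_iff]
    constructor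
    · intro h d hd
      have := h _ (conj_mem_map_conj hd)
      calc d * (g⁻¹ * x * g) = g⁻¹ * (g * d * g⁻¹ * x) * g := by group
        _ = g⁻¹ * (x * (g * d * g⁻¹)) * g := by rw [this]
        _ = g⁻¹ * x * g * d := by group
    · intro h y hy
      obtain ⟨d, hd, rfl⟩ := hy
      show g * d * g⁻¹ * x = x * (g * d * g⁻¹)
      calc g * d * g⁻¹ * x = g * (d * (g⁻¹ * x * g)) * g⁻¹ := by group
        _ = g * (g⁻¹ * x * g * d) * g⁻¹ := by rw [h d hd]
        _ = x * (g * d * g⁻¹) := by group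
  have hCeq : Q ⊓ Subgroup.centralizer (D : Set G) = Q ⊓ Subgroup.centralizer (D₁ : Set G) := by
    have h1 := map_conj_eq_self_iff.2 (hMC hgM)
    rw [Subgroup.map_inf _ _ _ (MulAut.conj g).injective, hQg, ← hCg] at h1
    exact h1
  rw [hCeq]
  refine ⟨hMC, hCQ, hcard, hpow, hchief, ?_⟩
  rw [← e, ← Subgroup.map_commutator, Subgroup.le_centralizer_iff, ← hQg]
  intro x hx
  rw [mem_map_conj] at hx
  rw [Subgroup.mem_centralizer_iff]
  rintro _ ⟨d, hd, rfl⟩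
  have h2 := Subgroup.mem_centralizer_iff.1 (hder hd) _ hx
  show g * d * g⁻¹ * x = x * (g * d * g⁻¹)
  calc g * d * g⁻¹ * x = g * (d * (g⁻¹ * x * g)) * g⁻¹ := by group
    _ = g * (g⁻¹ * x * g * d) * g⁻¹ := by rw [h2]
    _ = x * (g * d * g⁻¹) := by group

end CfsgLib.OddLocal.S15
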