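import Cfsg.Prelude.Def_OddOrderLocal
import Cfsg.Prelude.Def_Local
import Cfsg.Agent.Lib.OddLocal.Basic
import Cfsg.Agent.Lib.PGroup.CoprimeHall

/-!
# Maximal subgroups of a minimal simple group of odd order: elementary facts

Self-normalisation, conjugation invariance of `σ(M)`, `M_σ`, `M_F`, `F(M)`, and the normal
Hall-subgroup lemma used throughout the local analysis.
-/

set_option autoImplicit false
set_option linter.style.haveILetI false

open scoped Pointwise

namespace CfsgLib.OddLocal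

universe u

variable {G : Type u} [Group G]

theorem map_conj_eq_smul (g : G) (H : Subgroup G) :
    H.map (MulAut.conj g).toMonoidHom = MulAut.conj g • H := rfl

theorem mem_map_conj {g x : G} {H : Subgroup G} :
    x ∈ H.map (MulAut.conj g).toMonoidHom ↔ g⁻¹ * x * g ∈ H := by
  constructor
  · rintro ⟨h, hh, rfl⟩
    simpa [mul_assoc] using hh
  · intro h
    exact ⟨g⁻¹ * x * g, h, by simp [mul_assoc]⟩

theorem conj_mem_map_conj {g h : G} {H : Subgroup G} (hh : h ∈ H) :
    g * h * g⁻¹ ∈ H.map (MulAut.conj g).toMonoidHom := ⟨h, hh, rfl⟩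

theorem map_conj_map_conj (g k : G) (H : Subgroup G) :
    (H.map (MulAut.conj k).toMonoidHom).map (MulAut.conj g).toMonoidHom =
      H.map (MulAut.conj (g * k)).toMonoidHom := by
  ext x
  simp only [mem_map_conj]
  rw [show (g * k)⁻¹ * x * (g * k) = k⁻¹ * (g⁻¹ * x * g) * k by group]

theorem map_conj_one (H : Subgroup G) : H.map (MulAut.conj (1 : G)).toMonoidHom = H := by
  ext x
  simp [mem_map_conj]

theorem map_conj_eq_self_iff [Finite G] {g : G} {H : Subgroup G} :
    H.map (MulAut.conj g).toMonoidHom = H ↔ g ∈ Subgroup.normalizer (H : Set G) := by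
  constructor
  · intro h
    rw [Subgroup.mem_normalizer_iff]
    intro x
    constructor
    · intro hx
      have := conj_mem_map_conj (g := g) hx
      rwa [h] at this
    · intro hx
      rw [← h, mem_map_conj] at hx
      simpa [mul_assoc] using hx
  · intro h
    ext x
    rw [mem_map_conj, Subgroup.mem_normalizer_iff.1 h (g⁻¹ * x * g)]
    simp [mul_assoc]

theorem card_map_conj (g : G) (H : Subgroup G) :
    Nat.card (H.map (MulAut.conj g).toMonoidHom) = Nat.card H :=
  Subgroup.card_map_of_injective (MulAut.conj g).injective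

theorem index_map_conj (g : G) (H : Subgroup G) :
    (H.map (MulAut.conj g).toMonoidHom).index = H.index :=
  Subgroup.index_map_equiv _ (MulAut.conj g)

theorem normalizer_map_conj (g : G) (H : Subgroup G) :
    Subgroup.normalizer ((H.map (MulAut.conj g).toMonoidHom : Subgroup G) : Set G) =
      (Subgroup.normalizer (H : Set G)).map (MulAut.conj g).toMonoidHom :=
  (Subgroup.map_normalizer_eq_of_bijective H (f := (MulAut.conj g).toMonoidHom)
    (MulAut.conj g).bijective).symm

theorem centralizer_singleton_conj (g x : G) :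
    Subgroup.centralizer ({g * x * g⁻¹} : Set G) =
      (Subgroup.centralizer ({x} : Set G)).map (MulAut.conj g).toMonoidHom := by
  ext y
  rw [mem_map_conj, Subgroup.mem_centralizer_singleton_iff,
    Subgroup.mem_centralizer_singleton_iff]
  constructor
  · intro h
    calc g⁻¹ * y * g * x = g⁻¹ * (y * (g * x * g⁻¹)) * g := by group
      _ = g⁻¹ * (g * x * g⁻¹ * y) * g := by rw [h]
      _ = x * (g⁻¹ * y * g) := by group
  · intro h
    calc y * (g * x * g⁻¹) = g * (g⁻¹ * y * g * x) * g⁻¹ := by group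
      _ = g * (x * (g⁻¹ * y * g)) * g⁻¹ := by rw [h]
      _ = g * x * g⁻¹ * y := by group

/-! ### Minimal simple groups of odd order -/

theorem minSimple_isSimple (hG : Cfsg.IsMinSimpleOddOrder G) : IsSimpleGroup G := hG.2.1

theorem minSimple_solvable (hG : Cfsg.IsMinSimpleOddOrder G) {H : Subgroup G} (hH : H ≠ ⊤) :
    Group.IsSolvable H := hG.2.2.2 H hH

theorem minSimple_eq_bot_or_top (hG : Cfsg.IsMinSimpleOddOrder G) {H : Subgroup G}
    (h : Subgroup.normalizer (H : Set G) = ⊤) : H = ⊥ ∨ H = ⊤ := by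
  haveI := minSimple_isSimple hG
  exact (Subgroup.normalizer_eq_top_iff.1 h).eq_bot_or_eq_top

theorem normalizer_ne_top (hG : Cfsg.IsMinSimpleOddOrder G) {H : Subgroup G} (h1 : H ≠ ⊥)
    (h2 : H ≠ ⊤) : Subgroup.normalizer (H : Set G) ≠ ⊤ := fun h =>
  (minSimple_eq_bot_or_top hG h).elim h1 h2

theorem center_eq_bot_minSimple (hG : Cfsg.IsMinSimpleOddOrder G) : Subgroup.center G = ⊥ := by
  haveI := minSimple_isSimple hG
  refine (Subgroup.center G).normal_of_characteristic.eq_bot_or_eq_top.resolve_right fun h => ?_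
  refine hG.2.2.1 ⟨⟨fun a b => ?_⟩⟩
  exact (Subgroup.mem_center_iff.1 (h ▸ Subgroup.mem_top a : a ∈ Subgroup.center G) b).symm

theorem maximal_solvable (hG : Cfsg.IsMinSimpleOddOrder G) {M : Subgroup G} (hM : IsCoatom M) :
    Group.IsSolvable M := minSimple_solvable hG hM.1

theorem maximal_ne_bot (hG : Cfsg.IsMinSimpleOddOrder G) {M : Subgroup G} (hM : IsCoatom M) :
    M ≠ ⊥ := by
  rintro rfl
  refine hG.2.2.1 ⟨⟨fun a b => ?_⟩⟩
  have key : ∀ c : G, c ≠ 1 → Subgroup.zpowers c = ⊤ := fun c hc =>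
    hM.2 _ (bot_lt_iff_ne_bot.2 (by simpa [Subgroup.zpowers_eq_bot] using hc))
  by_cases ha : a = 1
  · simp [ha]
  obtain ⟨n, hn⟩ := Subgroup.mem_zpowers_iff.1 (key a ha ▸ Subgroup.mem_top b : b ∈ Subgroup.zpowers a)
  rw [← hn]
  exact (Commute.self_zpow a n).eq

theorem normalizer_eq_self (hG : Cfsg.IsMinSimpleOddOrder G) {M : Subgroup G} (hM : IsCoatom M) :
    Subgroup.normalizer (M : Set G) = M := by
  refine (hM.le_iff.1 Subgroup.le_normalizer).resolve_left fun h => ?_
  exact normalizer_ne_top hG (maximal_ne_bot hG hM) hM.1 h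

/-- A nontrivial normal subgroup of a maximal subgroup has normalizer exactly that subgroup. -/
theorem normalizer_eq_of_normal (hG : Cfsg.IsMinSimpleOddOrder G) {M X : Subgroup G}
    (hM : IsCoatom M) (hX : X ≤ M) (hX1 : X ≠ ⊥) (hn : M ≤ Subgroup.normalizer (X : Set G)) :
    Subgroup.normalizer (X : Set G) = M := by
  refine (hM.le_iff.1 hn).resolve_left fun h => normalizer_ne_top hG hX1 ?_ h
  rintro rfl
  exact hM.1 (top_le_iff.1 hX)

theorem mem_of_map_conj_eq [Finite G] (hG : Cfsg.IsMinSimpleOddOrder G) {M : Subgroup G}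
    (hM : IsCoatom M) {g : G} (h : M.map (MulAut.conj g).toMonoidHom = M) : g ∈ M := by
  have := map_conj_eq_self_iff.1 h
  rwa [normalizer_eq_self hG hM] at this

theorem map_conj_of_mem [Finite G] {M : Subgroup G} {g : G} (h : g ∈ M) :
    M.map (MulAut.conj g).toMonoidHom = M :=
  map_conj_eq_self_iff.2 (Subgroup.le_normalizer h)

theorem isCoatom_map_conj {M : Subgroup G} (hM : IsCoatom M) (g : G) :
    IsCoatom (M.map (MulAut.conj g).toMonoidHom) :=
  ((MulAut.conj g).mapSubgroup.isCoatom_iff M).2 hM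

theorem exists_maximal_ge [Finite G] {H : Subgroup G} (hH : H ≠ ⊤) :
    ∃ M : Subgroup G, IsCoatom M ∧ H ≤ M := by
  obtain h | ⟨M, hM, hle⟩ := eq_top_or_exists_le_coatom H
  · exact absurd h hH
  · exact ⟨M, hM, hle⟩

/-! ### Normal Hall subgroups -/

/-- A subgroup of order prime to the index of a normal subgroup lies inside it. -/
theorem le_of_normalized_coprime [Finite G] {N M X : Subgroup G}
    (hn : M ≤ Subgroup.normalizer (N : Set G)) (hX : X ≤ M)
    (hco : (Nat.card X).Coprime (N.relIndex M)) : X ≤ N := by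
  intro x hx
  haveI : (N.subgroupOf M).Normal := Subgroup.normal_subgroupOf_of_le_normalizer hn
  let y : M := ⟨x, hX hx⟩
  have h1 : orderOf (QuotientGroup.mk' (N.subgroupOf M) y) ∣ Nat.card X := by
    refine (orderOf_map_dvd _ y).trans ?_
    rw [← Subgroup.orderOf_coe y]
    exact X.orderOf_dvd_natCard hx
  have h2 : orderOf (QuotientGroup.mk' (N.subgroupOf M) y) ∣ N.relIndex M :=
    orderOf_dvd_natCard _
  have h3 := Nat.eq_one_of_dvd_coprimes hco h1 h2
  rw [orderOf_eq_one_iff, QuotientGroup.mk'_apply, QuotientGroup.eq_one_iff] at h3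
  exact h3

/-- Elements whose order is prime to the index of a normal subgroup lie inside it. -/
theorem mem_of_normalized_coprime [Finite G] {N M : Subgroup G}
    (hn : M ≤ Subgroup.normalizer (N : Set G)) {x : G} (hx : x ∈ M)
    (hco : (orderOf x).Coprime (N.relIndex M)) : x ∈ N :=
  le_of_normalized_coprime (X := Subgroup.zpowers x) hn (Subgroup.zpowers_le.2 hx)
    (by rwa [Nat.card_zpowers]) (Subgroup.mem_zpowers x)

theorem coprime_of_pi {π : Set ℕ} {a b : ℕ} (ha : ∀ p : ℕ, p.Prime → p ∣ a → p ∈ π)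
    (hb : ∀ p : ℕ, p.Prime → p ∈ π → ¬ p ∣ b) : a.Coprime b :=
  Nat.coprime_of_dvd fun p hp h1 h2 => hb p hp (ha p hp h1) h2

/-- A `π`-subgroup of `M` lies in the normal Hall `π`-subgroup. -/
theorem le_of_normal_hall [Finite G] {π : Set ℕ} {N M X : Subgroup G}
    (hN : Cfsg.IsPiHallOf π N M) (hn : M ≤ Subgroup.normalizer (N : Set G)) (hX : X ≤ M)
    (hπ : ∀ p : ℕ, p.Prime → p ∣ Nat.card X → p ∈ π) : X ≤ N :=
  le_of_normalized_coprime hn hX (coprime_of_pi hπ hN.2.2)

theorem mem_of_normal_hall [Finite G] {π : Set ℕ} {N M : Subgroup G}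
    (hN : Cfsg.IsPiHallOf π N M) (hn : M ≤ Subgroup.normalizer (N : Set G)) {x : G} (hx : x ∈ M)
    (hπ : ∀ p : ℕ, p.Prime → p ∣ orderOf x → p ∈ π) : x ∈ N :=
  mem_of_normalized_coprime hn hx (coprime_of_pi hπ hN.2.2)

/-! ### Cores of a subgroup, seen in the ambient group -/

theorem le_normalizer_map_subtype (M : Subgroup G) (N : Subgroup M) [N.Normal] :
    M ≤ Subgroup.normalizer ((N.map M.subtype : Subgroup G) : Set G) := by
  intro m hm
  rw [Subgroup.mem_normalizer_iff]
  intro x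
  constructor
  · rintro ⟨y, hy, rfl⟩
    exact ⟨⟨m, hm⟩ * y * ⟨m, hm⟩⁻¹, Subgroup.Normal.conj_mem inferInstance y hy _, rfl⟩
  · rintro ⟨y, hy, he⟩
    refine ⟨⟨m, hm⟩⁻¹ * y * ⟨m, hm⟩, ?_, ?_⟩
    · simpa using Subgroup.Normal.conj_mem (H := N) inferInstance y hy (⟨m, hm⟩⁻¹)
    · change (y : G) = m * x * m⁻¹ at he
      change m⁻¹ * (y : G) * m = x
      rw [he]; group

theorem piCoreOf_le (π : Set ℕ) (M : Subgroup G) : Cfsg.piCoreOf π M ≤ M :=
  Subgroup.map_subtype_le _

theorem sigmaCore_le (M : Subgroup G) : Cfsg.sigmaCore M ≤ M := Subgroup.map_subtype_le _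

theorem le_normalizer_sigmaCore (M : Subgroup G) :
    M ≤ Subgroup.normalizer (Cfsg.sigmaCore M : Set G) :=
  le_normalizer_map_subtype M _

theorem le_normalizer_fittingHallOf (M : Subgroup G) :
    M ≤ Subgroup.normalizer (Cfsg.fittingHallOf M : Set G) :=
  le_normalizer_map_subtype M _

theorem S15.le_normalizer_fittingOf (M : Subgroup G) :
    M ≤ Subgroup.normalizer (Cfsg.fittingOf M : Set G) := by
  haveI : (Cfsg.fittingSubgroup M).Normal := CfsgLib.Cores.fittingSubgroup_normal
  exact le_normalizer_map_subtype M _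

theorem S15.le_normalizer_piCoreOf (π : Set ℕ) (M : Subgroup G) :
    M ≤ Subgroup.normalizer (Cfsg.piCoreOf π M : Set G) :=
  le_normalizer_map_subtype M _

/-- A normal `π`-subgroup lies in `O_π`. -/
theorem S15.le_piCoreOf {π : Set ℕ} {N M : Subgroup G} (hN : N ≤ M)
    (hn : M ≤ Subgroup.normalizer (N : Set G))
    (hπ : ∀ p : ℕ, p.Prime → p ∣ Nat.card N → p ∈ π) : N ≤ Cfsg.piCoreOf π M := by
  have h1 : (N.subgroupOf M).Normal := Subgroup.normal_subgroupOf_of_le_normalizer hn
  have h2 : N.subgroupOf M ≤ Cfsg.piCore π M :=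
    le_sSup ⟨h1, fun p hp hd =>
      hπ p hp (by rwa [Nat.card_congr (Subgroup.subgroupOfEquivOfLe hN).toEquiv] at hd)⟩
  have := Subgroup.map_mono (f := M.subtype) h2
  rwa [Subgroup.map_subgroupOf_eq_of_le hN] at this

/-- A normal nilpotent subgroup of `M` lies in `F(M)`. -/
theorem S15.le_fittingOf {N M : Subgroup G} (hN : N ≤ M)
    (hn : M ≤ Subgroup.normalizer (N : Set G)) (hnil : Group.IsNilpotent N) :
    N ≤ Cfsg.fittingOf M := by
  have h1 : (N.subgroupOf M).Normal := Subgroup.normal_subgroupOf_of_le_normalizer hn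
  have h2 : N.subgroupOf M ≤ Cfsg.fittingSubgroup M :=
    le_sSup ⟨h1, Group.nilpotent_of_mulEquiv (Subgroup.subgroupOfEquivOfLe hN).symm⟩
  have := Subgroup.map_mono (f := M.subtype) h2
  rwa [Subgroup.map_subgroupOf_eq_of_le hN] at this

/-- A normal nilpotent Hall subgroup of `M` lies in `M_F`. -/
theorem le_fittingHallOf [Finite G] {N M : Subgroup G} (hN : N ≤ M)
    (hn : M ≤ Subgroup.normalizer (N : Set G)) (hnil : Group.IsNilpotent N)
    (hco : (Nat.card N).Coprime (N.relIndex M)) : N ≤ Cfsg.fittingHallOf M := by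
  have h1 : (N.subgroupOf M).Normal := Subgroup.normal_subgroupOf_of_le_normalizer hn
  have h2 : N.subgroupOf M ≤ Cfsg.fittingHall M :=
    le_sSup ⟨h1, Group.nilpotent_of_mulEquiv (Subgroup.subgroupOfEquivOfLe hN).symm,
      by rw [Nat.card_congr (Subgroup.subgroupOfEquivOfLe hN).toEquiv]; exact hco⟩
  have := Subgroup.map_mono (f := M.subtype) h2
  rwa [Subgroup.map_subgroupOf_eq_of_le hN] at this

theorem isNilpotent_fittingHallOf [Finite G] (M : Subgroup G) :
    Group.IsNilpotent (Cfsg.fittingHallOf M) :=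
  CfsgLib.Cores.isNilpotent_map fittingHall_spec.2.1 _

theorem isPiHallOf_fittingHallOf [Finite G] (M : Subgroup G) :
    Cfsg.IsPiHallOf {p | p ∣ Nat.card (Cfsg.fittingHallOf M)} (Cfsg.fittingHallOf M) M :=
  ⟨fittingHallOf_le M, fun _ _ h => h, fun _ hp h1 h2 =>
    Nat.not_coprime_of_dvd_of_dvd hp.one_lt h1 h2 (coprime_fittingHallOf M)⟩

/-- Sylow data of a subgroup, in the ambient group. -/
theorem exists_sylow_map_eq_of_not_dvd [Finite G] {M P : Subgroup G} {p : ℕ} [Fact p.Prime]
    (hP : P ≤ M) (hp : IsPGroup p P) (hi : ¬ p ∣ P.relIndex M) :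
    ∃ S : Sylow p M, (S : Subgroup M).map M.subtype = P := by
  have h1 : IsPGroup p (P.subgroupOf M) := hp.of_equiv (Subgroup.subgroupOfEquivOfLe hP).symm
  refine ⟨h1.toSylow hi, ?_⟩
  exact Subgroup.map_subgroupOf_eq_of_le hP

theorem relIndex_sylow_map [Finite G] {M : Subgroup G} {p : ℕ} [Fact p.Prime] (S : Sylow p M) :
    ¬ p ∣ ((S : Subgroup M).map M.subtype).relIndex M := by
  rw [Subgroup.relIndex, Subgroup.subgroupOf,
    Subgroup.comap_map_eq_self_of_injective M.subtype_injective]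
  exact S.not_dvd_index

/-- `σ(M)` in terms of subgroups of `G`. -/
theorem mem_sigma_iff [Finite G] {M : Subgroup G} {p : ℕ} :
    p ∈ Cfsg.sigma M ↔ p.Prime ∧ p ∣ Nat.card M ∧ ∃ P : Subgroup G, P ≤ M ∧ IsPGroup p P ∧
      ¬ p ∣ P.relIndex M ∧ Subgroup.normalizer (P : Set G) ≤ M := by
  constructor
  · rintro ⟨hp, hd, S, hS⟩
    haveI := Fact.mk hp
    exact ⟨hp, hd, _, Subgroup.map_subtype_le _, S.2.map _, relIndex_sylow_map S, hS⟩
  · rintro ⟨hp, hd, P, hP, hPp, hPi, hN⟩
    haveI := Fact.mk hp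
    obtain ⟨S, rfl⟩ := exists_sylow_map_eq_of_not_dvd hP hPp hPi
    exact ⟨hp, hd, S, hN⟩

/-- For `p ∈ σ(M)` every Sylow `p`-subgroup of `M` has normalizer inside `M`. -/
theorem normalizer_sylow_le [Finite G] {M P : Subgroup G} {p : ℕ} (hp : p ∈ Cfsg.sigma M)
    (hP : P ≤ M) (hPp : IsPGroup p P) (hi : ¬ p ∣ P.relIndex M) :
    Subgroup.normalizer (P : Set G) ≤ M := by
  obtain ⟨hpr, -, S, hS⟩ := hp
  haveI := Fact.mk hpr
  obtain ⟨T, rfl⟩ := exists_sylow_map_eq_of_not_dvd hP hPp hi
  obtain ⟨k, hk, e⟩ := CfsgLib.Solvable.exists_conj_sylow_map S T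
  rw [← e, ← map_conj_eq_smul, normalizer_map_conj]
  calc _ ≤ M.map (MulAut.conj k).toMonoidHom := Subgroup.map_mono hS
    _ = M := map_conj_of_mem hk

theorem relIndex_map_conj (g : G) (H K : Subgroup G) :
    (H.map (MulAut.conj g).toMonoidHom).relIndex (K.map (MulAut.conj g).toMonoidHom) =
      H.relIndex K :=
  Subgroup.relIndex_map_map_of_injective H K (MulAut.conj g).injective

theorem sigma_map_conj_subset [Finite G] (g : G) (M : Subgroup G) :
    Cfsg.sigma M ⊆ Cfsg.sigma (M.map (MulAut.conj g).toMonoidHom) := by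
  intro p hp
  obtain ⟨hpr, hd, P, hP, hPp, hi, hN⟩ := mem_sigma_iff.1 hp
  refine mem_sigma_iff.2 ⟨hpr, by rwa [card_map_conj], _, Subgroup.map_mono hP, hPp.map _,
    by rwa [relIndex_map_conj], ?_⟩
  rw [normalizer_map_conj]
  exact Subgroup.map_mono hN

theorem sigma_map_conj [Finite G] (g : G) (M : Subgroup G) :
    Cfsg.sigma (M.map (MulAut.conj g).toMonoidHom) = Cfsg.sigma M := by
  refine Set.Subset.antisymm ?_ (sigma_map_conj_subset g M)
  have := sigma_map_conj_subset g⁻¹ (M.map (MulAut.conj g).toMonoidHom)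
  rwa [map_conj_map_conj, inv_mul_cancel, map_conj_one] at this

theorem isPiHallOf_map_conj {π : Set ℕ} {H M : Subgroup G} (g : G)
    (h : Cfsg.IsPiHallOf π H M) :
    Cfsg.IsPiHallOf π (H.map (MulAut.conj g).toMonoidHom) (M.map (MulAut.conj g).toMonoidHom) :=
  ⟨Subgroup.map_mono h.1, by rw [card_map_conj]; exact h.2.1,
    by rw [relIndex_map_conj]; exact h.2.2⟩

theorem piCoreOf_map_conj_le [Finite G] (π : Set ℕ) (g : G) (M : Subgroup G)
    (hπ : ∀ p : ℕ, p.Prime → p ∣ Nat.card (Cfsg.piCoreOf π M) → p ∈ π) :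
    (Cfsg.piCoreOf π M).map (MulAut.conj g).toMonoidHom ≤
      Cfsg.piCoreOf π (M.map (MulAut.conj g).toMonoidHom) := by
  refine S15.le_piCoreOf (Subgroup.map_mono (piCoreOf_le π M)) ?_ (by rwa [card_map_conj])
  rw [normalizer_map_conj]
  exact Subgroup.map_mono (S15.le_normalizer_piCoreOf π M)

theorem fittingHallOf_map_conj [Finite G] (g : G) (M : Subgroup G) :
    Cfsg.fittingHallOf (M.map (MulAut.conj g).toMonoidHom) =
      (Cfsg.fittingHallOf M).map (MulAut.conj g).toMonoidHom := by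
  have key : ∀ (g : G) (M : Subgroup G), (Cfsg.fittingHallOf M).map (MulAut.conj g).toMonoidHom ≤
      Cfsg.fittingHallOf (M.map (MulAut.conj g).toMonoidHom) := by
    intro g M
    refine le_fittingHallOf (Subgroup.map_mono (fittingHallOf_le M)) ?_
      (CfsgLib.Cores.isNilpotent_map (isNilpotent_fittingHallOf M) _) ?_
    · rw [normalizer_map_conj]
      exact Subgroup.map_mono (le_normalizer_fittingHallOf M)
    · rw [card_map_conj, relIndex_map_conj]
      exact coprime_fittingHallOf M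
  refine le_antisymm ?_ (key g M)
  have h := Subgroup.map_mono (f := (MulAut.conj g).toMonoidHom)
    (key g⁻¹ (M.map (MulAut.conj g).toMonoidHom))
  rwa [map_conj_map_conj, map_conj_map_conj, inv_mul_cancel, mul_inv_cancel, map_conj_one,
    map_conj_one] at h

theorem fittingOf_map_conj [Finite G] (g : G) (M : Subgroup G) :
    Cfsg.fittingOf (M.map (MulAut.conj g).toMonoidHom) =
      (Cfsg.fittingOf M).map (MulAut.conj g).toMonoidHom := by
  have key : ∀ (g : G) (M : Subgroup G), (Cfsg.fittingOf M).map (MulAut.conj g).toMonoidHom ≤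
      Cfsg.fittingOf (M.map (MulAut.conj g).toMonoidHom) := by
    intro g M
    refine S15.le_fittingOf (Subgroup.map_mono (fittingOf_le M)) ?_
      (CfsgLib.Cores.isNilpotent_map (isNilpotent_fittingOf M) _)
    rw [normalizer_map_conj]
    exact Subgroup.map_mono (S15.le_normalizer_fittingOf M)
  refine le_antisymm ?_ (key g M)
  have h := Subgroup.map_mono (f := (MulAut.conj g).toMonoidHom)
    (key g⁻¹ (M.map (MulAut.conj g).toMonoidHom))
  rwa [map_conj_map_conj, map_conj_map_conj, inv_mul_cancel, mul_inv_cancel, map_conj_one,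
    map_conj_one] at h

end CfsgLib.OddLocal
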