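import Cfsg.Agent.Lib.OddLocal.MaxBasic
import Cfsg.Agent.Lib.OddLocal.S15Hyp
import Cfsg.Agent.Lib.Solvable.NilpotentParts

/-!
# The standard factorisation `M = K U M_σ`: orders and elementary consequences

Everything is conditional on the Hall property of `M_σ` (`Hyp1350`).
-/

set_option autoImplicit false
set_option linter.style.haveILetI false
set_option linter.unusedSectionVars false
set_option linter.deprecated false

open scoped Pointwise

namespace CfsgLib.OddLocal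

universe u

variable {G : Type u} [Group G]

/-- `|M| = |A| |B|` for complements. -/
theorem card_of_isComplIn [Finite G] {A B M : Subgroup G} (h : Cfsg.IsComplIn A B M) :
    Nat.card M = Nat.card A * Nat.card B := by
  obtain ⟨hA, hB, hd, hall⟩ := h
  rw [← Nat.card_prod]
  symm
  refine Nat.card_congr (Equiv.ofBijective
    (fun ab : A × B => (⟨ab.1 * ab.2, mul_mem (hA ab.1.2) (hB ab.2.2)⟩ : M)) ⟨?_, ?_⟩)
  · rintro ⟨a, b⟩ ⟨a', b'⟩ h
    have h' : (a : G) * b = a' * b' := congrArg Subtype.val h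
    have h1 : ((a' : G)⁻¹ * a) = b' * (b : G)⁻¹ := by
      rw [eq_mul_inv_iff_mul_eq, mul_assoc, h', inv_mul_cancel_left]
    have h2 : ((a' : G)⁻¹ * a) ∈ A ⊓ B :=
      ⟨A.mul_mem (A.inv_mem a'.2) a.2, h1 ▸ B.mul_mem b'.2 (B.inv_mem b.2)⟩
    rw [hd, Subgroup.mem_bot] at h2
    have ha : a = a' := Subtype.ext (inv_mul_eq_one.1 h2).symm
    subst ha
    exact Prod.ext rfl (Subtype.ext (mul_left_cancel h'))
  · intro m
    obtain ⟨a, ha, b, hb, e⟩ := hall m m.2
    exact ⟨(⟨a, ha⟩, ⟨b, hb⟩), Subtype.ext e.symm⟩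

theorem relIndex_of_isComplIn [Finite G] {A B M : Subgroup G} (h : Cfsg.IsComplIn A B M) :
    B.relIndex M = Nat.card A ∧ A.relIndex M = Nat.card B := by
  have hc := card_of_isComplIn h
  have key : ∀ {X : Subgroup G}, X ≤ M → Nat.card X * X.relIndex M = Nat.card M := fun {X} hX => by
    rw [← Subgroup.relIndex_bot_left, ← Subgroup.relIndex_bot_left,
      Subgroup.relIndex_mul_relIndex ⊥ X M bot_le hX]
  constructor
  · refine Nat.eq_of_mul_eq_mul_left (Nat.card_pos (α := B)) ?_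
    rw [key h.2.1, hc, mul_comm]
  · refine Nat.eq_of_mul_eq_mul_left (Nat.card_pos (α := A)) ?_
    rw [key h.1, hc]

theorem inf_eq_bot_of_coprime [Finite G] {A B : Subgroup G}
    (h : (Nat.card A).Coprime (Nat.card B)) : A ⊓ B = ⊥ :=
  Subgroup.inf_eq_bot_of_coprime h

theorem eq_mul_of_mem_sup [Finite G] {K U : Subgroup G} (h : K ≤ Subgroup.normalizer (U : Set G))
    {x : G} (hx : x ∈ U ⊔ K) : ∃ a ∈ U, ∃ b ∈ K, x = a * b := by
  rw [← SetLike.mem_coe, sup_comm, Subgroup.coe_mul_of_left_le_normalizer_right K U h] at hx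
  obtain ⟨k, hk, a, ha, rfl⟩ := hx
  exact ⟨k * a * k⁻¹, (Subgroup.mem_normalizer_iff.1 (h hk) a).1 ha, k, hk, by group⟩

theorem isComplIn_sup [Finite G] {K U : Subgroup G} (h : K ≤ Subgroup.normalizer (U : Set G))
    (hd : U ⊓ K = ⊥) : Cfsg.IsComplIn U K (U ⊔ K) :=
  ⟨le_sup_left, le_sup_right, hd, fun _ hm => eq_mul_of_mem_sup h hm⟩

theorem card_sup_of_normalizes [Finite G] {K U : Subgroup G}
    (h : K ≤ Subgroup.normalizer (U : Set G)) (hd : U ⊓ K = ⊥) :
    Nat.card ↥(U ⊔ K) = Nat.card U * Nat.card K :=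
  card_of_isComplIn (isComplIn_sup h hd)

theorem isComplIn_symm [Finite G] {A B M : Subgroup G} (h : Cfsg.IsComplIn A B M) :
    Cfsg.IsComplIn B A M := by
  refine ⟨h.2.1, h.1, by rw [inf_comm]; exact h.2.2.1, fun m hm => ?_⟩
  obtain ⟨a, ha, b, hb, e⟩ := h.2.2.2 m⁻¹ (inv_mem hm)
  exact ⟨b⁻¹, inv_mem hb, a⁻¹, inv_mem ha, by rw [← inv_inv m, e, mul_inv_rev]⟩

namespace S15

variable [Finite G] {M K U : Subgroup G}

theorem kappa_prime {p : ℕ} (h : p ∈ Cfsg.kappa M) : p.Prime := h.1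

theorem sigma_prime {p : ℕ} (h : p ∈ Cfsg.sigma M) : p.Prime := h.1

theorem sigma_inter_kappa {p : ℕ} (h : p ∈ Cfsg.kappa M) : p ∉ Cfsg.sigma M := h.2.2.1

variable (h1350 : Hyp1350 G) (hM : IsCoatom M)
include h1350 hM

theorem sigmaCore_hallOf : Cfsg.IsPiHallOf (Cfsg.sigma M) (Cfsg.sigmaCore M) M := (h1350 M hM).1

theorem sigmaCore_hall : Cfsg.IsPiHall (Cfsg.sigma M) (Cfsg.sigmaCore M) := (h1350 M hM).2.1

theorem le_sigmaCore {X : Subgroup G} (hX : X ≤ M)
    (hπ : ∀ p : ℕ, p.Prime → p ∣ Nat.card X → p ∈ Cfsg.sigma M) : X ≤ Cfsg.sigmaCore M :=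
  le_of_normal_hall (sigmaCore_hallOf h1350 hM) (le_normalizer_sigmaCore M) hX hπ

theorem mem_sigmaCore {x : G} (hx : x ∈ M)
    (hπ : ∀ p : ℕ, p.Prime → p ∣ orderOf x → p ∈ Cfsg.sigma M) : x ∈ Cfsg.sigmaCore M :=
  mem_of_normal_hall (sigmaCore_hallOf h1350 hM) (le_normalizer_sigmaCore M) hx hπ

theorem prime_mem_sigma_of_mem_sigmaCore {x : G} (hx : x ∈ Cfsg.sigmaCore M) {p : ℕ}
    (hp : p.Prime) (hd : p ∣ orderOf x) : p ∈ Cfsg.sigma M :=
  (sigmaCore_hallOf h1350 hM).2.1 p hp (hd.trans (Subgroup.orderOf_dvd_natCard _ hx))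

theorem coprime_sigmaCore {n : ℕ} (hn : ∀ p : ℕ, p.Prime → p ∣ n → p ∉ Cfsg.sigma M) :
    (Nat.card (Cfsg.sigmaCore M)).Coprime n :=
  coprime_of_pi (sigmaCore_hallOf h1350 hM).2.1 fun p hp h hd => hn p hp hd h

theorem fittingHallOf_le_sigmaCore (hG : Cfsg.IsMinSimpleOddOrder G) :
    Cfsg.fittingHallOf M ≤ Cfsg.sigmaCore M := by
  refine le_sigmaCore h1350 hM (fittingHallOf_le M) fun p hp hd => ?_
  haveI := Fact.mk hp
  set H := Cfsg.fittingHallOf M with hH
  have hnil : Group.IsNilpotent H := isNilpotent_fittingHallOf M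
  obtain ⟨S⟩ : Nonempty (Sylow p H) := inferInstance
  set P := (S : Subgroup H).map H.subtype with hP
  have hPH : P ≤ H := Subgroup.map_subtype_le _
  have hne : P ≠ ⊥ := by
    rw [hP, Ne, Subgroup.map_eq_bot_iff_of_injective _ H.subtype_injective]
    exact S.ne_bot_of_dvd_card hd
  haveI hSn : (S : Subgroup H).Normal := inferInstance
  have hHP : H ≤ Subgroup.normalizer (P : Set G) := le_normalizer_map_subtype H _
  have hMP : M ≤ Subgroup.normalizer (P : Set G) := by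
    intro m hm
    have h1 := le_normalizer_fittingHallOf M hm
    rw [← map_conj_eq_self_iff]
    have h2 : P.map (MulAut.conj m).toMonoidHom ≤ P := by
      refine le_of_normalized_coprime hHP ?_ ?_
      · calc _ ≤ H.map (MulAut.conj m).toMonoidHom := Subgroup.map_mono hPH
          _ = H := map_conj_eq_self_iff.2 h1
      · rw [card_map_conj]
        obtain ⟨n, hn⟩ := (S.2.map H.subtype).exists_card_eq
        rw [hP, hn]
        exact ((Nat.Prime.coprime_iff_not_dvd hp).2 (relIndex_sylow_map S)).pow_left n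
    exact Subgroup.eq_of_le_of_card_ge h2 (card_map_conj m P).ge
  refine mem_sigma_iff.2 ⟨hp, hd.trans (Subgroup.card_dvd_of_le (fittingHallOf_le M)), P,
    hPH.trans (fittingHallOf_le M), S.2.map _, ?_, ?_⟩
  · rw [← Subgroup.relIndex_mul_relIndex P H M hPH (fittingHallOf_le M), hp.dvd_mul]
    rintro (h | h)
    · exact relIndex_sylow_map S h
    · exact Nat.not_coprime_of_dvd_of_dvd hp.one_lt hd h (coprime_fittingHallOf M)
  · exact (normalizer_eq_of_normal hG hM (hPH.trans (fittingHallOf_le M)) hne hMP).le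

theorem fittingHallOf_eq_of_isNilpotent (hG : Cfsg.IsMinSimpleOddOrder G)
    (hn : Group.IsNilpotent (Cfsg.sigmaCore M)) : Cfsg.fittingHallOf M = Cfsg.sigmaCore M :=
  le_antisymm (fittingHallOf_le_sigmaCore h1350 hM hG)
    (le_fittingHallOf (sigmaCore_le M) (le_normalizer_sigmaCore M) hn
      (coprime_of_pi (sigmaCore_hallOf h1350 hM).2.1 (sigmaCore_hallOf h1350 hM).2.2))

theorem sigmaCore_map_conj (g : G) :
    Cfsg.sigmaCore (M.map (MulAut.conj g).toMonoidHom) =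
      (Cfsg.sigmaCore M).map (MulAut.conj g).toMonoidHom := by
  have hMg := isCoatom_map_conj hM g
  refine le_antisymm ?_ ?_
  · intro x hx
    rw [mem_map_conj]
    have hxM := sigmaCore_le _ hx
    rw [mem_map_conj] at hxM
    refine mem_sigmaCore h1350 hM hxM fun p hp hd => ?_
    have e : orderOf (g⁻¹ * x * g) = orderOf x := by
      have := (MulAut.conj g⁻¹).orderOf_eq x
      simpa using this
    rw [← sigma_map_conj g]
    exact prime_mem_sigma_of_mem_sigmaCore h1350 hMg hx hp (e ▸ hd)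
  · refine le_sigmaCore h1350 hMg (Subgroup.map_mono (sigmaCore_le M)) fun p hp hd => ?_
    rw [card_map_conj] at hd
    rw [sigma_map_conj]
    exact (sigmaCore_hallOf h1350 hM).2.1 p hp hd

variable (hKU : Cfsg.IsSigmaDecomposition M K U)
include hKU

theorem K_le : K ≤ M := hKU.hall.1

theorem U_le : U ≤ M := hKU.compl.1

theorem sigmaCore_inf_K : Cfsg.sigmaCore M ⊓ K = ⊥ :=
  inf_eq_bot_of_coprime (coprime_sigmaCore h1350 hM fun p hp hd h =>
    sigma_inter_kappa (hKU.hall.2.1 p hp hd) h)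

theorem U_primes {p : ℕ} (hp : p.Prime) (hd : p ∣ Nat.card U) :
    p ∉ Cfsg.sigma M ∧ p ∉ Cfsg.kappa M := by
  have e : (K ⊔ Cfsg.sigmaCore M).relIndex M = Nat.card U := (relIndex_of_isComplIn hKU.compl).1
  constructor
  · intro h
    exact (sigmaCore_hallOf h1350 hM).2.2 p hp h
      ((e ▸ hd).trans (Subgroup.relIndex_dvd_of_le_left M le_sup_right))
  · intro h
    exact hKU.hall.2.2 p hp h ((e ▸ hd).trans (Subgroup.relIndex_dvd_of_le_left M le_sup_left))

theorem U_inf_K : U ⊓ K = ⊥ :=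
  inf_eq_bot_of_coprime (Nat.coprime_of_dvd fun p hp h1 h2 =>
    (U_primes h1350 hM hKU hp h1).2 (hKU.hall.2.1 p hp h2))

theorem U_inf_sigmaCore : U ⊓ Cfsg.sigmaCore M = ⊥ :=
  inf_eq_bot_of_coprime (coprime_sigmaCore h1350 hM fun _ hp hd =>
    (U_primes h1350 hM hKU hp hd).1).symm

theorem card_M : Nat.card M = Nat.card U * (Nat.card K * Nat.card (Cfsg.sigmaCore M)) := by
  rw [card_of_isComplIn hKU.compl, sup_comm K, mul_comm (Nat.card K),
    card_sup_of_normalizes ((K_le h1350 hM hKU).trans (le_normalizer_sigmaCore M))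
      (sigmaCore_inf_K h1350 hM hKU)]

theorem card_E : Nat.card ↥(U ⊔ K) = Nat.card U * Nat.card K :=
  card_sup_of_normalizes hKU.normal (U_inf_K h1350 hM hKU)

theorem E_primes {p : ℕ} (hp : p.Prime) (hd : p ∣ Nat.card ↥(U ⊔ K)) : p ∉ Cfsg.sigma M := by
  rw [card_E h1350 hM hKU] at hd
  rcases hp.dvd_mul.1 hd with h | h
  · exact (U_primes h1350 hM hKU hp h).1
  · exact sigma_inter_kappa (hKU.hall.2.1 p hp h)

/-- `E = U K` is a complement to `M_σ` in `M`. -/
theorem isComplIn_E : Cfsg.IsComplIn (U ⊔ K) (Cfsg.sigmaCore M) M := by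
  refine ⟨sup_le (U_le h1350 hM hKU) (K_le h1350 hM hKU), sigmaCore_le M,
    inf_eq_bot_of_coprime (coprime_sigmaCore h1350 hM fun _ hp hd =>
      E_primes h1350 hM hKU hp hd).symm, fun m hm => ?_⟩
  obtain ⟨a, ha, b, hb, rfl⟩ := hKU.compl.2.2.2 m hm
  rw [sup_comm] at hb
  obtain ⟨s, hs, k, hk, rfl⟩ :=
    eq_mul_of_mem_sup ((K_le h1350 hM hKU).trans (le_normalizer_sigmaCore M)) hb
  refine ⟨a * k, mul_mem (Subgroup.mem_sup_left ha) (Subgroup.mem_sup_right hk), k⁻¹ * s * k,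
    ?_, by group⟩
  have := (Subgroup.mem_normalizer_iff.1
    (le_normalizer_sigmaCore M (inv_mem (K_le h1350 hM hKU hk))) s).1 hs
  simpa using this

theorem le_normalizer_sigmaCore_of_U : U ≤ Subgroup.normalizer (Cfsg.sigmaCore M : Set G) :=
  (U_le h1350 hM hKU).trans (le_normalizer_sigmaCore M)

theorem card_U_sup_sigmaCore :
    Nat.card ↥(U ⊔ Cfsg.sigmaCore M) = Nat.card U * Nat.card (Cfsg.sigmaCore M) := by
  rw [sup_comm, card_sup_of_normalizes (le_normalizer_sigmaCore_of_U h1350 hM hKU)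
    (by rw [inf_comm]; exact U_inf_sigmaCore h1350 hM hKU), mul_comm]

theorem U_sup_sigmaCore_le : U ⊔ Cfsg.sigmaCore M ≤ M :=
  sup_le (U_le h1350 hM hKU) (sigmaCore_le M)

theorem relIndex_U_sup_sigmaCore : (U ⊔ Cfsg.sigmaCore M).relIndex M = Nat.card K := by
  refine Nat.eq_of_mul_eq_mul_left (Nat.card_pos (α := ↥(U ⊔ Cfsg.sigmaCore M))) ?_
  have e : Nat.card ↥(U ⊔ Cfsg.sigmaCore M) * (U ⊔ Cfsg.sigmaCore M).relIndex M = Nat.card M := by
    rw [← Subgroup.relIndex_bot_left, ← Subgroup.relIndex_bot_left,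
      Subgroup.relIndex_mul_relIndex ⊥ _ M bot_le (U_sup_sigmaCore_le h1350 hM hKU)]
  rw [e, card_U_sup_sigmaCore h1350 hM hKU, card_M h1350 hM hKU]
  ring

/-- The elements of `U M_σ` have order prime to `κ(M)`. -/
theorem not_kappa_of_dvd_UMs {p : ℕ} (hp : p.Prime)
    (hd : p ∣ Nat.card ↥(U ⊔ Cfsg.sigmaCore M)) : p ∉ Cfsg.kappa M := by
  rw [card_U_sup_sigmaCore h1350 hM hKU] at hd
  intro hk
  rcases hp.dvd_mul.1 hd with h | h
  · exact (U_primes h1350 hM hKU hp h).2 hk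
  · exact sigma_inter_kappa hk ((sigmaCore_hallOf h1350 hM).2.1 p hp h)

/-- `U M_σ` is the normal Hall `κ(M)'`-subgroup, as soon as it is normal. -/
theorem le_U_sup_sigmaCore
    (hn : M ≤ Subgroup.normalizer ((U ⊔ Cfsg.sigmaCore M : Subgroup G) : Set G))
    {X : Subgroup G} (hX : X ≤ M) (hπ : ∀ p : ℕ, p.Prime → p ∣ Nat.card X → p ∉ Cfsg.kappa M) :
    X ≤ U ⊔ Cfsg.sigmaCore M := by
  refine le_of_normalized_coprime hn hX ?_
  rw [relIndex_U_sup_sigmaCore h1350 hM hKU]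
  exact Nat.coprime_of_dvd fun p hp h1 h2 => hπ p hp h1 (hKU.hall.2.1 p hp h2)

/-- `U` is a Hall subgroup for the primes outside `σ(M) ∪ κ(M)`. -/
theorem isPiHallOf_U :
    Cfsg.IsPiHallOf {q | q.Prime ∧ q ∉ Cfsg.kappa M ∧ q ∉ Cfsg.sigma M} U M := by
  refine ⟨U_le h1350 hM hKU, fun p hp hd =>
    ⟨hp, (U_primes h1350 hM hKU hp hd).2, (U_primes h1350 hM hKU hp hd).1⟩, ?_⟩
  intro p hp h hd
  rw [(relIndex_of_isComplIn hKU.compl).2, sup_comm K,
    card_sup_of_normalizes ((K_le h1350 hM hKU).trans (le_normalizer_sigmaCore M))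
      (sigmaCore_inf_K h1350 hM hKU)] at hd
  rcases hp.dvd_mul.1 hd with h' | h'
  · exact h.2.2 ((sigmaCore_hallOf h1350 hM).2.1 p hp h')
  · exact h.2.1 (hKU.hall.2.1 p hp h')

omit hKU

theorem exists_decomposition (h1351 : Hyp1351 G) (h1352 : Hyp1352 G) :
    ∃ K U : Subgroup G, Cfsg.IsSigmaDecomposition M K U := by
  obtain ⟨⟨K, hK⟩, hcyc⟩ := h1351 M hM
  obtain ⟨⟨U, hU⟩, -⟩ := h1352 M hM K (hcyc K hK) hK
  exact ⟨K, U, hU⟩

end S15

end CfsgLib.OddLocal
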