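import Cfsg.Prelude.Def_OddOrderLocal

/-!
The Puig series: monotonicity, stabilisation, and the centraliser property in p-groups.
-/

set_option autoImplicit false

namespace CfsgLib.OddLocal

open Cfsg Subgroup

variable {G : Type*} [Group G]

/-- A nontrivial normal subgroup of a nilpotent group contains a nontrivial central element. -/
theorem exists_central_mem_of_normal [Group.IsNilpotent G] (N : Subgroup G) [hN : N.Normal]
    (h : N ≠ ⊥) : ∃ z ∈ N, z ≠ 1 ∧ z ∈ Subgroup.center G := by
  by_contra hne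
  push Not at hne
  apply h
  obtain ⟨n, hn⟩ := Group.IsNilpotent.nilpotent G
  suffices hk : ∀ k, N ⊓ Subgroup.upperCentralSeries G k = ⊥ by
    simpa [hn] using hk n
  intro k
  induction k with
  | zero => simp
  | succ k ih =>
    rw [eq_bot_iff]
    rintro x ⟨hx, hxZ⟩
    refine Subgroup.mem_bot.2 (by_contra fun hx1 => hne x hx hx1 (Subgroup.mem_center_iff.2 fun g => ?_))
    have h1 : x * g * x⁻¹ * g⁻¹ ∈ N ⊓ Subgroup.upperCentralSeries G k :=
      ⟨by simpa [mul_assoc] using mul_mem hx (hN.conj_mem _ (inv_mem hx) g),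
        Subgroup.mem_upperCentralSeries_succ_iff.1 hxZ g⟩
    rw [ih, Subgroup.mem_bot] at h1
    calc g * x = (x * g * x⁻¹ * g⁻¹) * (g * x) := by rw [h1, one_mul]
      _ = x * g := by group

/-- A finite nilpotent group has a self-centralising abelian normal subgroup. -/
theorem exists_selfCentralizing_abelian_normal [Finite G] [Group.IsNilpotent G] :
    ∃ A : Subgroup G, A.Normal ∧ IsMulCommutative A ∧ Subgroup.centralizer (A : Set G) = A := by
  obtain ⟨A, hA⟩ := (Set.toFinite {A : Subgroup G | A.Normal ∧ IsMulCommutative A}).exists_maximal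
    ⟨⊥, inferInstance, inferInstance⟩
  have hn := hA.prop.1
  have hc := hA.prop.2
  refine ⟨A, hn, hc, le_antisymm ?_ (Subgroup.le_centralizer_iff_isMulCommutative.2 hc)⟩
  by_contra hle
  set f := QuotientGroup.mk' A
  have hCn : ((Subgroup.centralizer (A : Set G)).map f).Normal :=
    (Subgroup.normal_centralizer (H := A)).map f (QuotientGroup.mk'_surjective A)
  have hne : (Subgroup.centralizer (A : Set G)).map f ≠ ⊥ := by
    rw [Ne, Subgroup.map_eq_bot_iff, QuotientGroup.ker_mk']; exact hle
  obtain ⟨z', ⟨z, hzC, rfl⟩, hz1, hzZ⟩ := exists_central_mem_of_normal _ hne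
  have hzA : z ∉ A := fun h => hz1 ((QuotientGroup.eq_one_iff z).2 h)
  set B := Subgroup.closure ((A : Set G) ∪ {z})
  have hAB : A ≤ B := fun a ha => Subgroup.subset_closure (Or.inl ha)
  have hzB : z ∈ B := Subgroup.subset_closure (Or.inr rfl)
  have hBn : B.Normal := by
    rw [← Subgroup.normalizer_eq_top_iff, eq_top_iff]
    have key : ∀ g : G, ∀ b ∈ B, g * b * g⁻¹ ∈ B := by
      intro g b hb
      induction hb using Subgroup.closure_induction with
      | mem x hx =>
        rcases hx with hx | rfl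
        · exact hAB (hn.conj_mem x hx g)
        · have h1 : f (g * x * g⁻¹ * x⁻¹) = 1 := by
            rw [map_mul, map_mul, map_mul, map_inv, map_inv, Subgroup.mem_center_iff.1 hzZ (f g)]
            group
          have h2 : g * x * g⁻¹ * x⁻¹ ∈ A := (QuotientGroup.eq_one_iff _).1 h1
          simpa using mul_mem (hAB h2) hzB
      | one => simp
      | mul x y _ _ hx hy => simpa [mul_assoc] using mul_mem hx hy
      | inv x _ hx => simpa [mul_assoc] using inv_mem hx
    intro g _
    rw [Subgroup.mem_normalizer_iff]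
    refine fun b => ⟨key g b, fun hb => ?_⟩
    simpa [mul_assoc] using key g⁻¹ _ hb
  have hBc : IsMulCommutative B := by
    refine Subgroup.isMulCommutative_closure ?_
    rintro x (hx | rfl) y (hy | rfl)
    · exact congrArg Subtype.val (hc.is_comm.comm ⟨x, hx⟩ ⟨y, hy⟩)
    · exact (Subgroup.mem_centralizer_iff.1 hzC x hx)
    · exact (Subgroup.mem_centralizer_iff.1 hzC y hy).symm
    · rfl
  exact hzA (hA.le_of_ge ⟨hBn, hBc⟩ hAB hzB)

theorem puigStep_antitone {X Y : Subgroup G} (h : X ≤ Y) : puigStep Y ≤ puigStep X :=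
  sSup_le_sSup fun _ hA => ⟨hA.1, h.trans hA.2⟩

theorem puigSeq_one : puigSeq G 1 = ⊤ := by
  refine eq_top_iff.2 fun g _ => ?_
  exact (le_sSup (a := Subgroup.zpowers g) ⟨inferInstance, bot_le⟩ :
    Subgroup.zpowers g ≤ puigSeq G 1) (Subgroup.mem_zpowers g)

theorem puigSeq_even_le_odd_self (n : ℕ) : puigSeq G (2 * n) ≤ puigSeq G (2 * n + 1) := by
  induction n with
  | zero => exact bot_le
  | succ n ih =>
    have h1 : puigSeq G (2 * n + 2) ≤ puigSeq G (2 * n + 1) := puigStep_antitone ih
    exact puigStep_antitone h1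

theorem puigSeq_even_mono_step (n : ℕ) : puigSeq G (2 * n) ≤ puigSeq G (2 * n + 2) := by
  induction n with
  | zero => exact bot_le
  | succ n ih => exact puigStep_antitone (puigStep_antitone ih)

theorem puigSeq_odd_anti_step (n : ℕ) : puigSeq G (2 * n + 3) ≤ puigSeq G (2 * n + 1) :=
  puigStep_antitone (puigSeq_even_mono_step n)

theorem puigSeq_even_mono : Monotone fun n => puigSeq G (2 * n) :=
  monotone_nat_of_le_succ puigSeq_even_mono_step

theorem puigSeq_odd_anti : Antitone fun n => puigSeq G (2 * n + 1) :=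
  antitone_nat_of_succ_le puigSeq_odd_anti_step

theorem puigSeq_even_le_odd (n m : ℕ) : puigSeq G (2 * n) ≤ puigSeq G (2 * m + 1) :=
  ((puigSeq_even_mono (le_max_left n m)).trans (puigSeq_even_le_odd_self _)).trans
    (puigSeq_odd_anti (le_max_right n m))

/-- Both subsequences become constant, with values `puigLower` and `puigSubgroup`. -/
theorem puigSeq_stable [Finite G] : ∃ k : ℕ, ∀ n : ℕ, k ≤ n →
    puigSeq G (2 * n) = puigLower G ∧ puigSeq G (2 * n + 1) = puigSubgroup G := by
  obtain ⟨k, hk⟩ := WellFoundedGT.monotone_chain_condition'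
    (⟨fun n => puigSeq G (2 * n), puigSeq_even_mono⟩ : ℕ →o Subgroup G)
  have hk' : ∀ n, k ≤ n → puigSeq G (2 * n) = puigSeq G (2 * k) := fun n hn =>
    ((puigSeq_even_mono hn).eq_of_not_lt (hk n hn)).symm
  have hlow : puigLower G = puigSeq G (2 * k) := by
    refine le_antisymm (iSup_le fun n => ?_) (le_iSup (fun n => puigSeq G (2 * n)) k)
    exact (puigSeq_even_mono (le_max_left n k)).trans (hk' _ (le_max_right n k)).le
  have hodd : ∀ n, k ≤ n → puigSeq G (2 * n + 1) = puigSeq G (2 * k + 1) := fun n hn =>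
    congrArg puigStep (hk' n hn)
  have hup : puigSubgroup G = puigSeq G (2 * k + 1) := by
    refine le_antisymm (iInf_le (fun n => puigSeq G (2 * n + 1)) k) (le_iInf fun n => ?_)
    exact (hodd _ (le_max_right n k)).ge.trans (puigSeq_odd_anti (le_max_left n k))
  exact ⟨k, fun n hn => ⟨(hk' n hn).trans hlow.symm, (hodd n hn).trans hup.symm⟩⟩

theorem puigStep_lower [Finite G] : puigStep (puigLower G) = puigSubgroup G := by
  obtain ⟨k, hk⟩ := puigSeq_stable (G := G)
  rw [← (hk k le_rfl).1, ← (hk k le_rfl).2]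
  rfl

theorem puigStep_subgroup [Finite G] : puigStep (puigSubgroup G) = puigLower G := by
  obtain ⟨k, hk⟩ := puigSeq_stable (G := G)
  rw [← (hk k le_rfl).2, ← (hk (k + 1) (Nat.le_succ k)).1]
  rfl

theorem puigLower_le [Finite G] : puigLower G ≤ puigSubgroup G := by
  obtain ⟨k, hk⟩ := puigSeq_stable (G := G)
  rw [← (hk k le_rfl).1, ← (hk k le_rfl).2]
  exact puigSeq_even_le_odd_self k

theorem centralizer_le_puigStep {A X : Subgroup G} (hn : A.Normal) (hc : IsMulCommutative A)
    (hA : Subgroup.centralizer (A : Set G) = A) :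
    Subgroup.centralizer ((puigStep X : Subgroup G) : Set G) ≤ puigStep X := by
  have hle : A ≤ puigStep X :=
    le_sSup ⟨hc, by rw [Subgroup.normalizer_eq_top]; exact le_top⟩
  exact (Subgroup.centralizer_le hle).trans (hA.le.trans hle)

end CfsgLib.OddLocal
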