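import Cfsg.Prelude.Def_OddOrderLocal
import Cfsg.Agent.Lib.PGroup.CoprimeHall
import Cfsg.Agent.Lib.PStab.TransHyp
import Cfsg.Agent.Lib.Solvable.Basic

/-!
Hall subgroups of subgroups (`IsPiHallOf`), `piCoreOf`, and conjugation: elementary toolbox for the
local analysis of BG sections 13 and 14.
-/

set_option autoImplicit false

open scoped Pointwise

namespace CfsgLib.OddLocal.Sec13

open Cfsg Subgroup
open CfsgLib.Solvable (conj_smul_le_iff mem_conj_smul_iff card_conj_smul conj_smul_conj_smul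
  conj_smul_mono conj_smul_self_of_mem_normalizer conj_smul_eq_map mem_normalizer_of_conj_mem
  le_normalizer_of_conj_mem)

universe u
variable {G : Type u} [Group G]

/-- All primes dividing the order of `H` lie in `π`. -/
def IsPi (π : Set ℕ) (H : Subgroup G) : Prop := ∀ p : ℕ, p.Prime → p ∣ Nat.card H → p ∈ π

theorem IsPi.mono {π π' : Set ℕ} {H : Subgroup G} (h : IsPi π H) (hs : π ⊆ π') : IsPi π' H :=
  fun p hp hd => hs (h p hp hd)

variable [Finite G]

theorem IsPi.of_le {π : Set ℕ} {H K : Subgroup G} (h : IsPi π K) (hle : H ≤ K) : IsPi π H :=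
  fun p hp hd => h p hp (hd.trans (card_dvd_of_le hle))

theorem IsPi.conj {π : Set ℕ} {H : Subgroup G} (h : IsPi π H) (g : G) :
    IsPi π (MulAut.conj g • H) := fun p hp hd => h p hp (by rwa [card_conj_smul] at hd)

omit [Finite G] in
theorem isPi_bot (π : Set ℕ) : IsPi π (⊥ : Subgroup G) :=
  fun p hp hd => absurd (Nat.eq_one_of_dvd_one (Subgroup.card_bot (G := G) ▸ hd)) hp.ne_one

theorem IsPi.sup {π : Set ℕ} {H K : Subgroup G} (hH : IsPi π H) (hK : IsPi π K)
    (hn : K ≤ normalizer (H : Set G)) : IsPi π (H ⊔ K) := by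
  intro p hp hd
  rw [← relIndex_bot_left, ← relIndex_mul_relIndex ⊥ H (H ⊔ K) bot_le le_sup_left,
    relIndex_bot_left, CfsgLib.PGroup.relIndex_normalized_sup hn] at hd
  exact (hp.dvd_mul.1 hd).elim (hH p hp) fun h => hK p hp (h.trans (relIndex_dvd_card H K))

theorem eq_bot_of_isPi {π : Set ℕ} {H : Subgroup G} (h : IsPi π H)
    (h' : ∀ p : ℕ, p.Prime → p ∈ π → ¬ p ∣ Nat.card H) : H = ⊥ := by
  refine eq_bot_of_card_eq _ ?_
  by_contra hne
  obtain ⟨p, hp, hd⟩ := Nat.exists_prime_and_dvd hne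
  exact h' p hp (h p hp hd) hd

theorem inf_eq_bot_of_isPi {π π' : Set ℕ} {H K : Subgroup G} (hH : IsPi π H) (hK : IsPi π' K)
    (hd : ∀ p : ℕ, p.Prime → p ∈ π → p ∉ π') : H ⊓ K = ⊥ :=
  eq_bot_of_isPi (hH.of_le inf_le_left) fun p hp hpπ h => hd p hp hpπ ((hK.of_le inf_le_right) p hp h)

theorem coprime_of_isPi {π π' : Set ℕ} {H K : Subgroup G} (hH : IsPi π H) (hK : IsPi π' K)
    (hd : ∀ p : ℕ, p.Prime → p ∈ π → p ∉ π') : (Nat.card H).Coprime (Nat.card K) :=
  Nat.coprime_of_dvd fun p hp h1 h2 => hd p hp (hH p hp h1) (hK p hp h2)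

theorem isPi_singleton_of_isPGroup {p : ℕ} [hp : Fact p.Prime] {P : Subgroup G} (hP : IsPGroup p P) :
    IsPi {p} P := fun q hq hd => by
  obtain ⟨n, hn⟩ := IsPGroup.iff_card.1 hP
  rw [hn] at hd
  exact (Nat.prime_dvd_prime_iff_eq hq hp.out).1 (hq.dvd_of_dvd_pow hd)

theorem isPGroup_of_isPi_singleton {p : ℕ} [hp : Fact p.Prime] {P : Subgroup G} (hP : IsPi {p} P) :
    IsPGroup p P :=
  CfsgLib.PStab.isPGroup_iff_primes.2 fun q hq hd => hP q hq hd

theorem isPi_zpowers {π : Set ℕ} {x : G} :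
    IsPi π (zpowers x) ↔ ∀ p : ℕ, p.Prime → p ∣ orderOf x → p ∈ π := by
  unfold IsPi
  rw [Nat.card_zpowers]

section PiCore

theorem piCoreOf_le (π : Set ℕ) (M : Subgroup G) : piCoreOf π M ≤ M := map_subtype_le _

theorem isPi_piCoreOf (π : Set ℕ) (M : Subgroup G) : IsPi π (piCoreOf π M) :=
  CfsgLib.PStab.prime_mem_of_dvd_piCoreOf

theorem le_normalizer_piCoreOf (π : Set ℕ) (M : Subgroup G) :
    M ≤ normalizer (piCoreOf π M : Set G) :=
  le_normalizer.trans (CfsgLib.PStab.normalizer_le_normalizer_piCoreOf π M)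

theorem le_piCoreOf {π : Set ℕ} {N M : Subgroup G} (hNM : N ≤ M)
    (hn : M ≤ normalizer (N : Set G)) (hN : IsPi π N) : N ≤ piCoreOf π M := by
  rw [← map_subgroupOf_eq_of_le hNM]
  refine map_mono (le_sSup ⟨(normal_subgroupOf_iff_le_normalizer hNM).2 hn, fun p hp hd => hN p hp ?_⟩)
  rwa [Nat.card_congr (subgroupOfEquivOfLe hNM).toEquiv] at hd

theorem subgroupOf_piCoreOf (π : Set ℕ) (M : Subgroup G) :
    (piCoreOf π M).subgroupOf M = piCore π M :=
  comap_map_eq_self_of_injective M.subtype_injective _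

end PiCore

section Hall

variable {π : Set ℕ}

theorem exists_hallOf_ge {M U : Subgroup G} (hM : Group.IsSolvable M) (hUM : U ≤ M) (hU : IsPi π U) :
    ∃ H : Subgroup G, IsPiHallOf π H M ∧ U ≤ H := by
  obtain ⟨H, hH, -, hle⟩ := CfsgLib.PGroup.exists_invariant_hall_ge (A := (⊥ : Subgroup G)) bot_le
    (by rw [Subgroup.card_bot]; exact Nat.coprime_one_left _) hM π hUM bot_le hU
  exact ⟨H, hH, hle⟩

theorem exists_conj_le_hallOf {M U K : Subgroup G} (hM : Group.IsSolvable M) (hK : IsPiHallOf π K M)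
    (hUM : U ≤ M) (hU : IsPi π U) : ∃ m ∈ M, MulAut.conj m • U ≤ K := by
  obtain ⟨H, hH, hle⟩ := exists_hallOf_ge hM hUM hU
  obtain ⟨m, hm, e⟩ := CfsgLib.PGroup.exists_conj_of_isPiHallOf hM hH hK
  exact ⟨m, hm, (conj_smul_mono m hle).trans e.le⟩

theorem card_hallOf_eq {M H K : Subgroup G} (hH : IsPiHallOf π H M) (hK : IsPiHallOf π K M) :
    Nat.card H = Nat.card K := by
  obtain ⟨m, k, hc, hm, hk⟩ := CfsgLib.PGroup.exists_pi_factor π (Nat.card M) Nat.card_pos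
  rw [CfsgLib.PGroup.card_isPiHallOf hH hc hm hk, CfsgLib.PGroup.card_isPiHallOf hK hc hm hk]

/-- A `π`-subgroup containing a Hall `π`-subgroup equals it. -/
theorem hallOf_eq_of_le {M H U : Subgroup G} (hH : IsPiHallOf π H M) (hle : H ≤ U) (hUM : U ≤ M)
    (hU : IsPi π U) : U = H := by
  refine le_antisymm (relIndex_eq_one.1 ?_) hle
  by_contra hne
  obtain ⟨p, hp, hd⟩ := Nat.exists_prime_and_dvd hne
  have h1 : H.relIndex U ∣ Nat.card U := relIndex_dvd_card H U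
  exact hH.2.2 p hp (hU p hp (hd.trans h1)) (hd.trans (by
    rw [← relIndex_mul_relIndex H U M hle hUM]; exact Dvd.intro _ rfl))

/-- A normal Hall `π`-subgroup contains every `π`-subgroup. -/
theorem le_of_normal_hallOf {M H U : Subgroup G} (hH : IsPiHallOf π H M)
    (hn : M ≤ normalizer (H : Set G)) (hUM : U ≤ M) (hU : IsPi π U) : U ≤ H := by
  have h := hallOf_eq_of_le hH le_sup_left (sup_le hH.1 hUM) (IsPi.sup hH.2.1 hU (hUM.trans hn))
  exact le_sup_right.trans h.le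

theorem hallOf_of_le {M L H : Subgroup G} (hH : IsPiHallOf π H M) (hHL : H ≤ L) (hLM : L ≤ M) :
    IsPiHallOf π H L :=
  ⟨hHL, hH.2.1, fun p hp hpπ hd => hH.2.2 p hp hpπ (hd.trans (by
    rw [← relIndex_mul_relIndex H L M hHL hLM]; exact Dvd.intro _ rfl))⟩

/-- Intersection of a Hall subgroup with a normal subgroup. -/
theorem hallOf_inf_normal {M H N : Subgroup G} (hH : IsPiHallOf π H M) (hNM : N ≤ M)
    (hn : M ≤ normalizer (N : Set G)) : IsPiHallOf π (H ⊓ N) N := by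
  refine ⟨inf_le_right, IsPi.of_le hH.2.1 inf_le_left, fun p hp hpπ hd => hH.2.2 p hp hpπ ?_⟩
  rw [inf_relIndex_right, ← CfsgLib.PGroup.relIndex_normalizing_sup (hH.1.trans hn)] at hd
  exact hd.trans (by
    rw [← relIndex_mul_relIndex H (N ⊔ H) M le_sup_right (sup_le hNM hH.1)]; exact Dvd.intro _ rfl)

/-- Complementary Hall subgroups: `M = HK` and `H ∩ K = 1`. -/
theorem isComplIn_of_hallOf {M H K : Subgroup G} {π' : Set ℕ} (hH : IsPiHallOf π H M)
    (hK : IsPiHallOf π' K M) (hn : M ≤ normalizer (H : Set G))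
    (hd : ∀ p : ℕ, p.Prime → p ∈ π → p ∉ π')
    (hall : ∀ p : ℕ, p.Prime → p ∣ Nat.card M → p ∈ π ∨ p ∈ π') : IsComplIn K H M := by
  have hinf : K ⊓ H = ⊥ := by rw [inf_comm]; exact inf_eq_bot_of_isPi hH.2.1 hK.2.1 hd
  refine ⟨hK.1, hH.1, hinf, fun m hm => ?_⟩
  have htop : H ⊔ K = M := by
    refine le_antisymm (sup_le hH.1 hK.1) (relIndex_eq_one.1 ?_)
    by_contra hne
    obtain ⟨p, hp, hpd⟩ := Nat.exists_prime_and_dvd hne
    rcases hall p hp (hpd.trans (relIndex_dvd_card _ _)) with h | h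
    · exact hH.2.2 p hp h (hpd.trans (relIndex_dvd_of_le_left M le_sup_left))
    · exact hK.2.2 p hp h (hpd.trans (relIndex_dvd_of_le_left M le_sup_right))
  obtain ⟨a, ha, b, hb, e⟩ := CfsgLib.Solvable.exists_mul_of_mem_sup (hK.1.trans hn) (htop.ge hm)
  refine ⟨b, hb, b⁻¹ * a * b, ?_, by rw [e]; group⟩
  simpa using (mem_normalizer_iff.1 (inv_mem (hn (hK.1 hb))) a).1 ha

omit [Finite G] in
theorem IsPiHallOf.isPi {M H : Subgroup G} (hH : IsPiHallOf π H M) : IsPi π H := hH.2.1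

theorem hallOf_conj {M H : Subgroup G} (hH : IsPiHallOf π H M) (g : G) :
    IsPiHallOf π (MulAut.conj g • H) (MulAut.conj g • M) := by
  refine ⟨conj_smul_mono g hH.1, IsPi.conj hH.2.1 g, fun p hp hpπ hd => hH.2.2 p hp hpπ ?_⟩
  rwa [relIndex_pointwise_smul] at hd

theorem exists_sylow_of_hallOf {M P : Subgroup G} {p : ℕ} [Fact p.Prime]
    (hP : IsPiHallOf {p} P M) : ∃ S : Sylow p M, (S : Subgroup M).map M.subtype = P := by
  have hPp : IsPGroup p P := isPGroup_of_isPi_singleton hP.2.1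
  obtain ⟨S, hS⟩ := (hPp.of_equiv (subgroupOfEquivOfLe hP.1).symm).exists_le_sylow
  refine ⟨S, hallOf_eq_of_le hP ?_ (map_subtype_le _) (isPi_singleton_of_isPGroup (S.2.map _))⟩
  intro x hx
  exact ⟨⟨x, hP.1 hx⟩, hS (mem_subgroupOf.2 hx), rfl⟩

theorem hallOf_of_sylow {M : Subgroup G} {p : ℕ} [hp : Fact p.Prime] (S : Sylow p M) :
    IsPiHallOf {p} ((S : Subgroup M).map M.subtype) M := by
  refine ⟨map_subtype_le _, isPi_singleton_of_isPGroup (S.2.map _), fun q hq hqp hd => ?_⟩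
  rw [Set.mem_singleton_iff.1 hqp] at hd
  refine S.not_dvd_index ?_
  rwa [relIndex, show ((S : Subgroup M).map M.subtype).subgroupOf M = (S : Subgroup M) from
    comap_map_eq_self_of_injective M.subtype_injective _] at hd

theorem exists_sylow_ge {M U : Subgroup G} {p : ℕ} [hp : Fact p.Prime] (hUM : U ≤ M)
    (hU : IsPGroup p U) : ∃ S : Subgroup G, IsPiHallOf {p} S M ∧ U ≤ S := by
  obtain ⟨S, hS⟩ := (hU.of_equiv (subgroupOfEquivOfLe hUM).symm).exists_le_sylow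
  exact ⟨_, hallOf_of_sylow S, fun x hx => ⟨⟨x, hUM hx⟩, hS (mem_subgroupOf.2 hx), rfl⟩⟩

theorem exists_sylowOf (M : Subgroup G) (p : ℕ) [Fact p.Prime] :
    ∃ S : Subgroup G, IsPiHallOf {p} S M := by
  obtain ⟨S, hS, -⟩ := exists_sylow_ge (M := M) (p := p) bot_le IsPGroup.of_bot
  exact ⟨S, hS⟩

theorem exists_conj_sylowOf {M S T : Subgroup G} {p : ℕ} [Fact p.Prime] (hS : IsPiHallOf {p} S M)
    (hT : IsPiHallOf {p} T M) : ∃ m ∈ M, MulAut.conj m • S = T := by
  obtain ⟨P, rfl⟩ := exists_sylow_of_hallOf hS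
  obtain ⟨Q, rfl⟩ := exists_sylow_of_hallOf hT
  exact CfsgLib.Solvable.exists_conj_sylow_map P Q

theorem dvd_card_sylowOf {M S : Subgroup G} {p : ℕ} [hp : Fact p.Prime] (hS : IsPiHallOf {p} S M)
    (hd : p ∣ Nat.card M) : p ∣ Nat.card S := by
  have h : Nat.card S * S.relIndex M = Nat.card M := by
    rw [← relIndex_bot_left, ← relIndex_bot_left M, relIndex_mul_relIndex ⊥ S M bot_le hS.1]
  rw [← h] at hd
  exact (hp.out.dvd_mul.1 hd).resolve_right (hS.2.2 p hp.out rfl)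

theorem sylowOf_ne_bot {M S : Subgroup G} {p : ℕ} [hp : Fact p.Prime] (hS : IsPiHallOf {p} S M)
    (hd : p ∣ Nat.card M) : S ≠ ⊥ := by
  intro h
  have := dvd_card_sylowOf hS hd
  rw [h, Subgroup.card_bot] at this
  exact hp.out.one_lt.ne' (Nat.eq_one_of_dvd_one this)

/-- A subgroup containing a Sylow subgroup of the intersection with a normal subgroup: Frattini. -/
theorem frattini_hallOf {M N H : Subgroup G} (hN : Group.IsSolvable N) (hNM : N ≤ M)
    (hn : M ≤ normalizer (N : Set G)) (hH : IsPiHallOf π H N) {g : G} (hg : g ∈ M) :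
    ∃ a ∈ N, ∃ b ∈ M ⊓ normalizer (H : Set G), g = a * b := by
  obtain ⟨m, hm, e⟩ := CfsgLib.PGroup.exists_conj_of_isPiHallOf hN
    (CfsgLib.PGroup.isPiHallOf_conj hH (hn hg)) hH
  refine ⟨m⁻¹, inv_mem hm, m * g, ⟨mul_mem (hNM hm) hg, ?_⟩, by group⟩
  show m * g ∈ normalizer (H : Set G)
  rw [CfsgLib.Solvable.mem_normalizer_iff_conj_smul, ← conj_smul_conj_smul]
  exact e

end Hall

end CfsgLib.OddLocal.Sec13
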