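import Cfsg.Agent.Lib.OddLocal.S15Kappa

/-!
# A regular subgroup of full exponent in `U`, and the normaliser of `U`
-/

set_option autoImplicit false
set_option linter.style.haveILetI false
set_option linter.unusedSectionVars false

open scoped Pointwise

namespace CfsgLib.OddLocal.S15

universe u

variable {G : Type u} [Group G] [Finite G] {M K U : Subgroup G}

theorem mem_normalizer_centralizer {H : Subgroup G} {n : G}
    (hn : n ∈ Subgroup.normalizer (H : Set G)) :
    n ∈ Subgroup.normalizer ((Subgroup.centralizer (H : Set G) : Subgroup G) : Set G) :=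
  CfsgLib.Solvable.normalizer_le_normalizer_centralizer H hn

/-- Primary part of the exponent: a regular element of that order. -/
theorem exists_regular_primePow (hG : Cfsg.IsMinSimpleOddOrder G) (h1350 : Hyp1350 G)
    (h1405 : Hyp1405 G) (h1417 : Hyp1417 G) (h1418 : Hyp1418 G) (h1429 : Hyp1429 G)
    (hM : IsCoatom M) (hKU : Cfsg.IsSigmaDecomposition M K U) (hUc : IsMulCommutative U)
    {p : ℕ} [hp : Fact p.Prime] (hpU : p ∣ Nat.card U) :
    ∃ s ∈ U, orderOf s = p ^ (Monoid.exponent U).factorization p ∧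
      ∀ z ∈ Subgroup.zpowers s, orderOf z = p →
        Cfsg.sigmaCore M ⊓ Subgroup.centralizer ({z} : Set G) = ⊥ := by
  set v := (Monoid.exponent U).factorization p with hv
  have hUM : U ≤ M := U_le h1350 hM hKU
  obtain ⟨hpσ, hpκ⟩ := U_primes h1350 hM hKU hp.out hpU
  have hexp0 : Monoid.exponent U ≠ 0 := Monoid.exponent_ne_zero_of_finite
  have hvdvd : p ^ v ∣ Monoid.exponent U := Nat.ordProj_dvd _ _
  have hv1 : 1 ≤ v := by
    obtain ⟨x, hx⟩ := exists_prime_orderOf_dvd_card' (G := U) p hpU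
    exact (hp.out.dvd_iff_one_le_factorization hexp0).1 (hx ▸ Monoid.order_dvd_exponent x)
  -- the Sylow subgroup
  obtain ⟨PU⟩ : Nonempty (Sylow p U) := inferInstance
  set P := (PU : Subgroup U).map U.subtype with hPdef
  have hPU : P ≤ U := Subgroup.map_subtype_le _
  have hPp : IsPGroup p P := PU.2.map _
  have hPc : ∀ a ∈ P, ∀ b ∈ P, a * b = b * a := fun a ha b hb =>
    comm_of_mem hUc (hPU ha) (hPU hb)
  have hUP : U ≤ Subgroup.normalizer (P : Set G) := by
    intro x hx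
    rw [Subgroup.mem_normalizer_iff]
    intro y
    constructor
    · intro hy
      rwa [comm_of_mem hUc hx (hPU hy), mul_inv_cancel_right]
    · intro hy
      have h1 : x * y * x⁻¹ ∈ U := hPU hy
      have hyU : y ∈ U := by
        simpa [mul_assoc] using U.mul_mem (U.mul_mem (U.inv_mem hx) h1) hx
      rwa [comm_of_mem hUc hx hyU, mul_inv_cancel_right] at hy
  have hmemP : ∀ x ∈ U, (∃ j, orderOf x = p ^ j) → x ∈ P := by
    rintro x hx ⟨j, hj⟩
    refine mem_of_normalized_coprime hUP hx ?_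
    rw [hj]
    exact ((Nat.Prime.coprime_iff_not_dvd hp.out).2 (relIndex_sylow_map PU)).pow_left j
  have hPdvd : ∀ x ∈ P, orderOf x ∣ p ^ v := by
    intro x hx
    obtain ⟨j, hj⟩ := IsPGroup.iff_orderOf.1 hPp ⟨x, hx⟩
    rw [← Subgroup.orderOf_coe] at hj
    have h1 : p ^ j ∣ Monoid.exponent U := by
      rw [← hj]
      have := Monoid.order_dvd_exponent (⟨x, hPU hx⟩ : U)
      rwa [← Subgroup.orderOf_coe] at this
    rw [hj]
    exact pow_dvd_pow p ((hp.out.pow_dvd_iff_le_factorization hexp0).1 h1)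
  -- an element of maximal order
  obtain ⟨s₀, hs₀P, hs₀⟩ : ∃ s₀ ∈ P, orderOf s₀ = p ^ v := by
    letI : CommGroup U := { (inferInstance : Group U) with mul_comm := hUc.is_comm.comm }
    obtain ⟨g, hg⟩ := Monoid.exists_orderOf_eq_exponent (G := U) Monoid.ExponentExists.of_finite
    obtain ⟨k, hk⟩ := hg ▸ hvdvd
    have hko : orderOf ((g : G) ^ k) = p ^ v := by
      rw [orderOf_pow, Subgroup.orderOf_coe, hk, Nat.gcd_eq_right (Dvd.intro_left _ rfl),
        Nat.mul_div_cancel]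
      rcases Nat.eq_zero_or_pos k with rfl | h
      · simp only [mul_zero] at hk
        exact absurd hk (orderOf_pos g).ne'
      · exact h
    exact ⟨(g : G) ^ k, hmemP _ (U.pow_mem g.2 k) ⟨v, hko⟩, hko⟩
  -- socle
  set A : Subgroup G := Subgroup.closure {x : G | x ∈ P ∧ x ^ p = 1} with hA
  have hAP : A ≤ P := (Subgroup.closure_le P).2 fun x hx => hx.1
  have hAe : Cfsg.IsElementaryAbelian p A := by
    refine CfsgLib.PGroup.isElementaryAbelian_mk (fun a ha b hb => hPc a (hAP ha) b (hAP hb))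
      fun a ha => ?_
    induction ha using Subgroup.closure_induction with
    | mem x hx => exact hx.2
    | one => exact one_pow p
    | mul x y hx hy ihx ihy =>
      rw [(show Commute x y from hPc x (hAP hx) y (hAP hy)).mul_pow, ihx, ihy, one_mul]
    | inv x _ ih => rw [inv_pow, ih, inv_one]
  have hPM : P ≤ M := hPU.trans hUM
  have hPi : ¬ p ∣ P.relIndex M := by
    rw [← Subgroup.relIndex_mul_relIndex P U M hPU hUM, hp.out.dvd_mul]
    rintro (h | h)
    · exact relIndex_sylow_map PU h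
    · exact (isPiHallOf_U h1350 hM hKU).2.2 p hp.out ⟨hp.out, hpκ, hpσ⟩ h
  obtain ⟨S, hS⟩ := exists_sylow_map_eq_of_not_dvd hPM hPp hPi
  obtain ⟨hAcard, hAreg, -⟩ := h1429 M hM
    (fun h => hpκ (h p hp.out (hpU.trans (Subgroup.card_dvd_of_le hUM)) hpσ)) p
    (hpU.trans (Subgroup.card_dvd_of_le hUM))
    (fun h => h.elim hpσ hpκ) S
  rw [hS, ← hA] at hAcard hAreg
  -- the image of the power map
  let Φ : Subgroup G :=
    { carrier := {y | ∃ s ∈ P, y = s ^ p ^ (v - 1)}
      one_mem' := ⟨1, P.one_mem, (one_pow _).symm⟩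
      mul_mem' := by
        rintro _ _ ⟨a, ha, rfl⟩ ⟨b, hb, rfl⟩
        exact ⟨a * b, P.mul_mem ha hb, ((show Commute a b from hPc a ha b hb).mul_pow _).symm⟩
      inv_mem' := by
        rintro _ ⟨a, ha, rfl⟩
        exact ⟨a⁻¹, P.inv_mem ha, (inv_pow _ _).symm⟩ }
  have hΦA : Φ ≤ A := by
    rintro _ ⟨s, hs, rfl⟩
    refine Subgroup.subset_closure ⟨P.pow_mem hs _, ?_⟩
    rw [← pow_mul, ← pow_succ, Nat.sub_add_cancel hv1]
    exact orderOf_dvd_iff_pow_eq_one.1 (hPdvd s hs)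
  have hne : s₀ ^ p ^ (v - 1) ≠ 1 := by
    intro h
    have h1 := orderOf_dvd_of_pow_eq_one h
    rw [hs₀, Nat.pow_dvd_pow_iff_le_right hp.out.one_lt] at h1
    omega
  have hΦ1 : Φ ≠ ⊥ := fun h => hne (Subgroup.mem_bot.1 (h ▸ (⟨s₀, hs₀P, rfl⟩ : s₀ ^ p ^ (v - 1) ∈ Φ)))
  -- a regular element of the image
  obtain ⟨a, haΦ, ha1, hareg⟩ : ∃ a ∈ Φ, a ≠ 1 ∧
      Cfsg.sigmaCore M ⊓ Subgroup.centralizer ({a} : Set G) = ⊥ := by
    obtain ⟨a, ha, ha1⟩ := (Subgroup.bot_or_exists_ne_one Φ).resolve_left hΦ1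
    obtain ⟨n, hn⟩ := CfsgLib.PGroup.elemAb_card hAe
    have hn2 : n ≤ 2 := (Nat.pow_le_pow_iff_right hp.out.one_lt).1 (hn ▸ hAcard)
    have hordA : orderOf a = p := CfsgLib.PGroup.elemAb_orderOf hAe (hΦA ha) ha1
    have hn1 : 1 ≤ n := by
      rcases Nat.eq_zero_or_pos n with rfl | h
      · have h0 : Nat.card A = 1 := by rw [hn, pow_zero]
        rw [Subgroup.card_eq_one] at h0
        exact absurd (Subgroup.mem_bot.1 (h0 ▸ hΦA ha)) ha1
      · exact h
    obtain rfl | rfl : n = 1 ∨ n = 2 := by omega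
    · refine ⟨a, ha, ha1, ?_⟩
      rw [← centralizer_zpowers, eq_zpowers_of_mem_prime (hn.trans (pow_one p)) (hΦA ha) ha1]
      exact hAreg
    · have hAM : A ≤ M := hAP.trans hPM
      have hτ : p ∈ Cfsg.tau2 M := by
        refine ⟨hp.out, hpσ, rankLE_two_of_notMem_sigma h1350 h1405 hM hp.out hpσ, fun h => ?_⟩
        have h1 := (CfsgLib.PGroup.pRankLE_subgroup_iff M).1 h A hAM hAe
        rw [hn, pow_one] at h1
        nlinarith [hp.out.two_le]
      obtain ⟨-, hSyl, -, -, -, A₁, hA₁, hA₁c, hA₁r⟩ := h1417 M hM p hτ A ⟨hAM, hAe, hn⟩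
      obtain ⟨m, hm⟩ := IsPGroup.iff_card.1
        ((CfsgLib.PGroup.elemAb_isPGroup hAe).to_le hΦA)
      have hm2 : m ≤ 2 := (Nat.pow_le_pow_iff_right hp.out.one_lt).1
        (hm ▸ hn ▸ Subgroup.card_le_of_le hΦA)
      have hm1 : 1 ≤ m := by
        rcases Nat.eq_zero_or_pos m with rfl | h
        · have h0 : Nat.card Φ = 1 := by rw [hm, pow_zero]
          exact absurd (Subgroup.card_eq_one.1 h0) hΦ1
        · exact h
      obtain rfl | rfl : m = 1 ∨ m = 2 := by omega
      · -- a line invariant under `N_G(P)`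
        rw [pow_one] at hm
        refine ⟨a, ha, ha1, ?_⟩
        rw [← centralizer_zpowers, eq_zpowers_of_mem_prime hm ha ha1]
        by_contra hcon
        obtain ⟨hle, huniq⟩ := (h1418 M hM (U ⊔ K) (isComplIn_E h1350 hM hKU) p hτ A
          ⟨hAP.trans (hPU.trans le_sup_left), hAe, hn⟩).2.2 Φ hΦA hm hcon
        have hAS : A ≤ (S : Subgroup M).map M.subtype := hS.symm ▸ hAP
        refine ((hSyl S).2 hAS).2 ?_
        rw [hS]
        intro x hx
        have hxΦ : x ∈ Subgroup.normalizer (Φ : Set G) := by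
          rw [← map_conj_eq_self_iff]
          refine Subgroup.eq_of_le_of_card_ge ?_ (card_map_conj x Φ).ge
          rintro _ ⟨_, ⟨s, hs, rfl⟩, rfl⟩
          refine ⟨x * s * x⁻¹, (Subgroup.mem_normalizer_iff.1 hx s).1 hs, ?_⟩
          show x * s ^ p ^ (v - 1) * x⁻¹ = _
          rw [conj_pow]
        have hC : Subgroup.centralizer (Φ : Set G) ≤ M.map (MulAut.conj x).toMonoidHom := by
          rw [← map_conj_eq_self_iff.2 (mem_normalizer_centralizer hxΦ)]
          exact Subgroup.map_mono hle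
        exact mem_of_map_conj_eq hG hM (huniq _ (isCoatom_map_conj hM x) hC)
      · have hΦeq : Φ = A := Subgroup.eq_of_le_of_card_ge hΦA (by rw [hm, hn])
        obtain ⟨a₁, ha₁, ha₁1⟩ := (Subgroup.bot_or_exists_ne_one A₁).resolve_left
          (fun h => hp.out.ne_one (by rw [← hA₁c, h, Subgroup.card_bot]))
        refine ⟨a₁, hΦeq ▸ hA₁ ha₁, ha₁1, ?_⟩
        rw [← centralizer_zpowers, eq_zpowers_of_mem_prime hA₁c ha₁ ha₁1]
        exact hA₁r
  obtain ⟨s, hs, rfl⟩ := haΦ
  have hso : orderOf s = p ^ v := by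
    obtain ⟨j, hj, hj'⟩ := (Nat.dvd_prime_pow hp.out).1 (hPdvd s hs)
    rcases Nat.lt_or_ge j v with h | h
    · refine absurd (orderOf_dvd_iff_pow_eq_one.1 ?_) ha1
      rw [hj']
      exact pow_dvd_pow p (by omega)
    · rw [hj', le_antisymm hj h]
  refine ⟨s, hPU hs, hso, fun z hz hzo => ?_⟩
  have hzmem : s ^ p ^ (v - 1) ∈ Subgroup.zpowers z := by
    haveI : IsCyclic (Subgroup.zpowers s) := inferInstance
    have h2 : orderOf (s ^ p ^ (v - 1)) = p := by
      refine orderOf_eq_prime ?_ ha1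
      rw [← pow_mul, ← pow_succ, Nat.sub_add_cancel hv1, ← hso, pow_orderOf_eq_one]
    obtain ⟨i, hi⟩ := CfsgLib.Solvable.mem_zpowers_of_isCyclic
      (x := (⟨s ^ p ^ (v - 1), Subgroup.pow_mem _ (Subgroup.mem_zpowers s) _⟩ : Subgroup.zpowers s))
      (y := (⟨z, hz⟩ : Subgroup.zpowers s))
      (by rw [← Subgroup.orderOf_coe, ← Subgroup.orderOf_coe]; exact h2.trans hzo.symm)
    exact ⟨i, congrArg Subtype.val hi⟩
  rw [eq_bot_iff, ← hareg]
  exact inf_le_inf_left _ (centralizer_singleton_le_of_mem hzmem)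

/-- Elements of prime order in `⟨a b⟩` for commuting `a`, `b` of coprime orders. -/
theorem mem_zpowers_factor {a b z : G} {p : ℕ} (hp : p.Prime) (hab : Commute a b)
    (hco : (orderOf a).Coprime (orderOf b)) (hz : z ∈ Subgroup.zpowers (a * b))
    (hzo : orderOf z = p) (hpa : ¬ p ∣ orderOf b) : z ∈ Subgroup.zpowers a := by
  obtain ⟨i, rfl⟩ := hz
  simp only [hab.mul_zpow] at hzo ⊢
  have hb1 : b ^ i = 1 := by
    set w := orderOf b
    have hcom : Commute (a ^ i) (b ^ i) := hab.zpow_zpow i i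
    have h1 : orderOf (a ^ i * b ^ i) = orderOf (a ^ i) * orderOf (b ^ i) :=
      hcom.orderOf_mul_eq_mul_orderOf_of_coprime
        ((hco.coprime_dvd_left (orderOf_dvd_of_mem_zpowers ⟨i, rfl⟩)).coprime_dvd_right
          (orderOf_dvd_of_mem_zpowers ⟨i, rfl⟩))
    rw [hzo] at h1
    have h2 : orderOf (b ^ i) ∣ p := Dvd.intro_left _ h1.symm
    have h3 : orderOf (b ^ i) ∣ orderOf b := orderOf_dvd_of_mem_zpowers ⟨i, rfl⟩
    rw [← orderOf_eq_one_iff]
    exact Nat.eq_one_of_dvd_coprimes ((Nat.Prime.coprime_iff_not_dvd hp).2 hpa) h2 h3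
  rw [hb1, mul_one]
  exact ⟨i, rfl⟩

/-- In abelian `U` some element of order the exponent generates a regular subgroup. -/
theorem exists_regular_exponent (hG : Cfsg.IsMinSimpleOddOrder G) (h1350 : Hyp1350 G)
    (h1405 : Hyp1405 G) (h1417 : Hyp1417 G) (h1418 : Hyp1418 G) (h1429 : Hyp1429 G)
    (hM : IsCoatom M) (hKU : Cfsg.IsSigmaDecomposition M K U) (hUc : IsMulCommutative U) :
    ∀ n : ℕ, n ∣ Monoid.exponent U → (∀ p : ℕ, p.Prime → p ∣ n →
        n.factorization p = (Monoid.exponent U).factorization p) →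
      ∃ s ∈ U, orderOf s = n ∧ ∀ z ∈ Subgroup.zpowers s, (orderOf z).Prime →
        Cfsg.sigmaCore M ⊓ Subgroup.centralizer ({z} : Set G) = ⊥ := by
  intro n
  induction n using Nat.recOnPosPrimePosCoprime with
  | prime_pow p k hp hk =>
    intro hd hf
    haveI := Fact.mk hp
    have hpU : p ∣ Nat.card U :=
      (dvd_pow_self p hk.ne').trans (hd.trans Group.exponent_dvd_nat_card)
    obtain ⟨s, hs, hso, hreg⟩ :=
      exists_regular_primePow hG h1350 h1405 h1417 h1418 h1429 hM hKU hUc hpU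
    have hk' := hf p hp (dvd_pow_self p hk.ne')
    rw [hp.factorization_pow, Finsupp.single_eq_same] at hk'
    refine ⟨s, hs, by rw [hso, ← hk'], fun z hz hzp => hreg z hz ?_⟩
    have h1 : orderOf z ∣ p ^ k := by rw [hk', ← hso]; exact orderOf_dvd_of_mem_zpowers hz
    exact (Nat.prime_dvd_prime_iff_eq hzp hp).1 (hzp.dvd_of_dvd_pow h1)
  | zero =>
    intro hd
    exact absurd (zero_dvd_iff.1 hd) Monoid.exponent_ne_zero_of_finite
  | one =>
    intro _ _
    refine ⟨1, one_mem _, orderOf_one, fun z hz hzp => ?_⟩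
    rw [Subgroup.zpowers_one_eq_bot, Subgroup.mem_bot] at hz
    rw [hz, orderOf_one] at hzp
    exact absurd hzp Nat.not_prime_one
  | coprime a b ha hb hab iha ihb =>
    intro hd hf
    have hfa : ∀ p : ℕ, p.Prime → p ∣ a → a.factorization p = (Monoid.exponent U).factorization p := by
      intro p hp hpa
      rw [← hf p hp (hpa.mul_right b), Nat.factorization_mul_apply_of_coprime hab,
        Nat.factorization_eq_zero_of_not_dvd
          (fun h => Nat.not_coprime_of_dvd_of_dvd hp.one_lt hpa h hab), add_zero]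
    have hfb : ∀ p : ℕ, p.Prime → p ∣ b → b.factorization p = (Monoid.exponent U).factorization p := by
      intro p hp hpb
      rw [← hf p hp (hpb.mul_left a), Nat.factorization_mul_apply_of_coprime hab,
        Nat.factorization_eq_zero_of_not_dvd
          (fun h => Nat.not_coprime_of_dvd_of_dvd hp.one_lt h hpb hab), zero_add]
    obtain ⟨x, hx, hxo, hxr⟩ := iha ((dvd_mul_right a b).trans hd) hfa
    obtain ⟨y, hy, hyo, hyr⟩ := ihb ((dvd_mul_left b a).trans hd) hfb
    have hcom : Commute x y := comm_of_mem hUc hx hy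
    have hco : (orderOf x).Coprime (orderOf y) := by rwa [hxo, hyo]
    refine ⟨x * y, mul_mem hx hy, by rw [hcom.orderOf_mul_eq_mul_orderOf_of_coprime hco, hxo, hyo],
      fun z hz hzp => ?_⟩
    by_cases hzy : orderOf z ∣ orderOf y
    · rw [hcom.eq] at hz
      refine hyr z (mem_zpowers_factor hzp hcom.symm hco.symm hz rfl fun h => ?_) hzp
      exact Nat.not_coprime_of_dvd_of_dvd hzp.one_lt h hzy hco
    · exact hxr z (mem_zpowers_factor hzp hcom hco hz rfl hzy) hzp

/-- A subgroup `U₀ ≤ U` of the same exponent as `U` with no nonregular element besides `1`. -/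
theorem exists_regular_subgroup (hG : Cfsg.IsMinSimpleOddOrder G) (h1350 : Hyp1350 G)
    (h1405 : Hyp1405 G) (h1417 : Hyp1417 G) (h1418 : Hyp1418 G) (h1421 : Hyp1421 G)
    (h1429 : Hyp1429 G) (h1430 : Hyp1430 G) (h1432 : Hyp1432 G)
    (hM : IsCoatom M) (hKU : Cfsg.IsSigmaDecomposition M K U) :
    ∃ U₀ : Subgroup G, U₀ ≤ U ∧ Monoid.exponent U₀ = Monoid.exponent U ∧
      ∀ e ∈ U₀, e ≠ 1 → Cfsg.sigmaCore M ⊓ Subgroup.centralizer ({e} : Set G) = ⊥ := by
  by_cases hK : K = ⊥
  · exact (U_of_K_eq_bot h1350 h1421 h1432 hM hKU hK).2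
  have hUc := U_commutative hG h1350 h1430 hM hKU hK
  obtain ⟨s, hs, hso, hreg⟩ := exists_regular_exponent hG h1350 h1405 h1417 h1418 h1429 hM hKU hUc
    _ dvd_rfl (fun _ _ _ => rfl)
  refine ⟨Subgroup.zpowers s, Subgroup.zpowers_le.2 hs, ?_, fun e he he1 => ?_⟩
  · rw [IsCyclic.exponent_eq_card, Nat.card_zpowers, hso]
  · obtain ⟨r, hr, hd⟩ := Nat.exists_prime_and_dvd (fun h => he1 (orderOf_eq_one_iff.1 h))
    have hz : orderOf (e ^ (orderOf e / r)) = r := by
      rw [orderOf_pow, Nat.gcd_eq_right (Nat.div_dvd_of_dvd hd),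
        Nat.div_div_self hd (orderOf_pos e).ne']
    rw [eq_bot_iff, ← hreg _ (Subgroup.pow_mem _ he _) (hz.symm ▸ hr)]
    exact inf_le_inf_left _
      (centralizer_singleton_le_of_mem (Subgroup.pow_mem _ (Subgroup.mem_zpowers e) _))

/-- For `K ≠ 1` the normaliser of `U` is not contained in `M`. -/
theorem normalizer_U_not_le (hG : Cfsg.IsMinSimpleOddOrder G) (h1366 : Hyp1366 G)
    (h1435 : Hyp1435 G) (hM : IsCoatom M) (hKU : Cfsg.IsSigmaDecomposition M K U) (hK1 : K ≠ ⊥) :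
    ¬ Subgroup.normalizer (U : Set G) ≤ M := by
  by_cases hU : U = ⊥
  · subst hU
    rw [Subgroup.normalizer_eq_top]
    exact fun h => hM.1 (top_le_iff.1 h)
  obtain ⟨Ms, ⟨hMs, hKst, hKstH⟩, -⟩ := h1366 M hM K U hKU hK1
  obtain ⟨r, hr, hrU⟩ := Nat.exists_prime_and_dvd (fun h => hU (Subgroup.card_eq_one.1 h))
  haveI := Fact.mk hr
  obtain ⟨R⟩ : Nonempty (Sylow r U) := inferInstance
  set RG := (R : Subgroup U).map U.subtype
  have hR1 : RG ≠ ⊥ := by
    rw [Ne, Subgroup.map_eq_bot_iff_of_injective _ U.subtype_injective]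
    exact R.ne_bot_of_dvd_card hrU
  have hRT : RG ≠ ⊤ := fun h =>
    hM.1 (top_le_iff.1 (h ▸ (Subgroup.map_subtype_le (R : Subgroup U)).trans hKU.compl.1))
  obtain ⟨H, hH, hle⟩ := exists_maximal_ge (normalizer_ne_top hG hR1 hRT)
  obtain ⟨-, -, -, hN, -⟩ := h1435 M hM K U hKU hK1 hU Ms hMs hKst hKstH r hrU R H hH hle
  exact fun h => hN (inf_le_right.trans h)

end CfsgLib.OddLocal.S15
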