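import Cfsg.Agent.Lib.OddLocal.Bender
import Cfsg.Agent.Lib.PStab.Puig
import Cfsg.Agent.Lib.Signalizer.Basic

/-!
`Z(L(S))` in maximal subgroups with trivial `p'`-core: such a Sylow subgroup is Sylow in the whole group.
-/

set_option autoImplicit false
set_option linter.unusedSectionVars false

namespace CfsgLib.OddLocal

open Cfsg Subgroup
open CfsgLib.PStab.Puig (pZ pUp pLow)

variable {G : Type*} [Group G] [Finite G]

theorem pUp_map_subtype (H : Subgroup G) (R : Subgroup H) :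
    pUp (R.map H.subtype) = (pUp R).map H.subtype := by
  have hinj : Function.Injective (H.subtype.comp R.subtype) :=
    H.subtype_injective.comp R.subtype_injective
  rw [← CfsgLib.PStab.Puig.puigSubgroup_map_subtype R, map_map, CfsgLib.PStab.Puig.puigSubgroup_map hinj,
    ← map_map, CfsgLib.PStab.Puig.top_map_subtype]

theorem pZ_map_subtype (H : Subgroup G) (R : Subgroup H) :
    pZ (R.map H.subtype) = (pZ R).map H.subtype := by
  unfold pZ
  rw [pUp_map_subtype]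
  ext x
  constructor
  · rintro ⟨⟨y, hy, rfl⟩, hc⟩
    exact ⟨y, ⟨hy, mem_centralizer_iff.2 fun z hz =>
      H.subtype_injective (mem_centralizer_iff.1 hc _ ⟨z, hz, rfl⟩)⟩, rfl⟩
  · rintro ⟨y, ⟨hy, hc⟩, rfl⟩
    refine ⟨⟨y, hy, rfl⟩, mem_centralizer_iff.2 ?_⟩
    rintro _ ⟨z, hz, rfl⟩
    exact congrArg H.subtype (mem_centralizer_iff.1 hc z hz)

theorem pZ_ne_bot {p : ℕ} [Fact p.Prime] {S : Subgroup G} (hS : IsPGroup p S) (hS1 : S ≠ ⊥) :
    pZ S ≠ ⊥ := by
  have hU : pUp S ≠ ⊥ := fun h => by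
    refine hS1 (le_bot_iff.1 ?_)
    have hL : pLow S = ⊥ := le_bot_iff.1 ((CfsgLib.PStab.Puig.pLow_le_pUp S).trans h.le)
    have h1 := CfsgLib.PStab.Puig.inf_centralizer_pLow_le hS
    rw [hL] at h1
    refine le_trans (le_inf le_rfl fun x _ => mem_centralizer_iff.2 fun y hy => ?_) h1
    rw [mem_bot.1 hy]; simp
  have hUp : IsPGroup p (pUp S) := hS.to_le (CfsgLib.PStab.Puig.pUp_le S)
  have : Nontrivial (pUp S) := (nontrivial_iff_ne_bot _).2 hU
  have := hUp.center_nontrivial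
  intro h
  obtain ⟨⟨⟨z, hz⟩, hzc⟩, hz1⟩ := exists_ne (1 : center (pUp S))
  refine hz1 (Subtype.ext (Subtype.ext ?_))
  have : z ∈ pZ S := ⟨hz, mem_centralizer_iff.2 fun w hw =>
    congrArg Subtype.val (mem_center_iff.1 hzc ⟨w, hw⟩)⟩
  rw [h] at this
  exact mem_bot.1 this

/-- Maximal members among the `p`-subgroups of a subgroup. -/
theorem exists_maximal_pSubgroup {p : ℕ} {H R : Subgroup G} (hRH : R ≤ H) (hR : IsPGroup p R) :
    ∃ S : Subgroup G, R ≤ S ∧ S ≤ H ∧ IsPGroup p S ∧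
      ∀ T : Subgroup G, T ≤ H → IsPGroup p T → S ≤ T → T = S := by
  obtain ⟨S, hle, hS, hmax⟩ := Finite.exists_le_maximal (p := fun T : Subgroup G => T ≤ H ∧ IsPGroup p T)
    (a := R) ⟨hRH, hR⟩
  exact ⟨S, hle, hS.1, hS.2, fun T h1 h2 h3 => le_antisymm (hmax ⟨h1, h2⟩ h3) h3⟩

theorem exists_sylow_of_maximal {p : ℕ} [Fact p.Prime] {H S : Subgroup G} (hSH : S ≤ H) (hS : IsPGroup p S)
    (hmax : ∀ T : Subgroup G, T ≤ H → IsPGroup p T → S ≤ T → T = S) :
    ∃ P : Sylow p H, (P : Subgroup H).map H.subtype = S := by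
  obtain ⟨P, hP⟩ := (hS.of_equiv (subgroupOfEquivOfLe hSH).symm).exists_le_sylow
  refine ⟨P, hmax _ (map_subtype_le _) (P.2.map _) ?_⟩
  rw [← map_subgroupOf_eq_of_le hSH]
  exact map_mono hP

variable (hG : IsMinSimpleOddOrder G)
include hG

theorem ne_two_of_dvd {p : ℕ} (hp : p ∣ Nat.card G) : p ≠ 2 := by
  rintro rfl
  exact Nat.not_even_iff_odd.2 hG.1 (even_iff_two_dvd.2 hp)

/-- A maximal `p`-subgroup of a maximal subgroup with trivial `p'`-core. -/
theorem le_normalizer_pZ {p : ℕ} [Fact p.Prime] {H S : Subgroup G} (hH : IsCoatom H)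
    (hO : pPrimeCore p H = ⊥) (hSH : S ≤ H) (hS : IsPGroup p S) (hS1 : S ≠ ⊥)
    (hmax : ∀ T : Subgroup G, T ≤ H → IsPGroup p T → S ≤ T → T = S) :
    normalizer (pZ S : Set G) = H ∧ ∀ T : Subgroup G, IsPGroup p T → S ≤ T → T = S := by
  have hs : Group.IsSolvable H := isSolvable_of_isCoatom hG hH
  obtain ⟨P, hP⟩ := exists_sylow_of_maximal hSH hS hmax
  have hpG : p ∣ Nat.card G := by
    obtain ⟨i, hi⟩ := IsPGroup.iff_card.1 hS
    refine (dvd_pow_self p (fun h0 : i = 0 => hS1 (eq_bot_of_card_eq _ (by rw [hi, h0, pow_zero])))).trans ?_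
    exact hi ▸ card_subgroup_dvd_card S
  have hn : H ≤ normalizer (pZ S : Set G) := by
    have hnorm := CfsgLib.PStab.Puig.pZ_normal (ne_two_of_dvd hG hpG)
      (hG.1.of_dvd_nat (card_subgroup_dvd_card H)) hO P
    rw [← hP, pZ_map_subtype]
    refine (normal_subgroupOf_iff_le_normalizer (map_subtype_le _)).1 ?_
    rw [show ((pZ (P : Subgroup H)).map H.subtype).subgroupOf H = pZ (P : Subgroup H) from
      comap_map_eq_self_of_injective H.subtype_injective _]
    exact hnorm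
  have hZS : pZ S ≤ S := inf_le_left.trans (CfsgLib.PStab.Puig.pUp_le S)
  have heq := normalizer_eq_of_isCoatom hG hH (pZ_ne_bot hS hS1) (hZS.trans hSH) hn
  refine ⟨heq, fun T hT hST => ?_⟩
  by_contra hne
  have hlt : S < T := lt_of_le_of_ne hST (Ne.symm hne)
  have h1 := CfsgLib.Signalizer.isPGroup_inf_normalizer_gt hT hlt
  have h2 : T ⊓ normalizer (S : Set G) ≤ H :=
    inf_le_right.trans ((CfsgLib.PStab.Puig.normalizer_le_normalizer_pZ S).trans heq.le)
  exact h1.ne' (hmax _ h2 (hT.to_le inf_le_left) h1.le)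

end CfsgLib.OddLocal
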