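import Cfsg.Agent.Lib.OddLocal.InvariantPrime
import Cfsg.Agent.Lib.OddLocal.PuigMaximal
import Cfsg.Agent.Lib.PGroup.Wielandt
import Cfsg.Agent.S1393
import Cfsg.Agent.S1395
import Cfsg.Agent.S1396

/-!
Uniqueness from a large abelian subgroup of the Fitting subgroup of a maximal subgroup (Bender–Glauberman,
section 8).
-/

set_option autoImplicit false
set_option linter.unusedSectionVars false

namespace CfsgLib.OddLocal

open Cfsg Subgroup
open scoped commutatorElement
open CfsgLib.Solvable (nilPart nilPart_le le_nilPart isPGroup_nilPart)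

variable {G : Type*} [Group G] [Finite G]

theorem inUniqueMaximal_of {M X : Subgroup G} (hM : IsCoatom M) (hXM : X ≤ M)
    (h : ∀ L : Subgroup G, IsCoatom L → X ≤ L → L = M) : InUniqueMaximal X :=
  ⟨M, ⟨hM, hXM⟩, fun L hL => h L hL.1 hL.2⟩

theorem not_rankLE_of_elementary {p k : ℕ} (hp : p.Prime) {B X : Subgroup G} (hBX : B ≤ X)
    (hB : IsElementaryAbelian p B) (hk : p ^ (k + 1) ≤ Nat.card B) : ¬ RankLE k X := by
  intro h
  have hc : IsMulCommutative (B.subgroupOf X) :=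
    ⟨⟨fun a b => Subtype.ext (Subtype.ext
      (show ((a : X) : G) * ((b : X) : G) = ((b : X) : G) * ((a : X) : G) from congrArg Subtype.val
        (hB.1.is_comm.comm (⟨((a : X) : G), a.2⟩ : B) ⟨((b : X) : G), b.2⟩)))⟩⟩
  have h1 := h p hp (B.subgroupOf X) hc fun a ha => Subtype.ext (hB.2 (a : G) ha)
  rw [Nat.card_congr (subgroupOfEquivOfLe hBX).toEquiv] at h1
  exact Nat.not_succ_le_self k ((Nat.pow_le_pow_iff_right hp.one_lt).1 (hk.trans h1))

section

variable (hG : IsMinSimpleOddOrder G)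
include hG

theorem exists_isCoatom_ge {X : Subgroup G} (hX : X ≠ ⊤) : ∃ L : Subgroup G, IsCoatom L ∧ X ≤ L :=
  ((eq_top_or_exists_le_coatom X).resolve_left hX).imp fun _ h => h

theorem not_isPGroup_minSimple (q : ℕ) [Fact q.Prime] : ¬ IsPGroup q G := by
  intro h
  have := hG.2.1.1
  have := h.center_nontrivial
  rcases hG.2.1.eq_bot_or_eq_top_of_normal (center G) inferInstance with h' | h'
  · exact ((nontrivial_iff_ne_bot _).1 this) h'
  · exact hG.2.2.1 ⟨⟨fun x y => (mem_center_iff.1 (h' ▸ mem_top x) y).symm⟩⟩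

/-- If `A ≤ F(M)` has transitivity, all `A`-invariant `q`-subgroups are trivial. -/
theorem invariant_eq_bot {M A : Subgroup G} (hM : IsCoatom M) (hA : TransitivityHypothesis A)
    (hAF : A ≤ fittingOf M)
    (hπ : ∀ r : ℕ, r.Prime → r ∣ Nat.card (fittingOf M) → r ∣ Nat.card A)
    {q : ℕ} [hq : Fact q.Prime] (hqA : ¬ q ∣ Nat.card A)
    (htr : ∀ Q₁ ∈ maxInvSubgroups ⊤ A {q}, ∀ Q₂ ∈ maxInvSubgroups ⊤ A {q},
      ∃ k ∈ piCoreOf (primesNotDvd (Nat.card A)) (centralizer (A : Set G)),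
        Q₂ = Q₁.map (MulAut.conj k).toMonoidHom)
    {R : Subgroup G} (hR : IsPGroup q R) (hAR : A ≤ normalizer (R : Set G)) : R = ⊥ := by
  set F := fittingOf M with hF
  have hFnil : Group.IsNilpotent F := isNilpotent_fittingOf M
  have hsn : (A.subgroupOf F).IsSubnormal := CfsgLib.PGroup.isSubnormal_of_isNilpotent _
  have hFtop : F ≠ ⊤ := fun h => hM.1 (top_le_iff.1 (h ▸ fittingOf_le M))
  obtain ⟨-, htrF, hsub, -⟩ := Cfsg.Agent.S1395.result hG A hA q hq.out hqA F hFtop hπ hAF hsn htr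
  have hK : piCoreOf (primesNotDvd (Nat.card A)) (centralizer (F : Set G)) = ⊥ := by
    have hCM : centralizer (F : Set G) ≤ M := centralizer_le_of_isCoatom hG hM (fittingOf_ne_bot hG hM)
      (fittingOf_le M) (le_normalizer_fittingOf M)
    refine eq_bot_of_card_eq _ (Nat.eq_one_iff_not_exists_prime_dvd.2 fun r hr hd => ?_)
    refine (CfsgLib.PStab.prime_mem_of_dvd_piCoreOf r hr hd).2 (hπ r hr (hd.trans (card_dvd_of_le ?_)))
    exact (map_subtype_le _).trans
      ((le_inf hCM le_rfl).trans (inf_centralizer_fittingOf_le (isSolvable_of_isCoatom hG hM)))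
  obtain ⟨Q, hQ, -⟩ := CfsgLib.PStab.exists_maxInvSubgroup_ge (A := F) (q := q) (R := ⊥)
    ⟨le_top, fun r hr hd => absurd (Subgroup.card_bot (G := G) ▸ hd) hr.not_dvd_one,
      le_top.trans (normalizer_eq_top_iff.2 inferInstance).ge⟩
  have huniq : ∀ Q' ∈ maxInvSubgroups ⊤ F {q}, Q' = Q := by
    intro Q' hQ'
    obtain ⟨k, hk, he⟩ := htrF Q hQ Q' hQ'
    rw [hK, mem_bot] at hk
    rw [he, hk, CfsgLib.PStab.map_conj_one']
  have hQq : IsPGroup q Q := CfsgLib.PStab.isPGroup_iff_primes.2 hQ.1.2.1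
  have hMQ : M ≤ normalizer (Q : Set G) := by
    intro m hm
    have hmF : m ∈ normalizer (F : Set G) := le_normalizer_fittingOf M hm
    have hI : ∀ (R : Subgroup G) (d : G), R ∈ invSubgroups ⊤ F {q} → d ∈ normalizer (F : Set G) →
        R.map (MulAut.conj d).toMonoidHom ∈ invSubgroups ⊤ F {q} := by
      intro R d hR hd
      refine ⟨le_top, ?_, fun e he => mem_normalizer_iff_map_conj_eq.2 ?_⟩
      · rw [card_map_of_injective (MulAut.conj d).injective]
        exact hR.2.1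
      · show (R.map (MulAut.conj d).toMonoidHom).map (MulAut.conj e).toMonoidHom = _
        rw [CfsgLib.PStab.map_conj_map_conj, show e * d = d * (d⁻¹ * e * d) by group,
          ← CfsgLib.PStab.map_conj_map_conj,
          show R.map (MulAut.conj (d⁻¹ * e * d)).toMonoidHom = R from
            mem_normalizer_iff_map_conj_eq.1 (hR.2.2 ((mem_normalizer_iff''.1 hd e).1 he))]
    suffices hmem : Q.map (MulAut.conj m).toMonoidHom ∈ maxInvSubgroups ⊤ F {q} from
      mem_normalizer_iff_map_conj_eq.2 (huniq _ hmem)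
    refine ⟨hI Q m hQ.1 hmF, fun R' hR' hle => ?_⟩
    have h := hQ.2 _ (hI R' m⁻¹ hR' (inv_mem hmF)) (by
      have := map_mono (f := (MulAut.conj m⁻¹).toMonoidHom) hle
      rwa [CfsgLib.PStab.map_conj_map_conj, inv_mul_cancel, CfsgLib.PStab.map_conj_one'] at this)
    rw [← h, CfsgLib.PStab.map_conj_map_conj, mul_inv_cancel, CfsgLib.PStab.map_conj_one']
  have hQ0 : Q = ⊥ := by
    by_contra hne
    have hQtop : Q ≠ ⊤ := fun h =>
      not_isPGroup_minSimple hG q ((h ▸ hQq).of_equiv (topEquiv : (⊤ : Subgroup G) ≃* G))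
    have hn : normalizer (Q : Set G) = M := (hM.le_iff.1 hMQ).resolve_left
      (CfsgLib.PStab.normalizer_ne_top_of_minSimple hG hne hQtop)
    have hle : Q ≤ nilPart q F := le_nilPart_fittingOf (hn ▸ le_normalizer) hMQ hQq
    obtain ⟨i, hi⟩ := IsPGroup.iff_card.1 hQq
    have hi0 : i ≠ 0 := by
      rintro rfl
      exact hne (eq_bot_of_card_eq _ (by rw [hi, pow_zero]))
    exact hqA (hπ q hq.out ((dvd_pow_self q hi0).trans
      (hi ▸ card_dvd_of_le (hle.trans nilPart_le))))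
  have hbot : (⊥ : Subgroup G) ∈ maxInvSubgroups ⊤ A {q} := hsub (hQ0 ▸ hQ)
  exact hbot.2 R ⟨le_top, CfsgLib.PStab.isPGroup_iff_primes.1 hR, hAR⟩ bot_le

/-- A subgroup whose prime power invariant subgroups outside `S` are trivial: the Fitting subgroups of
the maximal subgroups over it. -/
theorem dvd_of_dvd_fittingOf {A : Subgroup G} {n : ℕ}
    (h : ∀ r : ℕ, r.Prime → ¬ r ∣ n → ∀ R : Subgroup G, IsPGroup r R → A ≤ normalizer (R : Set G) → R = ⊥)
    {L : Subgroup G} (hAL : A ≤ L) {r : ℕ} (hr : r.Prime) (hd : r ∣ Nat.card (fittingOf L)) : r ∣ n := by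
  by_contra hn
  have : Fact r.Prime := ⟨hr⟩
  exact CfsgLib.Solvable.nilPart_ne_bot (isNilpotent_fittingOf L) hd
    (h r hr hn _ isPGroup_nilPart (hAL.trans (le_normalizer_nilPart_fittingOf r L)))

/-- Theorem 8.1 (a): the Fitting subgroup is not a `p`-group. -/
theorem fitting_centralizer_unique {M : Subgroup G} (hM : IsCoatom M) {p : ℕ} [hp : Fact p.Prime]
    {A₀ : Subgroup G} (hA₀ : A₀ ≤ fittingOf M) (hA₀e : IsElementaryAbelian p A₀)
    (hA₀3 : p ^ 3 ≤ Nat.card A₀) (hnp : ¬ IsPGroup p (fittingOf M)) :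
    InUniqueMaximal (fittingOf M ⊓ centralizer (A₀ : Set G)) := by
  set F := fittingOf M with hFdef
  set C := F ⊓ centralizer (A₀ : Set G) with hC
  have hFnil : Group.IsNilpotent F := isNilpotent_fittingOf M
  have hMs := isSolvable_of_isCoatom hG hM
  have hA₀C : A₀ ≤ C := le_inf hA₀ fun a ha => mem_centralizer_iff.2 fun b hb =>
    congrArg Subtype.val (hA₀e.1.is_comm.comm (⟨b, hb⟩ : A₀) ⟨a, ha⟩)
  have hCC : F ⊓ centralizer (C : Set G) ≤ C := inf_le_inf_left _ (centralizer_le hA₀C)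
  have hZC : F ⊓ centralizer (F : Set G) ≤ C := inf_le_inf_left _ (centralizer_le hA₀)
  have hA₀1 : A₀ ≠ ⊥ := by
    rintro rfl
    rw [card_bot] at hA₀3
    exact (Nat.one_lt_pow (three_ne_zero) hp.out.one_lt).not_ge hA₀3
  have hC1 : C ≠ ⊥ := fun h => hA₀1 (le_bot_iff.1 (h ▸ hA₀C))
  have hCM : C ≤ M := inf_le_left.trans (fittingOf_le M)
  have hCtop : C ≠ ⊤ := fun h => hM.1 (top_le_iff.1 (h ▸ hCM))
  have hπeq : primesNotDvd (Nat.card C) = primesNotDvd (Nat.card F) := by
    ext r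
    refine and_congr_right fun hr => not_congr ⟨fun h => h.trans (card_dvd_of_le inf_le_left), fun h => ?_⟩
    have : Fact r.Prime := ⟨hr⟩
    obtain ⟨z, hz, hzo, hzc⟩ := CfsgLib.Solvable.exists_central_of_prime_dvd (p := r) hFnil h
    exact hzo ▸ Subgroup.orderOf_dvd_natCard C (hZC ⟨hz, mem_centralizer_iff.2 fun x hx => hzc x hx⟩)
  have hπ : ∀ r : ℕ, r.Prime → r ∣ Nat.card F → r ∣ Nat.card C := by
    intro r hr hd
    by_contra h
    exact ((Set.ext_iff.1 hπeq r).1 ⟨hr, h⟩).2 hd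
  have hpF : p ∣ Nat.card F := by
    obtain ⟨i, hi⟩ := IsPGroup.iff_card.1 (CfsgLib.Solvable.isPGroup_nilPart (p := p) (A := F))
    obtain ⟨a, ha, ha1⟩ := (bot_or_exists_ne_one A₀).resolve_left hA₀1
    exact orderOf_eq_prime (hA₀e.2 a ha) ha1 ▸ Subgroup.orderOf_dvd_natCard F (hA₀ ha)
  have h2 : 2 ≤ (Nat.card F).primeFactors.card := by
    by_contra hlt
    refine hnp (IsPGroup.of_card (n := (Nat.card F).factorization p) ?_)
    have hsub : (Nat.card F).primeFactors = {p} := by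
      refine (Finset.eq_of_subset_of_card_le (Finset.singleton_subset_iff.2
        (Nat.mem_primeFactors.2 ⟨hp.out, hpF, Nat.card_pos.ne'⟩)) ?_).symm
      rw [Finset.card_singleton]; omega
    conv_lhs => rw [← Nat.prod_factorization_pow_eq_self (Nat.card_pos (α := F)).ne']
    rw [Finsupp.prod, Nat.support_factorization, hsub, Finset.prod_singleton]
  have hlocal : IsLocalSubgroup M := ⟨p, nilPart p F, hp.out, isPGroup_nilPart,
    CfsgLib.Solvable.nilPart_ne_bot hFnil hpF, (normalizer_eq_of_isCoatom hG hM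
      (CfsgLib.Solvable.nilPart_ne_bot hFnil hpF) (nilPart_le.trans (fittingOf_le M))
      (le_normalizer_nilPart_fittingOf p M)).symm⟩
  have hlmax : ∀ L : Subgroup G, IsLocalSubgroup L → M ≤ L → L = M := by
    rintro L ⟨r, T, hr, hTp, hT1, rfl⟩ hle
    refine (hM.le_iff.1 hle).resolve_left (CfsgLib.PStab.normalizer_ne_top_of_minSimple hG hT1 ?_)
    intro h
    have : Fact r.Prime := ⟨hr⟩
    exact not_isPGroup_minSimple hG r ((h ▸ hTp).of_equiv (topEquiv : (⊤ : Subgroup G) ≃* G))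
  have hA : TransitivityHypothesis C := by
    refine ⟨hC1, hCtop, fun X hX hCX => le_antisymm (sSup_le ?_)
      (le_sSup ⟨map_subtype_le _, fun r hr hd => CfsgLib.PStab.prime_mem_of_dvd_piCoreOf r hr hd,
        hCX.trans (le_normalizer_piCoreOf _ X)⟩)⟩
    rintro Y ⟨hYX, hYπ, hCY⟩
    rw [hπeq] at hYπ ⊢
    have hXs : Group.IsSolvable X := hG.2.2.2 X hX
    have hYs : Group.IsSolvable Y := CfsgLib.Solvable.isSolvable_of_le hXs hYX
    refine subgroupOf_eq_top.1 (CfsgLib.Solvable.eq_top_of_sylow_le fun r hr => ?_)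
    have : Fact r.Prime := ⟨hr⟩
    have hcop : (Nat.card C).Coprime (Nat.card Y) := Nat.coprime_of_dvd fun s hs h1 h2 =>
      (hYπ s hs h2).2 (h1.trans (card_dvd_of_le inf_le_left))
    obtain ⟨S, hS⟩ := CfsgLib.Solvable.exists_invariant_sylow (A := C) (K := Y) hCY hcop (Or.inr hYs) r
    refine ⟨S, fun y hy => mem_subgroupOf.2 ?_⟩
    by_cases hrF : r ∣ Nat.card F
    · have h1 : (S : Subgroup Y) = ⊥ := by
        obtain ⟨i, hi⟩ := IsPGroup.iff_card.1 S.2
        refine eq_bot_of_card_eq _ ?_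
        rcases Nat.eq_zero_or_pos i with h0 | h0
        · rw [hi, h0, pow_zero]
        · exact absurd hrF (hYπ r hr ((dvd_pow_self r h0.ne').trans (hi ▸ card_subgroup_dvd_card _))).2
      rw [h1, mem_bot] at hy
      subst hy
      exact one_mem _
    · exact le_piCoreOf_of_invariant hlocal hlmax inf_le_left hCC hXs (hCX.trans le_normalizer)
        ((inf_le_inf_right _ (le_refl M)).trans (le_trans (le_inf
          ((le_inf inf_le_left inf_le_right).trans (inf_centralizer_fittingOf_le hMs)) inf_le_right)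
          (hZC.trans (hCX.trans le_normalizer))))
        h2 hrF ((map_subtype_le _).trans hYX) (S.2.map _) hS (mem_map_of_mem _ hy)
  have hrank : ¬ RankLE 2 ↥(C ⊓ centralizer (C : Set G)) :=
    not_rankLE_of_elementary hp.out (le_inf hA₀C (le_centralizer_iff.1 inf_le_right)) hA₀e hA₀3
  have htriv : ∀ r : ℕ, r.Prime → ¬ r ∣ Nat.card F → ∀ R : Subgroup G, IsPGroup r R →
      C ≤ normalizer (R : Set G) → R = ⊥ := by
    intro r hr hrF R hR hCR
    have : Fact r.Prime := ⟨hr⟩
    have hrC : ¬ r ∣ Nat.card C := fun h => hrF (h.trans (card_dvd_of_le inf_le_left))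
    exact invariant_eq_bot hG hM hA inf_le_left hπ hrC
      (Cfsg.Agent.S1393.result hG C hA hrank r hr hrC) hR hCR
  refine inUniqueMaximal_of hM hCM fun L hL hCL => ?_
  exact eq_of_center_le hG hM hL (hZC.trans hCL) h2 fun r hr hd => dvd_of_dvd_fittingOf hG htriv hCL hr hd

/-- Theorem 8.1 (b): the Fitting subgroup is a `p`-group. -/
theorem fitting_pGroup_unique {M : Subgroup G} (hM : IsCoatom M) {p : ℕ} [hp : Fact p.Prime]
    (hFp : IsPGroup p (fittingOf M)) (P : Sylow p M) :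
    ¬ p ∣ ((P : Subgroup M).map M.subtype).index ∧
      ∀ A : Subgroup G, IsSCN ((P : Subgroup M).map M.subtype) A → ¬ PRankLE p 2 A →
        A ≤ fittingOf M ∧ InUniqueMaximal A := by
  have hMs := isSolvable_of_isCoatom hG hM
  set F := fittingOf M with hFdef
  set P' := (P : Subgroup M).map M.subtype with hP'
  have hP'M : P' ≤ M := map_subtype_le _
  have hP'p : IsPGroup p P' := P.2.map _
  have hOM : pPrimeCore p M = ⊥ := by
    set N := (pPrimeCore p M).map M.subtype with hN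
    have hNn : M ≤ normalizer (N : Set G) := by
      refine (normal_subgroupOf_iff_le_normalizer (map_subtype_le _)).1 ?_
      rw [show N.subgroupOf M = pPrimeCore p M from comap_map_eq_self_of_injective M.subtype_injective _]
      have := CfsgLib.Cores.pPrimeCore_characteristic (G := M) p
      infer_instance
    have hFN : fittingOf N ≤ F := le_fittingOf ((fittingOf_le N).trans (map_subtype_le _))
      (hNn.trans (normalizer_le_normalizer_fittingOf N)) (isNilpotent_fittingOf N)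
    have h1 : fittingOf N = ⊥ := by
      obtain ⟨i, hi⟩ := IsPGroup.iff_card.1 (hFp.to_le hFN)
      refine eq_bot_of_card_eq _ ?_
      rcases Nat.eq_zero_or_pos i with h0 | h0
      · rw [hi, h0, pow_zero]
      · have hd : p ∣ Nat.card N := (dvd_pow_self p h0.ne').trans (hi ▸ card_dvd_of_le (fittingOf_le N))
        rw [hN, card_map_of_injective M.subtype_injective] at hd
        exact absurd hd (CfsgLib.Cores.not_dvd_card_pPrimeCore p)
    have hN0 : N = ⊥ := le_bot_iff.1 (h1 ▸ le_trans (le_inf le_rfl fun x _ =>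
      mem_centralizer_iff.2 fun y hy => by rw [h1] at hy; rw [mem_bot.1 hy]; simp)
      (inf_centralizer_fittingOf_le (CfsgLib.Solvable.isSolvable_of_le hMs (map_subtype_le _))))
    exact (map_eq_bot_iff_of_injective _ M.subtype_injective).1 hN0
  have hFP : F ≤ P' := by
    refine map_mono ?_
    have hp' : IsPGroup p (fittingSubgroup M) :=
      hFp.of_equiv (equivMapOfInjective _ _ M.subtype_injective).symm
    have : (fittingSubgroup M).Normal := CfsgLib.Cores.fittingSubgroup_normal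
    exact (CfsgLib.Cores.le_pCore hp').trans (CfsgLib.Cores.pCore_le_sylow P)
  have hP'1 : P' ≠ ⊥ := fun h => fittingOf_ne_bot hG hM (le_bot_iff.1 (h ▸ hFP))
  have hP'max : ∀ T : Subgroup G, T ≤ M → IsPGroup p T → P' ≤ T → T = P' := by
    intro T hTM hT hle
    refine le_antisymm ?_ hle
    rw [← map_subgroupOf_eq_of_le hTM]
    refine map_mono (P.is_maximal' (hT.of_equiv (subgroupOfEquivOfLe hTM).symm) ?_).le
    exact fun x hx => hle (mem_map_of_mem _ hx)
  obtain ⟨-, hglob⟩ := le_normalizer_pZ hG hM hOM hP'M hP'p hP'1 hP'max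
  obtain ⟨PG, hPG⟩ := hP'p.exists_le_sylow
  have hPG' : (PG : Subgroup G) = P' := hglob _ PG.2 hPG
  refine ⟨hPG' ▸ PG.not_dvd_index, fun A hSCN hA3 => ?_⟩
  obtain ⟨hAP, hPN, hPA⟩ := hSCN
  have hAc : IsMulCommutative A := ⟨⟨fun a b => Subtype.ext (mem_centralizer_iff.1
    (hPA.ge b.2).2 (a : G) a.2)⟩⟩
  have hAp : IsPGroup p A := hP'p.to_le hAP
  have hpG : p ∣ Nat.card G := by
    obtain ⟨i, hi⟩ := IsPGroup.iff_card.1 hP'p
    refine (dvd_pow_self p (fun h0 : i = 0 => hP'1 (eq_bot_of_card_eq _ (by rw [hi, h0, pow_zero])))).trans ?_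
    exact hi ▸ card_subgroup_dvd_card P'
  have hA1 : A ≠ ⊥ := by
    rintro rfl
    refine hA3 fun B _ _ => (card_le_card_group B).trans ?_
    rw [card_bot]
    exact Nat.one_le_pow _ _ hp.out.pos
  -- stability
  have hAF : A ≤ F := by
    intro w hw
    have hNF : normalizer (F : Set G) = M := normalizer_eq_of_isCoatom hG hM (fittingOf_ne_bot hG hM)
      (fittingOf_le M) (le_normalizer_fittingOf M)
    have hquad : CfsgLib.PStab.IsQuad F w := by
      intro x hx
      have h1 : ⁅x, w⁆ ∈ A :=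
        le_normalizer_iff_commutator_le_right.1 hPN (commutator_mem_commutator (hFP hx) hw)
      rw [commutatorElement_eq_one_iff_mul_comm]
      exact congrArg Subtype.val (hAc.is_comm.comm (⟨_, h1⟩ : A) ⟨w, hw⟩)
    obtain ⟨K, hKN, hNK, hwK, hK⟩ := CfsgLib.PStab.stableAll_of_odd hG.1 (p := p) F hFp w
      (hNF.symm ▸ hP'M (hAP hw)) hquad
    rw [hNF] at hKN hNK
    have hKp : IsPGroup p K := by
      rintro ⟨k, hk⟩
      obtain ⟨n, hn⟩ := hK k hk
      obtain ⟨m, hm⟩ := hFp ⟨k ^ p ^ n, inf_centralizer_fittingOf_le hMs ⟨pow_mem (hKN hk) _, hn⟩⟩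
      refine ⟨n + m, Subtype.ext ?_⟩
      have := congrArg Subtype.val hm
      rw [pow_add, pow_mul]
      simpa using this
    exact le_fittingOf hKN hNK hKp.isNilpotent hwK
  refine ⟨hAF, ?_⟩
  have hA1' : ¬ PRankLE p 1 A := fun h => hA3 fun B hB hB' =>
    (h B hB hB').trans (Nat.pow_le_pow_right hp.out.pos one_le_two)
  have hA : TransitivityHypothesis A := Cfsg.Agent.S1396.result hG p hpG A hAp hAc
    (Or.inr ⟨PG, hPG'.symm ▸ ⟨hAP, hPN, hPA⟩, hA1'⟩)
  have hrank : ¬ RankLE 2 ↥(A ⊓ centralizer (A : Set G)) := by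
    have hAA : A ⊓ centralizer (A : Set G) = A := inf_eq_left.2 fun a ha => mem_centralizer_iff.2 fun b hb =>
      congrArg Subtype.val (hAc.is_comm.comm (⟨b, hb⟩ : A) ⟨a, ha⟩)
    rw [hAA]
    exact fun h => hA3 (h p hp.out)
  have htriv : ∀ r : ℕ, r.Prime → ¬ r ∣ p → ∀ R : Subgroup G, IsPGroup r R →
      A ≤ normalizer (R : Set G) → R = ⊥ := by
    intro r hr hrp R hR hAR
    have : Fact r.Prime := ⟨hr⟩
    obtain ⟨i, hi⟩ := IsPGroup.iff_card.1 hAp
    have hrA : ¬ r ∣ Nat.card A := fun h => hrp (hr.dvd_of_dvd_pow (hi ▸ h))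
    refine invariant_eq_bot hG hM hA hAF ?_ hrA (Cfsg.Agent.S1393.result hG A hA hrank r hr hrA) hR hAR
    intro s hs hd
    obtain ⟨j, hj⟩ := IsPGroup.iff_card.1 hFp
    rw [(Nat.prime_dvd_prime_iff_eq hs hp.out).1 (hs.dvd_of_dvd_pow (hj ▸ hd)), hi]
    exact dvd_pow_self p fun h0 => hA1 (eq_bot_of_card_eq _ (by rw [hi, h0, pow_zero]))
  have hO : ∀ L : Subgroup G, A ≤ L → L ≠ ⊤ → pPrimeCore p L = ⊥ := by
    intro L hAL hL
    set N := (pPrimeCore p L).map L.subtype with hN
    have hNn : A ≤ normalizer (N : Set G) := by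
      refine hAL.trans ((normal_subgroupOf_iff_le_normalizer (map_subtype_le _)).1 ?_)
      rw [show N.subgroupOf L = pPrimeCore p L from comap_map_eq_self_of_injective L.subtype_injective _]
      have := CfsgLib.Cores.pPrimeCore_characteristic (G := L) p
      infer_instance
    have hNs : Group.IsSolvable N := CfsgLib.Solvable.isSolvable_of_le (hG.2.2.2 L hL) (map_subtype_le _)
    have hcopN : (Nat.card N).Coprime p := by
      rw [hN, card_map_of_injective L.subtype_injective]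
      exact CfsgLib.Cores.coprime_card_pPrimeCore p
    obtain ⟨i, hi⟩ := IsPGroup.iff_card.1 hAp
    have hN0 : (⊥ : Subgroup N) = ⊤ := CfsgLib.Solvable.eq_top_of_sylow_le fun r hr => by
      have : Fact r.Prime := ⟨hr⟩
      obtain ⟨S, hS⟩ := CfsgLib.Solvable.exists_invariant_sylow (A := A) (K := N) hNn
        (hi ▸ (hcopN.symm.pow_left i)) (Or.inr hNs) r
      refine ⟨S, ?_⟩
      by_cases hrp : r ∣ p
      · obtain rfl := (Nat.prime_dvd_prime_iff_eq hr hp.out).1 hrp
        obtain ⟨j, hj⟩ := IsPGroup.iff_card.1 S.2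
        refine (eq_bot_of_card_eq _ ?_).le
        rcases Nat.eq_zero_or_pos j with h0 | h0
        · rw [hj, h0, pow_zero]
        · exact absurd ((dvd_pow_self r h0.ne').trans (hj ▸ card_subgroup_dvd_card _))
            ((CfsgLib.Cores.coprime_iff_not_dvd hr _).1 hcopN)
      · exact ((map_eq_bot_iff_of_injective _ N.subtype_injective).1 (htriv r hr hrp _ (S.2.map _) hS)).le
    refine (map_eq_bot_iff_of_injective _ L.subtype_injective).1 (eq_bot_iff.2 fun x hx => ?_)
    exact mem_bot.2 (congrArg Subtype.val (mem_bot.1 (hN0.ge (mem_top (⟨x, hx⟩ : N)))))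
  refine inUniqueMaximal_of hM (hAP.trans hP'M) fun L hL hAL => ?_
  by_contra hne
  obtain ⟨⟨L₀, S⟩, ⟨hL₀, hL₀M, hAS, hSle, hS⟩, hbest⟩ := Set.exists_max_image
    {X : Subgroup G × Subgroup G | IsCoatom X.1 ∧ X.1 ≠ M ∧ A ≤ X.2 ∧ X.2 ≤ X.1 ⊓ M ∧ IsPGroup p X.2}
    (fun X => Nat.card X.2) (Set.toFinite _) ⟨(L, A), hL, hne, le_rfl, le_inf hAL (hAP.trans hP'M), hAp⟩
  simp only at hL₀ hL₀M hAS hSle hS
  have hS1 : S ≠ ⊥ := fun h => hA1 (le_bot_iff.1 (h ▸ hAS))
  have hgrow : ∀ L' T : Subgroup G, IsCoatom L' → T ≤ L' ⊓ M → IsPGroup p T → S < T → L' = M := by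
    intro L' T hL' hTle hT hlt
    by_contra hne'
    exact hlt.ne (eq_of_le_of_card_ge hlt.le (hbest (L', T) ⟨hL', hne', hAS.trans hlt.le, hTle, hT⟩))
  have hOL₀ : pPrimeCore p L₀ = ⊥ := hO L₀ (hAS.trans (hSle.trans inf_le_left)) hL₀.1
  by_cases hSM : ∀ T : Subgroup G, T ≤ M → IsPGroup p T → S ≤ T → T = S
  · obtain ⟨h1, hSglob⟩ := le_normalizer_pZ hG hM hOM (hSle.trans inf_le_right) hS hS1 hSM
    obtain ⟨h2, -⟩ := le_normalizer_pZ hG hL₀ hOL₀ (hSle.trans inf_le_left) hS hS1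
      fun T _ hT hle => hSglob T hT hle
    exact hL₀M (h2.symm.trans h1)
  push Not at hSM
  obtain ⟨T, hTM, hT, hST, hTne⟩ := hSM
  have hlt : S < T := lt_of_le_of_ne hST (Ne.symm hTne)
  have hSN : normalizer (S : Set G) ≤ M := by
    obtain ⟨L', hL', hle'⟩ := exists_isCoatom_ge hG (CfsgLib.PStab.normalizer_ne_top_of_minSimple hG hS1
      fun h => hL₀.1 (top_le_iff.1 (h ▸ hSle.trans inf_le_left)))
    rw [← hgrow L' (T ⊓ normalizer (S : Set G)) hL' (le_inf (inf_le_right.trans hle') (inf_le_left.trans hTM))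
      (hT.to_le inf_le_left) (CfsgLib.Signalizer.isPGroup_inf_normalizer_gt hT hlt)]
    exact hle'
  have hSL : ∀ U : Subgroup G, U ≤ L₀ → IsPGroup p U → S ≤ U → U = S := by
    intro U hUL hU hSU
    by_contra hUne
    refine hL₀M (hgrow L₀ (U ⊓ normalizer (S : Set G)) hL₀
      (le_inf (inf_le_left.trans hUL) (inf_le_right.trans hSN)) (hU.to_le inf_le_left) ?_)
    exact CfsgLib.Signalizer.isPGroup_inf_normalizer_gt hU (lt_of_le_of_ne hSU (Ne.symm hUne))
  exact hTne ((le_normalizer_pZ hG hL₀ hOL₀ (hSle.trans inf_le_left) hS hS1 hSL).2 T hT hST)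

end

end CfsgLib.OddLocal
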