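import Cfsg.Agent.Lib.OddLocal.MaximalBasic
import Cfsg.Agent.Lib.Cores.Coprime

/-!
# Type I with the cyclicity condition read inside `M_F`

`Cfsg.IsOfTypeI` asks for `O_{p'}(M)` to be cyclic where the classification of the maximal subgroups
gives a cyclic `O_{p'}(M_F)`.  `IsTypeICore` has the latter, and `typeACore`, `typeA0Core` are the sets
`A(M)`, `A₀(M)` read with it.
-/

set_option autoImplicit false
set_option linter.unusedSectionVars false

namespace CfsgLib.OddLocal.S15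

universe u

variable {G : Type u} [Group G]

/-- Type I with the cyclicity condition read inside `M_F`. -/
def IsTypeICore (M : Subgroup G) : Prop :=
  Cfsg.IsOfTypeF M ∧
  (Cfsg.IsTISubset (Cfsg.fittingHallOf M : Set G) ∨
    (IsMulCommutative (Cfsg.fittingHallOf M) ∧ Cfsg.RankLE 2 (Cfsg.fittingHallOf M) ∧
      ¬ Cfsg.RankLE 1 (Cfsg.fittingHallOf M)) ∨
    ((∀ p : ℕ, p.Prime → p ∣ Nat.card (Cfsg.fittingHallOf M) →
        Monoid.exponent (M ⧸ Cfsg.fittingHall M) ∣ p - 1) ∧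
      ∃ p : ℕ, p.Prime ∧ p ∣ Nat.card (Cfsg.fittingHallOf M) ∧
        IsCyclic (Cfsg.pPrimeCore p ↥(Cfsg.fittingHallOf M))))

open scoped Classical in
/-- `A(M)`, with type I read as `IsTypeICore`. -/
noncomputable def typeACore (M : Subgroup G) : Set G :=
  if IsTypeICore M then
    {a | a ∈ M ∧ a ≠ 1 ∧ ∃ x ∈ Cfsg.fittingHallOf M, x ≠ 1 ∧ a * x = x * a}
  else
    {a | a ∈ ⁅M, M⁆ ∧ a ≠ 1 ∧ ∃ x ∈ Cfsg.typeCore M, x ≠ 1 ∧ a * x = x * a}

/-- `A₀(M)`, with type I read as `IsTypeICore`. -/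
noncomputable def typeA0Core (M : Subgroup G) : Set G :=
  typeACore M ∪ {v | ¬ IsTypeICore M ∧ ∃ W₁ U W₂ : Subgroup G, Cfsg.IsTypePWith M W₁ U W₂ ∧
    ∃ m ∈ M, ∃ w ∈ W₁ ⊔ W₂, w ∉ W₁ ∧ w ∉ W₂ ∧ v = m * w * m⁻¹}

variable [Finite G]

/-- `O_{p'}(M_F)` embeds in `O_{p'}(M)`. -/
theorem isCyclic_core_of_isCyclic {M : Subgroup G} {p : ℕ}
    (h : IsCyclic (Cfsg.pPrimeCore p M)) :
    IsCyclic (Cfsg.pPrimeCore p ↥(Cfsg.fittingHallOf M)) := by
  set F : Subgroup M := Cfsg.fittingHall M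
  have hn : F.Normal := inferInstance
  have h1 : (Cfsg.pPrimeCore p F).map F.subtype ≤ Cfsg.pPrimeCore p M :=
    CfsgLib.Cores.map_subtype_pPrimeCore_le_of_isSubnormal p hn.isSubnormal
  haveI : IsCyclic ↥((Cfsg.pPrimeCore p F).map F.subtype) := Subgroup.isCyclic_of_le h1
  have e : ↥F ≃* ↥(Cfsg.fittingHallOf M) :=
    Subgroup.equivMapOfInjective F M.subtype M.subtype_injective
  rw [← CfsgLib.Cores.map_pPrimeCore_equiv e]
  haveI : IsCyclic (Cfsg.pPrimeCore p F) := isCyclic_of_surjective _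
    (Subgroup.equivMapOfInjective _ F.subtype F.subtype_injective).symm.surjective
  exact isCyclic_of_surjective _
    (Subgroup.equivMapOfInjective _ e.toMonoidHom e.injective).surjective

theorem isTypeICore_of_isOfTypeI {M : Subgroup G} (h : Cfsg.IsOfTypeI M) : IsTypeICore M := by
  obtain ⟨hF, h | h | ⟨h1, p, hp, hd, hc⟩⟩ := h
  exacts [⟨hF, Or.inl h⟩, ⟨hF, Or.inr (Or.inl h)⟩,
    ⟨hF, Or.inr (Or.inr ⟨h1, p, hp, hd, isCyclic_core_of_isCyclic hc⟩)⟩]

theorem typeACore_of_isOfTypeI {M : Subgroup G} (h : Cfsg.IsOfTypeI M) :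
    typeACore M = Cfsg.typeA M := by
  classical
  rw [typeACore, Cfsg.typeA, if_pos (isTypeICore_of_isOfTypeI h), if_pos h]

theorem typeACore_of_not {M : Subgroup G} (h : ¬ IsTypeICore M) :
    typeACore M = Cfsg.typeA M := by
  classical
  rw [typeACore, Cfsg.typeA, if_neg h, if_neg (fun hI => h (isTypeICore_of_isOfTypeI hI))]

end CfsgLib.OddLocal.S15
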