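import Cfsg.Agent.Lib.PGroup.ElemAbelian

/-!
# Abelian `p`-subgroups of rank one are cyclic
-/

set_option autoImplicit false
set_option linter.style.haveILetI false

namespace CfsgLib.OddLocal

universe u

variable {G : Type u} [Group G] [Finite G]

open scoped IsMulCommutative in
/-- A noncyclic abelian `p`-subgroup contains an elementary abelian subgroup of order `p ^ 2`. -/
theorem exists_elemAb_sq {p : ℕ} [hp : Fact p.Prime] {P : Subgroup G} (hP : IsPGroup p P)
    (hc : IsMulCommutative P) (hnc : ¬ IsCyclic P) :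
    ∃ A : Subgroup G, A ≤ P ∧ Cfsg.IsElementaryAbelian p A ∧ Nat.card A = p ^ 2 := by
  haveI := hc
  let K : ℕ → Subgroup P := fun k => (powMonoidHom (p ^ k) : P →* P).ker
  have hK : ∀ k, ∀ x : P, x ∈ K k ↔ x ^ p ^ k = 1 := fun k x => Iff.rfl
  have hbig : p ^ 2 ≤ Nat.card (K 1) := by
    by_contra hlt
    push Not at hlt
    obtain ⟨j, hj⟩ := (hP.to_subgroup (K 1)).exists_card_eq
    have hj1 : j ≤ 1 := by
      by_contra h
      exact absurd (hj ▸ hlt) (not_lt.2 (Nat.pow_le_pow_right hp.out.pos (by omega)))
    have hle1 : Nat.card (K 1) ≤ p := by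
      rw [hj]; exact (Nat.pow_le_pow_right hp.out.pos hj1).trans (pow_one p).le
    have hbound : ∀ k, Nat.card (K k) ≤ p ^ k := by
      intro k
      induction k with
      | zero =>
        have : K 0 = ⊥ := by
          rw [eq_bot_iff]
          intro x hx
          simpa [hK] using hx
        rw [this, Subgroup.card_bot, pow_zero]
      | succ k ih =>
        let f : K (k + 1) →* K k :=
          ((powMonoidHom p : P →* P).comp (K (k + 1)).subtype).codRestrict (K k) fun x => by
            rw [hK]
            show ((x : P) ^ p) ^ p ^ k = 1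
            rw [← pow_mul, ← pow_succ']
            exact x.2
        have hker : Nat.card f.ker ≤ Nat.card (K 1) :=
          Nat.card_le_card_of_injective (fun x => (⟨(x : K (k + 1)), by
            have := congrArg Subtype.val x.2
            rw [hK, pow_one]
            exact this⟩ : K 1)) fun a b h => Subtype.ext (Subtype.ext (congrArg (fun z : K 1 => (z : P)) h))
        have h1 : Nat.card (K (k + 1)) = Nat.card f.ker * f.ker.index :=
          (Subgroup.card_mul_index _).symm
        rw [h1, pow_succ, Subgroup.index_ker, mul_comm (p ^ k)]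
        exact Nat.mul_le_mul (hker.trans hle1) ((Subgroup.card_le_card_group _).trans ih)
    obtain ⟨v, -, hv⟩ := (Nat.dvd_prime_pow hp.out).1
      (hP.exists_card_eq.choose_spec ▸ (Group.exponent_dvd_nat_card : Monoid.exponent P ∣ Nat.card P))
    have htop : K v = ⊤ := by
      rw [eq_top_iff]
      intro x _
      rw [hK, ← hv]
      exact Monoid.pow_exponent_eq_one x
    refine hnc (IsCyclic.of_exponent_eq_card (le_antisymm ?_ ?_))
    · exact Nat.le_of_dvd Nat.card_pos Group.exponent_dvd_nat_card
    · rw [hv, ← Subgroup.card_top (G := P), ← htop]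
      exact hbound v
  obtain ⟨j, hj⟩ := (hP.to_subgroup (K 1)).exists_card_eq
  have hj2 : 2 ≤ j := (Nat.pow_le_pow_iff_right hp.out.one_lt).1 (hj ▸ hbig)
  obtain ⟨B, hB⟩ := Sylow.exists_subgroup_card_pow_prime (G := K 1) p (n := 2)
    (hj ▸ pow_dvd_pow p hj2)
  refine ⟨(B.map (K 1).subtype).map P.subtype, Subgroup.map_subtype_le _,
    CfsgLib.PGroup.isElementaryAbelian_mk ?_ ?_, ?_⟩
  · rintro _ ⟨a, -, rfl⟩ _ ⟨b, -, rfl⟩
    exact congrArg Subtype.val (mul_comm a b)
  · rintro _ ⟨a, ⟨a', -, rfl⟩, rfl⟩
    have := congrArg Subtype.val ((hK 1 _).1 a'.2)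
    simpa using this
  · rw [Subgroup.card_map_of_injective P.subtype_injective,
      Subgroup.card_map_of_injective (K 1).subtype_injective, hB]

end CfsgLib.OddLocal
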