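import Cfsg.Agent.Lib.OddLocal.BGTools
import Cfsg.Agent.Lib.FGS.ThompsonKernel
import Cfsg.Agent.Lib.Solvable.AbelianAction
import Cfsg.Agent.Lib.Solvable.Nilpotent

/-!
Planes under a `p`-group of operators: the moving element, the commutator, the orbit of lines.
-/

set_option autoImplicit false
set_option linter.unusedSectionVars false

namespace CfsgLib.OddLocal.BG

open Cfsg Subgroup CfsgLib.Solvable
open scoped Pointwise commutatorElement

variable {G : Type*} [Group G] [Finite G] {p : ℕ} [hp : Fact p.Prime]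

/-- An element centralising `u` modulo a normalised subgroup does so together with its powers. -/
theorem commutator_zpowers_mem {Q : Subgroup G} {k u : G}
    (hk : k ∈ Subgroup.normalizer (Q : Set G)) (hu : u ∈ Subgroup.normalizer (Q : Set G))
    (h : ⁅k, u⁆ ∈ Q) : ∀ a ∈ Subgroup.zpowers k, ⁅a, u⁆ ∈ Q := by
  rintro a ⟨i, rfl⟩
  set L : Subgroup G := Subgroup.normalizer (Q : Set G)
  haveI : (Q.subgroupOf L).Normal := Subgroup.normal_subgroupOf_of_le_normalizer le_rfl
  let π := QuotientGroup.mk' (Q.subgroupOf L)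
  have h1 : Commute (π ⟨k, hk⟩) (π ⟨u, hu⟩) := by
    rw [← commutatorElement_eq_one_iff_commute, ← map_commutatorElement]
    exact (QuotientGroup.eq_one_iff _).2 h
  have h2 : π ⁅(⟨k, hk⟩ : L) ^ i, ⟨u, hu⟩⁆ = 1 := by
    rw [map_commutatorElement, map_zpow, commutatorElement_eq_one_iff_commute]
    exact h1.zpow_left i
  have h3 : ⁅(⟨k, hk⟩ : L) ^ i, ⟨u, hu⟩⁆ ∈ Q.subgroupOf L := (QuotientGroup.eq_one_iff _).1 h2
  exact h3

/-- Thompson: a subgroup normalised by an element of prime order without fixed points is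
nilpotent. -/
theorem isNilpotent_of_fpf_normalized {X : Subgroup G} {r : ℕ} (hr : r.Prime) {k : G}
    (hk : k ∈ Subgroup.normalizer (X : Set G)) (hkr : k ^ r = 1)
    (hfix : ∀ x ∈ X, x * k = k * x → x = 1) : Group.IsNilpotent X := by
  refine CfsgLib.FGS.isNilpotent_of_fpf_prime hr (X.normalizerMonoidHom ⟨k, hk⟩) (fun x hx => ?_) ?_
  · refine Subtype.ext (hfix x x.2 ?_)
    have h1 : k * (x : G) * k⁻¹ = x := congrArg Subtype.val hx
    exact (mul_inv_eq_iff_eq_mul.1 h1).symm
  · rw [← map_pow, show (⟨k, hk⟩ : (Subgroup.normalizer (X : Set G) : Subgroup G)) ^ r = 1 from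
      Subtype.ext hkr, map_one]

theorem isNilpotent_of_le {A B : Subgroup G} (hB : Group.IsNilpotent B) (h : A ≤ B) :
    Group.IsNilpotent A := by
  haveI := hB
  exact Group.nilpotent_of_mulEquiv (Subgroup.subgroupOfEquivOfLe h)

/-- A `p`-group normalising a group of order `p` centralises it. -/
theorem le_centralizer_of_card_prime {S X : Subgroup G} (hS : IsPGroup p S) (hX : Nat.card X = p)
    (hn : S ≤ normalizer (X : Set G)) : S ≤ centralizer (X : Set G) := by
  intro s hs
  obtain ⟨x₀, hx₀⟩ := (isCyclic_of_prime_card hX).exists_generator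
  set T := S ⊔ X with hT
  have hXn : (X.subgroupOf T).Normal :=
    normal_subgroupOf_of_le_normalizer (sup_le hn le_normalizer)
  have hTp : IsPGroup p T := hS.to_sup_of_normal_right' (isPGroup_of_card_prime p hX) hn
  haveI := hTp.isNilpotent
  have hne : X.subgroupOf T ≠ ⊥ := fun he => ne_bot_of_card_prime hX (by
    have := Nat.card_congr (subgroupOfEquivOfLe (le_sup_right : X ≤ T)).toEquiv
    rw [he, card_bot] at this
    exact eq_bot_of_card_eq _ this.symm)
  have hcap := inf_center_ne_bot_of_isNilpotent (N := X.subgroupOf T) hne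
  have hle : X.subgroupOf T ≤ center T := by
    rcases (Nat.dvd_prime hp.out).1 ((Nat.card_congr
      (subgroupOfEquivOfLe (le_sup_right : X ≤ T)).toEquiv).trans hX ▸
      card_dvd_of_le (inf_le_left : X.subgroupOf T ⊓ center T ≤ X.subgroupOf T)) with h1 | h1
    · exact absurd (eq_bot_of_card_eq _ h1) hcap
    · exact inf_eq_left.1 (eq_of_le_of_card_ge inf_le_left
        ((Nat.card_congr (subgroupOfEquivOfLe (le_sup_right : X ≤ T)).toEquiv).trans hX |>.trans h1.symm).le)
  refine mem_centralizer_iff.2 fun x hx => ?_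
  exact (congrArg Subtype.val (mem_center_iff.1 (hle (show (⟨x, le_sup_right (a := S) hx⟩ : T) ∈
    X.subgroupOf T from hx)) ⟨s, le_sup_left (b := X) hs⟩)).symm

/-- An element normalising a maximal plane and not centralising it. -/
theorem exists_mem_normalizer_moving {S A : Subgroup G} (hS : IsPGroup p S) (hA : Plane p A)
    (hAS : A ≤ S) (hmem : ∀ x ∈ S, x ∈ centralizer (A : Set G) → x ^ p = 1 → x ∈ A)
    (hne : ¬ S ≤ centralizer (A : Set G)) :
    ∃ t ∈ S, t ∈ normalizer (A : Set G) ∧ t ∉ centralizer (A : Set G) := by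
  haveI := hS.isNilpotent
  set H := S ⊓ centralizer (A : Set G) with hH
  have hlt : H.subgroupOf S < ⊤ := lt_top_iff_ne_top.2 fun he =>
    hne ((subgroupOf_eq_top.1 he).trans inf_le_right)
  obtain ⟨t, ht, htH⟩ := SetLike.exists_of_lt
    ((Group.normalizerCondition_of_isNilpotent (G := S)) (H.subgroupOf S) hlt)
  refine ⟨t, t.2, mem_normalizer_of_conj_mem fun a ha => ?_, fun htc => htH ⟨t.2, htc⟩⟩
  have haH : (⟨a, hAS ha⟩ : S) ∈ H.subgroupOf S := ⟨hAS ha, hA.le_centralizer ha⟩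
  have h1 : (t : G) * a * (t : G)⁻¹ ∈ H := (mem_normalizer_iff.1 ht _).1 haH
  exact hmem _ h1.1 h1.2 (by rw [conj_pow, hA.1.2 a ha, mul_one, mul_inv_cancel])

/-- A `p`-element fixing a line `Z` of a plane acts trivially on the quotient by it. -/
theorem plane_commutator_mem {S A Z : Subgroup G} (hS : IsPGroup p S) (hA : Plane p A) (hZA : Z ≤ A)
    (hZ : Nat.card Z = p) {t : G} (htS : t ∈ S) (htA : t ∈ normalizer (A : Set G))
    (htZ : t ∈ centralizer (Z : Set G)) {a : G} (ha : a ∈ A) : t * a * t⁻¹ * a⁻¹ ∈ Z := by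
  set T := A ⊔ zpowers t with hT
  have hTn : zpowers t ≤ normalizer (A : Set G) := zpowers_le.2 htA
  have hTp : IsPGroup p T := by
    have h1 : IsPGroup p (zpowers t) := hS.to_le (zpowers_le.2 htS)
    exact hA.isPGroup.to_sup_of_normal_left' h1 hTn
  haveI := hTp.isNilpotent
  have hAZ : A ≤ centralizer (Z : Set G) := hA.le_centralizer.trans (centralizer_le hZA)
  have hTZ : T ≤ centralizer (Z : Set G) := sup_le hAZ (zpowers_le.2 htZ)
  haveI : (A.subgroupOf T).Normal :=
    normal_subgroupOf_of_le_normalizer (sup_le le_normalizer hTn)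
  haveI : (Z.subgroupOf T).Normal :=
    normal_subgroupOf_of_le_normalizer (hTZ.trans (centralizer_le_normalizer _))
  have hnot : ¬ A.subgroupOf T ≤ Z.subgroupOf T := fun hle => by
    have h1 : A ≤ Z := fun y hy => hle (show (⟨y, le_sup_left (b := zpowers t) hy⟩ : T) ∈
      A.subgroupOf T from hy)
    have := card_le_of_le h1
    rw [hA.2, hZ] at this
    exact absurd this (not_le.2 (lt_self_pow₀ hp.out.one_lt (by norm_num)))
  obtain ⟨x, hxA, hxZ, hx⟩ := exists_central_mod_of_isNilpotent hnot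
  have hxA' : (x : G) ∈ A := hxA
  have hxZ' : (x : G) ∉ Z := hxZ
  have hgen : A ≤ Z ⊔ zpowers (x : G) := (hA.sup_eq hZA (zpowers_le.2 hxA') hZ
    (hA.card_zpowers hxA' fun he => hxZ' (he.symm ▸ one_mem Z))
    (fun he => hxZ' (he.ge (mem_zpowers _)))).ge
  have hxt : ⁅(x : G), t⁆ ∈ Z := (hx ⟨t, le_sup_right (a := A) (mem_zpowers t)⟩).2
  have hzn : zpowers (x : G) ≤ normalizer (Z : Set G) :=
    (zpowers_le.2 (hAZ hxA)).trans (centralizer_le_normalizer _)
  obtain ⟨z, hz, y, hy, rfl⟩ := exists_mul_of_mem_sup hzn (hgen ha)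
  have h2 := commutator_zpowers_mem (centralizer_le_normalizer _ (hAZ hxA))
    (centralizer_le_normalizer _ htZ) hxt y hy
  have hz' : t * z * t⁻¹ = z := by
    rw [← mem_centralizer_iff.1 htZ z hz, mul_inv_cancel_right]
  have e : t * (z * y) * t⁻¹ * (z * y)⁻¹ = z * ⁅y, t⁆⁻¹ * z⁻¹ := by
    calc t * (z * y) * t⁻¹ * (z * y)⁻¹ = (t * z * t⁻¹) * (t * y * t⁻¹ * y⁻¹) * z⁻¹ := by group
      _ = z * ⁅y, t⁆⁻¹ * z⁻¹ := by rw [hz', commutatorElement_inv, commutatorElement_def]
  rw [e]
  exact mul_mem (mul_mem hz (inv_mem h2)) (inv_mem hz)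

/-- The lines other than `Z` are permuted transitively by a moving element fixing `Z`. -/
theorem plane_lines {S A Z L L' : Subgroup G} (hS : IsPGroup p S) (hA : Plane p A) (hZA : Z ≤ A)
    (hZ : Nat.card Z = p) {t : G} (htS : t ∈ S) (htA : t ∈ normalizer (A : Set G))
    (htZ : t ∈ centralizer (Z : Set G)) (htC : t ∉ centralizer (A : Set G))
    (hL : L ≤ A) (hLc : Nat.card L = p) (hLZ : L ≠ Z) (hL' : L' ≤ A) (hL'c : Nat.card L' = p)
    (hL'Z : L' ≠ Z) : ∃ n : ℕ, L' = MulAut.conj (t ^ n) • L := by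
  obtain ⟨l, hl⟩ := (isCyclic_of_prime_card hLc).exists_generator
  obtain ⟨l', hl'⟩ := (isCyclic_of_prime_card hL'c).exists_generator
  have hLgen : L ≤ zpowers (l : G) := fun y hy => by
    obtain ⟨i, hi⟩ := mem_zpowers_iff.1 (hl ⟨y, hy⟩)
    exact mem_zpowers_iff.2 ⟨i, congrArg Subtype.val hi⟩
  have hL'gen : L' ≤ zpowers (l' : G) := fun y hy => by
    obtain ⟨i, hi⟩ := mem_zpowers_iff.1 (hl' ⟨y, hy⟩)
    exact mem_zpowers_iff.2 ⟨i, congrArg Subtype.val hi⟩
  set z := t * (l : G) * t⁻¹ * (l : G)⁻¹ with hzdef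
  have hz : z ∈ Z := plane_commutator_mem hS hA hZA hZ htS htA htZ (hL l.2)
  have hz1 : z ≠ 1 := fun he => htC (by
    have h1 : A ≤ centralizer ({t} : Set G) := by
      rw [← hA.sup_eq hL hZA hLc hZ hLZ]
      refine sup_le (hLgen.trans (zpowers_le.2 (mem_centralizer_singleton_iff.2 ?_))) fun y hy =>
        mem_centralizer_singleton_iff.2 (mem_centralizer_iff.1 htZ y hy)
      exact (mul_inv_eq_iff_eq_mul.1 (mul_inv_eq_one.1 he)).symm
    exact mem_centralizer_iff.2 fun a ha => mem_centralizer_singleton_iff.1 (h1 ha))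
  have hzt : ∀ n : ℕ, t ^ n * (l : G) * (t ^ n)⁻¹ = z ^ n * l := by
    intro n
    induction n with
    | zero => simp
    | succ n ih =>
      have h1 : Commute t (z ^ n) :=
        ((show Commute z t from mem_centralizer_iff.1 htZ z hz).pow_left n).symm
      calc t ^ (n + 1) * (l : G) * (t ^ (n + 1))⁻¹ = t * (t ^ n * (l : G) * (t ^ n)⁻¹) * t⁻¹ := by
            rw [pow_succ', mul_inv_rev]; group
        _ = (t * z ^ n * t⁻¹) * (t * (l : G) * t⁻¹ * (l : G)⁻¹) * l := by rw [ih]; group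
        _ = z ^ n * z * l := by rw [h1.eq, mul_inv_cancel_right]
        _ = z ^ (n + 1) * l := by rw [pow_succ]
  have hln : zpowers (l : G) ≤ normalizer (Z : Set G) :=
    ((zpowers_le.2 (hA.le_centralizer.trans (centralizer_le hZA) (hL l.2))).trans
      (centralizer_le_normalizer _))
  obtain ⟨z', hz', y, hy, he⟩ := exists_mul_of_mem_sup hln
    ((hA.sup_eq hZA hL hZ hLc (Ne.symm hLZ)).ge.trans (sup_le_sup le_rfl hLgen) (hL' l'.2))
  obtain ⟨j, rfl⟩ := mem_zpowers_iff.1 hy
  have hzgen : Z ≤ zpowers z := (eq_of_le_of_card_ge (zpowers_le.2 hz)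
    (by rw [hZ, hA.card_zpowers (hZA hz) hz1])).ge
  obtain ⟨i, rfl⟩ := mem_zpowers_iff.1 (hzgen hz')
  have hop : ∀ w ∈ A, ∀ k k' : ℤ, (k : ZMod p) = k' → w ^ k = w ^ k' := fun w hw k k' hk => by
    have h1 : (w : G) ^ (p : ℤ) = 1 := by rw [zpow_natCast]; exact hA.1.2 w hw
    obtain ⟨c, hc⟩ := (ZMod.intCast_eq_intCast_iff_dvd_sub _ _ _).1 hk
    rw [show k' = k + (p : ℤ) * c by omega, zpow_add, zpow_mul, h1, one_zpow, mul_one]
  have hj : (j : ZMod p) ≠ 0 := by
    intro h0
    refine hL'Z ((eq_of_le_card_prime hL'c hZ (hL'gen.trans (zpowers_le.2 ?_))))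
    rw [he, hop l (hL l.2) j 0 (by rw [h0, Int.cast_zero]), zpow_zero, mul_one]
    exact hz'
  refine ⟨((i : ZMod p) * (j : ZMod p)⁻¹).val, eq_of_le_card_prime hL'c ?_ (hL'gen.trans ?_)⟩
  · rw [card_conj_smul, hLc]
  refine zpowers_le.2 ?_
  set n := ((i : ZMod p) * (j : ZMod p)⁻¹).val with hn
  have h1 : z ^ n * (l : G) ∈ MulAut.conj (t ^ n) • L := by
    rw [← hzt]
    exact conj_smul_le_iff.1 le_rfl _ l.2
  have h2 : (z ^ n * (l : G)) ^ j = z ^ i * (l : G) ^ j := by
    rw [(show Commute (z ^ n) (l : G) from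
      (show Commute z (l : G) from hA.comm z (hZA hz) l (hL l.2)).pow_left n).mul_zpow,
      ← zpow_natCast z n, ← zpow_mul]
    congr 1
    refine hop z (hZA hz) _ _ ?_
    rw [Int.cast_mul, Int.cast_natCast, hn, ZMod.natCast_zmod_val, mul_assoc, inv_mul_cancel₀ hj,
      mul_one]
  rw [he, ← h2]
  exact zpow_mem h1 j

/-- Coprime action on an abelian group: the commutator is everything when fixed points are trivial. -/
theorem le_commutator_of_fixed_eq_bot {A V : Subgroup G} (hVA : V ≤ normalizer (A : Set G))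
    (hcop : (Nat.card V).Coprime (Nat.card A)) (hs : Group.IsSolvable A)
    (hfix : A ⊓ centralizer (V : Set G) = ⊥) : A ≤ ⁅A, V⁆ := by
  have h1 := commutator_sup_centralizer (A := V) (K := A) hVA hcop (Or.inr hs)
  rw [hfix, sup_bot_eq] at h1
  exact h1.ge

end CfsgLib.OddLocal.BG
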