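import Cfsg.Prelude.Def_OddOrderLocal
import Cfsg.Prelude.Def_Local

/-!
The results of Bender-Glauberman, sections 9-10, used by sections 11-12, bundled as a hypothesis.
Each field is the conclusion of the frozen statement named in its docstring (or, for
`sigma_hall`, `sigma_le_derived`, `sigma_ne_bot`, the part of Theorem 10.2 about the sigma core).
-/

set_option autoImplicit false

namespace CfsgLib.OddLocal.BG

open Cfsg

/-- The hypotheses inherited from sections 9 and 10. -/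
structure Ten (G : Type*) [Group G] : Prop where
  minimal : IsMinSimpleOddOrder G
  /-- S1403 -/
  uniq : ∀ K : Subgroup G, K ≠ ⊤ → ¬ RankLE 1 K →
    (¬ RankLE 2 K ∨ ¬ RankLE 2 (Subgroup.centralizer (K : Set G))) → InUniqueMaximal K
  /-- S1404 -/
  fusion : ∀ M : Subgroup G, IsCoatom M → ∀ p : ℕ, p.Prime → p ∈ sigma M → ∀ X : Subgroup G,
    IsPGroup p X → X ≠ ⊥ → X ≤ M →
      (∀ g : G, X.map (MulAut.conj g).toMonoidHom ≤ M →
        ∃ m ∈ M, ∃ c ∈ Subgroup.centralizer (X : Set G), g = m * c) ∧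
      Subgroup.normalizer (X : Set G) =
        (M ⊓ Subgroup.normalizer (X : Set G)) ⊔ Subgroup.centralizer (X : Set G)
  /-- S1405 -/
  alphaHall : ∀ M : Subgroup G, IsCoatom M →
    IsPiHallOf (alpha M) (alphaCore M) M ∧ IsPiHall (alpha M) (alphaCore M) ∧
      alphaCore M ≤ sigmaCore M ∧ RankLE 2 (↥M ⧸ piCore (alpha M) ↥M) ∧
      Group.IsNilpotent ↥((commutator ↥M).map (QuotientGroup.mk' (piCore (alpha M) ↥M)))
  /-- Theorem 10.2 (b) -/
  sigmaHall : ∀ M : Subgroup G, IsCoatom M →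
    IsPiHallOf (sigma M) (sigmaCore M) M ∧ IsPiHall (sigma M) (sigmaCore M)
  /-- Theorem 10.2 (c) -/
  sigma_le_derived : ∀ M : Subgroup G, IsCoatom M → sigmaCore M ≤ ⁅M, M⁆
  /-- Theorem 10.2 (e) -/
  sigma_ne_bot : ∀ M : Subgroup G, IsCoatom M → sigmaCore M ≠ ⊥
  /-- S1406 -/
  cent_alpha_uniq : ∀ M : Subgroup G, IsCoatom M → ∀ X : Subgroup G, X ≤ M →
    (∀ p : ℕ, p.Prime → p ∣ Nat.card X → p ∉ alpha M) →
    ¬ RankLE 1 ↥(alphaCore M ⊓ Subgroup.centralizer (X : Set G)) →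
      InUniqueMaximal (M ⊓ Subgroup.centralizer (X : Set G))
  /-- S1408 -/
  rank_two : ∀ M : Subgroup G, IsCoatom M → ∀ p : ℕ, p.Prime → p ∉ sigma M → PRankLE p 2 M →
    ¬ PRankLE p 1 M →
      ¬ IsIdealPrime p G ∧ ∀ A : Subgroup G, A ≤ M → IsElementaryAbelian p A → Nat.card A = p ^ 2 →
        ∀ B : Subgroup G, IsElementaryAbelian p B → A ≤ B → B = A
  /-- S1409 -/
  normalizer_le : ∀ M : Subgroup G, IsCoatom M → ∀ p : ℕ, p.Prime → p ∉ sigma M → ∀ X : Subgroup G,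
    Nat.card X = p → Subgroup.normalizer (X : Set G) ≤ M →
    (PRankLE p 2 M ∧ ¬ PRankLE p 1 M) ∧ ¬ IsIdealPrime p G ∧
      ∃ A : Subgroup G, IsElementaryAbelian p A ∧ Nat.card A = p ^ 2 ∧ X ≤ A
  /-- S1410 -/
  plength : ∀ p : ℕ, p.Prime → ∀ H : Subgroup G, H ≠ ⊤ → PLengthLE p 1 H
  /-- S1411 -/
  focal : ∀ p : ℕ, p.Prime → ∀ (P : Sylow p G) (V : Subgroup G),
    IsComplIn (P : Subgroup G) V (Subgroup.normalizer ((P : Subgroup G) : Set G)) →
    (P : Subgroup G) = ⁅(P : Subgroup G), V⁆ ∧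
      (P : Subgroup G) ≤ ⁅Subgroup.normalizer ((P : Subgroup G) : Set G),
        Subgroup.normalizer ((P : Subgroup G) : Set G)⁆
  /-- S1412 -/
  sylow_rank_two : ∀ p : ℕ, p.Prime → ∀ P : Sylow p G, PRankLE p 2 (P : Subgroup G) →
    IsMulCommutative (P : Subgroup G) ∨ ∃ P₁ P₂ : Subgroup G, P₁ ⊔ P₂ = (P : Subgroup G) ∧
        (∀ a ∈ P₁, ∀ b ∈ P₂, a * b = b * a) ∧
        ¬ IsMulCommutative P₁ ∧ Nat.card P₁ = p ^ 3 ∧ Monoid.exponent P₁ = p ∧ IsCyclic P₂ ∧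
        Subgroup.closure {x : G | x ∈ P₂ ∧ x ^ p = 1} = P₁ ⊓ Subgroup.centralizer (P₁ : Set G)
  /-- S1414 -/
  betaHall : ∀ M : Subgroup G, IsCoatom M →
    IsPiHallOf (beta M) (piCoreOf (beta M) M) M ∧ IsPiHall (beta M) (piCoreOf (beta M) M) ∧
      (∃ H : Subgroup G, IsPiHallOf {q | q.Prime ∧ q ∉ beta M} H ⁅M, M⁆ ∧ Group.IsNilpotent H) ∧
      (∃ H : Subgroup G, IsPiHallOf {q | q.Prime ∧ q ∉ beta M} H (sigmaCore M) ∧ Group.IsNilpotent H) ∧
      ∀ p : ℕ, p.Prime → p ∣ Nat.card M → p ∉ beta M →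
        HasNormalPComplement p ↥⁅M, M⁆ ∧ HasNormalPComplement p ↥(sigmaCore M) ∧
        ∀ q : ℕ, q.Prime → q ∣ (pPrimeCore p ↥M).index → q ≤ p

end CfsgLib.OddLocal.BG
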