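import Cfsg.Agent.Lib.OddLocal.BGTools
import Cfsg.Agent.Lib.OddLocal.BGHyp
import Cfsg.Agent.Lib.OddLocal.Ten.Narrow

/-!
A Sylow subgroup with a maximal elementary abelian plane: the centraliser of the plane is abelian and
its `p`-th powers in the plane are central.
-/

set_option autoImplicit false

namespace CfsgLib.OddLocal.BG

open Cfsg Subgroup CfsgLib.PGroup CfsgLib.OddLocal.Ten
open scoped commutatorElement

/-- The case of rank at least three. -/
theorem narrow_aux {R : Type*} [Group R] [Finite R] {p : ℕ} [hp : Fact p.Prime] (hR : IsPGroup p R)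
    (hp2 : p ≠ 2) (hrk : ¬ PRankLE p 2 R)
    {A : Subgroup R} (hA : IsElementaryAbelian p A) (hAc : Nat.card A = p ^ 2)
    (hmax : ∀ B : Subgroup R, IsElementaryAbelian p B → A ≤ B → B = A) :
    (∀ x ∈ centralizer (A : Set R), ∀ y ∈ centralizer (A : Set R), x * y = y * x) ∧
      (∀ c ∈ centralizer (A : Set R), c ^ p ∈ A → c ^ p ∈ center R) ∧ ¬ A ≤ center R := by
  -- elements of order `p` centralising `A` lie in `A`
  have hCA : ∀ v : R, v ^ p = 1 → A ≤ centralizer ({v} : Set R) → v ∈ A := fun v hv hc => by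
    have h := hmax _ (elemAb_sup hA (elemAb_zpowers hv) fun a ha b hb => by
      obtain ⟨i, rfl⟩ := mem_zpowers_iff.1 hb
      exact (Commute.zpow_right (mem_centralizer_singleton_iff.1 (hc ha)) i).eq) le_sup_left
    exact h ▸ mem_sup_right (mem_zpowers v)
  have hcen : ∀ z ∈ center R, ∀ v : R, z ∈ centralizer ({v} : Set R) := fun z hz v =>
    mem_centralizer_singleton_iff.2 (mem_center_iff.1 hz v).symm
  obtain ⟨U, hUn, hU, hUc⟩ := CfsgLib.RankGraph.exists_normal_sq hR hrk
  have hlt : p < p ^ 2 := lt_self_pow₀ hp.out.one_lt (by norm_num)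
  have hU1 : U ≠ ⊥ := fun e => by
    rw [e, card_bot] at hUc
    exact (Nat.one_lt_pow (by norm_num) hp.out.one_lt).ne hUc
  obtain ⟨Z, hZc, hZU, hZZ⟩ : ∃ Z : Subgroup R, Nat.card Z = p ∧ Z ≤ U ∧ Z ≤ center R := by
    obtain ⟨z, hz, hzo⟩ := exists_orderOf_eq hR (H := U ⊓ center R) (inf_center_ne_bot hR U hU1)
    exact ⟨zpowers z, by rw [Nat.card_zpowers, hzo], zpowers_le.2 hz.1, zpowers_le.2 hz.2⟩
  have hZA : Z ≤ A := fun z hz => hCA z (hU.2 z (hZU hz)) fun a _ =>
    mem_centralizer_singleton_iff.2 (mem_center_iff.1 (hZZ hz) a)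
  have hcommU : ∀ k : R, ∀ u ∈ U, ⁅k, u⁆ ∈ Z := fun k u hu => by
    have hZn : Z.Normal := ⟨fun z hz g => by
      rwa [mem_center_iff.1 (hZZ hz) g, mul_inv_cancel_right]⟩
    have : (U.map (QuotientGroup.mk' Z)).Normal := hUn.map _ (QuotientGroup.mk'_surjective Z)
    have hquot := le_center_of_card_eq (p := p) (hR.to_quotient Z) (U.map (QuotientGroup.mk' Z)) (by
      have h1 := relIndex_ker (QuotientGroup.mk' Z) (K := U)
      rw [QuotientGroup.ker_mk'] at h1
      rw [← h1]
      refine Nat.eq_of_mul_eq_mul_left hp.out.pos ?_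
      rw [← pow_two, ← hUc]
      conv_lhs => rw [← hZc]
      rw [← relIndex_bot_left, ← relIndex_bot_left, relIndex_mul_relIndex ⊥ Z U bot_le hZU])
    rw [← QuotientGroup.eq_one_iff, ← QuotientGroup.mk'_apply, map_commutatorElement]
    exact commutatorElement_eq_one_iff_mul_comm.2 (mem_center_iff.1 (hquot (mem_map_of_mem _ hu)) _)
  -- `A` is not normal
  have hAU : A ≠ U := by
    intro e
    obtain ⟨B, hB, hBc⟩ := CfsgLib.Cores.not_pRankLE_two_iff.1 hrk
    obtain ⟨a, haA, haZ⟩ : ∃ a ∈ A, a ∉ Z := by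
      by_contra h
      push Not at h
      have := card_le_of_le (show A ≤ Z from h)
      rw [hAc, hZc] at this
      exact hlt.not_ge this
    have hgen := sup_zpowers_eq_of_sq hA hAc hZA hZc haA haZ
    have hle : B ⊓ centralizer ({a} : Set R) ≤ A := fun b hb => hCA b (hB.2 b hb.1) (hgen ▸
      sup_le (fun z hz => hcen z (hZZ hz) b)
        (zpowers_le.2 (mem_centralizer_singleton_iff.2 (mem_centralizer_singleton_iff.1 hb.2).symm)))
    have h23 : p ^ 2 < p ^ 3 := Nat.pow_lt_pow_right hp.out.one_lt (by norm_num)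
    by_cases hBa : B ≤ centralizer ({a} : Set R)
    · have := hBc.trans (card_le_of_le ((le_inf le_rfl hBa).trans hle))
      rw [hAc] at this
      exact h23.not_ge this
    · have h1 := card_inf_centralizer_mul hZZ hZc (K := B) (x := a)
        (fun k _ => hcommU k a (e ▸ haA)) hBa
      have h2 : B ⊓ centralizer ({a} : Set R) = A := by
        refine eq_of_le_of_card_ge hle (Nat.le_of_mul_le_mul_right ?_ hp.out.pos)
        rw [h1, hAc, ← pow_succ]
        exact hBc
      have := hmax B hB (h2 ▸ inf_le_left)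
      rw [this, hAc] at hBc
      exact h23.not_ge hBc
  obtain ⟨a, haA, haU⟩ : ∃ a ∈ A, a ∉ U := by
    by_contra h
    push Not at h
    exact hAU (eq_of_le_of_card_ge h (by rw [hAc, hUc]))
  have hao : orderOf a = p := orderOf_eq_prime (hA.2 a haA) fun e => haU (e ▸ one_mem U)
  obtain ⟨u, huU, huZ⟩ : ∃ u ∈ U, u ∉ Z := by
    by_contra h
    push Not at h
    have := card_le_of_le (show U ≤ Z from h)
    rw [hUc, hZc] at this
    exact hlt.not_ge this
  -- `A` does not centralise `u`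
  have hAu : ¬ A ≤ centralizer ({u} : Set R) := fun h => by
    have huA := hCA u (hU.2 u huU) h
    exact haU ((sup_zpowers_eq_of_sq hA hAc hZA hZc huA huZ).ge.trans
      (sup_le hZU (zpowers_le.2 huU)) haA)
  have hgen := sup_zpowers_eq_of_sq hA hAc hZA hZc haA fun h => haU (hZU h)
  set C := centralizer (zpowers a : Set R) with hC
  have haC : zpowers a ≤ C := fun x hx => mem_centralizer_iff.2 fun y hy => by
    obtain ⟨i, rfl⟩ := mem_zpowers_iff.1 hx
    obtain ⟨j, rfl⟩ := mem_zpowers_iff.1 hy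
    exact (Commute.zpow_zpow rfl j i).eq
  have hua : ¬ C ≤ centralizer ({u} : Set R) := fun h => hAu (hgen ▸
    sup_le (fun z hz => hcen z (hZZ hz) u) (haC.trans h))
  set K := C ⊓ centralizer ({u} : Set R) with hK
  have hKC : Nat.card K * p = Nat.card C :=
    card_inf_centralizer_mul hZZ hZc (fun k _ => hcommU k u huU) hua
  have hKA : ∀ k ∈ K, k ^ p = 1 → k ∈ Z := by
    intro k hk hkp
    have hkA : k ∈ A := hCA k hkp (hgen ▸ sup_le (fun z hz => hcen z (hZZ hz) k)
      (zpowers_le.2 (mem_centralizer_singleton_iff.2 (mem_centralizer_iff.1 hk.1 a (mem_zpowers a)))))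
    by_contra hkZ
    exact hAu (sup_zpowers_eq_of_sq hA hAc hZA hZc hkA hkZ ▸
      sup_le (fun z hz => hcen z (hZZ hz) u) (zpowers_le.2 hk.2))
  have hKcyc : IsCyclic K := by
    refine CfsgLib.OddLocal.BG.isCyclic_of_pRankLE_one hp2 (hR.to_subgroup K)
      ((pRankLE_subgroup_iff K).2 fun B hBK hB => ?_)
    rw [pow_one, ← hZc]
    exact card_le_of_le fun b hb => hKA b (hBK hb) (hB.2 b hb)
  have hdec : C ≤ zpowers a ⊔ K := by
    have hlt : K < zpowers a ⊔ K := by
      refine lt_of_le_of_ne le_sup_right fun e => ?_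
      have haK : a ∈ K := e ▸ mem_sup_left (mem_zpowers a)
      exact haU (hZU (hKA a haK (hA.2 a haA)))
    refine (eq_of_le_of_card_ge (sup_le haC inf_le_left) ?_).ge
    obtain ⟨n, hn⟩ := (hR.to_subgroup (zpowers a ⊔ K)).exists_card_eq
    obtain ⟨m, hm⟩ := (hR.to_subgroup K).exists_card_eq
    rw [← hKC, hm, hn, ← pow_succ]
    refine Nat.pow_le_pow_right hp.out.pos ((Nat.pow_lt_pow_iff_right hp.out.one_lt).1 ?_)
    rw [← hm, ← hn]
    exact lt_of_le_of_ne (card_le_of_le hlt.le) fun e => hlt.ne (eq_of_le_of_card_ge hlt.le e.ge)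
  have hsplit : ∀ x ∈ centralizer (A : Set R), ∃ i : ℤ, ∃ k ∈ K, x = a ^ i * k := by
    intro x hx
    have h1 : x ∈ C := mem_centralizer_iff.2 fun y hy => mem_centralizer_iff.1 hx y
      ((zpowers_le.2 haA) hy)
    have hn : K ≤ normalizer (zpowers a : Set R) := fun k hk =>
      centralizer_le_normalizer _ hk.1
    obtain ⟨y, hy, k, hk, rfl⟩ := CfsgLib.Solvable.exists_mul_of_mem_sup hn (hdec h1)
    obtain ⟨i, rfl⟩ := mem_zpowers_iff.1 hy
    exact ⟨i, k, hk, rfl⟩
  have hKab : ∀ k ∈ K, ∀ l ∈ K, Commute k l := fun k hk l hl => by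
    obtain ⟨g, hg⟩ := hKcyc.exists_generator
    obtain ⟨i, hi⟩ := mem_zpowers_iff.1 (hg ⟨k, hk⟩)
    obtain ⟨j, hj⟩ := mem_zpowers_iff.1 (hg ⟨l, hl⟩)
    have h1 : (g : R) ^ i = k := congrArg Subtype.val hi
    have h2 : (g : R) ^ j = l := congrArg Subtype.val hj
    rw [← h1, ← h2]
    exact Commute.zpow_zpow rfl i j
  have hak : ∀ k ∈ K, Commute a k := fun k hk => mem_centralizer_iff.1 hk.1 a (mem_zpowers a)
  refine ⟨fun x hx y hy => ?_, fun c hc hcp => ?_, fun hcA => hAu fun b hb =>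
    mem_centralizer_singleton_iff.2 (mem_center_iff.1 (hcA hb) u).symm⟩
  · obtain ⟨i, k, hk, rfl⟩ := hsplit x hx
    obtain ⟨j, l, hl, rfl⟩ := hsplit y hy
    have h1 : Commute (a ^ i * k) (a ^ j) := ((Commute.refl a).zpow_zpow i j).mul_left
      ((hak k hk).zpow_left j).symm
    have h2 : Commute (a ^ i * k) l := ((hak l hl).zpow_left i).mul_left (hKab k hk l hl)
    exact (h1.mul_right h2).eq
  · obtain ⟨i, k, hk, rfl⟩ := hsplit c hc
    have hap : (a ^ i) ^ p = 1 := by
      rw [← zpow_natCast, ← zpow_mul, mul_comm, zpow_mul, zpow_natCast, hA.2 a haA, one_zpow]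
    rw [((hak k hk).zpow_left i).mul_pow, hap, one_mul] at hcp ⊢
    exact hZZ (hKA _ (pow_mem hk p) (hA.2 _ hcp))

/-- Lemma N: a Sylow subgroup of `G` containing a maximal elementary abelian plane. -/
theorem Ten.narrow {G : Type*} [Group G] [Finite G] (h : Ten G) {p : ℕ} [hp : Fact p.Prime]
    (hp2 : p ≠ 2) {S A : Subgroup G} (hS : SylIn p S ⊤) (hA : Plane p A) (hAS : A ≤ S)
    (hmax : ∀ B : Subgroup G, IsElementaryAbelian p B → A ≤ B → B = A) :
    (∀ x ∈ S ⊓ centralizer (A : Set G), ∀ y ∈ S ⊓ centralizer (A : Set G), x * y = y * x) ∧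
      (∀ c ∈ S ⊓ centralizer (A : Set G), c ^ p ∈ A → ∀ s ∈ S, c ^ p * s = s * c ^ p) ∧
      (∀ x ∈ S, ∀ y ∈ S, x * y ≠ y * x → ¬ S ≤ centralizer (A : Set G)) := by
  obtain ⟨P, rfl⟩ := hS.exists_sylow
  by_cases hr : PRankLE p 2 (P : Subgroup G)
  · rcases h.sylow_rank_two p hp.out P hr with hab | ⟨P₁, P₂, hsup, hcom, hnab, hcard, hexp, hcyc, hom⟩
    · have hc : ∀ x ∈ (P : Subgroup G), ∀ y ∈ (P : Subgroup G), x * y = y * x :=
        fun x hx y hy => congrArg Subtype.val (hab.is_comm.comm ⟨x, hx⟩ ⟨y, hy⟩)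
      exact ⟨fun x hx y hy => hc x hx.1 y hy.1, fun c hc' _ s hs => hc _ (pow_mem hc'.1 p) s hs,
        fun x hx y hy hne => absurd (hc x hx y hy) hne⟩
    have h1P : P₁ ≤ (P : Subgroup G) := hsup ▸ le_sup_left
    have h2n : P₂ ≤ normalizer (P₁ : Set G) := fun b hb =>
      centralizer_le_normalizer _ (mem_centralizer_iff.2 fun a ha => hcom a ha b hb)
    have hsplit : ∀ x ∈ (P : Subgroup G), ∃ a ∈ P₁, ∃ b ∈ P₂, x = a * b := fun x hx => by
      obtain ⟨a, ha, b, hb, he⟩ := CfsgLib.Solvable.exists_mul_of_mem_sup h2n (hsup.ge hx)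
      exact ⟨a, ha, b, hb, he⟩
    have hP2c : ∀ a ∈ P₂, ∀ b ∈ P₂, Commute a b := fun a ha b hb => by
      obtain ⟨g, hg⟩ := hcyc.exists_generator
      obtain ⟨i, hi⟩ := mem_zpowers_iff.1 (hg ⟨a, ha⟩)
      obtain ⟨j, hj⟩ := mem_zpowers_iff.1 (hg ⟨b, hb⟩)
      have h1 : (g : G) ^ i = a := congrArg Subtype.val hi
      have h2 : (g : G) ^ j = b := congrArg Subtype.val hj
      rw [← h1, ← h2]
      exact Commute.zpow_zpow rfl i j
    have hap : ∀ a ∈ P₁, a ^ p = 1 := fun a ha => by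
      have := Monoid.pow_exponent_eq_one (⟨a, ha⟩ : P₁)
      rw [hexp] at this
      exact congrArg Subtype.val this
    have hA1 : A ≤ P₁ := by
      intro x hx
      obtain ⟨a, ha, b, hb, rfl⟩ := hsplit x (hAS hx)
      have h1 := hA.1.2 _ hx
      rw [(show Commute a b from hcom a ha b hb).mul_pow, hap a ha, one_mul] at h1
      exact mul_mem ha ((hom.le (subset_closure ⟨hb, h1⟩)).1)
    have hP1p : IsPGroup p P₁ := P.isPGroup'.to_le h1P
    have hC1 : ¬ P₁ ≤ centralizer (A : Set G) := fun hle => hnab (by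
      have : (A.subgroupOf P₁) ≤ center P₁ := fun a ha => mem_center_iff.2 fun g =>
        Subtype.ext (mem_centralizer_iff.1 (hle g.2) _ ha).symm
      have hidx : Nat.card (P₁ ⧸ center P₁) ∣ p := by
        rw [← Subgroup.index_eq_card]
        refine (Subgroup.index_dvd_of_le this).trans ?_
        have h3 := card_mul_index (A.subgroupOf P₁)
        rw [Nat.card_congr (subgroupOfEquivOfLe hA1).toEquiv, hA.2, hcard] at h3
        have h4 : (A.subgroupOf P₁).index = p := Nat.eq_of_mul_eq_mul_left (pow_pos hp.out.pos 2)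
          (h3.trans (by ring))
        rw [h4]
      haveI : IsCyclic (P₁ ⧸ center P₁) := by
        rcases (Nat.dvd_prime hp.out).1 hidx with h5 | h5
        · haveI := (Nat.card_eq_one_iff_unique.1 h5).1
          infer_instance
        · exact isCyclic_of_prime_card h5
      exact ⟨⟨fun a b => (commutative_of_cyclic_center_quotient (QuotientGroup.mk' (center P₁))
        (QuotientGroup.ker_mk' _).le a b)⟩⟩)
    have hC1A : P₁ ⊓ centralizer (A : Set G) ≤ A := by
      refine (eq_of_le_of_card_ge (le_inf hA1 hA.le_centralizer) ?_).ge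
      obtain ⟨n, hn⟩ := (hP1p.to_le (inf_le_left : P₁ ⊓ centralizer (A : Set G) ≤ P₁)).exists_card_eq
      have h6 : Nat.card ↥(P₁ ⊓ centralizer (A : Set G)) < p ^ 3 := hcard ▸ lt_of_le_of_ne
        (Nat.le_of_dvd Nat.card_pos (card_dvd_of_le inf_le_left))
        (fun e => hC1 ((eq_of_le_of_card_ge inf_le_left e.ge).ge.trans inf_le_right))
      rw [hn] at h6 ⊢
      rw [hA.2]
      exact Nat.pow_le_pow_right hp.out.pos (Nat.lt_succ_iff.1 ((Nat.pow_lt_pow_iff_right hp.out.one_lt).1 h6))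
    have hcent : ∀ c ∈ (P : Subgroup G) ⊓ centralizer (A : Set G), ∃ a ∈ A, ∃ b ∈ P₂, c = a * b := by
      intro c hc
      obtain ⟨a, ha, b, hb, rfl⟩ := hsplit c hc.1
      refine ⟨a, hC1A ⟨ha, ?_⟩, b, hb, rfl⟩
      have hbA : b ∈ centralizer (A : Set G) :=
        mem_centralizer_iff.2 fun x hx => hcom x (hA1 hx) b hb
      simpa using mul_mem hc.2 ((Subgroup.inv_mem _ hbA))
    refine ⟨fun x hx y hy => ?_, fun c hc _ s hs => ?_, fun _ _ _ _ _ hle => hC1 (h1P.trans hle)⟩
    · obtain ⟨a, ha, b, hb, rfl⟩ := hcent x hx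
      obtain ⟨a', ha', b', hb', rfl⟩ := hcent y hy
      have h1 : Commute (a * b) a' := (show Commute a a' from hA.comm a ha a' ha').mul_left
        (show Commute a' b from hcom a' (hA1 ha') b hb).symm
      have h2 : Commute (a * b) b' := (show Commute a b' from hcom a (hA1 ha) b' hb').mul_left
        (hP2c b hb b' hb')
      exact (h1.mul_right h2).eq
    · obtain ⟨a, ha, b, hb, rfl⟩ := hcent c hc
      obtain ⟨a', ha', b', hb', rfl⟩ := hsplit s hs
      rw [(show Commute a b from hcom a (hA1 ha) b hb).mul_pow, hap a (hA1 ha), one_mul]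
      exact (((show Commute a' b from hcom a' ha' b hb).symm.pow_left p).mul_right
        ((hP2c b hb b' hb').pow_left p)).eq
  · have hAR : IsElementaryAbelian p (A.subgroupOf (P : Subgroup G)) :=
      CfsgLib.PGroup.isElementaryAbelian_mk (fun a ha b hb => Subtype.ext (hA.comm _ ha _ hb))
        fun a ha => Subtype.ext (hA.1.2 _ ha)
    obtain ⟨h1, h2, h3⟩ := narrow_aux P.isPGroup' hp2 hr (A := A.subgroupOf (P : Subgroup G)) hAR
      (by rw [Nat.card_congr (subgroupOfEquivOfLe hAS).toEquiv, hA.2]) fun B hB hle => by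
        have h4 := hmax _ (CfsgLib.PGroup.elemAb_map hB (P : Subgroup G).subtype)
          (by rw [← map_subgroupOf_eq_of_le hAS]; exact map_mono hle)
        rw [← h4, subgroupOf, comap_map_eq_self_of_injective (P : Subgroup G).subtype_injective]
    have hmem : ∀ x (hx : x ∈ (P : Subgroup G) ⊓ centralizer (A : Set G)),
        (⟨x, hx.1⟩ : (P : Subgroup G)) ∈ centralizer (A.subgroupOf (P : Subgroup G) : Set _) :=
      fun x hx => mem_centralizer_iff.2 fun a ha => Subtype.ext (mem_centralizer_iff.1 hx.2 a ha)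
    refine ⟨fun x hx y hy => congrArg Subtype.val (h1 _ (hmem x hx) _ (hmem y hy)),
      fun c hc hcp s hs => ?_, fun _ _ _ _ _ hle => h3 fun a ha => mem_center_iff.2 fun g =>
        Subtype.ext (mem_centralizer_iff.1 (hle g.2) _ ha).symm⟩
    exact (congrArg Subtype.val (mem_center_iff.1 (h2 _ (hmem c hc) hcp) ⟨s, hs⟩)).symm

end CfsgLib.OddLocal.BG
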