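import Cfsg.Agent.Lib.OddLocal.BGCore
import Cfsg.Agent.Lib.OddLocal.BGLines
import Cfsg.Agent.Lib.OddLocal.BGNarrow
import Cfsg.Agent.Lib.OddLocal.BGAction

/-!
Bender-Glauberman, section 11: exceptional maximal subgroups.
-/

set_option autoImplicit false
set_option linter.unusedSectionVars false

namespace CfsgLib.OddLocal.BG

open Cfsg Subgroup CfsgLib.Solvable
open scoped Pointwise commutatorElement

variable {G : Type*} [Group G] [Finite G] {p q : ℕ}

/-- The configuration of section 11: a line of a plane of `M`, for a prime outside `sigma M`, has its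
normaliser inside `M`. -/
structure Exc (p : ℕ) (M A A0 : Subgroup G) : Prop where
  coatom : IsCoatom M
  notSigma : p ∉ sigma M
  plane : Plane p A
  le : A ≤ M
  sub : A0 ≤ A
  card : Nat.card A0 = p
  norm : normalizer (A0 : Set G) ≤ M

theorem Exc.cent_le {M A A0 : Subgroup G} (hx : Exc p M A A0) : centralizer (A : Set G) ≤ M :=
  (centralizer_le hx.sub).trans ((centralizer_le_normalizer _).trans hx.norm)

theorem inf_centralizer_le_of_le {D X : Subgroup G} {g : G} {M : Subgroup G}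
    (hX : centralizer (X : Set G) ≤ M) :
    D ⊓ centralizer ((MulAut.conj g • X : Subgroup G) : Set G) ≤ D ⊓ MulAut.conj g • M :=
  inf_le_inf_left _ (conj_centralizer g X ▸ conj_smul_mono g hX)

variable (h : Ten G)
include h

theorem Ten.not_dvd_sigmaCore {M : Subgroup G} (hp : p.Prime) (hps : p ∉ sigma M) :
    ¬ p ∣ Nat.card (sigmaCore M) := fun hd => hps (sigma_of_dvd_sigmaCore hp hd)

theorem Ten.sylIn_of_sigmaCore [Fact p.Prime] {M R : Subgroup G} (hM : IsCoatom M) (hp : p ∈ sigma M)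
    (hR : SylIn p R (sigmaCore M)) : SylIn p R M := by
  refine ⟨hR.1.trans (sigmaCore_le M), hR.2.1, fun hd => ?_⟩
  rw [← relIndex_mul_relIndex R _ M hR.1 (sigmaCore_le M)] at hd
  rcases (Fact.out : p.Prime).dvd_mul.1 hd with h1 | h1
  · exact hR.2.2 h1
  · exact (h.sigmaHall M hM).1.2.2 p Fact.out hp h1

/-- A plane with centraliser in `M` cannot normalise Sylow subgroups of `M` and of another conjugate
both meeting a common proper overgroup of it. -/
theorem Ten.mem_of_common [hp : Fact p.Prime] [hq : Fact q.Prime] {M A R₁ R₂ H : Subgroup G}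
    (hM : IsCoatom M) (hps : p ∉ sigma M) (hA : Plane p A) (hAM : A ≤ M)
    (hC : centralizer (A : Set G) ≤ M) (hqs : q ∈ sigma M) {g : G}
    (h₁ : SylIn q R₁ M) (hn₁ : A ≤ normalizer (R₁ : Set G))
    (h₂ : SylIn q R₂ (MulAut.conj g • M)) (hn₂ : A ≤ normalizer (R₂ : Set G))
    (hH : H ≠ ⊤) (hAH : A ≤ H) (hi₁ : H ⊓ R₁ ≠ ⊥) (hi₂ : H ⊓ R₂ ≠ ⊥) : g ∈ M := by
  have hqp : q ≠ p := fun he => hps (he ▸ hqs)
  obtain ⟨k, hk, hR₂⟩ := h.conj_of_common hqp hA (h.plane_max hM hps hAM hA)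
    (sylIn_top_of_sigma hqs h₁)
    (sylIn_top_of_sigma ((sigma_conj g M).symm ▸ hqs) h₂) hn₁ hn₂ hH hAH hi₁ hi₂
  have h2M : SylIn q R₂ M := hR₂ ▸ h₁.conj_of_mem (hC hk)
  have hle : MulAut.conj g⁻¹ • R₂ ≤ M :=
    le_of_le_of_eq (conj_smul_mono g⁻¹ h₂.1) (conj_inv_smul_smul g M)
  obtain ⟨m, hm, c, hc, he⟩ := (h.fusion M hM q hq.out hqs R₂ h2M.2.1
    (fun e => hi₂ (by rw [e, inf_bot_eq])) h2M.1).1 g⁻¹ hle
  have hcM := normalizer_le_of_sigma hqs h2M (centralizer_le_normalizer _ hc)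
  exact inv_mem_iff.1 (he ▸ mul_mem hm hcM)

/-- No line of such a plane has fixed points on Sylow subgroups of two conjugate sigma cores. -/
theorem Ten.mem_of_line [hp : Fact p.Prime] [hq : Fact q.Prime] {M A R₁ R₂ X : Subgroup G}
    (hM : IsCoatom M) (hps : p ∉ sigma M) (hA : Plane p A) (hAM : A ≤ M)
    (hC : centralizer (A : Set G) ≤ M) (hqs : q ∈ sigma M) {g : G}
    (h₁ : SylIn q R₁ M) (hn₁ : A ≤ normalizer (R₁ : Set G))
    (h₂ : SylIn q R₂ (MulAut.conj g • M)) (hn₂ : A ≤ normalizer (R₂ : Set G))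
    (hXA : X ≤ A) (hX : Nat.card X = p)
    (hi₁ : centralizer (X : Set G) ⊓ R₁ ≠ ⊥) (hi₂ : centralizer (X : Set G) ⊓ R₂ ≠ ⊥) : g ∈ M :=
  h.mem_of_common hM hps hA hAM hC hqs h₁ hn₁ h₂ hn₂
    (h.centralizer_ne_top (ne_bot_of_card_prime hX) (h.ne_top_of_isPGroup (isPGroup_of_card_prime p hX)))
    (hA.le_centralizer.trans (centralizer_le hXA)) hi₁ hi₂

/-- An invariant Sylow subgroup of the sigma core above an invariant subgroup. -/
theorem Ten.exists_sylIn_sigma [hp : Fact p.Prime] [hq : Fact q.Prime] {M A U : Subgroup G}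
    (hM : IsCoatom M) (hps : p ∉ sigma M) (hqs : q ∈ sigma M) (hA : IsPGroup p A) (hAM : A ≤ M)
    (hU : U ≤ M) (hUq : IsPGroup q U) (hUA : A ≤ normalizer (U : Set G)) :
    ∃ R, SylIn q R M ∧ U ≤ R ∧ A ≤ normalizer (R : Set G) ∧ R ≤ sigmaCore M := by
  obtain ⟨R, hR, hUR, hAR⟩ := exists_invariant_sylIn_ge (hAM.trans (le_normalizer_sigmaCore M))
    (coprime_of_isPGroup hA (h.not_dvd_sigmaCore hp.out hps))
    (Or.inr (CfsgLib.Solvable.isSolvable_of_le (h.solvable_coatom hM) (sigmaCore_le M)))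
    (h.le_sigmaCore_of_isPGroup hM hqs hUq hU) hUq hUA
  exact ⟨R, h.sylIn_of_sigmaCore hM hqs hR, hUR, hAR, hR.1⟩

/-- A plane with centraliser in `M` separates the conjugates of `M` containing it. -/
theorem Ten.inter_conj_eq_bot [hp : Fact p.Prime] {M A : Subgroup G} (hM : IsCoatom M)
    (hps : p ∉ sigma M) (hA : Plane p A) (hAM : A ≤ M) (hC : centralizer (A : Set G) ≤ M) {g : G}
    (hg : g ∉ M) (hAg : A ≤ MulAut.conj g • M) : sigmaCore M ⊓ MulAut.conj g • M = ⊥ := by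
  by_contra hne
  set D := sigmaCore M ⊓ MulAut.conj g • M with hD
  obtain ⟨q, hq, hqd⟩ := Nat.exists_prime_and_dvd fun e => hne (eq_bot_of_card_eq _ e)
  have := Fact.mk hq
  have hqs : q ∈ sigma M := sigma_of_dvd_sigmaCore hq (hqd.trans (card_dvd_of_le inf_le_left))
  have hqs' : q ∈ sigma (MulAut.conj g • M) := (sigma_conj g M).symm ▸ hqs
  have hps' : p ∉ sigma (MulAut.conj g • M) := (sigma_conj g M).symm ▸ hps
  have hAD : A ≤ normalizer (D : Set G) :=
    (le_inf (hAM.trans (le_normalizer_sigmaCore M)) (hAg.trans le_normalizer)).trans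
      inf_normalizer_le_normalizer_inf
  obtain ⟨Dq, hDq, -, hADq⟩ := exists_invariant_sylIn_ge hAD
    ((coprime_of_isPGroup hA.isPGroup (h.not_dvd_sigmaCore hp.out hps)).coprime_dvd_right
      (card_dvd_of_le inf_le_left))
    (Or.inr (CfsgLib.Solvable.isSolvable_of_le (h.solvable_coatom hM)
      (inf_le_left.trans (sigmaCore_le M))))
    (bot_le : ⊥ ≤ D) (IsPGroup.of_bot (p := q))
    (fun a _ => mem_normalizer_of_conj_mem fun s hs => by rw [mem_bot.1 hs]; simp)
  have hne' : Dq ≠ ⊥ := hDq.ne_bot hqd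
  obtain ⟨R₁, h₁, hU₁, hn₁, -⟩ := h.exists_sylIn_sigma hM hps hqs hA.isPGroup hAM
    (hDq.1.trans (inf_le_left.trans (sigmaCore_le M))) hDq.2.1 hADq
  obtain ⟨R₂, h₂, hU₂, hn₂, -⟩ := h.exists_sylIn_sigma (isCoatom_conj hM) hps' hqs' hA.isPGroup hAg
    (hDq.1.trans inf_le_right) hDq.2.1 hADq
  exact hg (h.mem_of_common hM hps hA hAM hC hqs h₁ hn₁ h₂ hn₂ hM.1 hAM
    (fun e => hne' (le_bot_iff.1 (e ▸ le_inf (hU₁.trans h₁.1) hU₁)))
    (fun e => hne' (le_bot_iff.1 (e ▸ le_inf (hDq.1.trans (inf_le_left.trans (sigmaCore_le M))) hU₂))))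

/-- The derived subgroup of a complement of the sigma core is nilpotent. -/
theorem Ten.compl_derived_nilpotent {M E : Subgroup G} (hM : IsCoatom M)
    (hE : IsComplIn E (sigmaCore M) M) : Group.IsNilpotent ↥⁅E, E⁆ := by
  obtain ⟨-, -, hle, -, hnil⟩ := h.alphaHall M hM
  set f : E →* M ⧸ piCore (alpha M) M :=
    (QuotientGroup.mk' (piCore (alpha M) M)).comp (inclusion hE.1) with hf
  have hinj : Function.Injective f := by
    rw [← MonoidHom.ker_eq_bot_iff, eq_bot_iff]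
    intro x hx
    rw [MonoidHom.mem_ker, hf, MonoidHom.comp_apply, QuotientGroup.mk'_apply,
      QuotientGroup.eq_one_iff] at hx
    have h1 : (x : G) ∈ E ⊓ sigmaCore M := ⟨x.2, hle ⟨_, hx, rfl⟩⟩
    rw [hE.2.2.1, mem_bot] at h1
    exact mem_bot.2 (Subtype.ext h1)
  have h1 : Group.IsNilpotent ↥((commutator E).map f) := by
    refine isNilpotent_of_le hnil ?_
    rw [commutator_def, map_commutator, commutator_def, map_commutator]
    refine commutator_mono ?_ ?_ <;>
    · rw [map_top_of_surjective _ (QuotientGroup.mk'_surjective _)]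
      exact le_top
  have h2 : Group.IsNilpotent ↥(commutator E) :=
    haveI := h1
    Group.nilpotent_of_mulEquiv (equivMapOfInjective (commutator E) f hinj).symm
  rw [show ⁅E, E⁆ = (commutator E).map E.subtype by
    rw [commutator_def, map_commutator, ← MonoidHom.range_eq_map, range_subtype]]
  exact CfsgLib.Cores.isNilpotent_map h2 _

theorem Exc.max [hp : Fact p.Prime] {M A A0 : Subgroup G} (hx : Exc p M A A0) :
    ∀ B : Subgroup G, IsElementaryAbelian p B → A ≤ B → B = A :=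
  h.plane_max hx.coatom hx.notSigma hx.le hx.plane

theorem Exc.prime_ne_two [hp : Fact p.Prime] {M A A0 : Subgroup G} (hx : Exc p M A A0) : p ≠ 2 :=
  h.prime_ne_two hp.out (dvd_card_of_ne_bot hx.plane.isPGroup hx.plane.ne_bot)

/-- Lemma 11.2: conjugates of the line from outside `M` act without fixed points on the sigma core. -/
theorem Exc.fixed_eq_bot [hp : Fact p.Prime] {M A A0 : Subgroup G} (hx : Exc p M A A0) {g : G}
    (hg : g ∉ M) (hAg : A ≤ MulAut.conj g • M) :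
    sigmaCore M ⊓ centralizer ((MulAut.conj g • A0 : Subgroup G) : Set G) = ⊥ :=
  le_bot_iff.1 ((inf_centralizer_le_of_le ((centralizer_le_normalizer _).trans hx.norm)).trans
    (h.inter_conj_eq_bot hx.coatom hx.notSigma hx.plane hx.le hx.cent_le hg hAg).le)

/-- Theorem 11.3: the sigma core is nilpotent. -/
theorem Exc.nilpotent [hp : Fact p.Prime] {M A A0 : Subgroup G} (hx : Exc p M A A0) :
    Group.IsNilpotent (sigmaCore M) := by
  obtain ⟨P, hP, hAP⟩ := exists_sylIn_ge hx.plane.isPGroup hx.le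
  obtain ⟨g, hgn, hgM⟩ := exists_normalizer_notMem hx.notSigma
    ((dvd_card_of_ne_bot hx.plane.isPGroup hx.plane.ne_bot).trans (card_dvd_of_le hx.le)) hP
  have hAg : A ≤ MulAut.conj g • M :=
    hAP.trans ((conj_smul_self_of_mem_normalizer hgn).ge.trans (conj_smul_mono g hP.1))
  have hfix := hx.fixed_eq_bot h hgM hAg
  obtain ⟨a, ha, hgen⟩ : ∃ a ∈ A0, A0 ≤ zpowers a := by
    obtain ⟨⟨a, ha⟩, hgen⟩ := (isCyclic_of_prime_card hx.card).exists_generator
    refine ⟨a, ha, fun y hy => ?_⟩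
    obtain ⟨i, hi⟩ := mem_zpowers_iff.1 (hgen ⟨y, hy⟩)
    exact mem_zpowers_iff.2 ⟨i, congrArg Subtype.val hi⟩
  have hgaM : g * a * g⁻¹ ∈ M :=
    hP.1 (normalizer_conj_mem hgn (hAP (hx.sub ha)))
  refine isNilpotent_of_fpf_normalized hp.out (k := g * a * g⁻¹)
    (le_normalizer_sigmaCore M hgaM) (by rw [conj_pow, hx.plane.1.2 a (hx.sub ha), mul_one, mul_inv_cancel])
    fun y hy hc => ?_
  rw [← mem_bot, ← hfix]
  refine ⟨hy, mem_centralizer_iff.2 fun z hz => ?_⟩
  have hz' : g⁻¹ * z * g ∈ A0 := mem_conj_smul_iff.1 hz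
  obtain ⟨i, hi⟩ := mem_zpowers_iff.1 (hgen hz')
  rw [show z = (g * a * g⁻¹) ^ i by rw [conj_zpow, hi]; group]
  exact ((show Commute y (g * a * g⁻¹) from hc).zpow_right i).eq.symm

/-- Theorem 11.5: the Sylow subgroups are abelian with omega subgroup the plane. -/
theorem Exc.sylow [hp : Fact p.Prime] {M A A0 P : Subgroup G} (hx : Exc p M A A0) (hP : SylIn p P M)
    (hAP : A ≤ P) :
    (∀ x ∈ P, ∀ y ∈ P, x * y = y * x) ∧ (∀ x ∈ P, x ^ p = 1 → x ∈ A) ∧
      ∃ g, g ∈ normalizer (P : Set G) ∧ g ∈ normalizer (A : Set G) ∧ g ∉ M := by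
  have hM := hx.coatom
  have hd : p ∣ Nat.card M :=
    (dvd_card_of_ne_bot hx.plane.isPGroup hx.plane.ne_bot).trans (card_dvd_of_le hx.le)
  obtain ⟨g, hgn, hgM⟩ := exists_normalizer_notMem hx.notSigma hd hP
  have hmem : ∀ x ∈ P, x ∈ centralizer (A : Set G) → x ^ p = 1 → x ∈ A :=
    fun x _ hxc hxp => h.plane_mem hx.plane (hx.max h) hxc hxp
  by_cases hab : P ≤ centralizer (A : Set G)
  · obtain ⟨S, hS, hPS⟩ := exists_sylIn_ge hP.2.1 (le_top (a := P))
    have hN := h.narrow (hx.prime_ne_two h) hS hx.plane (hAP.trans hPS) (hx.max h)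
    have hcomm : ∀ x ∈ P, ∀ y ∈ P, x * y = y * x :=
      fun x hxP y hyP => hN.1 x ⟨hPS hxP, hab hxP⟩ y ⟨hPS hyP, hab hyP⟩
    refine ⟨hcomm, fun x hxP hxp => hmem x hxP (hab hxP) hxp, g, hgn, ?_, hgM⟩
    refine mem_normalizer_of_conj_mem fun a ha => ?_
    have h1 : g * a * g⁻¹ ∈ P := normalizer_conj_mem hgn (hAP ha)
    exact hmem _ h1 (hab h1) (by rw [conj_pow, hx.plane.1.2 a ha, mul_one, mul_inv_cancel])
  exfalso
  haveI := hP.2.1.isNilpotent
  -- the line `Z0` of central elements of order dividing `p`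
  set Z0 := A ⊓ centralizer (P : Set G) with hZ0
  have hZ0c : Nat.card Z0 = p := by
    have h2 : Nat.card Z0 ∣ p ^ 2 := hx.plane.2 ▸ card_dvd_of_le inf_le_left
    obtain ⟨i, hi, he⟩ := (Nat.dvd_prime_pow hp.out).1 h2
    have hPne : (⊤ : Subgroup P) ≠ ⊥ := fun e => hx.plane.ne_bot (le_bot_iff.1 (by
      intro a ha
      have := (show (⟨a, hAP ha⟩ : P) ∈ (⊤ : Subgroup P) from mem_top _)
      rw [e, mem_bot] at this
      exact mem_bot.2 (congrArg Subtype.val this)))
    interval_cases i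
    · exfalso
      have hc := inf_center_ne_bot_of_isNilpotent (N := (⊤ : Subgroup P)) hPne
      rw [top_inf_eq] at hc
      obtain ⟨z, hz, hzo⟩ := CfsgLib.PGroup.exists_orderOf_eq hP.2.1 hc
      have hzP : (z : G) ∈ centralizer (P : Set G) :=
        mem_centralizer_iff.2 fun y hy => congrArg Subtype.val (mem_center_iff.1 hz ⟨y, hy⟩)
      have hzZ : (z : G) ∈ Z0 := ⟨hmem _ z.2 (centralizer_le hAP hzP)
        (by rw [← orderOf_dvd_iff_pow_eq_one, orderOf_coe, hzo]), hzP⟩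
      have hb : Z0 = ⊥ := eq_bot_of_card_eq _ (by simpa using he)
      rw [hb, mem_bot] at hzZ
      rw [← orderOf_coe, hzZ, orderOf_one] at hzo
      exact hp.out.ne_one hzo.symm
    · simpa using he
    · exfalso
      have h3 : Z0 = A := eq_of_le_of_card_ge inf_le_left (by rw [hx.plane.2, he])
      exact hab (le_centralizer_iff.1 (h3 ▸ inf_le_right : A ≤ centralizer (P : Set G)))
  have hgZ : MulAut.conj g • Z0 = Z0 := by
    refine eq_of_le_of_card_ge ?_ (card_conj_smul g Z0).ge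
    rintro z hz
    have hz' : g⁻¹ * z * g ∈ Z0 := mem_conj_smul_iff.1 hz
    have hzP : z ∈ P := by
      have := normalizer_conj_mem hgn (hAP hz'.1)
      rwa [show g * (g⁻¹ * z * g) * g⁻¹ = z by group] at this
    have hzc : z ∈ centralizer (P : Set G) := by
      refine mem_centralizer_iff.2 fun y hy => ?_
      have hy' : g⁻¹ * y * g ∈ P := (mem_normalizer_iff''.1 hgn y).1 hy
      have := mem_centralizer_iff.1 hz'.2 _ hy'
      calc y * z = g * ((g⁻¹ * y * g) * (g⁻¹ * z * g)) * g⁻¹ := by group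
        _ = g * ((g⁻¹ * z * g) * (g⁻¹ * y * g)) * g⁻¹ := by rw [this]
        _ = z * y := by group
    refine ⟨hmem z hzP (centralizer_le hAP hzc) ?_, hzc⟩
    have := hx.plane.1.2 _ hz'.1
    rw [show g⁻¹ * z * g = g⁻¹ * z * (g⁻¹)⁻¹ by group, conj_pow, inv_inv] at this
    calc z ^ p = g * (g⁻¹ * z ^ p * g) * g⁻¹ := by group
      _ = 1 := by rw [this]; group
  have hA0Z : A0 ≠ Z0 := fun e => hgM (hx.norm (e ▸ mem_normalizer_iff_conj_smul.2 hgZ))
  obtain ⟨t, htP, htA, htC⟩ := exists_mem_normalizer_moving hP.2.1 hx.plane hAP hmem hab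
  have htZ : t ∈ centralizer (Z0 : Set G) :=
    mem_centralizer_iff.2 fun z hz => (mem_centralizer_iff.1 hz.2 t htP).symm
  -- every line other than `Z0` of the conjugate plane acts without fixed points
  set B := MulAut.conj g • A with hB
  have hBP : B ≤ P := (conj_smul_mono g hAP).trans (conj_smul_self_of_mem_normalizer hgn).le
  have hfix : ∀ X ≤ B, Nat.card X = p → X ≠ Z0 →
      sigmaCore M ⊓ centralizer (X : Set G) = ⊥ := by
    intro X hXB hXc hXZ
    have hX' : MulAut.conj g⁻¹ • X ≤ A := le_conj_smul_iff.1 hXB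
    obtain ⟨n, hn⟩ := plane_lines hP.2.1 hx.plane inf_le_left hZ0c htP htA htZ htC hx.sub hx.card
      hA0Z hX' (by rw [card_conj_smul, hXc]) (fun e => hXZ (by rw [← conj_smul_inv_smul g X, e, hgZ]))
    have hXe : X = MulAut.conj (g * t ^ n) • A0 := by
      rw [← conj_smul_conj_smul, ← hn, conj_smul_inv_smul]
    have hgt : g * t ^ n ∉ M := fun hm =>
      hgM (by simpa using mul_mem hm (inv_mem (pow_mem (hP.1 htP) n)))
    rw [hXe]
    refine hx.fixed_eq_bot h hgt (hAP.trans (le_of_eq_of_le ?_ (conj_smul_mono _ hP.1)))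
    exact (conj_smul_self_of_mem_normalizer (mul_mem hgn (pow_mem (le_normalizer htP) n))).symm
  -- hence `Z0` centralises the sigma core
  have hcent : sigmaCore M ≤ centralizer (Z0 : Set G) := by
    refine (plane_conj hx.plane g).generated ((hBP.trans hP.1).trans (le_normalizer_sigmaCore M))
      (h.not_dvd_sigmaCore hp.out hx.notSigma) fun X hXB hXc => ?_
    rcases eq_or_ne X Z0 with rfl | hXZ
    · exact inf_le_right
    · rw [hfix X hXB hXc hXZ]; exact bot_le
  -- the two Sylow subgroups lie in the centraliser of `Z0`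
  obtain ⟨r, hr, hrs⟩ := h.exists_sigma_prime hM
  have := Fact.mk hr
  have hAg : A ≤ MulAut.conj g • M :=
    hAP.trans ((conj_smul_self_of_mem_normalizer hgn).ge.trans (conj_smul_mono g hP.1))
  have hbotn : ∀ K : Subgroup G, A ≤ normalizer ((⊥ : Subgroup G) : Set G) :=
    fun _ a _ => mem_normalizer_of_conj_mem fun s hs => by rw [mem_bot.1 hs]; simp
  obtain ⟨R₁, h₁, -, hn₁, hR₁⟩ := h.exists_sylIn_sigma hM hx.notSigma hrs hx.plane.isPGroup hx.le
    bot_le (IsPGroup.of_bot (p := r)) (hbotn M)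
  obtain ⟨R₂, h₂, -, hn₂, hR₂⟩ := h.exists_sylIn_sigma (isCoatom_conj (g := g) hM)
    ((sigma_conj g M).symm ▸ hx.notSigma) ((sigma_conj g M).symm ▸ hrs) hx.plane.isPGroup hAg
    bot_le (IsPGroup.of_bot (p := r)) (hbotn M)
  rw [h.sigmaCore_conj hM] at hR₂
  have hR₂c : R₂ ≤ centralizer (Z0 : Set G) := by
    have := conj_smul_mono g hcent
    rw [conj_centralizer, hgZ] at this
    exact hR₂.trans this
  obtain ⟨-, hrd, -⟩ := mem_sigma_iff.1 hrs
  exact hgM (h.mem_of_line hM hx.notSigma hx.plane hx.le hx.cent_le hrs h₁ hn₁ h₂ hn₂ inf_le_left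
    hZ0c (fun e => h₁.ne_bot hrd (le_bot_iff.1 (e ▸ le_inf (hR₁.trans hcent) le_rfl)))
    (fun e => h₂.ne_bot (by rwa [card_conj_smul]) (le_bot_iff.1 (e ▸ le_inf hR₂c le_rfl))))

end CfsgLib.OddLocal.BG
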