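import Cfsg.Agent.Lib.OddLocal.BG11
import Cfsg.Agent.Lib.Solvable.NilpotentParts
import Cfsg.Agent.Lib.Solvable.AbelianAction

/-!
No plane of `M` outside `sigma M` centralises the sigma core (BG 10.11 (b), proved here from section 11).
-/

set_option autoImplicit false
set_option linter.unusedSectionVars false

namespace CfsgLib.OddLocal.BG

open Cfsg Subgroup CfsgLib.Solvable
open scoped Pointwise commutatorElement

variable {G : Type*} [Group G] [Finite G] {p q : ℕ}

theorem le_normalizer_derived (M : Subgroup G) :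
    M ≤ normalizer ((⁅M, M⁆ : Subgroup G) : Set G) := by
  intro m hm
  refine mem_normalizer_iff_conj_smul.2 ?_
  have h1 : MulAut.conj m • ⁅M, M⁆ = ⁅MulAut.conj m • M, MulAut.conj m • M⁆ :=
    map_commutator M M (MulAut.conj m).toMonoidHom
  rw [h1, conj_smul_self_of_mem_normalizer (le_normalizer hm)]

theorem le_normalizer_omegaOne {X : Subgroup G} {g : G} (hg : g ∈ normalizer (X : Set G)) (n : ℕ) :
    g ∈ normalizer (omegaOne n X : Set G) := by
  refine mem_normalizer_of_smul_le ((CfsgLib.PGroup.map_omegaOne_le n (MulAut.conj g).toMonoidHom X).trans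
    (CfsgLib.PGroup.omegaOne_mono ?_))
  exact (conj_smul_self_of_mem_normalizer hg).le

theorem normalizer_le_normalizer_centre (P : Subgroup G) :
    normalizer (P : Set G) ≤ normalizer ((P ⊓ centralizer (P : Set G) : Subgroup G) : Set G) := by
  intro g hg
  refine mem_normalizer_iff_conj_smul.2 ?_
  rw [smul_inf, conj_centralizer, conj_smul_self_of_mem_normalizer hg]

theorem inf_centralizer_self_ne_bot [Fact p.Prime] {P : Subgroup G} (hP : IsPGroup p P) (h : P ≠ ⊥) :
    P ⊓ centralizer (P : Set G) ≠ ⊥ := by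
  haveI := hP.isNilpotent
  haveI : Nontrivial P := (nontrivial_iff_ne_bot P).2 h
  have hc := inf_center_ne_bot_of_isNilpotent (N := (⊤ : Subgroup P)) top_ne_bot
  obtain ⟨z, hz, hz1⟩ := SetLike.not_le_iff_exists.1 fun hle => hc (le_bot_iff.1 hle)
  intro he
  refine hz1 ?_
  have h1 : (z : G) ∈ P ⊓ centralizer (P : Set G) :=
    ⟨z.2, mem_centralizer_iff.2 fun y hy => congrArg Subtype.val (mem_center_iff.1 hz.2 ⟨y, hy⟩)⟩
  rw [he, mem_bot] at h1
  exact mem_bot.2 (Subtype.ext h1)

theorem sylIn_nilPart [Fact p.Prime] {N : Subgroup G} (hN : Group.IsNilpotent N) :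
    SylIn p (nilPart p N) N := by
  obtain ⟨S, hS⟩ := exists_sylIn p N
  rwa [← hS.eq_of_le isPGroup_nilPart (le_nilPart hN hS.1 hS.2.1) nilPart_le]

variable (h : Ten G)
include h

theorem Ten.sigmaCore_le_conj {M : Subgroup G} (hM : IsCoatom M) (g : G) :
    sigmaCore (MulAut.conj g • M) ≤ MulAut.conj g • M :=
  sigmaCore_le _

/-- The elements of order dividing `p` of the centre of a Sylow subgroup of `M` containing a maximal plane. -/
theorem Ten.centre_line [hp : Fact p.Prime] {A P : Subgroup G} (hA : Plane p A)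
    (hmax : ∀ B : Subgroup G, IsElementaryAbelian p B → A ≤ B → B = A) (hP : IsPGroup p P) (hAP : A ≤ P) :
    (∀ g ∈ normalizer (P : Set G), MulAut.conj g • (A ⊓ centralizer (P : Set G)) = A ⊓ centralizer (P : Set G)) ∧
      (A ≤ centralizer (P : Set G) ∨ Nat.card ↥(A ⊓ centralizer (P : Set G)) = p) := by
  have hmem : ∀ z ∈ P, z ∈ centralizer (P : Set G) → z ^ p = 1 → z ∈ A :=
    fun z _ hz hzp => h.plane_mem hA hmax (centralizer_le hAP hz) hzp
  refine ⟨fun g hg => eq_of_le_of_card_ge ?_ (card_conj_smul g _).ge, ?_⟩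
  · rw [smul_inf, conj_centralizer, conj_smul_self_of_mem_normalizer hg]
    rintro z ⟨hz, hzc⟩
    refine ⟨hmem z ((conj_smul_mono g hAP).trans (conj_smul_self_of_mem_normalizer hg).le hz) hzc ?_, hzc⟩
    exact (isElementaryAbelian_conj hA.1 g).2 z hz
  · obtain ⟨i, hi, he⟩ := (Nat.dvd_prime_pow hp.out).1
      (hA.2 ▸ card_dvd_of_le (inf_le_left : A ⊓ centralizer (P : Set G) ≤ A))
    interval_cases i
    · exfalso
      have hPne : P ≠ ⊥ := fun e => hA.ne_bot (le_bot_iff.1 (e ▸ hAP))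
      obtain ⟨z, hz, hzo⟩ := CfsgLib.PGroup.exists_orderOf_eq
        (hP.to_le (inf_le_left : P ⊓ centralizer (P : Set G) ≤ P))
        (H := (⊤ : Subgroup ↥(P ⊓ centralizer (P : Set G)))) (by
          haveI : Nontrivial ↥(P ⊓ centralizer (P : Set G)) :=
            (nontrivial_iff_ne_bot _).2 (inf_centralizer_self_ne_bot hP hPne)
          exact top_ne_bot)
      have hzZ : (z : G) ∈ A ⊓ centralizer (P : Set G) :=
        ⟨hmem _ z.2.1 z.2.2 (by rw [← orderOf_dvd_iff_pow_eq_one, orderOf_coe, hzo]), z.2.2⟩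
      have hb : A ⊓ centralizer (P : Set G) = ⊥ := eq_bot_of_card_eq _ (by simpa using he)
      rw [hb, mem_bot] at hzZ
      rw [← orderOf_coe, hzZ, orderOf_one] at hzo
      exact hp.out.ne_one hzo.symm
    · exact Or.inr (by simpa using he)
    · exact Or.inl (inf_eq_left.1 (eq_of_le_of_card_ge inf_le_left (by rw [hA.2, he])))

/-- In an abelian Sylow subgroup of `G` every nontrivial piece normalised by its normaliser is moved. -/
theorem Ten.le_commutator_of_abelian_sylow [hp : Fact p.Prime] {S X : Subgroup G} (hS : SylIn p S ⊤)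
    (hab : ∀ x ∈ S, ∀ y ∈ S, x * y = y * x) (hXS : X ≤ S)
    (hn : normalizer (S : Set G) ≤ normalizer (X : Set G)) :
    X ≤ ⁅X, normalizer (S : Set G)⁆ := by
  obtain ⟨P, rfl⟩ := hS.exists_sylow
  set N := normalizer ((P : Subgroup G) : Set G) with hN
  have hcop : (Nat.card ((P : Subgroup G).subgroupOf N)).Coprime ((P : Subgroup G).subgroupOf N).index := by
    obtain ⟨m, hm⟩ := IsPGroup.iff_card.1 (P.isPGroup'.comap_subtype (K := N))
    rw [show Nat.card ((P : Subgroup G).subgroupOf N) = p ^ m from hm]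
    refine Nat.Coprime.pow_left m (hp.out.coprime_iff_not_dvd.2 fun hd => ?_)
    exact P.not_dvd_index (hd.trans (relIndex_dvd_index_of_le le_normalizer))
  haveI : ((P : Subgroup G).subgroupOf N).Normal := normal_subgroupOf_of_le_normalizer le_rfl
  obtain ⟨V', hV'⟩ := exists_right_complement'_of_coprime hcop
  set V := V'.map N.subtype with hV
  have hVc : IsComplIn (P : Subgroup G) V N := by
    refine ⟨le_normalizer, map_subtype_le _, ?_, fun n hn' => ?_⟩
    · rw [eq_bot_iff]
      rintro x ⟨hxP, ⟨y, hy, rfl⟩⟩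
      have h1 : y ∈ (P : Subgroup G).subgroupOf N ⊓ V' := ⟨hxP, hy⟩
      rw [hV'.disjoint.eq_bot, mem_bot] at h1
      rw [h1]
      exact one_mem _
    · obtain ⟨⟨a, b⟩, hab'⟩ := hV'.2 (⟨n, hn'⟩ : N)
      exact ⟨a.1, a.2, b.1, mem_map_of_mem _ b.2, congrArg Subtype.val hab'.symm⟩
  haveI : IsMulCommutative (P : Subgroup G) := ⟨⟨fun a b => Subtype.ext (hab _ a.2 _ b.2)⟩⟩
  have hfoc := (h.focal p hp.out P V hVc).1
  have hcop' : (Nat.card V).Coprime (Nat.card (P : Subgroup G)) := by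
    rw [hV, card_map_of_injective N.subtype_injective,
      ← Nat.card_congr (subgroupOfEquivOfLe (le_normalizer : (P : Subgroup G) ≤ N)).toEquiv]
    refine Nat.Coprime.symm (Nat.Coprime.coprime_dvd_right ?_ hcop)
    rw [hV'.symm.index_eq_card]
  have h1 := inf_centralizer_inf_commutator V (P : Subgroup G) hVc.2.1 hcop'
  rw [← hfoc, inf_assoc, inf_comm (centralizer (V : Set G)), ← inf_assoc, inf_idem] at h1
  refine (le_commutator_of_fixed_eq_bot (hVc.2.1.trans hn) (hcop'.coprime_dvd_right (card_dvd_of_le hXS))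
    (Group.isSolvable_of_comm fun a b => Subtype.ext (hab _ (hXS a.2) _ (hXS b.2)))
    (le_bot_iff.1 ((inf_le_inf_right _ hXS).trans h1.le))).trans (commutator_mono le_rfl hVc.2.1)

/-- A plane centralising the sigma core has no line with normaliser in `M`. -/
theorem Ten.not_line_of_centralizes [hq : Fact q.Prime] {M A D : Subgroup G} (hM : IsCoatom M)
    (hqs : q ∉ sigma M) (hA : Plane q A) (hAM : A ≤ M) (hc : A ≤ centralizer (sigmaCore M : Set G))
    (hDA : D ≤ A) (hD : Nat.card D = q) (hN : normalizer (D : Set G) ≤ M) : False := by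
  have hx : Exc q M A D := ⟨hM, hqs, hA, hAM, hDA, hD, hN⟩
  obtain ⟨P, hP, hAP⟩ := exists_sylIn_ge hA.isPGroup hAM
  obtain ⟨-, -, g, -, hgA, hgM⟩ := hx.sylow h hP hAP
  have hgA' := conj_smul_self_of_mem_normalizer hgA
  have hbot := hx.fixed_eq_bot h hgM (hgA'.ge.trans (conj_smul_mono g hAM))
  refine h.sigma_ne_bot M hM ?_
  rw [← hbot, left_eq_inf]
  exact le_centralizer_iff.1 (((conj_smul_mono g hDA).trans hgA'.le).trans hc)

/-- Corollary 10.11 (b): no plane of `M` for a prime outside `sigma M` centralises the sigma core. -/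
theorem Ten.not_plane_centralizes [hq : Fact q.Prime] {M X : Subgroup G} (hM : IsCoatom M)
    (hqs : q ∉ sigma M) (hX : Plane q X) (hXM : X ≤ M) (hc : X ≤ centralizer (sigmaCore M : Set G)) :
    False := by
  have hq2 : q ≠ 2 := h.prime_ne_two hq.out (dvd_card_of_ne_bot hX.isPGroup hX.ne_bot)
  have hmax := h.plane_max hM hqs hXM hX
  by_cases hα : ∃ r, r ∈ alpha M
  · obtain ⟨r, hr⟩ := hα
    have := Fact.mk hr.1
    obtain ⟨B, hBM, hB, hB3⟩ := exists_rank_three hr
    have hBX : B ≤ centralizer (X : Set G) :=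
      (h.le_sigmaCore_of_isPGroup hM (h.mem_sigma_of_alpha hM hr) (CfsgLib.PGroup.elemAb_isPGroup hB)
        hBM).trans (le_centralizer_iff.1 hc)
    obtain ⟨Q, hQ, hXQ⟩ := exists_sylIn_ge hX.isPGroup hXM
    obtain ⟨g, hgn, hgM⟩ := exists_normalizer_notMem hqs
      ((dvd_card_of_ne_bot hX.isPGroup hX.ne_bot).trans (card_dvd_of_le hXM)) hQ
    have hXg : X ≤ MulAut.conj g • M :=
      hXQ.trans ((conj_smul_self_of_mem_normalizer hgn).ge.trans (conj_smul_mono g hQ.1))
    exact hgM (h.mem_of_conj_eq hM (h.eq_of_centralized hX hB hB3 hBX hM hXM (isCoatom_conj hM) hXg))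
  push Not at hα
  obtain ⟨hnil', hnil⟩ := h.nilpotent_derived hM (alphaCore_eq_bot_of hα)
  obtain ⟨r, hr, hrs⟩ := h.exists_sigma_prime hM
  have := Fact.mk hr
  have hrq : r ≠ q := fun e => hqs (e ▸ hrs)
  set R := nilPart r (sigmaCore M) with hRdef
  have hR : SylIn r R M := h.sylIn_of_sigmaCore hM hrs (sylIn_nilPart hnil)
  have hRn : M ≤ normalizer (R : Set G) :=
    (le_normalizer_sigmaCore M).trans (normalizer_le_normalizer_nilPart r _)
  obtain ⟨-, hrd, -⟩ := mem_sigma_iff.1 hrs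
  have hNR := h.normalizer_eq hM (hR.ne_bot hrd) hR.1 hRn
  have hRX : R ≤ centralizer (X : Set G) := nilPart_le.trans (le_centralizer_iff.1 hc)
  -- an element of `M` moving `X`
  obtain ⟨n, hn, x, hx, hne⟩ : ∃ n ∈ normalizer (X : Set G), ∃ x ∈ X, n * x * n⁻¹ ≠ x := by
    obtain ⟨S, hS, hXS⟩ := exists_sylIn_ge hX.isPGroup (le_top (a := X))
    have hmem : ∀ z ∈ S, z ∈ centralizer (X : Set G) → z ^ q = 1 → z ∈ X :=
      fun z _ hz hzp => h.plane_mem hX hmax hz hzp
    by_cases hab : S ≤ centralizer (X : Set G)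
    · have hN := h.narrow hq2 hS hX hXS hmax
      have hSab : ∀ a ∈ S, ∀ b ∈ S, a * b = b * a := fun a ha b hb => hN.1 a ⟨ha, hab ha⟩ b ⟨hb, hab hb⟩
      have hnorm : normalizer (S : Set G) ≤ normalizer (X : Set G) := fun g hg =>
        mem_normalizer_of_conj_mem fun a ha => by
          have h1 : g * a * g⁻¹ ∈ S := normalizer_conj_mem hg (hXS ha)
          exact hmem _ h1 (hab h1) (by rw [conj_pow, hX.1.2 a ha, mul_one, mul_inv_cancel])
      by_contra hcon
      push Not at hcon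
      refine hX.ne_bot (le_bot_iff.1 ((h.le_commutator_of_abelian_sylow hS hSab hXS hnorm).trans ?_))
      rw [commutator_le]
      intro a ha g hg
      rw [mem_bot, commutatorElement_eq_one_iff_mul_comm]
      exact (mul_inv_eq_iff_eq_mul.1 (hcon g (hnorm hg) a ha)).symm
    · obtain ⟨t, -, htn, htc⟩ := exists_mem_normalizer_moving hS.2.1 hX hXS hmem hab
      obtain ⟨x, hx, hne⟩ : ∃ x ∈ X, x * t ≠ t * x := by
        by_contra hcon
        push Not at hcon
        exact htc (mem_centralizer_iff.2 hcon)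
      exact ⟨t, htn, x, hx, fun e => hne (mul_inv_eq_iff_eq_mul.1 e).symm⟩
  have hXn : X ≤ normalizer ((MulAut.conj n • R : Subgroup G) : Set G) := by
    rw [normalizer_conj]
    exact (conj_smul_self_of_mem_normalizer hn).ge.trans (conj_smul_mono n (hXM.trans hRn))
  obtain ⟨k, hk, hkR⟩ := h.conj_of_dvd hrq hX hmax
    ((dvd_card_of_ne_bot hR.2.1 (hR.ne_bot hrd)).trans (card_dvd_of_le hRX))
    (mem_maxInv_of_sylIn (sylIn_top_of_sigma hrs hR) (hXM.trans hRn))
    (mem_maxInv_of_sylIn (by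
      have := (sylIn_top_of_sigma hrs hR).conj_of_mem (mem_top n)
      exact this) hXn)
  have hmM : k⁻¹ * n ∈ M := hNR ▸ mem_normalizer_iff_conj_smul.2 (by
    rw [← conj_smul_conj_smul, hkR, conj_inv_smul_smul])
  have hkn : k ∈ normalizer (X : Set G) := centralizer_le_normalizer _ hk
  have hy : (k⁻¹ * n) * x * (k⁻¹ * n)⁻¹ = n * x * n⁻¹ := by
    have h1 : n * x * n⁻¹ ∈ X := normalizer_conj_mem hn hx
    have h2 := mem_centralizer_iff.1 hk _ h1
    calc (k⁻¹ * n) * x * (k⁻¹ * n)⁻¹ = k⁻¹ * ((n * x * n⁻¹) * k) := by group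
      _ = n * x * n⁻¹ := by rw [h2]; group
  set c := n * x * n⁻¹ * x⁻¹ with hcdef
  have hcX : c ∈ X := mul_mem (normalizer_conj_mem hn hx) (inv_mem hx)
  have hcD : c ∈ ⁅M, M⁆ := by
    rw [hcdef, ← hy, ← commutatorElement_def]
    exact commutator_mem_commutator hmM (hXM hx)
  have hc1 : c ≠ 1 := fun e => hne (mul_inv_eq_one.1 e)
  -- the plane or line `E0`
  set P0 := nilPart q ⁅M, M⁆ with hP0
  have hcP : c ∈ P0 := le_nilPart hnil' (zpowers_le.2 hcD) (hX.isPGroup.to_le (zpowers_le.2 hcX))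
    (mem_zpowers c)
  have hP0ne : P0 ≠ ⊥ := fun e => hc1 (mem_bot.1 (e ▸ hcP))
  set Z := P0 ⊓ centralizer (P0 : Set G) with hZ
  have hZab : ∀ a ∈ Z, ∀ b ∈ Z, a * b = b * a := fun a ha b hb => mem_centralizer_iff.1 hb.2 a ha.1
  set E0 := omegaOne q Z with hE0
  have hE0el : IsElementaryAbelian q E0 := CfsgLib.PGroup.elemAb_omegaOne_of_comm hZab
  have hE0M : E0 ≤ M :=
    (CfsgLib.PGroup.omegaOne_le q Z).trans (inf_le_left.trans (nilPart_le.trans (commutator_le_self M)))
  have hE0ne : E0 ≠ ⊥ := by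
    haveI : Nontrivial Z := (nontrivial_iff_ne_bot _).2 (inf_centralizer_self_ne_bot isPGroup_nilPart hP0ne)
    obtain ⟨z, -, hzo⟩ := CfsgLib.PGroup.exists_orderOf_eq
      ((isPGroup_nilPart (p := q) (A := ⁅M, M⁆)).to_le (inf_le_left : Z ≤ P0))
      (H := (⊤ : Subgroup Z)) top_ne_bot
    intro e
    have h1 : (z : G) ∈ E0 := CfsgLib.PGroup.mem_omegaOne z.2
      (by rw [← orderOf_dvd_iff_pow_eq_one, orderOf_coe, hzo])
    rw [e, mem_bot] at h1
    rw [← orderOf_coe, h1, orderOf_one] at hzo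
    exact hq.out.ne_one hzo.symm
  have hE0n : M ≤ normalizer (E0 : Set G) := fun m hm => le_normalizer_omegaOne
    (normalizer_le_normalizer_centre P0
      (normalizer_le_normalizer_nilPart q _ (le_normalizer_derived M hm))) q
  have hNE0 := h.normalizer_eq hM hE0ne hE0M hE0n
  obtain ⟨i, hi⟩ := CfsgLib.PGroup.elemAb_card hE0el
  have hi2 : i ≤ 2 := (Nat.pow_le_pow_iff_right hq.out.one_lt).1
    (hi ▸ (CfsgLib.PGroup.pRankLE_subgroup_iff M).1 (h.rank_le_two hM hqs) E0 hE0M hE0el)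
  interval_cases i
  · exact hE0ne (eq_bot_of_card_eq _ (by simpa using hi))
  · rw [pow_one] at hi
    have hE0X : E0 ≤ X := fun e he => h.plane_mem hX hmax
      (le_centralizer_iff.1 (le_centralizer_of_card_prime hX.isPGroup hi (hXM.trans hE0n)) he)
      (hE0el.2 e he)
    exact h.not_line_of_centralizes hM hqs hX hXM hc hE0X hi hNE0.le
  · have hE0p : Plane q E0 := ⟨hE0el, hi⟩
    have hE0c : E0 ≤ centralizer (sigmaCore M : Set G) := fun e he => mem_centralizer_iff.2 fun s hs => by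
      refine (CfsgLib.OddLocal.commute_of_mem_nilpotent hnil' (h.sigma_le_derived M hM hs)
        (nilPart_le (CfsgLib.PGroup.omegaOne_le q Z he).1) ?_)
      refine Nat.Coprime.coprime_dvd_left (Subgroup.orderOf_dvd_natCard _ hs) ?_
      refine Nat.Coprime.coprime_dvd_right (orderOf_dvd_of_pow_eq_one (hE0el.2 e he)) ?_
      exact (hq.out.coprime_iff_not_dvd.2 (h.not_dvd_sigmaCore hq.out hqs)).symm
    obtain ⟨Q, hQ, hE0Q⟩ := exists_sylIn_ge hE0p.isPGroup hE0M
    obtain ⟨g, hgn, hgM⟩ := exists_normalizer_notMem hqs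
      ((dvd_card_of_ne_bot hX.isPGroup hX.ne_bot).trans (card_dvd_of_le hXM)) hQ
    obtain ⟨hgZ, hcases⟩ := h.centre_line hE0p (h.plane_max hM hqs hE0M hE0p) hQ.2.1 hE0Q
    rcases hcases with hfull | hline
    · have h1 := hgZ g hgn
      rw [inf_eq_left.2 hfull] at h1
      exact hgM (hNE0.le (mem_normalizer_iff_conj_smul.2 h1))
    · have hE0g : E0 ≤ MulAut.conj g • M :=
        hE0Q.trans ((conj_smul_self_of_mem_normalizer hgn).ge.trans (conj_smul_mono g hQ.1))
      have hR₁ : R ≤ centralizer ((E0 ⊓ centralizer (Q : Set G) : Subgroup G) : Set G) :=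
        nilPart_le.trans ((le_centralizer_iff.1 hE0c).trans (centralizer_le inf_le_left))
      have hR₂ : MulAut.conj g • R ≤ centralizer ((E0 ⊓ centralizer (Q : Set G) : Subgroup G) : Set G) := by
        have := conj_smul_mono g hR₁
        rwa [conj_centralizer, hgZ g hgn] at this
      refine hgM (h.mem_of_line hM hqs hE0p hE0M ((centralizer_le_normalizer _).trans hNE0.le) hrs hR
        (hE0M.trans hRn) (hR.conj g) ?_ inf_le_left hline ?_ ?_)
      · rw [normalizer_conj]
        exact hE0g.trans (conj_smul_mono g hRn)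
      · exact fun e => hR.ne_bot hrd (le_bot_iff.1 (e ▸ le_inf hR₁ le_rfl))
      · exact fun e => (hR.conj g).ne_bot (by rwa [card_conj_smul])
          (le_bot_iff.1 (e ▸ le_inf hR₂ le_rfl))

/-- A `q`-subgroup of `M`, `q` outside `sigma M`, centralising the sigma core is cyclic. -/
theorem Ten.isCyclic_of_centralizes [hq : Fact q.Prime] {M Q : Subgroup G} (hM : IsCoatom M)
    (hqs : q ∉ sigma M) (hQ : IsPGroup q Q) (hQM : Q ≤ M)
    (hc : Q ≤ centralizer (sigmaCore M : Set G)) : IsCyclic Q := by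
  rcases eq_or_ne Q ⊥ with rfl | hQ1
  · infer_instance
  by_contra hcyc
  obtain ⟨A, hAQ, hA⟩ := exists_plane_of_not_isCyclic
    (h.prime_ne_two hq.out (dvd_card_of_ne_bot hQ hQ1)) hQ hcyc
  exact h.not_plane_centralizes hM hqs hA (hAQ.trans hQM) (hAQ.trans hc)

end CfsgLib.OddLocal.BG
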