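import Cfsg.Agent.Lib.OddLocal.BG11b
import Cfsg.Agent.Lib.PStab.TransHyp

/-!
Bender-Glauberman 11.6: the plane of an exceptional configuration is normal in the complement.
-/

set_option autoImplicit false
set_option linter.unusedSectionVars false

namespace CfsgLib.OddLocal.BG

open Cfsg Subgroup CfsgLib.Solvable
open scoped Pointwise commutatorElement

variable {G : Type*} [Group G] [Finite G] {p q : ℕ}

theorem exists_eq_zpowers_of_card_prime [Fact p.Prime] {X : Subgroup G} (hX : Nat.card X = p) :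
    ∃ x ∈ X, X = zpowers x := by
  obtain ⟨⟨x, hx⟩, hgen⟩ := (isCyclic_of_prime_card hX).exists_generator
  refine ⟨x, hx, le_antisymm (fun y hy => ?_) (zpowers_le.2 hx)⟩
  obtain ⟨i, hi⟩ := mem_zpowers_iff.1 (hgen ⟨y, hy⟩)
  exact mem_zpowers_iff.2 ⟨i, congrArg Subtype.val hi⟩

theorem centralizer_zpowers_eq (x : G) :
    centralizer (zpowers x : Set G) = centralizer ({x} : Set G) := by
  rw [zpowers_eq_closure, centralizer_closure]

theorem eq_of_card_prime_of_isCyclic [hq : Fact q.Prime] {W X Y : Subgroup G} (hW : IsCyclic W)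
    (hX : X ≤ W) (hY : Y ≤ W) (hXc : Nat.card X = q) (hYc : Nat.card Y = q) : X = Y := by
  obtain ⟨g, hg⟩ := hW.exists_generator
  have hWc : ∀ a ∈ W, ∀ b ∈ W, Commute a b := fun a ha b hb => by
    obtain ⟨i, hi⟩ := mem_zpowers_iff.1 (hg ⟨a, ha⟩)
    obtain ⟨j, hj⟩ := mem_zpowers_iff.1 (hg ⟨b, hb⟩)
    have h1 : (g : G) ^ i = a := congrArg Subtype.val hi
    have h2 : (g : G) ^ j = b := congrArg Subtype.val hj
    rw [← h1, ← h2]
    exact Commute.zpow_zpow rfl i j
  by_contra hne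
  have hd : X ⊓ Y = ⊥ :=
    (inf_eq_bot_or_le hXc).resolve_right fun hle => hne (eq_of_le_card_prime hXc hYc hle)
  have hB : Plane q (X ⊔ Y) := by
    refine ⟨CfsgLib.PGroup.elemAb_sup (CfsgLib.PGroup.elemAb_of_card_eq hXc)
      (CfsgLib.PGroup.elemAb_of_card_eq hYc) fun a ha b hb => (hWc a (hX ha) b (hY hb)).eq, ?_⟩
    rw [card_sup_of_disjoint (fun y hy => centralizer_le_normalizer _ (mem_centralizer_iff.2 fun x hx =>
      (hWc x (hX hx) y (hY hy)).eq)) hd, hXc, hYc, pow_two]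
  refine hB.not_isCyclic ?_
  haveI := hW
  exact isCyclic_of_injective (inclusion (sup_le hX hY)) (inclusion_injective _)

theorem mem_zpowers_sq {g : G} (hodd : Odd (orderOf g)) : g ∈ zpowers (g ^ 2) := by
  obtain ⟨k, hk⟩ := hodd
  refine ⟨((k + 1 : ℕ) : ℤ), ?_⟩
  show (g ^ 2) ^ ((k + 1 : ℕ) : ℤ) = g
  rw [zpow_natCast, ← pow_mul, show 2 * (k + 1) = orderOf g + 1 by omega, pow_succ, pow_orderOf_eq_one,
    one_mul]

/-- A `p`-group acting nontrivially on a group of order `q` has `p < q`. -/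
theorem lt_of_moves_card_prime [hp : Fact p.Prime] [hq : Fact q.Prime] {A X : Subgroup G}
    (hA : IsPGroup p A) (hX : Nat.card X = q) (hn : A ≤ normalizer (X : Set G))
    (hne : ¬ A ≤ centralizer (X : Set G)) : p < q := by
  obtain ⟨a, ha, hac⟩ := SetLike.not_le_iff_exists.1 hne
  set φ := X.normalizerMonoidHom ⟨a, hn ha⟩ with hφ
  have h1 : orderOf φ ∣ q - 1 := by
    refine (orderOf_dvd_natCard φ).trans ?_
    haveI := isCyclic_of_prime_card hX
    rw [IsCyclic.card_mulAut, hX, Nat.totient_prime hq.out]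
  have h2 : φ ≠ 1 := fun e => hac (mem_centralizer_iff.2 fun x hx => by
    have h3 : a * x * a⁻¹ = x := by
      have h5 := congrArg Subtype.val (DFunLike.congr_fun e ⟨x, hx⟩)
      simpa [hφ] using h5
    exact (mul_inv_eq_iff_eq_mul.1 h3).symm)
  obtain ⟨n, hn'⟩ := hA ⟨a, ha⟩
  have h4 : orderOf φ ∣ p ^ n := orderOf_dvd_of_pow_eq_one (by
    rw [hφ, ← map_pow, show (⟨a, hn ha⟩ : normalizer (X : Set G)) ^ p ^ n = 1 from
      Subtype.ext (congrArg Subtype.val hn' : _), map_one])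
  obtain ⟨i, -, hi⟩ := (Nat.dvd_prime_pow hp.out).1 h4
  rcases Nat.eq_zero_or_pos i with rfl | hi0
  · exact absurd (orderOf_eq_one_iff.1 (by simpa using hi)) h2
  have h5 : p ∣ q - 1 := ((dvd_pow_self p hi0.ne').trans (hi ▸ dvd_rfl)).trans h1
  have := hq.out.two_le
  have h6 := Nat.le_of_dvd (by omega) h5
  omega

variable (h : Ten G)
include h

/-- The sigma core has no fixed point under a line of the plane. -/
theorem Exc.exists_fpf_line [hp : Fact p.Prime] {M A A0 : Subgroup G} (hx : Exc p M A A0) :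
    ∃ X ≤ A, Nat.card X = p ∧ sigmaCore M ⊓ centralizer (X : Set G) = ⊥ := by
  obtain ⟨P, hP, hAP⟩ := exists_sylIn_ge hx.plane.isPGroup hx.le
  obtain ⟨-, -, g, -, hgA, hgM⟩ := hx.sylow h hP hAP
  exact ⟨MulAut.conj g • A0, (conj_smul_mono g hx.sub).trans (conj_smul_self_of_mem_normalizer hgA).le,
    by rw [card_conj_smul, hx.card],
    hx.fixed_eq_bot h hgM ((conj_smul_self_of_mem_normalizer hgA).ge.trans (conj_smul_mono g hx.le))⟩

theorem Exc.cent_sigma [hp : Fact p.Prime] {M A A0 : Subgroup G} (hx : Exc p M A A0) :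
    sigmaCore M ⊓ centralizer (A : Set G) = ⊥ := by
  obtain ⟨X, hX, -, hfix⟩ := hx.exists_fpf_line h
  exact le_bot_iff.1 ((inf_le_inf_left _ (centralizer_le hX)).trans hfix.le)

theorem Ten.normalizer_eq_of_compl [Fact q.Prime] {M E X : Subgroup G} (hM : IsCoatom M)
    (hE : IsComplIn E (sigmaCore M) M) (hX : Nat.card X = q) (hXE : X ≤ E)
    (hc : X ≤ centralizer (sigmaCore M : Set G)) (hn : E ≤ normalizer (X : Set G)) :
    normalizer (X : Set G) = M := by
  refine h.normalizer_eq hM (ne_bot_of_card_prime hX) (hXE.trans hE.1) ?_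
  conv_lhs => rw [← compl_sup hE]
  exact sup_le ((le_centralizer_iff.1 hc).trans (centralizer_le_normalizer _)) hn

set_option maxHeartbeats 400000 in
/-- Theorem 11.6: the plane is normal in a complement containing it. -/
theorem Exc.normal [hp : Fact p.Prime] {M A A0 E : Subgroup G} (hx : Exc p M A A0)
    (hE : IsComplIn E (sigmaCore M) M) (hAE : A ≤ E) : E ≤ normalizer (A : Set G) := by
  have hM := hx.coatom
  have hA := hx.plane
  have hmax := hx.max h
  obtain ⟨P, hP, hAP⟩ := exists_sylIn_ge hA.isPGroup hAE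
  have hPM := h.sylIn_of_compl hM hE hx.notSigma hP
  obtain ⟨hPab, hPom, g, -, hgA, hgM⟩ := hx.sylow h hPM hAP
  have hEs : E ≠ ⊤ := fun e => hM.1 (top_le_iff.1 (e ▸ hE.1))
  set K := opPrime p E with hK
  have hPA : normalizer (P : Set G) ≤ normalizer (A : Set G) := fun n hn =>
    mem_normalizer_of_conj_mem fun a ha => hPom _ (normalizer_conj_mem hn (hAP ha))
      (by rw [conj_pow, hA.1.2 a ha, mul_one, mul_inv_cancel])
  suffices hKA : K ≤ centralizer (A : Set G) by
    intro e he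
    obtain ⟨u, hu, n, hn, rfl⟩ := exists_mul_of_pLengthLE (h.plength p hp.out E hEs) hP he
    exact mul_mem (centralizer_le_normalizer _ (hKA hu)) (hPA hn.2)
  by_contra hKA
  have hAK : A ≤ normalizer (K : Set G) := hAE.trans (le_normalizer_opPrime p E)
  have hKs : Group.IsSolvable K :=
    CfsgLib.Solvable.isSolvable_of_le (h.solvable_coatom hM) ((opPrime_le p E).trans hE.1)
  have hcopK := coprime_of_isPGroup hA.isPGroup (not_dvd_card_opPrime (p := p) E)
  -- a prime and an invariant Sylow subgroup moved by `A`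
  obtain ⟨q, hq, Q, hQK, hAQ, hQA⟩ : ∃ q, q.Prime ∧ ∃ Q, SylIn q Q K ∧ A ≤ normalizer (Q : Set G) ∧
      ¬ Q ≤ centralizer (A : Set G) := by
    by_contra hcon
    refine hKA ?_
    have h1 : (K ⊓ centralizer (A : Set G)).relIndex K = 1 := by
      refine Nat.eq_one_iff_not_exists_prime_dvd.2 fun r hr hd => ?_
      have := Fact.mk hr
      obtain ⟨R, hR, -, hAR⟩ := exists_invariant_sylIn_ge hAK hcopK (Or.inr hKs) (bot_le : ⊥ ≤ K)
        (IsPGroup.of_bot (p := r))
        (fun a _ => mem_normalizer_of_conj_mem fun s hs => by rw [mem_bot.1 hs]; simp)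
      have hRA : R ≤ centralizer (A : Set G) := by
        by_contra hc
        exact hcon ⟨r, hr, R, hR, hAR, hc⟩
      exact hR.2.2 (hd.trans (relIndex_dvd_of_le_left _ (le_inf hR.1 hRA)))
    exact (relIndex_eq_one.1 h1).trans inf_le_right
  have := Fact.mk hq
  have hQ1 : Q ≠ ⊥ := fun e => hQA (e ▸ fun x hx => by rw [mem_bot.1 hx]; exact one_mem _)
  have hqK : q ∣ Nat.card K := (dvd_card_of_ne_bot hQK.2.1 hQ1).trans (card_dvd_of_le hQK.1)
  have hqp : q ≠ p := fun e => not_dvd_card_opPrime (p := p) E (dvd_trans (e ▸ dvd_rfl) hqK)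
  have hqE : q ∣ Nat.card E := hqK.trans (card_dvd_of_le (opPrime_le p E))
  have hqs : q ∉ sigma M := h.compl_not_sigma hM hE hq hqE
  have hq2 : q ≠ 2 := h.prime_ne_two hq hqE
  have hQE : Q ≤ E := hQK.1.trans (opPrime_le p E)
  have hQM : Q ≤ M := hQE.trans hE.1
  -- `[Q, A]` centralises the sigma core
  set N := Q ⊓ centralizer (sigmaCore M : Set G) with hN
  have hgodd : Odd (orderOf g) := h.minimal.1.of_dvd_nat (orderOf_dvd_natCard g)
  have hg2 : g ^ 2 ∉ M := fun hm => hgM ((zpowers_le.2 hm) (mem_zpowers_sq hgodd))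
  have hline : ∀ k : G, k ∈ normalizer (A : Set G) → k ∉ M →
      ∃ x, x ^ p = 1 ∧ x ∈ A ∧ MulAut.conj k • A0 = zpowers x ∧
        sigmaCore M ⊓ centralizer ({x} : Set G) = ⊥ := by
    intro k hk hkM
    obtain ⟨x, hxk, hxe⟩ := exists_eq_zpowers_of_card_prime
      (X := MulAut.conj k • A0) (p := p) (by rw [card_conj_smul, hx.card])
    have hxA : x ∈ A := (conj_smul_mono k hx.sub).trans (conj_smul_self_of_mem_normalizer hk).le hxk
    refine ⟨x, hA.1.2 x hxA, hxA, hxe, ?_⟩
    rw [← centralizer_zpowers_eq, ← hxe]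
    exact hx.fixed_eq_bot h hkM ((conj_smul_self_of_mem_normalizer hk).ge.trans (conj_smul_mono k hx.le))
  obtain ⟨x₁, hx₁p, hx₁A, hx₁e, hfix₁⟩ := hline g hgA hgM
  obtain ⟨x₂, hx₂p, hx₂A, hx₂e, hfix₂⟩ := hline (g ^ 2) (pow_mem hgA 2) hg2
  have hx12 : A = zpowers x₁ ⊔ zpowers x₂ := by
    rw [← hx₁e, ← hx₂e]
    refine (hA.sup_eq ((conj_smul_mono g hx.sub).trans (conj_smul_self_of_mem_normalizer hgA).le)
      ((conj_smul_mono _ hx.sub).trans (conj_smul_self_of_mem_normalizer (pow_mem hgA 2)).le)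
      (by rw [card_conj_smul, hx.card]) (by rw [card_conj_smul, hx.card]) fun e => hgM (hx.norm ?_)).symm
    refine mem_normalizer_iff_conj_smul.2 ?_
    have := congrArg (fun X : Subgroup G => MulAut.conj g⁻¹ • X) e
    simp only [conj_inv_smul_smul] at this
    rw [conj_smul_conj_smul, pow_two, inv_mul_cancel_left] at this
    exact this.symm
  have hcomm : ∀ x, x ^ p = 1 → x ∈ A → sigmaCore M ⊓ centralizer ({x} : Set G) = ⊥ →
      ⁅Q, zpowers x⁆ ≤ N := fun x hxp hxA hfix => le_inf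
    (commutator_le_of_le_normalizer (zpowers_le.2 (hAQ hxA)))
    (commutator_le_centralizer_of_fpf (hx.prime_ne_two h) hq2 hqp hxp (hAQ hxA) hQK.2.1
      (hQM.trans (le_normalizer_sigmaCore M)) (le_normalizer_sigmaCore M (hx.le hxA))
      (hx.nilpotent h) (h.not_dvd_sigmaCore hp.out hx.notSigma) (h.not_dvd_sigmaCore hq hqs) hfix)
  have hAN : A ≤ normalizer (N : Set G) :=
    (le_inf hAQ ((hx.le.trans (le_normalizer_sigmaCore M)).trans
      (normalizer_le_normalizer_centralizer _))).trans inf_normalizer_le_normalizer_inf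
  set D := ⁅Q, A⁆ with hD
  have hDN : D ≤ N := by
    rw [hD, commutator_le]
    intro y hy a ha
    have hz2 : zpowers x₂ ≤ normalizer (zpowers x₁ : Set G) := (zpowers_le.2 hx₂A).trans
      (hA.le_centralizer.trans ((centralizer_le (zpowers_le.2 hx₁A)).trans (centralizer_le_normalizer _)))
    obtain ⟨a₁, ha₁, a₂, ha₂, rfl⟩ := exists_mul_of_mem_sup hz2 (hx12.le ha)
    have h1 : ⁅y, a₁⁆ ∈ N := hcomm x₁ hx₁p hx₁A hfix₁ (commutator_mem_commutator hy ha₁)
    have h2 : ⁅y, a₂⁆ ∈ N := hcomm x₂ hx₂p hx₂A hfix₂ (commutator_mem_commutator hy ha₂)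
    rw [show ⁅y, a₁ * a₂⁆ = ⁅y, a₁⁆ * (a₁ * ⁅y, a₂⁆ * a₁⁻¹) by
      simp only [commutatorElement_def]; group]
    exact mul_mem h1 (normalizer_conj_mem (hAN ((zpowers_le.2 hx₁A) ha₁)) h2)
  have hDQ : D ≤ Q := hDN.trans inf_le_left
  have hDp : IsPGroup q D := hQK.2.1.to_le hDQ
  have hDcyc : IsCyclic D :=
    h.isCyclic_of_centralizes hM hqs hDp (hDQ.trans hQM) (hDN.trans inf_le_right)
  have hD1 : D ≠ ⊥ := fun e => hQA (commutator_eq_bot_iff_le_centralizer.1 e)
  have hcopQ : (Nat.card A).Coprime (Nat.card Q) := coprime_isPGroup hA.isPGroup hQK.2.1 (Ne.symm hqp)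
  have hQsol : Group.IsSolvable Q := CfsgLib.Solvable.isSolvable_of_le (h.solvable_coatom hM) hQM
  have hDD : ⁅D, A⁆ = D := commutator_commutator_self hAQ hcopQ (Or.inr hQsol)
  -- the subgroup of order `q`
  obtain ⟨D1, hD1D, hD1c⟩ := exists_card_prime_le (dvd_card_of_ne_bot hDp hD1)
  have hEnil := h.compl_derived_nilpotent hM hE
  set W := nilPart q ⁅E, E⁆ ⊓ centralizer (sigmaCore M : Set G) with hW
  have hDW : D ≤ W :=
    le_inf (le_nilPart hEnil (commutator_mono hQE hAE) hDp) (hDN.trans inf_le_right)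
  have hWn : E ≤ normalizer (W : Set G) :=
    (le_inf ((le_normalizer_derived E).trans (normalizer_le_normalizer_nilPart q _))
      ((hE.1.trans (le_normalizer_sigmaCore M)).trans (normalizer_le_normalizer_centralizer _))).trans
      inf_normalizer_le_normalizer_inf
  have hWcyc : IsCyclic W := h.isCyclic_of_centralizes hM hqs (isPGroup_nilPart.to_le inf_le_left)
    (inf_le_left.trans (nilPart_le.trans ((commutator_le_self E).trans hE.1))) inf_le_right
  have hD1n : E ≤ normalizer (D1 : Set G) := fun e he => mem_normalizer_iff_conj_smul.2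
    (eq_of_card_prime_of_isCyclic (q := q) hWcyc
      ((conj_smul_mono e (hD1D.trans hDW)).trans (conj_smul_self_of_mem_normalizer (hWn he)).le)
      (hD1D.trans hDW) (by rw [card_conj_smul, hD1c]) hD1c)
  have hND1 := h.normalizer_eq_of_compl hM hE hD1c ((hD1D.trans hDQ).trans hQE)
    ((hD1D.trans hDN).trans inf_le_right) hD1n
  obtain ⟨⟨-, hq1⟩, hqni, -⟩ := h.normalizer_le M hM q hq hqs D1 hD1c hND1.le
  have hAD1 : A ≤ normalizer (D1 : Set G) := hAE.trans hD1n
  -- `A` moves it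
  have hD1fix : ¬ A ≤ centralizer (D1 : Set G) := by
    intro hc
    haveI := hDcyc
    haveI : IsMulCommutative D := IsCyclic.isMulCommutative
    have h1 := inf_centralizer_inf_commutator A D
      (hAQ.trans' le_rfl |> fun _ => le_normalizer_commutator_right hAQ)
      (hcopQ.coprime_dvd_right (card_dvd_of_le hDQ))
    rw [hDD] at h1
    exact ne_bot_of_card_prime hD1c (le_bot_iff.1
      (h1 ▸ le_inf (le_inf hD1D (le_centralizer_iff.1 hc)) hD1D))
  have hpq : p < q := lt_of_moves_card_prime hA.isPGroup hD1c hAD1 hD1fix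
  -- `Q` is a Sylow subgroup of `M`
  have hQE' : SylIn q Q E := by
    obtain ⟨S, hS⟩ := exists_sylIn q E
    have hSK : S ≤ K := by
      obtain ⟨-, -, -, -, hb⟩ := h.betaHall M hM
      obtain ⟨-, -, hidx⟩ := hb p hp.out
        ((dvd_card_of_ne_bot hA.isPGroup hA.ne_bot).trans (card_dvd_of_le hx.le))
        (h.not_beta hM hx.notSigma)
      set C := (pPrimeCore p M) with hC
      haveI : C.Normal :=
        have := CfsgLib.Cores.pPrimeCore_characteristic (G := M) p
        inferInstance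
      have hSC : ∀ s (hs : s ∈ S), (⟨s, hE.1 (hS.1 hs)⟩ : M) ∈ C := by
        intro s hs
        rw [← QuotientGroup.eq_one_iff (N := C)]
        obtain ⟨n, hn⟩ := hS.2.1 ⟨s, hs⟩
        refine orderOf_eq_one_iff.1 (Nat.eq_one_of_dvd_coprimes (?_ : Nat.Coprime C.index (q ^ n))
          (C.index_eq_card ▸ orderOf_dvd_natCard _) (orderOf_dvd_of_pow_eq_one ?_))
        · refine Nat.Coprime.pow_right n (Nat.Coprime.symm ?_)
          exact hq.coprime_iff_not_dvd.2 fun hd => by have := hidx q hq hd; omega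
        · rw [← QuotientGroup.mk_pow,
            show (⟨s, hE.1 (hS.1 hs)⟩ : M) ^ q ^ n = 1 from
              Subtype.ext (congrArg Subtype.val hn : _), QuotientGroup.mk_one]
      haveI : ((C.map M.subtype).subgroupOf E).Normal :=
        normal_subgroupOf_of_le_normalizer (hE.1.trans (le_normalizer_opPrime p M))
      intro s hs
      refine ⟨⟨s, hS.1 hs⟩, CfsgLib.Cores.le_pPrimeCore_of_not_dvd (p := p)
        (N := (C.map M.subtype).subgroupOf E) ?_ ⟨_, hSC s hs, rfl⟩, rfl⟩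
      intro hd
      refine not_dvd_card_opPrime (p := p) M (hd.trans ?_)
      have h6 : Nat.card ((C.map M.subtype).subgroupOf E) = Nat.card ↥(C.map M.subtype ⊓ E) := by
        rw [← inf_subgroupOf_right]
        exact Nat.card_congr (subgroupOfEquivOfLe inf_le_right).toEquiv
      rw [h6]
      exact card_dvd_of_le inf_le_left
    obtain ⟨c, hc, he⟩ := hQK.exists_conj_eq (hS.mono hSK (opPrime_le p E))
    exact he ▸ hS.conj_of_mem (opPrime_le p E hc)
  have hQMs := h.sylIn_of_compl hM hE hqs hQE'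
  have hQnc : ¬ IsCyclic Q := by
    intro hc
    obtain ⟨B, hBM, hB⟩ := exists_plane_of_not_pRankLE_one hq1
    obtain ⟨m, -, hm⟩ := hQMs.exists_conj_le hB.isPGroup hBM
    haveI := hc
    exact (plane_conj hB m).not_isCyclic (isCyclic_of_injective (inclusion hm) (inclusion_injective _))
  obtain ⟨B, hBQ, hB⟩ := exists_plane_of_not_isCyclic hq2 hQK.2.1 hQnc
  set C0 := Q ⊓ centralizer (A : Set G) with hC0
  have hC01 : C0 ≠ ⊥ := by
    intro e
    have h1 := commutator_sup_centralizer (A := A) (K := Q) hAQ hcopQ (Or.inr hQsol)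
    rw [← hC0, e, sup_bot_eq] at h1
    exact hQnc (h1 ▸ hDcyc)
  have hqC : q ∣ Nat.card (centralizer (A : Set G)) :=
    (dvd_card_of_ne_bot (hQK.2.1.to_le inf_le_left) hC01).trans (card_dvd_of_le inf_le_right)
  have hQD1 : Q ≤ centralizer (D1 : Set G) :=
    le_centralizer_of_card_prime hQK.2.1 hD1c (hQE.trans hD1n)
  obtain ⟨Qs, hQs, hQQs⟩ := CfsgLib.PStab.exists_maxInvSubgroup_ge (A := A) (q := q) (R := Q)
    ⟨le_top, fun r hr hd => prime_eq_of_dvd_isPGroup hQK.2.1 hr hd, hAQ⟩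
  have hQsp : IsPGroup q Qs := IsPGroup.of_card (n := _)
    (Nat.eq_prime_pow_of_unique_prime_dvd Nat.card_pos.ne' fun hr hd => hQs.1.2.1 _ hr hd)
  have hC0eq : Qs ⊓ centralizer (A : Set G) = C0 := by
    refine le_antisymm (le_inf ?_ inf_le_right) (inf_le_inf_right _ hQQs)
    exact le_of_le_of_eq (le_inf inf_le_left (inf_le_right.trans hx.cent_le))
      (hQMs.eq_of_le (hQsp.to_le inf_le_left) (le_inf hQQs hQM) inf_le_right).symm
  obtain ⟨H, hH, hNH⟩ := h.exists_max_normalizer (hQK.2.1.to_le (inf_le_left : C0 ≤ Q)) hC01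
  have hAH : A ≤ H :=
    ((le_centralizer_iff.1 (inf_le_right : C0 ≤ _)).trans (centralizer_le_normalizer _)).trans hNH
  have hD1H : D1 ≤ H :=
    (le_centralizer_iff.1 (inf_le_left.trans hQD1 : C0 ≤ _)).trans
      ((centralizer_le_normalizer _).trans hNH)
  have hkey : ∀ n ∈ normalizer (A : Set G), ∀ a ∈ A, n * a * n⁻¹ * a⁻¹ ∈ ⁅H, H⁆ := by
    intro n hn a ha
    have hnA := conj_smul_self_of_mem_normalizer hn
    have hnQs : MulAut.conj n • Qs ∈ maxInvSubgroups ⊤ A {q} := by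
      refine ⟨⟨le_top, fun r hr hd => hQs.1.2.1 r hr (by rwa [card_conj_smul] at hd), ?_⟩,
        fun R' hR' hle => ?_⟩
      · rw [normalizer_conj]
        exact hnA.ge.trans (conj_smul_mono n hQs.1.2.2)
      · have h1 := hQs.2 (MulAut.conj n⁻¹ • R') ⟨le_top,
          fun r hr hd => hR'.2.1 r hr (by rwa [card_conj_smul] at hd), by
            rw [normalizer_conj]
            exact (conj_smul_self_of_mem_normalizer (inv_mem hn)).ge.trans (conj_smul_mono _ hR'.2.2)⟩
          (le_conj_smul_iff.2 (by rwa [inv_inv]))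
        rw [← h1, conj_smul_inv_smul]
    obtain ⟨k, hk, hkQ⟩ := h.conj_of_dvd hqp hA hmax hqC hQs hnQs
    set m := k⁻¹ * n with hm
    have hmA : m ∈ normalizer (A : Set G) := mul_mem (centralizer_le_normalizer _ (inv_mem hk)) hn
    have hmH : m ∈ H := hNH (mem_normalizer_iff_conj_smul.2 (show MulAut.conj m • C0 = C0 by
      rw [← hC0eq, smul_inf, conj_centralizer, conj_smul_self_of_mem_normalizer hmA, hm,
        ← conj_smul_conj_smul, hkQ, conj_inv_smul_smul]))
    have h1 : n * a * n⁻¹ = m * a * m⁻¹ := by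
      have h2 := mem_centralizer_iff.1 hk _ (normalizer_conj_mem hn ha)
      calc n * a * n⁻¹ = k⁻¹ * (k * (n * a * n⁻¹)) := by group
        _ = k⁻¹ * ((n * a * n⁻¹) * k) := by rw [h2]
        _ = m * a * m⁻¹ := by rw [hm]; group
    rw [h1, ← commutatorElement_def]
    exact commutator_mem_commutator hmH (hAH ha)
  have hD1A : D1 ≤ ⁅D1, A⁆ := by
    refine le_commutator_of_fixed_eq_bot hAD1 (coprime_of_isPGroup hA.isPGroup (by
      rw [hD1c]; exact fun hd => hqp ((Nat.prime_dvd_prime_iff_eq hp.out hq).1 hd).symm))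
      (CfsgLib.Solvable.isSolvable_of_le hQsol (hD1D.trans hDQ)) ?_
    exact (inf_eq_bot_or_le hD1c).resolve_right fun hle => hD1fix (le_centralizer_iff.1 hle)
  have hD1H' : D1 ≤ ⁅H, H⁆ := hD1A.trans (commutator_mono hD1H hAH)
  have hcent : ∀ (L Y : Subgroup G), IsCoatom L → Y ≤ A → D1 ≤ ⁅L, L⁆ → Y ≤ ⁅L, L⁆ →
      D1 ≤ centralizer (Y : Set G) := fun L Y hL hYA h1 h2 =>
    h.le_centralizer_of_derived hL h1 h2
      (coprime_of_isPGroup (K := D1) (hA.isPGroup.to_le hYA) (by
        rw [hD1c]; exact fun hd => hqp ((Nat.prime_dvd_prime_iff_eq hp.out hq).1 hd).symm)).symm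
      (hYA.trans hAD1)
      fun r hr hd => prime_eq_of_dvd_isPGroup (isPGroup_of_card_prime q hD1c) hr hd ▸
        not_beta_of_not_ideal hqni
  obtain ⟨S, hS, hPS⟩ := exists_sylIn_ge hP.2.1 (le_top (a := P))
  have hAS := hAP.trans hPS
  have hmem : ∀ z ∈ S, z ∈ centralizer (A : Set G) → z ^ p = 1 → z ∈ A :=
    fun z _ hz hzp => h.plane_mem hA hmax hz hzp
  have hN := h.narrow (hx.prime_ne_two h) hS hA hAS hmax
  by_cases hSA : S ≤ centralizer (A : Set G)
  · have hSab : ∀ a ∈ S, ∀ b ∈ S, a * b = b * a :=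
      fun a ha b hb => hN.1 a ⟨ha, hSA ha⟩ b ⟨hb, hSA hb⟩
    have hnorm : normalizer (S : Set G) ≤ normalizer (A : Set G) := fun n hn =>
      mem_normalizer_of_conj_mem fun a ha => by
        have h1 : n * a * n⁻¹ ∈ S := normalizer_conj_mem hn (hAS ha)
        exact hmem _ h1 (hSA h1) (by rw [conj_pow, hA.1.2 a ha, mul_one, mul_inv_cancel])
    have hAH' : A ≤ ⁅H, H⁆ := by
      refine (h.le_commutator_of_abelian_sylow hS hSab hAS hnorm).trans ?_
      rw [commutator_le]
      intro a ha n hn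
      rw [← commutatorElement_inv n a]
      exact inv_mem (hkey n (hnorm hn) a ha)
    exact hD1fix (le_centralizer_iff.1 (hcent H A hH le_rfl hD1H' hAH'))
  obtain ⟨t, htS, htA, htC⟩ := exists_mem_normalizer_moving hS.2.1 hA hAS hmem hSA
  obtain ⟨-, hcases⟩ := h.centre_line hA hmax hS.2.1 hAS
  have hline0 := hcases.resolve_left fun hc => hSA (le_centralizer_iff.1 hc)
  set Z0 := A ⊓ centralizer (S : Set G) with hZ0
  have htZ : t ∈ centralizer (Z0 : Set G) :=
    mem_centralizer_iff.2 fun z hz => (mem_centralizer_iff.1 hz.2 t htS).symm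
  obtain ⟨a, ha, hne⟩ : ∃ a ∈ A, a * t ≠ t * a := by
    by_contra hcon
    push Not at hcon
    exact htC (mem_centralizer_iff.2 hcon)
  have hz := plane_commutator_mem hS.2.1 hA inf_le_left hline0 htS htA htZ ha
  have hz1 : t * a * t⁻¹ * a⁻¹ ≠ 1 := fun e => hne (mul_inv_eq_iff_eq_mul.1 (mul_inv_eq_one.1 e)).symm
  have hZH' : Z0 ≤ ⁅H, H⁆ := by
    have he : zpowers (t * a * t⁻¹ * a⁻¹) = Z0 := eq_of_le_of_card_ge (zpowers_le.2 hz)
      (by rw [hline0, hA.card_zpowers (inf_le_left (b := centralizer (S : Set G)) hz) hz1])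
    rw [← he]
    exact zpowers_le.2 (hkey t htA a ha)
  have hD1Z := hcent H Z0 hH inf_le_left hD1H' hZH'
  obtain ⟨H2, hH2, hNH2⟩ := h.exists_max_normalizer (isPGroup_of_card_prime p hline0)
    (ne_bot_of_card_prime hline0)
  have hCH2 : centralizer (Z0 : Set G) ≤ H2 := (centralizer_le_normalizer _).trans hNH2
  have hSH2 : S ≤ H2 := (le_centralizer_iff.1 (inf_le_right : Z0 ≤ _)).trans hCH2
  by_cases hp2 : p ∈ sigma H2
  · have hAH2' := h.le_derived_of_sigma hH2 hp2 hA.isPGroup (hAS.trans hSH2)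
    exact hD1fix (le_centralizer_iff.1 (hcent H2 A hH2 le_rfl
      (hD1A.trans (commutator_mono (hD1Z.trans hCH2) (hAS.trans hSH2))) hAH2'))
  · have hx2 : Exc p H2 A Z0 := ⟨hH2, hp2, hA, hAS.trans hSH2, inf_le_left, hline0, hNH2⟩
    obtain ⟨hab, -⟩ := hx2.sylow h (hS.mono hSH2 le_top) hAS
    exact hSA fun s hs => mem_centralizer_iff.2 fun a ha => hab a (hAS ha) s hs

/-- `M` normalises the product of the sigma core and the plane. -/
theorem Exc.normal_sup [hp : Fact p.Prime] {M A A0 : Subgroup G} (hx : Exc p M A A0) :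
    M ≤ normalizer ((sigmaCore M ⊔ A : Subgroup G) : Set G) := by
  obtain ⟨E, hE, hAE⟩ := h.exists_compl_ge_pGroup hx.coatom hx.notSigma hx.plane.isPGroup hx.le
  conv_lhs => rw [← compl_sup hE]
  refine sup_le (le_sup_left.trans le_normalizer) fun e he => mem_normalizer_iff_conj_smul.2 ?_
  rw [smul_sup, conj_smul_self_of_mem_normalizer (hx.normal h hE hAE he),
    conj_smul_self_of_mem_normalizer (le_normalizer_sigmaCore M (hE.1 he))]

end CfsgLib.OddLocal.BG
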