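import Cfsg.Agent.Lib.OddLocal.BG11c

/-!
Bender-Glauberman 12.4: a plane of `M` has its centraliser in `M`.
-/

set_option autoImplicit false
set_option linter.unusedSectionVars false

namespace CfsgLib.OddLocal.BG

open Cfsg Subgroup CfsgLib.Solvable
open scoped Pointwise commutatorElement

variable {G : Type*} [Group G] [Finite G] {p q : ℕ}

theorem alpha_conj_mem {M : Subgroup G} (g : G) {r : ℕ} (hr : r ∈ alpha M) :
    r ∈ alpha (MulAut.conj g • M) := by
  have := Fact.mk hr.1
  obtain ⟨B, hBM, hB, h3⟩ := exists_rank_three hr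
  exact ⟨hr.1, not_pRankLE_of_card (conj_smul_mono g hBM) (isElementaryAbelian_conj hB g)
    (by rw [card_conj_smul]; exact h3)⟩

theorem alpha_conj (g : G) (M : Subgroup G) : alpha (MulAut.conj g • M) = alpha M :=
  Set.ext fun r => ⟨fun hr => by simpa [conj_inv_smul_smul] using alpha_conj_mem g⁻¹ hr,
    alpha_conj_mem g⟩

variable (h : Ten G)
include h

theorem Ten.le_alphaCore_of_isPGroup [Fact p.Prime] {M X : Subgroup G} (hM : IsCoatom M)
    (hp : p ∈ alpha M) (hX : IsPGroup p X) (hXM : X ≤ M) : X ≤ alphaCore M :=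
  le_piCoreOf_of_hall h (h.alphaHall M hM).1 hXM
    fun _ hr hd => prime_eq_of_dvd_isPGroup hX hr hd ▸ hp

theorem Ten.alpha_empty {M : Subgroup G} (hM : IsCoatom M) (ha : alphaCore M = ⊥) :
    ∀ r, r ∉ alpha M := by
  intro r hr
  have := Fact.mk hr.1
  obtain ⟨B, hBM, hB, h3⟩ := exists_rank_three hr
  have h1 := card_le_of_le (h.le_alphaCore_of_isPGroup hM hr (CfsgLib.PGroup.elemAb_isPGroup hB) hBM)
  rw [ha, card_bot] at h1
  exact absurd (h3.trans h1) (not_le.2 (Nat.one_lt_pow three_ne_zero hr.1.one_lt))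

/-- The part common to both steps of 12.4: a `q`-subgroup moved by the plane inside a maximal subgroup
outside whose sigma set `q` lies. -/
theorem Ten.no_moved_subgroup [hp : Fact p.Prime] [hq : Fact q.Prime] (hqp : q ≠ p)
    {A H Z : Subgroup G} (hA : Plane p A)
    (hH : IsCoatom H) (hAH : A ≤ H) (hexc : p ∉ sigma H → ∃ X, Exc p H A X)
    (hqH : q ∉ sigma H) (hZH : Z ≤ H) (hZq : IsPGroup q Z) (hAZ : A ≤ normalizer (Z : Set G))
    (hZA : Z ≤ ⁅Z, A⁆) : Z = ⊥ := by
  by_cases hpH : p ∈ sigma H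
  · have hc := h.le_centralizer_of_derived hH (hZA.trans (commutator_mono hZH hAH))
      (h.le_derived_of_sigma hH hpH hA.isPGroup hAH) (coprime_isPGroup hZq hA.isPGroup hqp) hAZ
      fun r hr hd => prime_eq_of_dvd_isPGroup hZq hr hd ▸ h.not_beta hH hqH
    refine le_bot_iff.1 (hZA.trans ?_)
    rw [commutator_eq_bot_iff_le_centralizer.2 hc]
  · obtain ⟨X, hx⟩ := hexc hpH
    have hle : Z ≤ sigmaCore H ⊔ A := by
      refine hZA.trans (le_trans ?_ le_rfl)
      rw [commutator_le]
      intro z hz a ha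
      rw [commutatorElement_def]
      exact mul_mem (normalizer_conj_mem (hx.normal_sup h (hZH hz)) (mem_sup_right ha))
        (inv_mem (mem_sup_right ha))
    have hcard : Nat.card ↥(sigmaCore H ⊔ A) = Nat.card (sigmaCore H) * Nat.card A := by
      refine card_sup_of_disjoint (hAH.trans (le_normalizer_sigmaCore H)) ?_
      exact disjoint_of_coprime (coprime_of_isPGroup hA.isPGroup (h.not_dvd_sigmaCore hp.out hpH)).symm
    by_contra hne
    have hd := (dvd_card_of_ne_bot hZq hne).trans (card_dvd_of_le hle)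
    rw [hcard] at hd
    rcases hq.out.dvd_mul.1 hd with h1 | h1
    · exact h.not_dvd_sigmaCore hq.out hqH h1
    · exact card_plane_not_dvd hA hqp h1

set_option maxHeartbeats 400000 in
/-- Lemma 12.4. -/
theorem Ten.cent_plane [hp : Fact p.Prime] {M A : Subgroup G} (hM : IsCoatom M) (hAM : A ≤ M)
    (hA : Plane p A) :
    centralizer (A : Set G) ≤ M ∧
      ((∀ A₀ : Subgroup G, A₀ ≤ A → Nat.card A₀ = p →
          ¬ (normalizer (A₀ : Set G) ≤ M ∧
            ∀ L : Subgroup G, IsCoatom L → normalizer (A₀ : Set G) ≤ L → L = M)) →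
        p ∈ sigma M ∧ alphaCore M = ⊥ ∧ Group.IsNilpotent (sigmaCore M)) := by
  have hlineN : ∀ {X : Subgroup G}, X ≤ A → A ≤ normalizer (X : Set G) := fun hX =>
    (hA.le_centralizer.trans (centralizer_le hX)).trans (centralizer_le_normalizer _)
  have hp2 : p ≠ 2 := h.prime_ne_two hp.out (dvd_card_of_ne_bot hA.isPGroup hA.ne_bot)
  by_cases hmax : ∀ B : Subgroup G, IsElementaryAbelian p B → A ≤ B → B = A
  swap
  · push Not at hmax
    obtain ⟨B, hB, hAB, hne⟩ := hmax
    have hB3 : p ^ 3 ≤ Nat.card B := by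
      obtain ⟨i, hi⟩ := CfsgLib.PGroup.elemAb_card hB
      rw [hi]
      refine Nat.pow_le_pow_right hp.out.pos ((Nat.pow_lt_pow_iff_right hp.out.one_lt).1 ?_)
      rw [← hi, ← hA.2]
      exact lt_of_le_of_ne (card_le_of_le hAB) fun e => hne (eq_of_le_of_card_ge hAB e.ge).symm
    have hBA : B ≤ centralizer (A : Set G) := fun b hb =>
      mem_centralizer_iff.2 fun a ha => CfsgLib.PGroup.elemAb_comm hB (hAB ha) hb
    have huniq : ∀ L : Subgroup G, IsCoatom L → A ≤ L → L = M :=
      fun L hL hAL => h.eq_of_centralized hA hB hB3 hBA hM hAM hL hAL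
    refine ⟨?_, fun hno => ?_⟩
    · obtain ⟨L, hL, hCL⟩ := h.exists_max_centralizer hA.isPGroup hA.ne_bot
      exact huniq L hL (hA.le_centralizer.trans hCL) ▸ hCL
    · exfalso
      obtain ⟨X, hXA, hX⟩ := exists_card_prime_le (dvd_card_of_ne_bot hA.isPGroup hA.ne_bot)
      obtain ⟨L, hL, hNL⟩ := h.exists_max_normalizer (isPGroup_of_card_prime p hX) (ne_bot_of_card_prime hX)
      exact hno X hXA hX ⟨huniq L hL ((hlineN hXA).trans hNL) ▸ hNL,
        fun L' hL' hN' => huniq L' hL' ((hlineN hXA).trans hN')⟩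
  by_cases hone : ∃ X ≤ A, Nat.card X = p ∧ (normalizer (X : Set G) ≤ M ∧
      ∀ L : Subgroup G, IsCoatom L → normalizer (X : Set G) ≤ L → L = M)
  · obtain ⟨X, hXA, hX, hXu⟩ := hone
    exact ⟨(centralizer_le hXA).trans ((centralizer_le_normalizer _).trans hXu.1),
      fun hno => absurd hXu (hno X hXA hX)⟩
  push Not at hone
  -- every line lies in another maximal subgroup
  have hH : ∀ X ≤ A, Nat.card X = p → ∃ H, IsCoatom H ∧ normalizer (X : Set G) ≤ H ∧ H ≠ M := by
    intro X hXA hX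
    by_cases hXM : normalizer (X : Set G) ≤ M
    · obtain ⟨L, hL, hNL, hne⟩ := hone X hXA hX hXM
      exact ⟨L, hL, hNL, hne⟩
    · obtain ⟨L, hL, hNL⟩ := h.exists_max_normalizer (isPGroup_of_card_prime p hX) (ne_bot_of_card_prime hX)
      exact ⟨L, hL, hNL, fun e => hXM (e ▸ hNL)⟩
  obtain ⟨S, hS, hAS⟩ := exists_sylIn_ge hA.isPGroup hAM
  obtain ⟨hcentre, hcases⟩ := h.centre_line hA hmax hS.2.1 hAS
  obtain ⟨Z0, hZ0A, hZ0S, hZ0⟩ : ∃ Z0, Z0 ≤ A ∧ S ≤ centralizer (Z0 : Set G) ∧ Nat.card Z0 = p := by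
    rcases hcases with hc | hc
    · obtain ⟨X, hXA, hX⟩ := exists_card_prime_le (dvd_card_of_ne_bot hA.isPGroup hA.ne_bot)
      exact ⟨X, hXA, (le_centralizer_iff.1 hc).trans (centralizer_le hXA), hX⟩
    · exact ⟨_, inf_le_left, le_centralizer_iff.1 inf_le_right, hc⟩
  have hpα : p ∉ alpha M := by
    intro hpa
    obtain ⟨B, hBM, hB, hB3⟩ := exists_rank_three hpa
    obtain ⟨m, hm, hle⟩ := hS.exists_conj_le (CfsgLib.PGroup.elemAb_isPGroup hB) hBM
    obtain ⟨H, hH1, hNH, hne⟩ := hH Z0 hZ0A hZ0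
    exact hne (h.eq_of_rank_three (isElementaryAbelian_conj hB m) (by rw [card_conj_smul]; exact hB3) le_rfl
      hM (hle.trans hS.1) hH1 (hle.trans (hZ0S.trans ((centralizer_le_normalizer _).trans hNH))))
  -- (i) `M_alpha` is trivial
  have hα0 : alphaCore M = ⊥ := by
    by_contra hne
    obtain ⟨q, hq, hqd⟩ := Nat.exists_prime_and_dvd fun e => hne (eq_bot_of_card_eq _ e)
    have := Fact.mk hq
    have hqα : q ∈ alpha M := CfsgLib.PStab.prime_mem_of_dvd_piCoreOf q hq hqd
    have hqp : q ≠ p := fun e => hpα (e ▸ hqα)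
    obtain ⟨hHall, -⟩ := h.alphaHall M hM
    have hpd : ¬ p ∣ Nat.card (alphaCore M) := fun hd => hpα (hHall.2.1 p hp.out hd)
    have hAn : A ≤ normalizer (alphaCore M : Set G) :=
      hAM.trans (CfsgLib.OddLocal.le_normalizer_piCoreOf _ M)
    have hsol := CfsgLib.Solvable.isSolvable_of_le (h.solvable_coatom hM) hHall.1
    obtain ⟨R, hR, -, hAR⟩ := exists_invariant_sylIn_ge hAn (coprime_of_isPGroup hA.isPGroup hpd)
      (Or.inr hsol) (bot_le : ⊥ ≤ alphaCore M) (IsPGroup.of_bot (p := q))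
      (fun a _ => mem_normalizer_of_conj_mem fun s hs => by rw [mem_bot.1 hs]; simp)
    have hRM : SylIn q R M := by
      refine ⟨hR.1.trans hHall.1, hR.2.1, fun hd => ?_⟩
      rw [← relIndex_mul_relIndex R _ M hR.1 hHall.1] at hd
      rcases hq.dvd_mul.1 hd with h1 | h1
      · exact hR.2.2 h1
      · exact hHall.2.2 q hq hqα h1
    obtain ⟨B, hBM, hB, hB3⟩ := exists_rank_three hqα
    obtain ⟨m, hm, hmB⟩ := hRM.exists_conj_le (CfsgLib.PGroup.elemAb_isPGroup hB) hBM
    have hRrank : ∀ {L : Subgroup G}, IsCoatom L → R ≤ L → L = M := fun hL hRL =>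
      h.eq_of_rank_three (isElementaryAbelian_conj hB m) (by rw [card_conj_smul]; exact hB3) le_rfl
        hM (hmB.trans hRM.1) hL (hmB.trans hRL)
    have hRpd : ¬ p ∣ Nat.card R := fun hd => hqp (prime_eq_of_dvd_isPGroup hR.2.1 hp.out hd).symm
    -- some line has its fixed points moved by `A`
    obtain ⟨X, hXA, hX, hmove⟩ : ∃ X ≤ A, Nat.card X = p ∧
        ¬ R ⊓ centralizer (X : Set G) ≤ centralizer (A : Set G) := by
      by_contra hcon
      push Not at hcon
      have hRA : R ≤ centralizer (A : Set G) :=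
        hA.generated hAR hRpd fun X hXA hX => hcon X hXA hX
      obtain ⟨X, hXA, hX⟩ := exists_card_prime_le (dvd_card_of_ne_bot hA.isPGroup hA.ne_bot)
      obtain ⟨H, hH1, hNH, hne⟩ := hH X hXA hX
      exact hne (hRrank hH1 ((hRA.trans (centralizer_le hXA)).trans
        ((centralizer_le_normalizer _).trans hNH)))
    obtain ⟨H, hH1, hNH, hne⟩ := hH X hXA hX
    set Q := R ⊓ centralizer (X : Set G) with hQ
    have hAQ : A ≤ normalizer (Q : Set G) := (le_inf hAR ((hlineN hXA).trans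
      (normalizer_le_normalizer_centralizer _))).trans inf_normalizer_le_normalizer_inf
    have hQp : IsPGroup q Q := hR.2.1.to_le inf_le_left
    set Z := ⁅Q, A⁆ with hZ
    have hZQ : Z ≤ Q := commutator_le_of_le_normalizer hAQ
    have hZ1 : Z ≠ ⊥ := fun e => hmove (commutator_eq_bot_iff_le_centralizer.1 e)
    have hZZ : ⁅Z, A⁆ = Z := commutator_commutator_self hAQ (coprime_isPGroup hA.isPGroup hQp hqp.symm)
      (Or.inr (CfsgLib.Solvable.isSolvable_of_le hsol (inf_le_left.trans hR.1)))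
    have hCH : centralizer (X : Set G) ≤ H := (centralizer_le_normalizer _).trans hNH
    have hZH : Z ≤ H := hZQ.trans (inf_le_right.trans hCH)
    by_cases hqH : q ∈ sigma H
    · obtain ⟨g, hg⟩ := h.exists_conj_of_alpha hM hH1 hqα hqH
      have hqαH : q ∈ alpha H := hg ▸ alpha_conj_mem g hqα
      have hpαH : p ∉ alpha H := fun hc => hpα (by rw [hg, alpha_conj] at hc; exact hc)
      obtain ⟨hHallH, -⟩ := h.alphaHall H hH1
      have hAH : A ≤ H := (hlineN hXA).trans hNH
      obtain ⟨R', hR', hZR', hAR'⟩ := exists_invariant_sylIn_ge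
        (hAH.trans (CfsgLib.OddLocal.le_normalizer_piCoreOf (alpha H) H))
        (coprime_of_isPGroup hA.isPGroup fun hd => hpαH (hHallH.2.1 p hp.out hd))
        (Or.inr (CfsgLib.Solvable.isSolvable_of_le (h.solvable_coatom hH1) hHallH.1))
        (h.le_alphaCore_of_isPGroup hH1 hqαH (hQp.to_le hZQ) hZH) (hQp.to_le hZQ)
        (le_normalizer_commutator_right hAQ)
      have hR'H : SylIn q R' H := by
        refine ⟨hR'.1.trans hHallH.1, hR'.2.1, fun hd => ?_⟩
        rw [← relIndex_mul_relIndex R' _ H hR'.1 hHallH.1] at hd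
        rcases hq.dvd_mul.1 hd with h1 | h1
        · exact hR'.2.2 h1
        · exact hHallH.2.2 q hq hqαH h1
      obtain ⟨k, hk, hkR⟩ := h.conj_of_common hqp hA hmax
        (sylIn_top_of_sigma (h.mem_sigma_of_alpha hM hqα) hRM)
        (sylIn_top_of_sigma hqH hR'H) hAR hAR' hH1.1 hAH
        (fun e => hZ1 (le_bot_iff.1 (e ▸ le_inf hZH (hZQ.trans inf_le_left))))
        (fun e => hZ1 (le_bot_iff.1 (e ▸ le_inf hZH hZR')))
      have hkH : k ∈ H := hCH (centralizer_le hXA hk)
      refine hne (hRrank hH1 ?_)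
      rw [← conj_inv_smul_smul k R, ← hkR]
      exact (conj_smul_mono _ hR'H.1).trans (conj_smul_self_of_mem_normalizer
        (le_normalizer (inv_mem hkH))).le
    · exact hZ1 (h.no_moved_subgroup hqp hA hH1 ((hlineN hXA).trans hNH)
        (fun hpH => ⟨X, hH1, hpH, hA, (hlineN hXA).trans hNH, hXA, hX, hNH⟩) hqH hZH (hQp.to_le hZQ)
        (le_normalizer_commutator_right hAQ) hZZ.ge)
  obtain ⟨-, hnil⟩ := h.nilpotent_derived hM hα0
  -- (ii) `p` lies in `sigma M`
  have hps : p ∈ sigma M := by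
    by_contra hps
    refine h.not_plane_centralizes hM hps hA hAM (le_centralizer_iff.1 ?_)
    refine le_of_nilPart_le hnil fun q hq hqd => ?_
    have := Fact.mk hq
    have hqs : q ∈ sigma M := sigma_of_dvd_sigmaCore hq hqd
    have hqp : q ≠ p := fun e => hps (e ▸ hqs)
    set R := nilPart q (sigmaCore M) with hRdef
    have hR : SylIn q R M := h.sylIn_of_sigmaCore hM hqs (sylIn_nilPart hnil)
    have hMR : M ≤ normalizer (R : Set G) :=
      (le_normalizer_sigmaCore M).trans (normalizer_le_normalizer_nilPart q _)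
    have hRpd : ¬ p ∣ Nat.card R := fun hd => hqp (prime_eq_of_dvd_isPGroup hR.2.1 hp.out hd).symm
    refine hA.generated (hAM.trans hMR) hRpd fun X hXA hX => ?_
    obtain ⟨H, hH1, hNH, hne⟩ := hH X hXA hX
    set Q := R ⊓ centralizer (X : Set G) with hQ
    have hAQ : A ≤ normalizer (Q : Set G) := (le_inf (hAM.trans hMR) ((hlineN hXA).trans
      (normalizer_le_normalizer_centralizer _))).trans inf_normalizer_le_normalizer_inf
    have hQp : IsPGroup q Q := hR.2.1.to_le inf_le_left
    by_contra hmove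
    set Z := ⁅Q, A⁆ with hZ
    have hZQ : Z ≤ Q := commutator_le_of_le_normalizer hAQ
    have hZ1 : Z ≠ ⊥ := fun e => hmove (commutator_eq_bot_iff_le_centralizer.1 e)
    have hsolQ : Group.IsSolvable Q :=
      CfsgLib.Solvable.isSolvable_of_le (h.solvable_coatom hM) (inf_le_left.trans hR.1)
    have hZZ : ⁅Z, A⁆ = Z :=
      commutator_commutator_self hAQ (coprime_isPGroup hA.isPGroup hQp hqp.symm) (Or.inr hsolQ)
    have hCH : centralizer (X : Set G) ≤ H := (centralizer_le_normalizer _).trans hNH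
    have hAH : A ≤ H := (hlineN hXA).trans hNH
    have hZH : Z ≤ H := hZQ.trans (inf_le_right.trans hCH)
    by_cases hqH : q ∈ sigma H
    · obtain ⟨g, hg⟩ := h.exists_conj_of_nilpotent hM hH1 hnil hqs hqH
      have hR'H : SylIn q (MulAut.conj g • R) H := hg ▸ hR.conj g
      have hHn : H ≤ normalizer ((MulAut.conj g • R : Subgroup G) : Set G) := by
        rw [hg, normalizer_conj]
        exact conj_smul_mono g hMR
      have hZR' : Z ≤ MulAut.conj g • R := by
        obtain ⟨c, hc, hle⟩ := hR'H.exists_conj_le (hQp.to_le hZQ) hZH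
        exact (conj_inv_smul_smul c Z).ge.trans ((conj_smul_mono c⁻¹ hle).trans
          (conj_smul_self_of_mem_normalizer (hHn (inv_mem hc))).le)
      obtain ⟨k, hk, hkR⟩ := h.conj_of_common hqp hA hmax (sylIn_top_of_sigma hqs hR)
        (sylIn_top_of_sigma hqH hR'H) (hAM.trans hMR) (hAH.trans hHn) hH1.1 hAH
        (fun e => hZ1 (le_bot_iff.1 (e ▸ le_inf hZH (hZQ.trans inf_le_left))))
        (fun e => hZ1 (le_bot_iff.1 (e ▸ le_inf hZH hZR')))
      have hkH : k ∈ H := hCH (centralizer_le hXA hk)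
      have hgR : MulAut.conj g • R = R := by
        have := conj_smul_self_of_mem_normalizer (hHn (inv_mem hkH))
        conv_lhs at this => rw [hkR, conj_inv_smul_smul]
        exact this.symm
      have hgM : g ∈ M :=
        (h.normalizer_eq hM (hR.ne_bot (mem_sigma_iff.1 hqs).2.1) hR.1 hMR).le
          (mem_normalizer_iff_conj_smul.2 hgR)
      exact hne (hg.trans (conj_smul_self_of_mem_normalizer (le_normalizer hgM)))
    · exact hZ1 (h.no_moved_subgroup hqp hA hH1 ((hlineN hXA).trans hNH)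
        (fun hpH => ⟨X, hH1, hpH, hA, (hlineN hXA).trans hNH, hXA, hX, hNH⟩) hqH hZH (hQp.to_le hZQ)
        (le_normalizer_commutator_right hAQ) hZZ.ge)
  refine ⟨?_, fun _ => ⟨hps, hα0, hnil⟩⟩
  -- the centre of the normal Sylow subgroup
  have hSs := h.sylIn_sigmaCore hM hps hS
  have hSn : M ≤ normalizer (S : Set G) :=
    sylIn_normal_of_nilpotent hnil (sigmaCore_le M) (le_normalizer_sigmaCore M) hSs
  set Z := A ⊓ centralizer (S : Set G) with hZdef
  have hZ1 : Z ≠ ⊥ := by
    rcases hcases with hc | hc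
    · rw [hZdef, inf_eq_left.2 hc]; exact hA.ne_bot
    · exact ne_bot_of_card_prime hc
  have hNZ := h.normalizer_eq hM hZ1 (inf_le_left.trans hAM)
    fun m hm => mem_normalizer_iff_conj_smul.2 (hcentre m (hSn hm))
  exact (centralizer_le inf_le_left).trans ((centralizer_le_normalizer _).trans hNZ.le)

/-- For `p` outside `sigma M` every plane gives an exceptional configuration. -/
theorem Ten.exists_exc [hp : Fact p.Prime] {M A : Subgroup G} (hM : IsCoatom M) (hps : p ∉ sigma M)
    (hAM : A ≤ M) (hA : Plane p A) :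
    ∃ A0, Exc p M A A0 ∧ ∀ L : Subgroup G, IsCoatom L → normalizer (A0 : Set G) ≤ L → L = M := by
  by_contra hcon
  refine hps ((h.cent_plane hM hAM hA).2 fun A0 hA0 hc hu => hcon
    ⟨A0, ⟨hM, hps, hA, hAM, hA0, hc, hu.1⟩, hu.2⟩).1

end CfsgLib.OddLocal.BG
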