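import Cfsg.Agent.Lib.OddLocal.BG12a

/-!
Bender-Glauberman 12.5 and 12.6.
-/

set_option autoImplicit false
set_option linter.unusedSectionVars false

namespace CfsgLib.OddLocal.BG

open Cfsg Subgroup CfsgLib.Solvable
open scoped Pointwise commutatorElement

variable {G : Type*} [Group G] [Finite G] {p q : ℕ}

variable (h : Ten G)
include h

omit h in
theorem exists_plane_of_tau2 [Fact p.Prime] {M : Subgroup G} (hp : p ∈ tau2 M) :
    ∃ A ≤ M, Plane p A :=
  exists_plane_of_not_pRankLE_one hp.2.2.2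

/-- 12.5 (e): another maximal subgroup through the plane meets the sigma core trivially. -/
theorem Ten.sigmaCore_inf_eq_bot [hp : Fact p.Prime] {M A H : Subgroup G} (hM : IsCoatom M)
    (hps : p ∉ sigma M) (hAM : A ≤ M) (hA : Plane p A) (hH : IsCoatom H) (hne : H ≠ M) (hAH : A ≤ H) :
    sigmaCore M ⊓ H = ⊥ := by
  obtain ⟨A0, hx, -⟩ := h.exists_exc hM hps hAM hA
  by_contra hD
  set D := sigmaCore M ⊓ H with hDdef
  obtain ⟨q, hq, hqd⟩ := Nat.exists_prime_and_dvd fun e => hD (eq_bot_of_card_eq _ e)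
  have := Fact.mk hq
  have hqs : q ∈ sigma M := sigma_of_dvd_sigmaCore hq (hqd.trans (card_dvd_of_le inf_le_left))
  have hqp : q ≠ p := fun e => hps (e ▸ hqs)
  have hAD : A ≤ normalizer (D : Set G) :=
    (le_inf (hAM.trans (le_normalizer_sigmaCore M)) (hAH.trans le_normalizer)).trans
      inf_normalizer_le_normalizer_inf
  have hsol : Group.IsSolvable D :=
    CfsgLib.Solvable.isSolvable_of_le (h.solvable_coatom hH) inf_le_right
  obtain ⟨Z, hZ, -, hAZ⟩ := exists_invariant_sylIn_ge hAD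
    ((coprime_of_isPGroup hA.isPGroup (h.not_dvd_sigmaCore hp.out hps)).coprime_dvd_right
      (card_dvd_of_le inf_le_left))
    (Or.inr hsol) (bot_le : ⊥ ≤ D) (IsPGroup.of_bot (p := q))
    (fun a _ => mem_normalizer_of_conj_mem fun s hs => by rw [mem_bot.1 hs]; simp)
  have hZ1 : Z ≠ ⊥ := hZ.ne_bot hqd
  by_cases hqH : q ∈ sigma H
  · obtain ⟨g, hg⟩ := h.exists_conj_of_nilpotent hM hH (hx.nilpotent h) hqs hqH
    have hgM : g ∉ M := fun hgM => hne (hg.trans (conj_smul_self_of_mem_normalizer (le_normalizer hgM)))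
    exact hD (by rw [hDdef, hg]; exact h.inter_conj_eq_bot hM hps hA hAM hx.cent_le hgM (hg ▸ hAH))
  · refine hZ1 (h.no_moved_subgroup hqp hA hH hAH
      (fun hpH => (h.exists_exc hH hpH hAH hA).imp fun _ hy => hy.1) hqH (hZ.1.trans inf_le_right) hZ.2.1
      hAZ ?_)
    refine le_commutator_of_fixed_eq_bot hAZ (coprime_isPGroup hA.isPGroup hZ.2.1 hqp.symm)
      (CfsgLib.Solvable.isSolvable_of_le hsol hZ.1) (le_bot_iff.1 ?_)
    exact (inf_le_inf_right _ (hZ.1.trans inf_le_left)).trans (hx.cent_sigma h).le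

/-- 12.6: the plane inside a complement. -/
theorem Ten.tau2_compl [hp : Fact p.Prime] {M E A : Subgroup G} (hM : IsCoatom M)
    (hE : IsComplIn E (sigmaCore M) M) (hps : p ∉ sigma M) (hAE : A ≤ E) (hA : Plane p A) :
    E ≤ normalizer (A : Set G) ∧ (∀ X ≤ E, Nat.card X = p → X ≤ A) ∧
      centralizer (A : Set G) ≤ M ∧ M ⊓ normalizer (A : Set G) = E ∧
      ¬ normalizer (A : Set G) ≤ M := by
  have hAM := hAE.trans hE.1
  obtain ⟨A0, hx, -⟩ := h.exists_exc hM hps hAM hA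
  have hn := hx.normal h hE hAE
  obtain ⟨P, hP, hAP⟩ := exists_sylIn_ge hA.isPGroup hAE
  obtain ⟨-, hom, g, -, hgA, hgM⟩ := hx.sylow h (h.sylIn_of_compl hM hE hps hP) hAP
  refine ⟨hn, fun X hX hXc => ?_, hx.cent_le, le_antisymm ?_ (le_inf hE.1 hn), fun hle => hgM (hle hgA)⟩
  · obtain ⟨e, he, hle⟩ := hP.exists_conj_le (isPGroup_of_card_prime p hXc) hX
    have h1 : MulAut.conj e • X ≤ A := fun x hx' => hom x (hle hx') (by
      have h2 := pow_card_eq_one' (G := (MulAut.conj e • X : Subgroup G)) (x := ⟨x, hx'⟩)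
      rw [card_conj_smul, hXc] at h2
      exact congrArg Subtype.val h2)
    exact (conj_inv_smul_smul e X).ge.trans ((conj_smul_mono e⁻¹ h1).trans
      (conj_smul_self_of_mem_normalizer (hn (inv_mem he))).le)
  · rintro m ⟨hm, hmA⟩
    obtain ⟨e, he, s, hs, rfl⟩ := hE.2.2.2 m hm
    have hsA : s ∈ normalizer (A : Set G) := by simpa using mul_mem (inv_mem (hn he)) hmA
    have hsc : s ∈ sigmaCore M ⊓ centralizer (A : Set G) := by
      refine ⟨hs, mem_centralizer_iff.2 fun a ha => ?_⟩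
      have h1 : s * a * s⁻¹ * a⁻¹ ∈ E ⊓ sigmaCore M := by
        refine ⟨hAE (mul_mem (normalizer_conj_mem hsA ha) (inv_mem ha)), ?_⟩
        rw [show s * a * s⁻¹ * a⁻¹ = s * (a * s⁻¹ * a⁻¹) by group]
        exact mul_mem hs (normalizer_conj_mem (le_normalizer_sigmaCore M (hAM ha)) (inv_mem hs))
      rw [hE.2.2.1, mem_bot] at h1
      exact (mul_inv_eq_iff_eq_mul.1 (mul_inv_eq_one.1 h1)).symm
    rw [hx.cent_sigma h, mem_bot] at hsc
    rw [hsc, mul_one]
    exact he

/-- 12.6, last part. -/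
theorem Ten.centralizer_unique [hp : Fact p.Prime] {M A : Subgroup G} (hM : IsCoatom M)
    (hps : p ∉ sigma M) (hAM : A ≤ M) (hA : Plane p A) {Y : Subgroup G} (hY1 : Y ≠ ⊥) (hYt : Y ≠ ⊤)
    (hYA : A ≤ centralizer (Y : Set G)) (hfix : sigmaCore M ⊓ centralizer (Y : Set G) ≠ ⊥) :
    centralizer (Y : Set G) ≤ M ∧
      ∀ L : Subgroup G, IsCoatom L → centralizer (Y : Set G) ≤ L → L = M := by
  have huniq : ∀ L : Subgroup G, IsCoatom L → centralizer (Y : Set G) ≤ L → L = M := by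
    intro L hL hCL
    by_contra hne
    exact hfix (le_bot_iff.1 ((inf_le_inf_left _ hCL).trans
      (h.sigmaCore_inf_eq_bot hM hps hAM hA hL hne (hYA.trans hCL)).le))
  obtain ⟨L, hL, hCL⟩ :=
    (eq_top_or_exists_le_coatom (centralizer (Y : Set G))).resolve_left (h.centralizer_ne_top hY1 hYt)
  exact ⟨huniq L hL hCL ▸ hCL, huniq⟩

end CfsgLib.OddLocal.BG
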