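import Cfsg.Prelude.Def_OddOrderLocal
import Cfsg.Agent.Lib.Solvable.NilpotentParts
import Cfsg.Agent.Lib.Solvable.Fitting
import Cfsg.Agent.Lib.Cores.Balance

/-!
Maximal subgroups of a minimal simple group of odd order: the parts of the Fitting subgroup, their
normalisers, and the balance principle in a solvable subgroup.
-/

set_option autoImplicit false
set_option linter.unusedSectionVars false

namespace CfsgLib.OddLocal

open Cfsg Subgroup
open CfsgLib.Solvable (nilPart nilPart_le le_nilPart isPGroup_nilPart)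

variable {G : Type*} [Group G] [Finite G]

/-- A `p`-subgroup normalised by the subgroup `M` containing it lies in the `p`-part of `F(M)`. -/
theorem le_nilPart_fittingOf {p : ℕ} [Fact p.Prime] {M R : Subgroup G} (hRM : R ≤ M)
    (hn : M ≤ normalizer (R : Set G)) (hR : IsPGroup p R) : R ≤ nilPart p (fittingOf M) := by
  refine le_nilPart (isNilpotent_fittingOf M) ?_ hR
  have : (R.subgroupOf M).Normal := (normal_subgroupOf_iff_le_normalizer hRM).2 hn
  rw [← map_subgroupOf_eq_of_le hRM]
  exact map_mono (CfsgLib.Cores.le_fittingSubgroup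
    (hR.of_equiv (subgroupOfEquivOfLe hRM).symm).isNilpotent)

omit [Finite G] in
theorem le_normalizer_fittingOf (M : Subgroup G) : M ≤ normalizer (fittingOf M : Set G) := by
  have : (fittingSubgroup M).Normal := CfsgLib.Cores.fittingSubgroup_normal
  refine (normal_subgroupOf_iff_le_normalizer (fittingOf_le M)).1 ?_
  rw [show (fittingOf M).subgroupOf M = fittingSubgroup M from
    comap_map_eq_self_of_injective M.subtype_injective _]
  exact this

theorem le_normalizer_nilPart_fittingOf (p : ℕ) (M : Subgroup G) :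
    M ≤ normalizer (nilPart p (fittingOf M) : Set G) :=
  (le_normalizer_fittingOf M).trans (CfsgLib.Solvable.normalizer_le_normalizer_nilPart p _)

/-- The centralizer of `F(M)` in a solvable `M` lies in `F(M)`. -/
theorem inf_centralizer_fittingOf_le {M : Subgroup G} (hM : Group.IsSolvable M) :
    M ⊓ centralizer (fittingOf M : Set G) ≤ fittingOf M := by
  have := hM
  intro x hx
  refine ⟨⟨x, hx.1⟩, CfsgLib.Solvable.centralizer_fittingSubgroup_le (G := M)
    (mem_centralizer_iff.2 fun y hy => Subtype.ext ?_), rfl⟩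
  exact mem_centralizer_iff.1 hx.2 y ⟨y, hy, rfl⟩

/-- A subgroup centralizing all parts of a nilpotent subgroup centralizes it. -/
theorem centralizes_of_parts {F D : Subgroup G} (hF : Group.IsNilpotent F)
    (h : ∀ p : ℕ, p.Prime → p ∣ Nat.card F → D ≤ centralizer (nilPart p F : Set G)) :
    D ≤ centralizer (F : Set G) :=
  le_centralizer_iff.1 (CfsgLib.Solvable.le_of_nilPart_le hF fun p hp hd =>
    le_centralizer_iff.1 (h p hp hd))

/-- Balance in a solvable subgroup `L`: a `p'`-subgroup centralizing a `p`-subgroup `P ≤ L` and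
normalised by `C_L(P)` centralizes the `p`-part of `F(L)`. -/
theorem balance_centralizes {p : ℕ} [hp : Fact p.Prime] {L P D : Subgroup G} (hL : Group.IsSolvable L)
    (hP : IsPGroup p P) (hPL : P ≤ L) (hDL : D ≤ L) (hD : (Nat.card D).Coprime p)
    (hDP : D ≤ centralizer (P : Set G)) (hn : L ⊓ centralizer (P : Set G) ≤ normalizer (D : Set G)) :
    D ≤ centralizer (nilPart p (fittingOf L) : Set G) := by
  have := hL
  have h1 : D.subgroupOf L ≤ pPrimeCore p L := by
    refine CfsgLib.Cores.le_pPrimeCore_of_constrained CfsgLib.Cores.isPConstrained_of_isSolvable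
      (P := P.subgroupOf L) (hP.of_equiv (subgroupOfEquivOfLe hPL).symm) ?_ ?_ ?_
    · rwa [Nat.card_congr (subgroupOfEquivOfLe hDL).toEquiv]
    · intro x hx
      refine mem_centralizer_iff.2 fun y hy => Subtype.ext ?_
      exact mem_centralizer_iff.1 (hDP hx) y hy
    · intro x hx
      have hx' : (x : G) ∈ L ⊓ centralizer (P : Set G) := ⟨x.2, mem_centralizer_iff.2 fun y hy =>
        congrArg Subtype.val (mem_centralizer_iff.1 hx ⟨y, hPL hy⟩ hy)⟩
      refine mem_normalizer_iff.2 fun y => ?_
      simpa [mem_subgroupOf] using mem_normalizer_iff.1 (hn hx') (y : G)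
  have h2 : (nilPart p (fittingOf L)).subgroupOf L ≤ pCore p L := by
    have : ((nilPart p (fittingOf L)).subgroupOf L).Normal :=
      (normal_subgroupOf_iff_le_normalizer (nilPart_le.trans (fittingOf_le L))).2
        (le_normalizer_nilPart_fittingOf p L)
    exact CfsgLib.Cores.le_pCore
      (isPGroup_nilPart.of_equiv (subgroupOfEquivOfLe (nilPart_le.trans (fittingOf_le L))).symm)
  intro d hd
  refine mem_centralizer_iff.2 fun y hy => ?_
  have hyL : y ∈ L := (nilPart_le.trans (fittingOf_le L)) hy
  exact congrArg Subtype.val (commute_of_normal_of_disjoint (pCore p L) (pPrimeCore p L)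
    inferInstance inferInstance (disjoint_iff.2 (CfsgLib.Cores.pCore_inf_pPrimeCore p))
    ⟨y, hyL⟩ ⟨d, hDL hd⟩ (h2 hy) (h1 hd)).eq

section MinSimple

variable (hG : IsMinSimpleOddOrder G)
include hG

theorem isSolvable_of_isCoatom {M : Subgroup G} (hM : IsCoatom M) : Group.IsSolvable M :=
  hG.2.2.2 M hM.1

theorem ne_bot_of_isCoatom {M : Subgroup G} (hM : IsCoatom M) : M ≠ ⊥ := by
  rintro rfl
  refine hG.2.2.1 ⟨⟨fun a b => ?_⟩⟩
  rcases eq_or_ne a 1 with rfl | ha
  · simp
  have h : zpowers a = ⊤ := hM.2 _ (bot_lt_iff_ne_bot.2 (zpowers_ne_bot.2 ha))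
  obtain ⟨n, rfl⟩ := mem_zpowers_iff.1 (h.ge (mem_top b))
  exact (Commute.zpow_right (Commute.refl a) n).eq

/-- A nontrivial subgroup of `M` normalised by `M` has normaliser `M`. -/
theorem normalizer_eq_of_isCoatom {M R : Subgroup G} (hM : IsCoatom M) (hR : R ≠ ⊥) (hRM : R ≤ M)
    (hn : M ≤ normalizer (R : Set G)) : normalizer (R : Set G) = M := by
  refine (hM.le_iff.1 hn).resolve_left fun h => ?_
  rcases hG.2.1.eq_bot_or_eq_top_of_normal R (normalizer_eq_top_iff.1 h) with h' | h'
  · exact hR h'
  · exact hM.1 (top_le_iff.1 (h'.symm.le.trans hRM))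

theorem centralizer_le_of_isCoatom {M R : Subgroup G} (hM : IsCoatom M) (hR : R ≠ ⊥) (hRM : R ≤ M)
    (hn : M ≤ normalizer (R : Set G)) : centralizer (R : Set G) ≤ M :=
  (centralizer_le_normalizer _).trans (normalizer_eq_of_isCoatom hG hM hR hRM hn).le

theorem fittingOf_ne_bot {M : Subgroup G} (hM : IsCoatom M) : fittingOf M ≠ ⊥ := by
  intro h
  have hs := isSolvable_of_isCoatom hG hM
  have h1 := inf_centralizer_fittingOf_le hs
  rw [h] at h1
  refine ne_bot_of_isCoatom hG hM (le_bot_iff.1 (le_trans ?_ h1))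
  exact le_inf le_rfl fun x _ => mem_centralizer_iff.2 fun y hy => by
    rw [mem_bot.1 hy]; simp

omit hG in
/-- The central part at `q` of a nilpotent subgroup. -/
theorem zPart_ne_bot {q : ℕ} [Fact q.Prime] {F : Subgroup G} (hF : Group.IsNilpotent F)
    (hd : q ∣ Nat.card F) : nilPart q F ⊓ centralizer (F : Set G) ≠ ⊥ := by
  obtain ⟨z, hz, hzo, hzc⟩ := CfsgLib.Solvable.exists_central_of_prime_dvd (p := q) hF hd
  intro h
  have : z ∈ nilPart q F ⊓ centralizer (F : Set G) :=
    ⟨CfsgLib.Solvable.mem_nilPart hF hz (i := 1) (by rw [pow_one]; exact hzo),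
      mem_centralizer_iff.2 fun x hx => hzc x hx⟩
  rw [h, mem_bot] at this
  rw [this, orderOf_one] at hzo
  exact (Fact.out : q.Prime).ne_one hzo.symm

omit hG in
theorem le_normalizer_zPart (q : ℕ) (M : Subgroup G) :
    M ≤ normalizer ((nilPart q (fittingOf M) ⊓ centralizer (fittingOf M : Set G) : Subgroup G) : Set G) :=
  CfsgLib.Solvable.le_normalizer_inf (le_normalizer_nilPart_fittingOf q M)
    ((le_normalizer_fittingOf M).trans (CfsgLib.Solvable.normalizer_le_normalizer_centralizer _))

theorem centralizer_zPart_le {M : Subgroup G} (hM : IsCoatom M) {q : ℕ} [Fact q.Prime]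
    (hd : q ∣ Nat.card (fittingOf M)) :
    centralizer ((nilPart q (fittingOf M) ⊓ centralizer (fittingOf M : Set G) : Subgroup G) : Set G) ≤ M :=
  centralizer_le_of_isCoatom hG hM (zPart_ne_bot (isNilpotent_fittingOf M) hd)
    ((inf_le_left.trans nilPart_le).trans (fittingOf_le M)) (le_normalizer_zPart q M)

end MinSimple

end CfsgLib.OddLocal
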