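import Cfsg.Agent.Lib.OddLocal.BG12b
import Cfsg.Agent.Lib.Solvable.Fitting
import Cfsg.Agent.Lib.OddLocal.MaximalBasic

/-!
Bender-Glauberman 12.7: a prime of `tau2 M` with nonabelian Sylow subgroups.
-/

set_option autoImplicit false
set_option linter.unusedSectionVars false

namespace CfsgLib.OddLocal.BG

open Cfsg Subgroup CfsgLib.Solvable
open scoped Pointwise commutatorElement

variable {G : Type*} [Group G] [Finite G] {p q : ℕ}

theorem le_of_normal_sylIn [Fact p.Prime] {M P W : Subgroup G} (hP : SylIn p P M) (hW : IsPGroup p W)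
    (hWM : W ≤ M) (hn : M ≤ normalizer (W : Set G)) : W ≤ P := by
  obtain ⟨m, hm, hle⟩ := hP.exists_conj_le hW hWM
  rwa [conj_smul_self_of_mem_normalizer (hn hm)] at hle

theorem exists_plane_compl_of_tau2 (h : Ten G) [hq : Fact q.Prime] {M E : Subgroup G} (hM : IsCoatom M)
    (hE : IsComplIn E (sigmaCore M) M) (hq2 : q ∈ tau2 M) : ∃ B ≤ E, Plane q B := by
  obtain ⟨B, hBM, hB⟩ := exists_plane_of_tau2 hq2
  obtain ⟨Q, hQ⟩ := exists_sylIn q E
  obtain ⟨m, -, hle⟩ := (h.sylIn_of_compl hM hE hq2.2.1 hQ).exists_conj_le hB.isPGroup hBM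
  exact ⟨_, hle.trans hQ.1, plane_conj hB m⟩

variable (h : Ten G)
include h

set_option maxHeartbeats 400000 in
/-- Theorem 12.7. -/
theorem Ten.tau2_nonabelian [hp : Fact p.Prime] {M E A : Subgroup G} (hM : IsCoatom M)
    (hE : IsComplIn E (sigmaCore M) M) (hpτ : p ∈ tau2 M)
    (hS : ∀ S : Sylow p G, ¬ IsMulCommutative (S : Subgroup G)) (hAE : A ≤ E) (hA : Plane p A) :
    tau2 M = {p} ∧
      (Nat.card ↥(A ⊓ centralizer (sigmaCore M : Set G)) = p ∧
        fittingOf M = sigmaCore M ⊔ (A ⊓ centralizer (sigmaCore M : Set G))) ∧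
      ∀ X : Subgroup G, X ≤ E → Nat.card X = p → X ≠ A ⊓ centralizer (sigmaCore M : Set G) →
        sigmaCore M ⊓ centralizer (X : Set G) = ⊥ ∧ ¬ centralizer (X : Set G) ≤ M := by
  have hps := hpτ.2.1
  have hAM := hAE.trans hE.1
  obtain ⟨A0, hx, -⟩ := h.exists_exc hM hps hAM hA
  have hmax := hx.max h
  have hp2 := hx.prime_ne_two h
  obtain ⟨hEn, hall, hC, heq, -⟩ := h.tau2_compl hM hE hps hAE hA
  obtain ⟨P, hP, hAP⟩ := exists_sylIn_ge hA.isPGroup hAE
  have hPM := h.sylIn_of_compl hM hE hps hP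
  obtain ⟨hPab, hPom, -⟩ := hx.sylow h hPM hAP
  obtain ⟨S, hSG, hPS⟩ := exists_sylIn_ge hP.2.1 (le_top (a := P))
  have hAS := hAP.trans hPS
  have hSnab : ¬ ∀ x ∈ S, ∀ y ∈ S, x * y = y * x := by
    obtain ⟨T, rfl⟩ := hSG.exists_sylow
    exact fun hab => hS T ⟨⟨fun a b => Subtype.ext (hab _ a.2 _ b.2)⟩⟩
  have hSM : S ⊓ M = P := (hPM.eq_of_le (hSG.2.1.to_le inf_le_left) (le_inf hPS hPM.1) inf_le_right).symm
  have hN := h.narrow hp2 hSG hA hAS hmax
  have hSA : ¬ S ≤ centralizer (A : Set G) := fun hle => hSnab fun x hx y hy => by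
    have h1 : S ≤ P := hSM ▸ le_inf le_rfl (hle.trans hC)
    exact hPab x (h1 hx) y (h1 hy)
  obtain ⟨t, htS, htA, htC⟩ := exists_mem_normalizer_moving hSG.2.1 hA hAS
    (fun z _ hz hzp => h.plane_mem hA hmax hz hzp) hSA
  have hPA : P ≤ centralizer (A : Set G) :=
    fun x hx => mem_centralizer_iff.2 fun a ha => hPab a (hAP ha) x hx
  have htM : t ∉ M := fun hm => htC (hPA (hSM.le ⟨htS, hm⟩))
  obtain ⟨-, hcases⟩ := h.centre_line hA hmax hSG.2.1 hAS
  have hZ0c := hcases.resolve_left fun hc => hSA (le_centralizer_iff.1 hc)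
  set Z0 := A ⊓ centralizer (S : Set G) with hZ0
  have hSZ : S ≤ centralizer (Z0 : Set G) := le_centralizer_iff.1 inf_le_right
  have htZ : t ∈ centralizer (Z0 : Set G) := hSZ htS
  have hA0Z : A0 ≠ Z0 := fun e =>
    htM ((centralizer_le_normalizer _).trans hx.norm (e ▸ htZ))
  -- lines other than `A0`
  have hline : ∀ X ≤ A, Nat.card X = p → X ≠ A0 →
      sigmaCore M ⊓ centralizer (X : Set G) = ⊥ ∧ ¬ centralizer (X : Set G) ≤ M := by
    intro X hXA hXc hX0
    rcases eq_or_ne X Z0 with rfl | hXZ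
    · have hnle : ¬ centralizer (Z0 : Set G) ≤ M := fun hle => htM (hle htZ)
      refine ⟨?_, hnle⟩
      by_contra hne
      exact hnle (h.centralizer_unique hM hps hAM hA (ne_bot_of_card_prime hXc)
        (h.ne_top_of_isPGroup (isPGroup_of_card_prime p hXc))
        (hA.le_centralizer.trans (centralizer_le hXA)) hne).1
    · obtain ⟨n, rfl⟩ := plane_lines hSG.2.1 hA inf_le_left hZ0c htS htA htZ htC hx.sub hx.card hA0Z
        hXA hXc hXZ
      have hnM : t ^ n ∉ M := fun hm => hX0 (conj_smul_self_of_mem_normalizer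
        (centralizer_le_normalizer _ (centralizer_le hx.sub (hPA (hSM.le ⟨pow_mem htS n, hm⟩)))))
      refine ⟨hx.fixed_eq_bot h hnM ((conj_smul_self_of_mem_normalizer (pow_mem htA n)).ge.trans
        (conj_smul_mono _ hAM)), fun hle => hnM ?_⟩
      -- otherwise the conjugate sigma core lies in `M`
      have hcent : A0 ≤ centralizer (sigmaCore M : Set G) := by
        refine le_centralizer_iff.1 (hA.generated (hAM.trans (le_normalizer_sigmaCore M))
          (h.not_dvd_sigmaCore hp.out hps) fun Y hYA hY => ?_)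
        rcases eq_or_ne Y A0 with rfl | hY0
        · exact inf_le_right
        · rcases eq_or_ne Y Z0 with rfl | hYZ
          · refine le_trans (le_of_eq ?_) bot_le
            by_contra hne
            exact htM ((h.centralizer_unique hM hps hAM hA (ne_bot_of_card_prime hY)
              (h.ne_top_of_isPGroup (isPGroup_of_card_prime p hY))
              (hA.le_centralizer.trans (centralizer_le hYA)) hne).1 htZ)
          · obtain ⟨m, rfl⟩ := plane_lines hSG.2.1 hA inf_le_left hZ0c htS htA htZ htC hx.sub hx.card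
              hA0Z hYA hY hYZ
            have hmM : t ^ m ∉ M := fun hm => hY0 (conj_smul_self_of_mem_normalizer
              (centralizer_le_normalizer _ (centralizer_le hx.sub (hPA (hSM.le ⟨pow_mem htS m, hm⟩)))))
            rw [hx.fixed_eq_bot h hmM ((conj_smul_self_of_mem_normalizer (pow_mem htA m)).ge.trans
              (conj_smul_mono _ hAM))]
            exact bot_le
      have h1 : MulAut.conj (t ^ n) • sigmaCore M ≤ M := by
        refine le_trans ?_ hle
        rw [← conj_centralizer]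
        exact conj_smul_mono _ (le_centralizer_iff.1 hcent)
      have h2 : MulAut.conj (t ^ n) • sigmaCore M ≤ sigmaCore M :=
        h.le_sigmaCore hM h1 fun r hr hd => sigma_of_dvd_sigmaCore hr (by rwa [card_conj_smul] at hd)
      exact (h.normalizer_sigmaCore hM).le (mem_normalizer_of_smul_le h2)
  have hA0c : A0 ≤ centralizer (sigmaCore M : Set G) := by
    refine le_centralizer_iff.1 (hA.generated (hAM.trans (le_normalizer_sigmaCore M))
      (h.not_dvd_sigmaCore hp.out hps) fun Y hYA hY => ?_)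
    rcases eq_or_ne Y A0 with rfl | hY0
    · exact inf_le_right
    · rw [(hline Y hYA hY hY0).1]; exact bot_le
  set C0 := A ⊓ centralizer (sigmaCore M : Set G) with hC0
  have hC0A : C0 = A0 := by
    refine (eq_of_le_of_card_ge (le_inf hx.sub hA0c) ?_).symm
    rw [hx.card]
    obtain ⟨i, hi, he⟩ := (Nat.dvd_prime_pow hp.out).1 (hA.2 ▸ card_dvd_of_le (inf_le_left : C0 ≤ A))
    rcases Nat.lt_or_ge i 2 with h2 | h2
    · exact he ▸ le_of_le_of_eq (Nat.pow_le_pow_right hp.out.pos (Nat.lt_succ_iff.1 h2)) (pow_one p)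
    · exfalso
      obtain rfl : i = 2 := le_antisymm hi h2
      exact h.not_plane_centralizes hM hps hA hAM
        ((eq_of_le_of_card_ge (inf_le_left : C0 ≤ A) (by rw [hA.2, he])).ge.trans inf_le_right)
  -- `tau2 M = {p}`
  have htau : tau2 M = {p} := by
    ext q
    refine ⟨fun hqτ => ?_, fun hq => (Set.mem_singleton_iff.1 hq) ▸ hpτ⟩
    by_contra hqp
    rw [Set.mem_singleton_iff] at hqp
    have := Fact.mk hqτ.1
    obtain ⟨B, hBE, hB⟩ := exists_plane_compl_of_tau2 h hM hE hqτ
    obtain ⟨hBn, hBall, -⟩ := h.tau2_compl hM hE hqτ.2.1 hBE hB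
    obtain ⟨B0, hxB, -⟩ := h.exists_exc hM hqτ.2.1 (hBE.trans hE.1) hB
    have hAB : B ≤ centralizer (A : Set G) := by
      rw [← commutator_eq_bot_iff_le_centralizer, eq_bot_iff]
      refine le_trans (le_inf (commutator_le_of_le_normalizer (hAE.trans hBn)) ?_)
        (inf_eq_bot_of_ne hB.isPGroup hA.isPGroup hqp).le
      rw [commutator_comm]
      exact commutator_le_of_le_normalizer (hBE.trans hEn)
    have hCE : centralizer (A : Set G) ≤ E := (le_inf hC (centralizer_le_normalizer _)).trans heq.le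
    have htB : t ∈ normalizer (B : Set G) := mem_normalizer_of_conj_mem fun b hb => by
      have h1 : t * b * t⁻¹ ∈ centralizer (A : Set G) :=
        normalizer_conj_mem (normalizer_le_normalizer_centralizer A htA) (hAB hb)
      rcases eq_or_ne b 1 with rfl | hb1
      · simp
      refine hBall (zpowers (t * b * t⁻¹)) (zpowers_le.2 (hCE h1)) ?_ (mem_zpowers _)
      rw [Nat.card_zpowers]
      refine orderOf_eq_prime ?_ ?_
      · rw [conj_pow, hB.1.2 b hb, mul_one, mul_inv_cancel]
      · exact fun e => hb1 (by simpa using e)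
    obtain ⟨H, hH, hNH⟩ := h.exists_max_normalizer (isPGroup_of_card_prime p hZ0c)
      (ne_bot_of_card_prime hZ0c)
    have hCH : centralizer (Z0 : Set G) ≤ H := (centralizer_le_normalizer _).trans hNH
    have hSH : S ≤ H := hSZ.trans hCH
    have hBH : B ≤ H := hAB.trans ((centralizer_le inf_le_left).trans hCH)
    have hpH : p ∈ sigma H := by
      by_contra hpH
      have hxH : Exc p H A Z0 := ⟨hH, hpH, hA, hAS.trans hSH, inf_le_left, hZ0c, hNH⟩
      exact hSnab (hxH.sylow h (hSG.mono hSH le_top) hAS).1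
    have hT : zpowers t ≤ ⁅H, H⁆ :=
      (zpowers_le.2 htS).trans (h.le_derived_of_sigma hH hpH hSG.2.1 hSH)
    have hTB : zpowers t ≤ normalizer (B : Set G) := zpowers_le.2 htB
    have hTp : IsPGroup p (zpowers t) := hSG.2.1.to_le (zpowers_le.2 htS)
    have hcop := coprime_isPGroup hTp hB.isPGroup (Ne.symm hqp)
    have hsolB : Group.IsSolvable B := Group.isSolvable_of_comm fun a b => Subtype.ext (hB.comm _ a.2 _ b.2)
    set B1 := ⁅B, zpowers t⁆ with hB1
    have hB1B : B1 ≤ B := commutator_le_of_le_normalizer hTB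
    have hcc : ⁅B1, zpowers t⁆ = B1 := commutator_commutator_self hTB hcop (Or.inr hsolB)
    have hB1c := h.le_centralizer_of_derived hH
      ((commutator_mono hBH ((zpowers_le.2 htS).trans hSH) : B1 ≤ ⁅H, H⁆)) hT
      (coprime_isPGroup (hB.isPGroup.to_le hB1B) hTp hqp)
      (le_normalizer_commutator_right hTB)
      (fun r hr hd => prime_eq_of_dvd_isPGroup (hB.isPGroup.to_le hB1B) hr hd ▸
        not_beta_of_plane_max hB (hxB.max h))
    rw [← commutator_eq_bot_iff_le_centralizer, hcc, hB1, commutator_eq_bot_iff_le_centralizer] at hB1c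
    exact htM (hxB.cent_le (le_centralizer_iff.1 hB1c (mem_zpowers t)))
  refine ⟨htau, ⟨hC0A ▸ hx.card, ?_⟩, fun X hXE hXc hX0 => hline X (hall X hXE hXc) hXc (hC0A ▸ hX0)⟩
  rw [hC0A]
  have hA0n : M ≤ normalizer (A0 : Set G) := by
    rw [← hC0A]
    conv_lhs => rw [← compl_sup hE]
    refine sup_le ?_ ((le_inf hEn ((hE.1.trans (le_normalizer_sigmaCore M)).trans
      (normalizer_le_normalizer_centralizer _))).trans inf_normalizer_le_normalizer_inf)
    exact (le_centralizer_iff.1 (inf_le_right : C0 ≤ _)).trans (centralizer_le_normalizer _)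
  have hnilF : Group.IsNilpotent (fittingOf M) := CfsgLib.OddLocal.isNilpotent_fittingOf M
  have hσF : sigmaCore M ≤ fittingOf M :=
    CfsgLib.OddLocal.le_fittingOf (sigmaCore_le M) (le_normalizer_sigmaCore M) (hx.nilpotent h)
  have hA0p := isPGroup_of_card_prime p hx.card
  have hA0F : A0 ≤ fittingOf M :=
    CfsgLib.OddLocal.le_fittingOf (hx.sub.trans hAM) hA0n hA0p.isNilpotent
  refine le_antisymm (le_of_nilPart_le hnilF fun r hr _ => ?_) (sup_le hσF hA0F)
  have := Fact.mk hr
  set W := nilPart r (fittingOf M) with hW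
  have hFM : fittingOf M ≤ M := map_subtype_le _
  have hWM : W ≤ M := nilPart_le.trans hFM
  have hWn : M ≤ normalizer (W : Set G) :=
    (CfsgLib.OddLocal.le_normalizer_fittingOf M).trans (normalizer_le_normalizer_nilPart r _)
  by_cases hrs : r ∈ sigma M
  · exact (h.le_sigmaCore_of_isPGroup hM hrs isPGroup_nilPart hWM).trans le_sup_left
  have hWc : W ≤ centralizer (sigmaCore M : Set G) := fun w hw => mem_centralizer_iff.2 fun s hs => by
    refine CfsgLib.OddLocal.commute_of_mem_nilpotent hnilF (hσF hs) (nilPart_le hw) ?_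
    obtain ⟨i, hi⟩ := orderOf_mem_nilPart hw
    refine Nat.Coprime.coprime_dvd_left (Subgroup.orderOf_dvd_natCard _ hs) ?_
    rw [hi]
    exact Nat.Coprime.pow_right i (hr.coprime_iff_not_dvd.2 (h.not_dvd_sigmaCore hr hrs)).symm
  have hWcyc := h.isCyclic_of_centralizes hM hrs isPGroup_nilPart hWM hWc
  rcases eq_or_ne r p with rfl | hrp
  · have hA0W : A0 ≤ W := le_nilPart hnilF hA0F hA0p
    refine le_trans ?_ le_sup_right
    intro w hw
    by_contra hwA0
    obtain ⟨j, hj, hjp⟩ := CfsgLib.Solvable.exists_notMem_pow_mem (p := r)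
      (isPGroup_nilPart (p := r) (A := fittingOf M)) (H := A0.subgroupOf W) (g := (⟨w, hw⟩ : W))
      (fun hc => hwA0 hc)
    set c := ((⟨w, hw⟩ : W) ^ r ^ j : W) with hc
    have hcP : (c : G) ∈ P := le_of_normal_sylIn hPM isPGroup_nilPart hWM hWn c.2
    have hcp : (c : G) ^ r ∈ A0 := hjp
    have hcp1 : (c : G) ^ r ≠ 1 := fun e => hj (by
      have hcard : Nat.card (zpowers (c : G)) = r := by
        rw [Nat.card_zpowers]
        exact orderOf_eq_prime e fun e1 => hj (show (c : G) ∈ A0 from e1.symm ▸ one_mem A0)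
      exact (eq_of_card_prime_of_isCyclic (q := r) hWcyc (zpowers_le.2 c.2) hA0W hcard hx.card).le
        (mem_zpowers (c : G)))
    have hcent := hN.2.1 (c : G) ⟨hPS hcP, hPA hcP⟩ (hx.sub hcp)
    have h1 : (c : G) ^ r ∈ A0 ⊓ Z0 :=
      ⟨hcp, hx.sub hcp, mem_centralizer_iff.2 fun s hs => (hcent s hs).symm⟩
    rw [(inf_eq_bot_or_le hx.card).resolve_right
      fun hle => hA0Z (eq_of_le_card_prime hx.card hZ0c hle), mem_bot] at h1
    exact hcp1 h1
  · refine le_of_eq_of_le (?_ : W = ⊥) bot_le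
    by_contra hW1
    obtain ⟨X, hXW, hX⟩ := exists_card_prime_le (dvd_card_of_ne_bot isPGroup_nilPart hW1)
    have hXn : M ≤ normalizer (X : Set G) := fun m hm => mem_normalizer_iff_conj_smul.2
      (eq_of_card_prime_of_isCyclic (q := r) hWcyc
        ((conj_smul_mono m hXW).trans (conj_smul_self_of_mem_normalizer (hWn hm)).le) hXW
        (by rw [card_conj_smul, hX]) hX)
    obtain ⟨⟨h2, h1⟩, -⟩ := h.normalizer_le M hM r hr hrs X hX
      (h.normalizer_eq hM (ne_bot_of_card_prime hX) (hXW.trans hWM) hXn).le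
    have hrτ : r ∈ tau2 M := ⟨hr, hrs, h2, h1⟩
    rw [htau, Set.mem_singleton_iff] at hrτ
    exact hrp hrτ

end CfsgLib.OddLocal.BG
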