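import Cfsg.Agent.Lib.OddLocal.BG12c
import Cfsg.Agent.Lib.Techniques.Functor.SylowNorm
import Mathlib.GroupTheory.SpecificGroups.ZGroup

/-!
Bender-Glauberman 12.1 (the structure of a complement) and 12.8.
-/

set_option autoImplicit false
set_option linter.unusedSectionVars false

namespace CfsgLib.OddLocal.BG

open Cfsg Subgroup CfsgLib.Solvable
open scoped Pointwise commutatorElement

variable {G : Type*} [Group G] [Finite G] {p q r : ℕ}

/-! ### Tools -/

theorem sylIn_of_piHall [hr : Fact r.Prime] {π : Set ℕ} {E H R : Subgroup G} (hH : IsPiHallOf π H E)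
    (hrπ : r ∈ π) (hR : SylIn r R H) : SylIn r R E := by
  refine ⟨hR.1.trans hH.1, hR.2.1, fun hd => ?_⟩
  rw [← relIndex_mul_relIndex R H E hR.1 hH.1] at hd
  rcases hr.out.dvd_mul.1 hd with h1 | h1
  · exact hR.2.2 h1
  · exact hH.2.2 r hr.out hrπ h1

theorem isNilpotent_of_comm {X : Type*} [Group X] (hc : ∀ a b : X, a * b = b * a) : Group.IsNilpotent X :=
  ⟨⟨1, by
    rw [Subgroup.upperCentralSeries_one]
    exact eq_top_iff.2 fun a _ => mem_center_iff.2 fun b => hc b a⟩⟩

/-- A nilpotent group with all primary parts cyclic is cyclic. -/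
theorem isCyclic_of_sylIn_cyclic {N : Subgroup G} (hN : Group.IsNilpotent N)
    (hc : ∀ r : ℕ, r.Prime → ∀ R : Subgroup G, SylIn r R N → IsCyclic R) : IsCyclic N := by
  haveI := hN
  haveI : IsZGroup N := ⟨fun r hr P => by
    haveI := Fact.mk hr
    have h1 := hc r hr _ (sylIn_map P)
    exact isCyclic_of_surjective _
      (equivMapOfInjective (P : Subgroup N) N.subtype N.subtype_injective).symm.surjective⟩
  infer_instance

theorem isCyclic_of_pRank_one_of_le [Fact p.Prime] (hp2 : p ≠ 2) {M P : Subgroup G} (hM : PRankLE p 1 M)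
    (hP : IsPGroup p P) (hPM : P ≤ M) : IsCyclic P :=
  isCyclic_of_pRankLE_one hp2 hP ((CfsgLib.PGroup.pRankLE_subgroup_iff P).2 fun B hB hBe =>
    (CfsgLib.PGroup.pRankLE_subgroup_iff M).1 hM B (hB.trans hPM) hBe)

/-- A cyclic Sylow subgroup meeting the derived group lies in it. -/
theorem sylIn_cyclic_le_commutator [hp : Fact p.Prime] {E R : Subgroup G} (hR : SylIn p R E)
    (hc : IsCyclic R) (hd : p ∣ Nat.card ↥⁅E, E⁆) : R ≤ ⁅E, E⁆ := by
  obtain ⟨hRE, hRp, hRi⟩ := hR
  let P : Sylow p E := (hRp.comap_subtype (K := E)).toSylow hRi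
  have hP : (P : Subgroup E) = R.subgroupOf E := IsPGroup.toSylow_coe _ _
  haveI : IsCyclic R := hc
  haveI : IsCyclic (P : Subgroup E) :=
    hP ▸ isCyclic_of_surjective _ (subgroupOfEquivOfLe hRE).symm.surjective
  have hd' : p ∣ Nat.card (commutator E) := by
    rw [← map_subtype_commutator, card_map_of_injective E.subtype_injective] at hd
    exact hd
  have hi := (Sylow.not_dvd_card_commutator_or_not_dvd_index_commutator P).resolve_left (not_not.2 hd')
  have hle : R.subgroupOf E ≤ commutator E := by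
    intro x hx
    obtain ⟨k, hk⟩ := hRp.comap_subtype (K := E) ⟨x, hx⟩
    refine (QuotientGroup.eq_one_iff x).1 (orderOf_eq_one_iff.1 (Nat.eq_one_of_dvd_coprimes
      ((hp.out.coprime_iff_not_dvd.2 hi).pow_left k) (orderOf_dvd_of_pow_eq_one ?_)
      (Subgroup.index_eq_card (commutator E) ▸ orderOf_dvd_natCard _)))
    have hk' : x ^ p ^ k = 1 := congrArg Subtype.val hk
    rw [← QuotientGroup.mk_pow, hk', QuotientGroup.mk_one]
  have := map_mono (f := E.subtype) hle
  rwa [map_subgroupOf_eq_of_le hRE, map_subtype_commutator] at this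

/-- A complement to a normal Sylow subgroup. -/
theorem exists_coprime_compl [hp : Fact p.Prime] {S N : Subgroup G} (hS : SylIn p S N)
    (hn : N ≤ normalizer (S : Set G)) :
    ∃ V ≤ N, ¬ p ∣ Nat.card V ∧ ∀ n ∈ N, ∃ s ∈ S, ∃ v ∈ V, n = s * v := by
  obtain ⟨hSN, hSp, hSi⟩ := hS
  haveI : (S.subgroupOf N).Normal := normal_subgroupOf_of_le_normalizer hn
  have hcop : (Nat.card (S.subgroupOf N)).Coprime (S.subgroupOf N).index := by
    obtain ⟨m, hm⟩ := IsPGroup.iff_card.1 (hSp.comap_subtype (K := N))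
    rw [show Nat.card (S.subgroupOf N) = p ^ m from hm]
    exact Nat.Coprime.pow_left m (hp.out.coprime_iff_not_dvd.2 hSi)
  obtain ⟨V', hV'⟩ := exists_right_complement'_of_coprime hcop
  refine ⟨V'.map N.subtype, map_subtype_le _, ?_, fun n hn' => ?_⟩
  · rw [card_map_of_injective N.subtype_injective, ← hV'.symm.index_eq_card]
    exact hSi
  · obtain ⟨⟨a, b⟩, hab⟩ := hV'.2 (⟨n, hn'⟩ : N)
    exact ⟨a.1, a.2, b.1, mem_map_of_mem _ b.2, congrArg Subtype.val hab.symm⟩

/-- The focal subgroup of an abelian Sylow subgroup. -/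
theorem sylIn_inf_commutator_le [hp : Fact p.Prime] {M Q : Subgroup G} (hQ : SylIn p Q M)
    (hab : ∀ x ∈ Q, ∀ y ∈ Q, x * y = y * x) :
    Q ⊓ ⁅M, M⁆ ≤ ⁅Q, M ⊓ normalizer (Q : Set G)⁆ := by
  refine CfsgLib.Techniques.Functor.inf_commutator_le hQ.2.1 hQ.1 hQ.2.2 fun a ha m hm hb => ?_
  set b := m * a * m⁻¹ with hbdef
  set C := M ⊓ centralizer ({b} : Set G) with hC
  have hQC : Q ≤ C := le_inf hQ.1 fun y hy => mem_centralizer_singleton_iff.2 (hab y hy b hb)
  have hmQC : MulAut.conj m • Q ≤ C := le_inf (hQ.conj_of_mem hm).1 fun y hy => by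
    have h1 := hab _ (mem_conj_smul_iff.1 hy) a ha
    refine mem_centralizer_singleton_iff.2 ?_
    calc y * b = m * ((m⁻¹ * y * m) * a) * m⁻¹ := by rw [hbdef]; group
      _ = m * (a * (m⁻¹ * y * m)) * m⁻¹ := by rw [h1]
      _ = b * y := by rw [hbdef]; group
  obtain ⟨c, hc, hce⟩ := (hQ.mono hQC inf_le_left).exists_conj_eq
    ((hQ.conj_of_mem hm).mono hmQC inf_le_left)
  rw [conj_smul_conj_smul] at hce
  have hn : c * m ∈ M ⊓ normalizer (Q : Set G) :=
    ⟨mul_mem hc.1 hm, mem_normalizer_iff_conj_smul.2 hce⟩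
  have he : (c * m) * a * (c * m)⁻¹ = b := by
    have h1 := mem_centralizer_singleton_iff.1 hc.2
    calc (c * m) * a * (c * m)⁻¹ = (c * b) * c⁻¹ := by rw [hbdef]; group
      _ = (b * c) * c⁻¹ := by rw [h1]
      _ = b := by group
  have h2 := commutator_mem_commutator (inv_mem ha) hn
  rwa [commutatorElement_def, inv_inv, show a⁻¹ * (c * m) * a * (c * m)⁻¹ = a⁻¹ * b by rw [← he]; group] at h2

/-- An abelian Sylow subgroup whose elements of order `p` lie in the derived group lies in it. -/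
theorem sylIn_le_commutator_of_omega [hp : Fact p.Prime] {M Q : Subgroup G} (hQ : SylIn p Q M)
    (hab : ∀ x ∈ Q, ∀ y ∈ Q, x * y = y * x) (hom : ∀ x ∈ Q, x ^ p = 1 → x ∈ ⁅M, M⁆) : Q ≤ ⁅M, M⁆ := by
  set N := M ⊓ normalizer (Q : Set G) with hN
  obtain ⟨V, hVN, hVp, hdec⟩ := exists_coprime_compl (hQ.mono (le_inf hQ.1 le_normalizer) inf_le_left)
    (inf_le_right : N ≤ _)
  have hVn : V ≤ normalizer (Q : Set G) := hVN.trans inf_le_right
  have hle : ⁅Q, N⁆ ≤ ⁅Q, V⁆ := by
    rw [commutator_le]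
    intro a ha n hn
    obtain ⟨s, hs, v, hv, rfl⟩ := hdec n hn
    have hc1 : ⁅a, v⁆ ∈ Q := commutator_le_of_le_normalizer hVn (commutator_mem_commutator ha hv)
    have e : ⁅a, s * v⁆ = ⁅a, s⁆ * (s * ⁅a, v⁆ * s⁻¹) := by simp only [commutatorElement_def]; group
    rw [e, hab s hs _ hc1, mul_inv_cancel_right,
      commutatorElement_eq_one_iff_mul_comm.2 (hab a ha s hs), one_mul]
    exact commutator_mem_commutator ha hv
  haveI : IsMulCommutative Q := ⟨⟨fun a b => Subtype.ext (hab _ a.2 _ b.2)⟩⟩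
  have hcop : (Nat.card V).Coprime (Nat.card Q) := (coprime_of_isPGroup hQ.2.1 hVp).symm
  have hfix := inf_centralizer_inf_commutator V Q hVn hcop
  have h0 : Q ⊓ centralizer (V : Set G) = ⊥ := by
    by_contra hne
    obtain ⟨X, hX, hXc⟩ := exists_card_prime_le (dvd_card_of_ne_bot (hQ.2.1.to_le inf_le_left) hne)
    have hXD : X ≤ ⁅Q, V⁆ := fun x hx => hle (sylIn_inf_commutator_le hQ hab ⟨(hX hx).1,
      hom x (hX hx).1 ((CfsgLib.PGroup.elemAb_of_card_eq hXc).2 x hx)⟩)
    exact ne_bot_of_card_prime hXc (le_bot_iff.1 (hfix ▸ le_inf hX hXD))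
  exact (le_commutator_of_fixed_eq_bot hVn hcop (Group.isSolvable_of_comm fun a b =>
    Subtype.ext (hab _ a.2 _ b.2)) h0).trans (commutator_mono hQ.1 (hVN.trans inf_le_left))

/-- The derived subgroup of `M` inside the sigma core and the derived subgroup of a complement. -/
theorem commutator_le_sigma_sup {M E : Subgroup G} (hE : IsComplIn E (sigmaCore M) M) :
    ⁅M, M⁆ ≤ sigmaCore M ⊔ ⁅E, E⁆ := by
  set N := sigmaCore M ⊔ ⁅E, E⁆ with hN
  have hn : M ≤ normalizer (N : Set G) := by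
    conv_lhs => rw [← compl_sup hE]
    refine sup_le (le_sup_left.trans le_normalizer) fun e he => mem_normalizer_iff_conj_smul.2 ?_
    rw [smul_sup, conj_smul_self_of_mem_normalizer (le_normalizer_sigmaCore M (hE.1 he)),
      conj_smul_self_of_mem_normalizer (le_normalizer_derived E he)]
  have hs : ∀ s ∈ sigmaCore M, ∀ m ∈ M, ⁅s, m⁆ ∈ N ∧ ⁅m, s⁆ ∈ N := fun s hs m hm => by
    have h1 : ⁅s, m⁆ ∈ sigmaCore M :=
      commutator_le_of_le_normalizer (le_normalizer_sigmaCore M) (commutator_mem_commutator hs hm)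
    exact ⟨mem_sup_left h1, commutatorElement_inv s m ▸ inv_mem (mem_sup_left h1)⟩
  rw [commutator_le]
  intro x hx y hy
  obtain ⟨e, he, s, hs1, rfl⟩ := hE.2.2.2 x hx
  obtain ⟨e', he', s', hs', rfl⟩ := hE.2.2.2 y hy
  rw [show ⁅e * s, e' * s'⁆ = (e * ⁅s, e' * s'⁆ * e⁻¹) * (⁅e, e'⁆ * (e' * ⁅e, s'⁆ * e'⁻¹)) by
    simp only [commutatorElement_def]; group]
  exact mul_mem (normalizer_conj_mem (hn (hE.1 he)) (hs s hs1 _ hy).1)
    (mul_mem (mem_sup_right (commutator_mem_commutator he he'))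
      (normalizer_conj_mem (hn (hE.1 he')) (hs s' hs' e (hE.1 he)).2))

variable (h : Ten G)
include h

/-- Subgroups of `M` of prime power order, for primes outside `sigma M`, are abelian. -/
theorem Ten.comm_of_not_sigma [hr : Fact r.Prime] {M W : Subgroup G} (hM : IsCoatom M) (hrs : r ∉ sigma M)
    (hW : IsPGroup r W) (hWM : W ≤ M) : ∀ x ∈ W, ∀ y ∈ W, x * y = y * x := by
  rcases eq_or_ne W ⊥ with rfl | hW1
  · intro x hx y hy
    rw [mem_bot.1 hx, mem_bot.1 hy]
  by_cases h1 : PRankLE r 1 M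
  · have hc := isCyclic_of_pRank_one_of_le
      (h.prime_ne_two hr.out (dvd_card_of_ne_bot hW hW1)) h1 hW hWM
    haveI := hc
    exact fun x hx y hy => congrArg Subtype.val
      ((IsCyclic.isMulCommutative (α := W)).is_comm.comm ⟨x, hx⟩ ⟨y, hy⟩)
  · obtain ⟨A, hAM, hA⟩ := exists_plane_of_not_pRankLE_one h1
    obtain ⟨A0, hx, -⟩ := h.exists_exc hM hrs hAM hA
    obtain ⟨P, hP, hAP⟩ := exists_sylIn_ge hA.isPGroup hAM
    obtain ⟨hab, -⟩ := hx.sylow h hP hAP
    obtain ⟨m, -, hle⟩ := hP.exists_conj_le hW hWM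
    intro x hx' y hy'
    have h2 := hab _ (hle (conj_smul_le_iff.1 le_rfl x hx')) _ (hle (conj_smul_le_iff.1 le_rfl y hy'))
    calc x * y = m⁻¹ * ((m * x * m⁻¹) * (m * y * m⁻¹)) * m := by group
      _ = m⁻¹ * ((m * y * m⁻¹) * (m * x * m⁻¹)) * m := by rw [h2]
      _ = y * x := by group

/-- A nilpotent `sigma'`-subgroup of `M` is abelian. -/
theorem Ten.comm_of_nilpotent {M N : Subgroup G} (hM : IsCoatom M) (hNM : N ≤ M)
    (hN : Group.IsNilpotent N) (hNs : ∀ r : ℕ, r.Prime → r ∣ Nat.card N → r ∉ sigma M) :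
    IsMulCommutative N := by
  have key : N ≤ centralizer (N : Set G) := le_of_nilPart_le hN fun r hr hd z hz => by
    have := Fact.mk hr
    exact mem_centralizer_iff.2 (commute_of_central_nilPart hN hz fun x hx =>
      h.comm_of_not_sigma hM (hNs r hr hd) isPGroup_nilPart (nilPart_le.trans hNM) x hx z hz)
  exact ⟨⟨fun a b => Subtype.ext (mem_centralizer_iff.1 (key b.2) a a.2)⟩⟩

/-- 12.8: `E'` is abelian. -/
theorem Ten.compl_derived_comm {M E : Subgroup G} (hM : IsCoatom M)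
    (hE : IsComplIn E (sigmaCore M) M) : IsMulCommutative ↥⁅E, E⁆ :=
  h.comm_of_nilpotent hM ((commutator_le_self E).trans hE.1) (h.compl_derived_nilpotent hM hE)
    fun _ hr hd => h.compl_not_sigma hM hE hr (hd.trans (card_dvd_of_le (commutator_le_self E)))

/-- A prime of `tau3 M` divides the order of the derived group of a complement. -/
theorem Ten.dvd_derived_of_tau3 {M E : Subgroup G} (hM : IsCoatom M)
    (hE : IsComplIn E (sigmaCore M) M) {r : ℕ} (hr : r ∈ tau3 M) : r ∣ Nat.card ↥⁅E, E⁆ := by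
  have hd := hr.2.2.1.trans (card_dvd_of_le (commutator_le_sigma_sup hE))
  rw [card_sup_of_disjoint (((commutator_le_self E).trans hE.1).trans (le_normalizer_sigmaCore M))
    (le_bot_iff.1 ((inf_le_inf_left _ (commutator_le_self E)).trans
      (inf_comm (sigmaCore M) E ▸ hE.2.2.1).le))] at hd
  exact (hr.1.dvd_mul.1 hd).resolve_left (h.not_dvd_sigmaCore hr.1 hr.2.1)

/-- Statement S1415 (Lemma 12.1). -/
theorem Ten.s1415 (M : Subgroup G) (hM : IsCoatom M) (E : Subgroup G)
    (hE : IsComplIn E (sigmaCore M) M) :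
    Group.IsNilpotent ↥⁅E, E⁆ ∧
      (∀ E₁ : Subgroup G, IsPiHallOf (tau1 M) E₁ E → IsCyclic E₁) ∧
      ∀ E₃ : Subgroup G, IsPiHallOf (tau3 M) E₃ E →
        IsCyclic E₃ ∧ E₃ ≤ ⁅E, E⁆ ∧ E ≤ normalizer (E₃ : Set G) := by
  have hnil := h.compl_derived_nilpotent hM hE
  refine ⟨hnil, fun E₁ h1 => ?_, fun E₃ h3 => ?_⟩
  · have hcom : ⁅E₁, E₁⁆ = ⊥ := by
      by_contra hne
      obtain ⟨r, hr, hd⟩ := Nat.exists_prime_and_dvd fun e => hne (eq_bot_of_card_eq _ e)
      exact (h1.2.1 r hr (hd.trans (card_dvd_of_le (commutator_le_self E₁)))).2.2.2.1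
        (hd.trans (card_dvd_of_le (commutator_mono (h1.1.trans hE.1) (h1.1.trans hE.1))))
    haveI : IsMulCommutative E₁ := ⟨⟨fun a b => Subtype.ext
      (mem_centralizer_iff.1 (commutator_eq_bot_iff_le_centralizer.1 hcom b.2) a a.2)⟩⟩
    refine isCyclic_of_sylIn_cyclic (isNilpotent_of_comm fun a b => IsMulCommutative.is_comm.comm a b)
      fun r hr R hR => ?_
    have := Fact.mk hr
    rcases eq_or_ne R ⊥ with rfl | hR1
    · infer_instance
    have hd := (dvd_card_of_ne_bot hR.2.1 hR1).trans (card_dvd_of_le hR.1)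
    exact isCyclic_of_pRank_one_of_le
      (h.prime_ne_two hr hd) (h1.2.1 r hr hd).2.2.2.2 hR.2.1 (hR.1.trans (h1.1.trans hE.1))
  · have hsyl : ∀ r : ℕ, r.Prime → ∀ R : Subgroup G, SylIn r R E₃ →
        IsCyclic R ∧ R ≤ ⁅E, E⁆ ∧ (r ∣ Nat.card E₃ → SylIn r R E) := by
      intro r hr R hR
      have := Fact.mk hr
      rcases eq_or_ne R ⊥ with rfl | hR1
      · exact ⟨inferInstance, bot_le, fun hd => absurd rfl (hR.ne_bot hd)⟩
      have hd := (dvd_card_of_ne_bot hR.2.1 hR1).trans (card_dvd_of_le hR.1)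
      have hrτ := h3.2.1 r hr hd
      have hRE := sylIn_of_piHall h3 hrτ hR
      have hc := isCyclic_of_pRank_one_of_le (h.prime_ne_two hr hd) hrτ.2.2.2 hR.2.1
        (hR.1.trans (h3.1.trans hE.1))
      exact ⟨hc, sylIn_cyclic_le_commutator hRE hc (h.dvd_derived_of_tau3 hM hE hrτ), fun _ => hRE⟩
    have hE3' : E₃ ≤ ⁅E, E⁆ := by
      have h4 : (⁅E, E⁆ ⊓ E₃).relIndex E₃ = 1 := by
        refine Nat.eq_one_iff_not_exists_prime_dvd.2 fun r hr hd => ?_
        have := Fact.mk hr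
        obtain ⟨R, hR⟩ := exists_sylIn r E₃
        exact hR.2.2 (hd.trans (relIndex_dvd_of_le_left _ (le_inf (hsyl r hr R hR).2.1 hR.1)))
      exact (relIndex_eq_one.1 h4).trans inf_le_left
    have hnil3 := isNilpotent_of_le hnil hE3'
    refine ⟨isCyclic_of_sylIn_cyclic hnil3 fun r hr R hR => (hsyl r hr R hR).1, hE3', fun e he => ?_⟩
    refine mem_normalizer_of_smul_le (le_of_nilPart_le (isNilpotent_of_le hnil ?_) fun r hr hd => ?_)
    · exact (conj_smul_mono e hE3').trans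
        (conj_smul_self_of_mem_normalizer (le_normalizer_derived E he)).le
    have := Fact.mk hr
    rw [card_conj_smul] at hd
    obtain ⟨R, hR⟩ := exists_sylIn r E₃
    obtain ⟨-, hRd, hRE⟩ := hsyl r hr R hR
    refine le_trans ?_ hR.1
    refine le_of_le_of_eq (le_nilPart hnil (nilPart_le.trans ((conj_smul_mono e hE3').trans
      (conj_smul_self_of_mem_normalizer (le_normalizer_derived E he)).le)) isPGroup_nilPart) ?_
    exact ((hRE hd).eq_of_le isPGroup_nilPart (le_nilPart hnil hRd hR.2.1)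
      (nilPart_le.trans (commutator_le_self E))).symm

/-- Statement S1420 (Corollary 12.8). -/
theorem Ten.s1420 (M : Subgroup G) (hM : IsCoatom M) (E : Subgroup G)
    (hE : IsComplIn E (sigmaCore M) M) :
    (∀ N : Subgroup G, N ≤ M → Group.IsNilpotent N →
      (∀ p : ℕ, p.Prime → p ∣ Nat.card N → p ∉ sigma M) → IsMulCommutative N) ∧
      IsMulCommutative ↥⁅E, E⁆ ∧
      (∀ (p : ℕ) (P : Subgroup G), p ∈ sigma M → IsPGroup p P → P ≤ M → ¬ IsCyclic P →
        normalizer (P : Set G) ≤ M) ∧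
      ∀ x ∈ M, x ≠ 1 → (∀ p : ℕ, p.Prime → p ∣ orderOf x → p ∈ tau2 M) → x ∈ sigmaHat M →
        centralizer ({x} : Set G) ≤ M ∧
          ∀ L : Subgroup G, IsCoatom L → centralizer ({x} : Set G) ≤ L → L = M := by
  refine ⟨fun N hNM hN hNs => h.comm_of_nilpotent hM hNM hN hNs, h.compl_derived_comm hM hE,
    fun p P hp hP hPM hPc g hg => ?_, fun x hx hx1 hxτ hxs => ?_⟩
  · have := Fact.mk hp.1
    have hP1 : P ≠ ⊥ := fun e => hPc (by subst e; infer_instance)
    obtain ⟨B, hBP, hB⟩ := exists_plane_of_not_isCyclic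
      (h.prime_ne_two hp.1 (dvd_card_of_ne_bot hP hP1)) hP hPc
    obtain ⟨m, hm, c, hc, rfl⟩ := (h.fusion M hM p hp.1 hp P hP hP1 hPM).1 g
      ((conj_smul_self_of_mem_normalizer hg).le.trans hPM)
    exact mul_mem hm ((h.cent_plane hM (hBP.trans hPM) hB).1 (centralizer_le hBP hc))
  obtain ⟨p, hp, hpd⟩ := Nat.exists_prime_and_dvd (fun e => hx1 (orderOf_eq_one_iff.1 e))
  have := Fact.mk hp
  have hpτ := hxτ p hp hpd
  obtain ⟨E', hE', hxE⟩ := h.exists_compl_ge hM (zpowers_le.2 hx) fun r hr hd =>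
    (hxτ r hr (by rwa [Nat.card_zpowers] at hd)).2.1
  have hxE' : x ∈ E' := hxE (mem_zpowers x)
  obtain ⟨A, hAE, hA⟩ := exists_plane_compl_of_tau2 h hM hE' hpτ
  obtain ⟨hAn, -, hCA, -⟩ := h.tau2_compl hM hE' hpτ.2.1 hAE hA
  have hpart : ∀ q : ℕ, q.Prime → q ∈ tau2 M → ∀ Q : Subgroup G, IsPGroup q Q → Q ≤ E' →
      Q ≤ centralizer (A : Set G) := by
    intro q hq hqτ Q hQ hQE
    have := Fact.mk hq
    obtain ⟨Qs, hQs, hQQs⟩ := exists_sylIn_ge hQ hQE
    have hQsM := h.sylIn_of_compl hM hE' hqτ.2.1 hQs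
    refine hQQs.trans ?_
    rcases eq_or_ne q p with rfl | hqp
    · intro y hy
      exact mem_centralizer_iff.2 fun a ha => h.comm_of_not_sigma hM hqτ.2.1 hQs.2.1 (hQsM.1) a
        (le_of_normal_sylIn hQs hA.isPGroup hAE hAn ha) y hy
    obtain ⟨B, hBE, hB⟩ := exists_plane_compl_of_tau2 h hM hE' hqτ
    obtain ⟨hBn, hBall, hCB, -⟩ := h.tau2_compl hM hE' hqτ.2.1 hBE hB
    have hBQ : B ≤ Qs := le_of_normal_sylIn hQs hB.isPGroup hBE hBn
    have hmaxA := h.plane_max hM hpτ.2.1 (hAE.trans hE'.1) hA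
    have hmaxB := h.plane_max hM hqτ.2.1 (hBE.trans hE'.1) hB
    have hab : ∀ {r : ℕ} [Fact r.Prime], r ∈ tau2 M → ∀ S : Subgroup G, SylIn r S ⊤ →
        ∀ u ∈ S, ∀ v ∈ S, u * v = v * u := by
      intro r hr' hrτ S hS
      by_contra hcon
      obtain ⟨C, hCE, hC⟩ := exists_plane_compl_of_tau2 h hM hE' hrτ
      have hnab : ∀ T : Sylow r G, ¬ IsMulCommutative (T : Subgroup G) := fun T hT => hcon (by
        obtain ⟨g, -, hg⟩ := (sylIn_top T).exists_conj_eq hS
        intro u hu v hv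
        have h1 := congrArg Subtype.val (hT.is_comm.comm
          ⟨g * u * g⁻¹, hg.le (conj_smul_le_iff.1 le_rfl u hu)⟩
          ⟨g * v * g⁻¹, hg.le (conj_smul_le_iff.1 le_rfl v hv)⟩)
        have h2 : g * (u * v) * g⁻¹ = g * (v * u) * g⁻¹ := by
          simpa [mul_assoc] using h1
        exact mul_left_cancel (mul_right_cancel h2))
      have htau := (h.tau2_nonabelian hM hE' hrτ hnab hCE hC).1
      rw [htau, Set.mem_singleton_iff] at hpτ hqτ
      exact hqp (hqτ.trans hpτ.symm)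
    have hAB : B ≤ centralizer (A : Set G) := by
      rw [← commutator_eq_bot_iff_le_centralizer, eq_bot_iff]
      refine le_trans (le_inf (commutator_le_of_le_normalizer (hAE.trans hBn)) ?_)
        (inf_eq_bot_of_ne hB.isPGroup hA.isPGroup hqp).le
      rw [commutator_comm]
      exact commutator_le_of_le_normalizer (hBE.trans hAn)
    obtain ⟨H, hH, hNH⟩ := h.exists_max_normalizer hA.isPGroup hA.ne_bot
    have hAH : A ≤ H := le_normalizer.trans hNH
    have hBH : B ≤ H := hAB.trans ((centralizer_le_normalizer _).trans hNH)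
    have hQH : Qs ≤ H := (hQs.1.trans hAn).trans hNH
    -- the plane for `p` lies in `H'`
    have hAH' : A ≤ ⁅H, H⁆ := by
      obtain ⟨S, hS, hAS⟩ := exists_sylIn_ge hA.isPGroup (le_top (a := A))
      have hSab := hab hpτ S hS
      refine (h.le_commutator_of_abelian_sylow hS hSab hAS fun n hn => mem_normalizer_of_conj_mem
        fun a ha => ?_).trans (commutator_mono hAH (le_trans ?_ hNH))
      · have h1 : n * a * n⁻¹ ∈ S := normalizer_conj_mem hn (hAS ha)
        exact h.plane_mem hA hmaxA (mem_centralizer_iff.2 fun b hb => hSab b (hAS hb) _ h1)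
          (by rw [conj_pow, hA.1.2 a ha, mul_one, mul_inv_cancel])
      · intro n hn
        refine mem_normalizer_of_conj_mem fun a ha => ?_
        have h1 : n * a * n⁻¹ ∈ S := normalizer_conj_mem hn (hAS ha)
        exact h.plane_mem hA hmaxA (mem_centralizer_iff.2 fun b hb => hSab b (hAS hb) _ h1)
          (by rw [conj_pow, hA.1.2 a ha, mul_one, mul_inv_cancel])
    -- the plane for `q` lies in `H'`
    obtain ⟨Ps, hPs, hAPs⟩ := CfsgLib.PStab.exists_maxInvSubgroup_ge (A := B) (q := p) (R := A)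
      ⟨le_top, fun r hr hd => prime_eq_of_dvd_isPGroup hA.isPGroup hr hd,
        hAB.trans (centralizer_le_normalizer _)⟩
    have hPsp : IsPGroup p Ps := IsPGroup.of_card (n := _)
      (Nat.eq_prime_pow_of_unique_prime_dvd Nat.card_pos.ne' fun hr hd => hPs.1.2.1 _ hr hd)
    have hPsA : Ps ≤ centralizer (A : Set G) := by
      obtain ⟨S, hS, hPsS⟩ := exists_sylIn_ge hPsp (le_top (a := Ps))
      exact fun y hy => mem_centralizer_iff.2 fun a ha => hab hpτ S hS a (hPsS (hAPs ha)) y (hPsS hy)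
    have hpd' : p ∣ Nat.card (centralizer (B : Set G)) :=
      (dvd_card_of_ne_bot hA.isPGroup hA.ne_bot).trans (card_dvd_of_le (le_centralizer_iff.1 hAB))
    have hBH' : B ≤ ⁅H, H⁆ := by
      obtain ⟨S, hS, hBS⟩ := exists_sylIn_ge hB.isPGroup (le_top (a := B))
      have hSab := hab hqτ S hS
      have hnorm : normalizer (S : Set G) ≤ normalizer (B : Set G) := fun n hn =>
        mem_normalizer_of_conj_mem fun b hb => by
          have h1 : n * b * n⁻¹ ∈ S := normalizer_conj_mem hn (hBS hb)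
          exact h.plane_mem hB hmaxB (mem_centralizer_iff.2 fun c hc => hSab c (hBS hc) _ h1)
            (by rw [conj_pow, hB.1.2 b hb, mul_one, mul_inv_cancel])
      refine (h.le_commutator_of_abelian_sylow hS hSab hBS hnorm).trans ?_
      rw [commutator_le]
      intro b hb n hn
      have hn' := hnorm hn
      have hnB := conj_smul_self_of_mem_normalizer hn'
      have hnPs : MulAut.conj n • Ps ∈ maxInvSubgroups ⊤ B {p} := by
        refine ⟨⟨le_top, fun r hr hd => hPs.1.2.1 r hr (by rwa [card_conj_smul] at hd), ?_⟩,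
          fun R' hR' hle => ?_⟩
        · rw [normalizer_conj]
          exact hnB.ge.trans (conj_smul_mono n hPs.1.2.2)
        · have h1 := hPs.2 (MulAut.conj n⁻¹ • R') ⟨le_top,
            fun r hr hd => hR'.2.1 r hr (by rwa [card_conj_smul] at hd), by
              rw [normalizer_conj]
              exact (conj_smul_self_of_mem_normalizer (inv_mem hn')).ge.trans
                (conj_smul_mono _ hR'.2.2)⟩ (le_conj_smul_iff.2 (by rwa [inv_inv]))
          rw [← h1, conj_smul_inv_smul]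
      obtain ⟨k, hk, hkP⟩ := h.conj_of_dvd (Ne.symm hqp) hB hmaxB hpd' hPs hnPs
      have hmP : k⁻¹ * n ∈ normalizer (Ps : Set G) := mem_normalizer_iff_conj_smul.2 (by
        rw [← conj_smul_conj_smul, hkP, conj_inv_smul_smul])
      have hmA : k⁻¹ * n ∈ normalizer (A : Set G) := mem_normalizer_of_conj_mem fun a ha => by
        have h1 : k⁻¹ * n * a * (k⁻¹ * n)⁻¹ ∈ Ps := normalizer_conj_mem hmP (hAPs ha)
        exact h.plane_mem hA hmaxA (hPsA h1) (by rw [conj_pow, hA.1.2 a ha, mul_one, mul_inv_cancel])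
      have h2 := mem_centralizer_iff.1 hk _ (normalizer_conj_mem hn' hb)
      have h3 : n * b * n⁻¹ = (k⁻¹ * n) * b * (k⁻¹ * n)⁻¹ := by
        calc n * b * n⁻¹ = k⁻¹ * (k * (n * b * n⁻¹)) := by group
          _ = k⁻¹ * ((n * b * n⁻¹) * k) := by rw [h2]
          _ = _ := by group
      rw [← commutatorElement_inv n b, commutatorElement_def, h3, ← commutatorElement_def]
      exact inv_mem (commutator_mem_commutator (hNH hmA) (hBH hb))
    have hQtop : SylIn q Qs ⊤ := by
      obtain ⟨S, hS, hQS⟩ := exists_sylIn_ge hQs.2.1 (le_top (a := Qs))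
      have hSab := hab hqτ S hS
      have hSB : S ≤ centralizer (B : Set G) :=
        fun s hs => mem_centralizer_iff.2 fun b hb => hSab b (hQS (hBQ hb)) s hs
      rwa [hQsM.eq_of_le hS.2.1 hQS (hSB.trans hCB)]
    have hQH' : Qs ≤ ⁅H, H⁆ := by
      have hQab := h.comm_of_not_sigma hM hqτ.2.1 hQs.2.1 hQsM.1
      refine sylIn_le_commutator_of_omega (hQtop.mono hQH le_top) hQab fun y hy hyq => hBH' ?_
      exact h.plane_mem hB hmaxB (mem_centralizer_iff.2 fun b hb => hQab b (hBQ hb) y hy) hyq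
    exact le_centralizer_iff.1 (h.le_centralizer_of_derived hH hAH' hQH'
      (coprime_isPGroup hA.isPGroup hQs.2.1 (Ne.symm hqp)) (hQs.1.trans hAn)
      (fun r hr hd => prime_eq_of_dvd_isPGroup hA.isPGroup hr hd ▸ not_beta_of_plane_max hA hmaxA))
  have hAx : A ≤ centralizer ({x} : Set G) := by
    have hz : zpowers x ≤ centralizer (A : Set G) := by
      haveI : IsCyclic (zpowers x) := inferInstance
      refine le_of_nilPart_le (isNilpotent_of_comm fun a b => IsMulCommutative.is_comm.comm a b) fun r hr hd => ?_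
      exact hpart r hr (hxτ r hr (by rwa [Nat.card_zpowers] at hd)) _ isPGroup_nilPart
        (nilPart_le.trans hxE)
    intro a ha
    exact mem_centralizer_singleton_iff.2 (mem_centralizer_iff.1 (hz (mem_zpowers x)) a ha)
  obtain ⟨-, y, hy, hy1, hxy⟩ := hxs
  have hkey := h.centralizer_unique (Y := zpowers x) hM hpτ.2.1 (hAE.trans hE'.1) hA
    (by simpa [zpowers_eq_bot] using hx1)
    (fun e => hM.1 (top_le_iff.1 (e ▸ zpowers_le.2 hx)))
    (by rw [centralizer_zpowers_eq]; exact hAx)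
    (fun e => hy1 (mem_bot.1 (e ▸ ⟨hy, by
      rw [centralizer_zpowers_eq]
      exact mem_centralizer_singleton_iff.2 hxy.symm⟩)))
  rwa [centralizer_zpowers_eq] at hkey

end CfsgLib.OddLocal.BG
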