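import Cfsg.Agent.Lib.OddLocal.BG12d

/-!
Bender-Glauberman 12.9: nonabelian `p`-subgroups lie in one maximal subgroup.
-/

set_option autoImplicit false
set_option linter.unusedSectionVars false

namespace CfsgLib.OddLocal.BG

open Cfsg Subgroup CfsgLib.Solvable
open scoped Pointwise commutatorElement

variable {G : Type*} [Group G] [Finite G] {p : ℕ}

theorem centre_card_of_nonabelian_cube [hp : Fact p.Prime] {P : Subgroup G} (hc : Nat.card P = p ^ 3)
    (hnab : ¬ IsMulCommutative P) : Nat.card ↥(P ⊓ centralizer (P : Set G)) = p := by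
  have hP : IsPGroup p P := IsPGroup.of_card hc
  have hne : P ⊓ centralizer (P : Set G) ≠ ⊥ := inf_centralizer_self_ne_bot hP fun e => by
    rw [e, card_bot] at hc
    exact (Nat.one_lt_pow three_ne_zero hp.out.one_lt).ne hc
  have he : (P ⊓ centralizer (P : Set G)).subgroupOf P = center P := by
    ext x
    rw [mem_subgroupOf, mem_inf, mem_center_iff]
    exact ⟨fun hx g => Subtype.ext (mem_centralizer_iff.1 hx.2 g g.2),
      fun hx => ⟨x.2, mem_centralizer_iff.2 fun g hg => congrArg Subtype.val (hx ⟨g, hg⟩)⟩⟩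
  have hcard : Nat.card ↥(P ⊓ centralizer (P : Set G)) * (center P).index = p ^ 3 := by
    rw [← hc, ← Subgroup.card_mul_index (center P), ← he,
      Nat.card_congr (subgroupOfEquivOfLe inf_le_left).toEquiv]
  obtain ⟨i, hi, hiz⟩ := (Nat.dvd_prime_pow hp.out).1 (Dvd.intro _ hcard)
  have hnc : ¬ IsCyclic (P ⧸ center P) := fun hcy => hnab ⟨⟨fun a b =>
    haveI := hcy
    commutative_of_cyclic_center_quotient (QuotientGroup.mk' (center P))
      (QuotientGroup.ker_mk' _).le a b⟩⟩
  rw [hiz] at hcard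
  interval_cases i
  · exact absurd (eq_bot_of_card_eq _ (by simpa using hiz)) hne
  · simpa using hiz
  · have h1 : Nat.card (P ⧸ center P) = p := by
      rw [← Subgroup.index_eq_card]
      exact Nat.eq_of_mul_eq_mul_left (pow_pos hp.out.pos 2) (hcard.trans (by ring))
    exact absurd (isCyclic_of_prime_card h1) hnc
  · have h1 : Nat.card (P ⧸ center P) = 1 := by
      rw [← Subgroup.index_eq_card]
      exact (mul_eq_left₀ (pow_pos hp.out.pos 3).ne').1 hcard
    haveI := (Nat.card_eq_one_iff_unique.1 h1).1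
    exact absurd isCyclic_of_subsingleton hnc

variable (h : Ten G)
include h

/-- A noncyclic `p`-subgroup of `M`, `p` in `sigma M`, lies in no other conjugate of `M`. -/
theorem Ten.mem_of_noncyclic [hp : Fact p.Prime] {M P : Subgroup G} (hM : IsCoatom M) (hps : p ∈ sigma M)
    (hP : IsPGroup p P) (hPc : ¬ IsCyclic P) (hPM : P ≤ M) {g : G} (hPg : P ≤ MulAut.conj g • M) :
    g ∈ M := by
  have hP1 : P ≠ ⊥ := fun e => hPc (by subst e; infer_instance)
  obtain ⟨B, hBP, hB⟩ := exists_plane_of_not_isCyclic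
    (h.prime_ne_two hp.out (dvd_card_of_ne_bot hP hP1)) hP hPc
  obtain ⟨m, hm, c, hc, he⟩ := (h.fusion M hM p hp.out hps P hP hP1 hPM).1 g⁻¹
    ((conj_smul_mono g⁻¹ hPg).trans (conj_inv_smul_smul g M).le)
  exact inv_mem_iff.1 (he ▸ mul_mem hm ((h.cent_plane hM (hBP.trans hPM) hB).1 (centralizer_le hBP hc)))

/-- A nonabelian Sylow subgroup of `G` lies in one maximal subgroup. -/
theorem Ten.sylow_unique [hp : Fact p.Prime] {S M H : Subgroup G} (hS : SylIn p S ⊤)
    (hnab : ¬ IsMulCommutative S) (hM : IsCoatom M) (hH : IsCoatom H) (hSM : S ≤ M) (hSH : S ≤ H) :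
    H = M := by
  by_cases hr : PRankLE p 2 S
  swap
  · rw [CfsgLib.PGroup.pRankLE_subgroup_iff] at hr
    push Not at hr
    obtain ⟨E, hES, hE, hlt⟩ := hr
    obtain ⟨i, hi⟩ := CfsgLib.PGroup.elemAb_card hE
    refine h.eq_of_rank_three hE ?_ le_rfl hM (hES.trans hSM) hH (hES.trans hSH)
    rw [hi] at hlt ⊢
    exact Nat.pow_le_pow_right hp.out.pos ((Nat.pow_lt_pow_iff_right hp.out.one_lt).1 hlt)
  obtain ⟨T, rfl⟩ := hS.exists_sylow
  obtain ⟨P₁, P₂, hsup, hcom, hnab1, hcard, hexp, -⟩ :=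
    (h.sylow_rank_two p hp.out T hr).resolve_left hnab
  have hσ : ∀ {L : Subgroup G}, IsCoatom L → (T : Subgroup G) ≤ L → p ∈ sigma L := fun hL hTL => by
    by_contra hps
    exact hnab ⟨⟨fun a b =>
      Subtype.ext (h.comm_of_not_sigma hL hps T.isPGroup' hTL _ a.2 _ b.2)⟩⟩
  have hSc : ¬ IsCyclic (T : Subgroup G) := fun hc => hnab (haveI := hc; IsCyclic.isMulCommutative)
  have hP1S : P₁ ≤ (T : Subgroup G) := hsup ▸ le_sup_left
  have hP1p : IsPGroup p P₁ := IsPGroup.of_card hcard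
  set Z0 := P₁ ⊓ centralizer (P₁ : Set G) with hZ0
  have hZ0c : Nat.card Z0 = p := centre_card_of_nonabelian_cube hcard hnab1
  have hZ0T : (T : Subgroup G) ≤ centralizer (Z0 : Set G) := by
    rw [← hsup]
    exact sup_le (le_centralizer_iff.1 inf_le_right)
      fun b hb => mem_centralizer_iff.2 fun a ha => hcom a ha.1 b hb
  -- two maximal subgroups with trivial alpha core coincide
  have halpha : ∀ {L L' : Subgroup G}, IsCoatom L → IsCoatom L' → (T : Subgroup G) ≤ L →
      (T : Subgroup G) ≤ L' → alphaCore L = ⊥ → L' = L := by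
    intro L L' hL hL' hTL hTL' ha
    obtain ⟨g, rfl⟩ := h.exists_conj_of_nilpotent hL hL' (h.nilpotent_derived hL ha).2 (hσ hL hTL)
      (hσ hL' hTL')
    exact conj_smul_self_of_mem_normalizer
      (le_normalizer (h.mem_of_noncyclic hL (hσ hL hTL) T.isPGroup' hSc hTL hTL'))
  obtain ⟨H0, hH0, hNH0⟩ := h.exists_max_normalizer (isPGroup_of_card_prime p hZ0c)
    (ne_bot_of_card_prime hZ0c)
  have hTH0 : (T : Subgroup G) ≤ H0 := hZ0T.trans ((centralizer_le_normalizer _).trans hNH0)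
  suffices key : ∀ {L : Subgroup G}, IsCoatom L → (T : Subgroup G) ≤ L → L = H0 from
    (key hH hSH).trans (key hM hSM).symm
  intro L hL hTL
  by_contra hne
  have hLa : alphaCore L ≠ ⊥ := fun ha => hne (halpha hL hH0 hTL hTH0 ha).symm
  have hP1L : P₁ ≤ L := hP1S.trans hTL
  have hpow : ∀ x ∈ P₁, x ^ p = 1 := fun x hx => by
    have := Monoid.pow_exponent_eq_one (⟨x, hx⟩ : P₁)
    rw [hexp] at this
    exact congrArg Subtype.val this
  -- centralisers of noncentral elements of `P₁` lie in `L`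
  have hcent : ∀ x ∈ P₁, x ∉ Z0 → centralizer ({x} : Set G) ≤ L := by
    intro x hx hxZ
    have hxc : Nat.card (zpowers x) = p := by
      rw [Nat.card_zpowers]
      exact orderOf_eq_prime (hpow x hx) fun e => hxZ (e ▸ one_mem _)
    have hcommZ : ∀ a ∈ Z0, ∀ b ∈ zpowers x, a * b = b * a := fun a ha b hb =>
      (mem_centralizer_iff.1 ha.2 b ((zpowers_le.2 hx) hb)).symm
    set A := Z0 ⊔ zpowers x with hA'
    have hd : Z0 ⊓ zpowers x = ⊥ := (inf_eq_bot_or_le hZ0c).resolve_right fun hle =>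
      hxZ ((eq_of_le_card_prime hZ0c hxc hle).ge (mem_zpowers x))
    have hA : Plane p A := by
      refine ⟨CfsgLib.PGroup.elemAb_sup (CfsgLib.PGroup.elemAb_of_card_eq hZ0c)
        (CfsgLib.PGroup.elemAb_zpowers (hpow x hx)) hcommZ, ?_⟩
      rw [card_sup_of_disjoint (fun y hy => centralizer_le_normalizer _ (mem_centralizer_iff.2 fun z hz =>
        hcommZ z hz y hy)) hd, hZ0c, hxc, pow_two]
    have hAP : A ≤ P₁ := sup_le inf_le_left (zpowers_le.2 hx)
    -- some line has its normaliser in `L` only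
    obtain ⟨Y, hYA, hY, hYN, hYu⟩ : ∃ Y ≤ A, Nat.card Y = p ∧ normalizer (Y : Set G) ≤ L ∧
        ∀ L' : Subgroup G, IsCoatom L' → normalizer (Y : Set G) ≤ L' → L' = L := by
      by_contra hcon
      exact hLa ((h.cent_plane hL (hAP.trans hP1L) hA).2 fun Y hYA hY hYu =>
        hcon ⟨Y, hYA, hY, hYu⟩).2.1
    have hYZ : Y ≠ Z0 := fun e => hne (hYu H0 hH0 (e ▸ hNH0)).symm
    obtain ⟨t, htP, htC⟩ : ∃ t ∈ P₁, t ∉ centralizer (A : Set G) := by
      by_contra hcon
      push Not at hcon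
      exact hxZ ⟨hx, mem_centralizer_iff.2 fun t ht =>
        (mem_centralizer_iff.1 (hcon t ht) x (mem_sup_right (mem_zpowers x))).symm⟩
    have htA : t ∈ normalizer (A : Set G) := by
      haveI := hP1p.isNilpotent
      have hAne : A.subgroupOf P₁ < ⊤ := lt_top_iff_ne_top.2 fun e =>
        htC (hA.le_centralizer (subgroupOf_eq_top.1 e htP))
      obtain ⟨s, hs, hsA⟩ := SetLike.exists_of_lt
        ((Group.normalizerCondition_of_isNilpotent (G := P₁)) _ hAne)
      have hsn : (s : G) ∈ normalizer (A : Set G) := mem_normalizer_of_conj_mem fun a ha =>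
        (mem_normalizer_iff.1 hs (⟨a, hAP ha⟩ : P₁)).1 ha
      have hle : A < A ⊔ zpowers (s : G) :=
        lt_of_le_of_ne le_sup_left fun e => hsA (e.ge (mem_sup_right (mem_zpowers _)))
      have hAsP : A ⊔ zpowers (s : G) ≤ P₁ := sup_le hAP (zpowers_le.2 s.2)
      have heq : A ⊔ zpowers (s : G) = P₁ := eq_of_le_of_card_ge hAsP (by
        obtain ⟨j, hj⟩ := (hP1p.to_le hAsP).exists_card_eq
        rw [hcard, hj]
        refine Nat.pow_le_pow_right hp.out.pos ((Nat.pow_lt_pow_iff_right hp.out.one_lt).1 ?_)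
        rw [← hj, ← hA.2]
        exact lt_of_le_of_ne (card_le_of_le hle.le) fun e => hle.ne (eq_of_le_of_card_ge hle.le e.ge))
      exact (heq.ge.trans (sup_le le_normalizer (zpowers_le.2 hsn))) htP
    have htZ : t ∈ centralizer (Z0 : Set G) := hZ0T (hP1S htP)
    obtain ⟨n, hn⟩ := plane_lines hP1p hA le_sup_left hZ0c htP htA htZ htC hYA hY hYZ
      (le_sup_right (a := Z0)) hxc
      (fun e => hxZ (e.le (mem_zpowers x)))
    rw [← centralizer_zpowers_eq, hn, ← conj_centralizer]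
    exact (conj_smul_mono _ ((centralizer_le_normalizer _).trans hYN)).trans
      (conj_smul_self_of_mem_normalizer (le_normalizer (hP1L (pow_mem htP n)))).le
  -- every `p'`-subgroup normalised by `P₁` lies in `L`
  have hgen : ∀ W : Subgroup G, P₁ ≤ normalizer (W : Set G) → ¬ p ∣ Nat.card W → W ≤ L := by
    intro W hW hWp
    set W0 := W ⊓ centralizer (Z0 : Set G) with hW0
    have hW0L : W0 ≤ L := by
      set T' := centralizer (Z0 : Set G) with hT'
      have hP1T : P₁ ≤ T' := hP1S.trans hZ0T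
      have hZT : Z0 ≤ T' := inf_le_left.trans hP1T
      haveI : (Z0.subgroupOf T').Normal :=
        normal_subgroupOf_of_le_normalizer (centralizer_le_normalizer _)
      set f := QuotientGroup.mk' (Z0.subgroupOf T') with hf
      set B := (P₁.subgroupOf T').map f with hB'
      have hBc : Nat.card B = p ^ 2 := by
        rw [hB', ← relIndex_ker, QuotientGroup.ker_mk', relIndex_subgroupOf hP1T]
        refine Nat.eq_of_mul_eq_mul_left hp.out.pos ?_
        rw [← pow_succ', ← hcard, ← relIndex_bot_left,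
          ← relIndex_mul_relIndex ⊥ Z0 P₁ bot_le inf_le_left, relIndex_bot_left, hZ0c]
      have hB : Plane p B := by
        refine ⟨CfsgLib.PGroup.isElementaryAbelian_mk (fun a ha b hb => congrArg Subtype.val
          (IsPGroup.commutative_of_card_eq_prime_sq (G := B) hBc ⟨a, ha⟩ ⟨b, hb⟩)) ?_, hBc⟩
        rintro _ ⟨a, ha, rfl⟩
        rw [← map_pow, show a ^ p = 1 from Subtype.ext (hpow _ ha), map_one]
      have hW0n : B ≤ normalizer ((W0.subgroupOf T').map f : Set _) := by
        rintro _ ⟨a, ha, rfl⟩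
        refine mem_normalizer_of_conj_mem ?_
        rintro _ ⟨w, hw, rfl⟩
        refine ⟨a * w * a⁻¹, ?_, by simp⟩
        exact ⟨normalizer_conj_mem (hW ha) hw.1, (a * w * a⁻¹).2⟩
      have hW0p : ¬ p ∣ Nat.card ((W0.subgroupOf T').map f) := fun hd => hWp (hd.trans
        ((Subgroup.card_map_dvd _ f).trans ((Nat.card_congr
          (subgroupOfEquivOfLe (inf_le_right : W0 ≤ T')).toEquiv).dvd.trans (card_dvd_of_le inf_le_left))))
      have hle := hB.generated hW0n hW0p (T := (L.subgroupOf T').map f) fun X hXB hX => by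
        obtain ⟨xb, hxb, rfl⟩ := exists_eq_zpowers_of_card_prime hX
        obtain ⟨x, hx, rfl⟩ := hXB (mem_zpowers xb)
        rintro _ ⟨⟨w, hw, rfl⟩, hwc⟩
        refine ⟨w, hcent x hx ?_ ?_, rfl⟩
        · intro hxZ
          rw [show f x = 1 from (QuotientGroup.eq_one_iff x).2 hxZ, zpowers_one_eq_bot, card_bot] at hX
          exact hp.out.ne_one hX.symm
        rw [centralizer_zpowers_eq] at hwc
        have h1 : f (x * w * x⁻¹ * w⁻¹) = 1 := by
          rw [map_mul, map_mul, map_mul, map_inv, map_inv]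
          have h2 := mem_centralizer_singleton_iff.1 hwc
          rw [← h2]
          group
        have h3 : (x : G) * w * (x : G)⁻¹ * (w : G)⁻¹ ∈ Z0 ⊓ W :=
          ⟨(QuotientGroup.eq_one_iff (x * w * x⁻¹ * w⁻¹)).1 h1,
            mul_mem (normalizer_conj_mem (hW hx) hw.1) (Subgroup.inv_mem _ hw.1)⟩
        rw [disjoint_of_coprime (coprime_of_isPGroup (isPGroup_of_card_prime p hZ0c) hWp), mem_bot] at h3
        exact mem_centralizer_singleton_iff.2 (mul_inv_eq_iff_eq_mul.1 (mul_inv_eq_one.1 h3)).symm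
      intro w hw
      obtain ⟨l, hl, hlw⟩ := hle (mem_map_of_mem f (show (⟨w, hw.2⟩ : T') ∈ W0.subgroupOf T' from hw))
      obtain ⟨z, hz, hzw⟩ := (QuotientGroup.mk'_eq_mk' _).1 hlw
      have h4 : (l : G) * z = w := congrArg Subtype.val hzw
      rw [← h4]
      exact mul_mem hl ((inf_le_left.trans hP1L) hz)
    obtain ⟨x, hx, hxZ⟩ : ∃ x ∈ P₁, x ∉ Z0 := by
      by_contra hcon
      push Not at hcon
      have h1 := card_le_of_le (show P₁ ≤ Z0 from hcon)
      rw [hcard, hZ0c] at h1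
      exact absurd h1 (not_le.2 (lt_self_pow₀ hp.out.one_lt (by norm_num)))
    have hcommZ : ∀ a ∈ Z0, ∀ b ∈ zpowers x, a * b = b * a := fun a ha b hb =>
      (mem_centralizer_iff.1 ha.2 b ((zpowers_le.2 hx) hb)).symm
    have hxc : Nat.card (zpowers x) = p := by
      rw [Nat.card_zpowers]
      exact orderOf_eq_prime (hpow x hx) fun e => hxZ (e ▸ one_mem _)
    have hA : Plane p (Z0 ⊔ zpowers x) := by
      refine ⟨CfsgLib.PGroup.elemAb_sup (CfsgLib.PGroup.elemAb_of_card_eq hZ0c)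
        (CfsgLib.PGroup.elemAb_zpowers (hpow x hx)) hcommZ, ?_⟩
      rw [card_sup_of_disjoint (fun y hy => centralizer_le_normalizer _ (mem_centralizer_iff.2 fun z hz =>
        hcommZ z hz y hy)) ((inf_eq_bot_or_le hZ0c).resolve_right fun hle =>
          hxZ ((eq_of_le_card_prime hZ0c hxc hle).ge (mem_zpowers x))), hZ0c, hxc, pow_two]
    refine hA.generated ((sup_le inf_le_left (zpowers_le.2 hx)).trans hW) hWp fun X hXA hX => ?_
    rcases eq_or_ne X Z0 with rfl | hXZ
    · exact hW0L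
    obtain ⟨y, hy, rfl⟩ := exists_eq_zpowers_of_card_prime hX
    rw [centralizer_zpowers_eq]
    refine inf_le_right.trans (hcent y ((sup_le inf_le_left (zpowers_le.2 hx)) (hXA hy)) fun hyZ => hXZ ?_)
    exact eq_of_le_card_prime hX hZ0c (zpowers_le.2 hyZ)
  refine hne (((hH0.le_iff).1 ?_).resolve_left hL.1)
  intro y hy
  obtain ⟨u, hu, n, hn, rfl⟩ :=
    exists_mul_of_pLengthLE (h.plength p hp.out H0 hH0.1) ((sylIn_top T).mono hTH0 le_top) hy
  exact mul_mem (hgen _ ((hP1S.trans hTH0).trans (le_normalizer_opPrime p H0)) (not_dvd_card_opPrime H0) hu)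
    (normalizer_le_of_sigma (hσ hL hTL) ((sylIn_top T).mono hTL le_top) hn.2)

/-- Theorem 12.9. -/
theorem Ten.nonabelian_unique [hp : Fact p.Prime] {P M H : Subgroup G} (hP : IsPGroup p P)
    (hnab : ¬ IsMulCommutative P) (hM : IsCoatom M) (hH : IsCoatom H) (hPM : P ≤ M) (hPH : P ≤ H) :
    H = M := by
  have hσ : ∀ {L : Subgroup G}, IsCoatom L → P ≤ L → p ∈ sigma L := fun hL hPL => by
    by_contra hps
    exact hnab ⟨⟨fun a b => Subtype.ext (h.comm_of_not_sigma hL hps hP hPL _ a.2 _ b.2)⟩⟩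
  have hPc : ¬ IsCyclic P := fun hc => hnab (haveI := hc; IsCyclic.isMulCommutative)
  obtain ⟨S, hS, hPS⟩ := exists_sylIn_ge hP hPM
  obtain ⟨S', hS', hPS'⟩ := exists_sylIn_ge hP hPH
  have hStop := sylIn_top_of_sigma (hσ hM hPM) hS
  have hnabS : ¬ IsMulCommutative S := fun hc => hnab ⟨⟨fun a b => Subtype.ext (by
    have h9 := congrArg Subtype.val (hc.is_comm.comm ⟨_, hPS a.2⟩ ⟨_, hPS b.2⟩)
    exact h9)⟩⟩
  obtain ⟨g, -, hg⟩ := (sylIn_top_of_sigma (hσ hH hPH) hS').exists_conj_eq hStop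
  have hSH : S ≤ MulAut.conj g⁻¹ • H := by
    rw [← conj_inv_smul_smul g S, hg]
    exact conj_smul_mono _ hS'.1
  have he := h.sylow_unique hStop hnabS hM (isCoatom_conj hH) hS.1 hSH
  have hHM : H = MulAut.conj g • M := by rw [← he, conj_smul_inv_smul]
  rw [hHM, conj_smul_self_of_mem_normalizer
    (le_normalizer (h.mem_of_noncyclic hM (hσ hM hPM) hP hPc hPM (hHM ▸ hPH)))]

/-- Statement S1422. -/
theorem Ten.s1422 (p : ℕ) [Fact p.Prime] (P : Subgroup G) (hP : IsPGroup p P)
    (hPna : ¬ IsMulCommutative P) : InUniqueMaximal P := by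
  obtain ⟨M, hM, hPM⟩ := (eq_top_or_exists_le_coatom P).resolve_left (h.ne_top_of_isPGroup hP)
  exact ⟨M, ⟨hM, hPM⟩, fun H hH => h.nonabelian_unique hP hPna hM hH.1 hPM hH.2⟩

end CfsgLib.OddLocal.BG
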