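import Cfsg.Agent.Lib.OddLocal.BG12e

/-!
Bender-Glauberman 12.10: centralisers of elements of order `p` in the derived subgroup of the sigma core.
-/

set_option autoImplicit false
set_option linter.unusedSectionVars false

namespace CfsgLib.OddLocal.BG

open Cfsg Subgroup CfsgLib.Solvable
open scoped Pointwise commutatorElement

variable {G : Type*} [Group G] [Finite G] {p : ℕ}

/-- In a `p`-group of rank at least three, an element of order `p` of the derived subgroup centralises an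
elementary abelian subgroup of order at least `p ^ 3`. -/
theorem exists_rank_three_centralizing {R : Type*} [Group R] [Finite R] [hp : Fact p.Prime]
    (hR : IsPGroup p R) (hrk : ¬ PRankLE p 2 R) {x : R} (hx : x ∈ commutator R) (hxp : x ^ p = 1) :
    ∃ B : Subgroup R, IsElementaryAbelian p B ∧ p ^ 3 ≤ Nat.card B ∧
      B ≤ centralizer ({x} : Set R) := by
  by_contra hcon
  have hsmall : ∀ B : Subgroup R, IsElementaryAbelian p B → B ≤ centralizer ({x} : Set R) →
      Nat.card B ≤ p ^ 2 := fun B hB hBx => by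
    obtain ⟨i, hi⟩ := CfsgLib.PGroup.elemAb_card hB
    by_contra hlt
    refine hcon ⟨B, hB, ?_, hBx⟩
    rw [hi] at hlt ⊢
    exact Nat.pow_le_pow_right hp.out.pos ((Nat.pow_lt_pow_iff_right hp.out.one_lt).1 (not_le.1 hlt))
  obtain ⟨U, hUn, hU, hUc⟩ := CfsgLib.RankGraph.exists_normal_sq hR hrk
  have hUp : Plane p U := ⟨hU, hUc⟩
  obtain ⟨E, hE, hEc⟩ := CfsgLib.Cores.not_pRankLE_two_iff.1 hrk
  set Z := U ⊓ center R with hZ
  have hUnorm : ∀ g : R, g ∈ normalizer (U : Set R) := fun g =>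
    (normalizer_eq_top_iff.2 hUn).ge (mem_top g)
  have hcommU : ∀ k : R, ∀ u ∈ U, k * u * k⁻¹ * u⁻¹ ∈ Z := by
    intro k u hu
    obtain ⟨i, hi, he⟩ := (Nat.dvd_prime_pow hp.out).1 (hUc ▸ card_dvd_of_le (inf_le_left : Z ≤ U))
    interval_cases i
    · exfalso
      haveI := hR.isNilpotent
      exact inf_center_ne_bot_of_isNilpotent (N := U) hUp.ne_bot (eq_bot_of_card_eq _ (by simpa using he))
    · exact plane_commutator_mem (p := p) (S := (⊤ : Subgroup R)) (hR.to_subgroup ⊤) hUp inf_le_left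
        (by simpa using he) (mem_top k) (hUnorm k)
        (mem_centralizer_iff.2 fun z hz => (mem_center_iff.1 hz.2 k).symm) hu
    · have h2 : U ≤ center R :=
        (eq_of_le_of_card_ge (inf_le_left : Z ≤ U) (by rw [hUc, he])).ge.trans inf_le_right
      rw [mem_center_iff.1 (h2 hu) k, mul_inv_cancel_right, mul_inv_cancel]
      exact one_mem _
  have hder : ∀ u ∈ U, commutator R ≤ centralizer ({u} : Set R) := by
    intro u hu
    rw [commutator_def, commutator_le]
    intro k _ l _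
    obtain ⟨a, ha⟩ : ∃ a, a = k * u * k⁻¹ * u⁻¹ := ⟨_, rfl⟩
    obtain ⟨b, hb⟩ : ∃ b, b = l * u * l⁻¹ * u⁻¹ := ⟨_, rfl⟩
    have hac := mem_center_iff.1 (ha ▸ hcommU k u hu : a ∈ Z).2
    have hbc := mem_center_iff.1 (hb ▸ hcommU l u hu : b ∈ Z).2
    have h1 : k * u * k⁻¹ = a * u := by rw [ha]; group
    have h2 : l * u * l⁻¹ = b * u := by rw [hb]; group
    have h3 : (k * l) * u * (k * l)⁻¹ = b * a * u := by
      calc (k * l) * u * (k * l)⁻¹ = k * (l * u * l⁻¹) * k⁻¹ := by group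
        _ = (k * b) * u * k⁻¹ := by rw [h2]; group
        _ = (b * k) * u * k⁻¹ := by rw [hbc k]
        _ = b * (k * u * k⁻¹) := by group
        _ = _ := by rw [h1, mul_assoc]
    have h4 : (l * k) * u * (l * k)⁻¹ = b * a * u := by
      calc (l * k) * u * (l * k)⁻¹ = l * (k * u * k⁻¹) * l⁻¹ := by group
        _ = (l * a) * u * l⁻¹ := by rw [h1]; group
        _ = (a * l) * u * l⁻¹ := by rw [hac l]
        _ = a * (l * u * l⁻¹) := by group
        _ = a * b * u := by rw [h2, mul_assoc]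
        _ = b * a * u := by rw [hac b]
    have hw : ⁅k, l⁆ * ((l * k) * u * (l * k)⁻¹) * ⁅k, l⁆⁻¹ = (k * l) * u * (k * l)⁻¹ := by
      simp only [commutatorElement_def]; group
    rw [h3, h4] at hw
    have hcc : ⁅k, l⁆ * (b * a) = b * a * ⁅k, l⁆ := by
      rw [← mul_assoc, hbc, mul_assoc, hac, ← mul_assoc]
    refine mem_centralizer_singleton_iff.2 (mul_inv_eq_iff_eq_mul.1 (mul_left_cancel (a := b * a) ?_))
    calc b * a * (⁅k, l⁆ * u * ⁅k, l⁆⁻¹) = ⁅k, l⁆ * (b * a * u) * ⁅k, l⁆⁻¹ := by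
          rw [← mul_assoc, ← mul_assoc, ← hcc]; group
      _ = b * a * u := hw
  have hxU : U ≤ centralizer ({x} : Set R) := fun u hu =>
    mem_centralizer_singleton_iff.2 (mem_centralizer_singleton_iff.1 (hder u hu hx)).symm
  have hxmem : x ∈ U := by
    have hV := CfsgLib.PGroup.elemAb_sup hU (CfsgLib.PGroup.elemAb_zpowers hxp) fun a ha b hb => by
      obtain ⟨i, rfl⟩ := mem_zpowers_iff.1 hb
      exact (Commute.zpow_right (mem_centralizer_singleton_iff.1 (hxU ha)) i).eq
    have hVx : U ⊔ zpowers x ≤ centralizer ({x} : Set R) :=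
      sup_le hxU (zpowers_le.2 (mem_centralizer_singleton_iff.2 rfl))
    have he : U = U ⊔ zpowers x :=
      eq_of_le_of_card_ge le_sup_left (by rw [hUc]; exact hsmall _ hV hVx)
    exact he.ge (mem_sup_right (mem_zpowers x))
  have hCU : centralizer (U : Set R) ≤ centralizer ({x} : Set R) :=
    centralizer_le (Set.singleton_subset_iff.2 hxmem)
  have h23 : p ^ 2 < p ^ 3 := Nat.pow_lt_pow_right hp.out.one_lt (by norm_num)
  have hEU : ¬ E ≤ centralizer (U : Set R) := fun hle =>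
    absurd (hEc.trans (hsmall E hE (hle.trans hCU))) (not_le.2 h23)
  obtain ⟨u, huU, hu⟩ : ∃ u ∈ U, ¬ E ≤ centralizer ({u} : Set R) := by
    by_contra hc
    push Not at hc
    exact hEU fun e he => mem_centralizer_iff.2 fun u hu =>
      (mem_centralizer_singleton_iff.1 (hc u hu he)).symm
  have hZc : Nat.card Z = p := by
    obtain ⟨i, hi, he⟩ := (Nat.dvd_prime_pow hp.out).1 (hUc ▸ card_dvd_of_le (inf_le_left : Z ≤ U))
    interval_cases i
    · exfalso
      haveI := hR.isNilpotent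
      exact inf_center_ne_bot_of_isNilpotent (N := U) hUp.ne_bot (eq_bot_of_card_eq _ (by simpa using he))
    · rw [he, pow_one]
    · exact absurd (fun e (_ : e ∈ E) => mem_centralizer_singleton_iff.2 (mem_center_iff.1
        ((eq_of_le_of_card_ge (inf_le_left : Z ≤ U) (by rw [hUc, he])).ge huU).2 e)) hu
  have huZ : u ∉ Z := fun huZ => hu fun e _ =>
    mem_centralizer_singleton_iff.2 (mem_center_iff.1 huZ.2 e)
  have hgen : U = Z ⊔ zpowers u := (hUp.sup_eq inf_le_left (zpowers_le.2 huU) hZc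
    (hUp.card_zpowers huU fun e => huZ (e.symm ▸ one_mem Z)) fun e => huZ (e.ge (mem_zpowers u))).symm
  set F := E ⊓ centralizer ({u} : Set R) with hF
  have hFU : F ≤ centralizer (U : Set R) := by
    refine le_centralizer_iff.1 (hgen.le.trans (sup_le (fun z hz => mem_centralizer_iff.2 fun f _ =>
      mem_center_iff.1 hz.2 f) (zpowers_le.2 (mem_centralizer_iff.2 fun f hf =>
        mem_centralizer_singleton_iff.1 hf.2))))
  have hFc := CfsgLib.PGroup.card_inf_centralizer_mul (inf_le_right : Z ≤ center R) hZc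
    (K := E) (x := u) (fun k _ => by rw [commutatorElement_def]; exact hcommU k u huU) hu
  have hF2 : p ^ 2 ≤ Nat.card F :=
    Nat.le_of_mul_le_mul_right (by rw [hFc, ← pow_succ]; exact hEc) hp.out.pos
  have hFel : IsElementaryAbelian p F := CfsgLib.PGroup.elemAb_mono hE inf_le_left
  have hsup := CfsgLib.PGroup.elemAb_sup hFel hU fun a ha b hb =>
    (mem_centralizer_iff.1 (hFU ha) b hb).symm
  have hle := hsmall _ hsup (sup_le (hFU.trans hCU) hxU)
  have hUF : U = F := by
    rw [eq_of_le_of_card_ge (le_sup_right : U ≤ F ⊔ U) (by rw [hUc]; exact hle)]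
    exact (eq_of_le_of_card_ge (le_sup_left : F ≤ F ⊔ U) (hle.trans hF2)).symm
  exact hEU fun e he => mem_centralizer_iff.2 fun y hy =>
    CfsgLib.PGroup.elemAb_comm hE (hUF.le.trans inf_le_left hy) he

theorem commutator_sup_le {K P : Subgroup G} (hn : P ≤ normalizer (K : Set G)) :
    ⁅K ⊔ P, K ⊔ P⁆ ≤ K ⊔ ⁅P, P⁆ := by
  set N := K ⊔ ⁅P, P⁆ with hN
  have hKn : K ⊔ P ≤ normalizer (K : Set G) := sup_le le_normalizer hn
  have hNn : K ⊔ P ≤ normalizer (N : Set G) := by
    refine sup_le (le_sup_left.trans le_normalizer) fun e he => mem_normalizer_iff_conj_smul.2 ?_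
    rw [smul_sup, conj_smul_self_of_mem_normalizer (hn he),
      conj_smul_self_of_mem_normalizer (le_normalizer_derived P he)]
  have hs : ∀ s ∈ K, ∀ m ∈ K ⊔ P, ⁅s, m⁆ ∈ N ∧ ⁅m, s⁆ ∈ N := fun s hs m hm => by
    have h1 : ⁅s, m⁆ ∈ K := commutator_le_of_le_normalizer hKn (commutator_mem_commutator hs hm)
    exact ⟨mem_sup_left h1, commutatorElement_inv s m ▸ inv_mem (mem_sup_left h1)⟩
  rw [commutator_le]
  intro x hx y hy
  obtain ⟨s, hs1, e, he, rfl⟩ := exists_mul_of_mem_sup hn hx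
  obtain ⟨s', hs', e', he', rfl⟩ := exists_mul_of_mem_sup hn hy
  rw [show ⁅s * e, s' * e'⁆ = (s * (⁅e, s'⁆ * (s' * ⁅e, e'⁆ * s'⁻¹)) * s⁻¹) * ⁅s, s' * e'⁆ by
    simp only [commutatorElement_def]; group]
  exact mul_mem (normalizer_conj_mem (hNn (mem_sup_left hs1)) (mul_mem (hs s' hs' e (mem_sup_right he)).2
    (normalizer_conj_mem (hNn (mem_sup_left hs')) (mem_sup_right (commutator_mem_commutator he he')))))
    (hs s hs1 _ hy).1

variable (h : Ten G)
include h

/-- Lemma 12.10. -/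
theorem Ten.s1423 (M : Subgroup G) (hM : IsCoatom M) (p : ℕ) [Fact p.Prime] (hps : p ∈ sigma M)
    (X : Subgroup G) (hXM : X ≤ M) (hX : Nat.card X = p) (P : Sylow p ↥(sigmaCore M))
    (hcase : p ∈ beta M ∨ X ≤ ⁅sigmaCore M, sigmaCore M⁆) :
    (centralizer (X : Set G) ≤ M ∧ ∀ L : Subgroup G, IsCoatom L → centralizer (X : Set G) ≤ L → L = M) ∧
      InUniqueMaximal ((P : Subgroup ↥(sigmaCore M)).map (sigmaCore M).subtype) ∧
      (P : Subgroup ↥(sigmaCore M)).map (sigmaCore M).subtype ≤ M := by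
  have hp := (Fact.out : p.Prime)
  set S := (P : Subgroup ↥(sigmaCore M)).map (sigmaCore M).subtype with hS'
  have hSσ : SylIn p S (sigmaCore M) := sylIn_map P
  have hSM := h.sylIn_of_sigmaCore hM hps hSσ
  have hSG := sylIn_top_of_sigma hps hSM
  -- enough: a witness for a conjugate of `X`
  suffices key : (∀ L : Subgroup G, IsCoatom L → S ≤ L → L = M) ∧ ∃ m ∈ M, ∃ U : Subgroup G,
      U ≤ centralizer ((MulAut.conj m • X : Subgroup G) : Set G) ∧
        ∀ L : Subgroup G, IsCoatom L → U ≤ L → L = M by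
    obtain ⟨hSu, m, hm, U, hUC, hUu⟩ := key
    have hmM := conj_smul_self_of_mem_normalizer (le_normalizer (H := M) hm)
    have hXp := isPGroup_of_card_prime p hX
    obtain ⟨L, hL, hCL⟩ := h.exists_max_centralizer hXp (ne_bot_of_card_prime hX)
    have hu : ∀ L : Subgroup G, IsCoatom L → centralizer (X : Set G) ≤ L → L = M := fun L hL hCL => by
      have h1 := hUu _ (isCoatom_conj (g := m) hL) (hUC.trans ((conj_centralizer m X).ge.trans (conj_smul_mono m hCL)))
      rw [← conj_inv_smul_smul m L, h1, conj_smul_self_of_mem_normalizer (le_normalizer (inv_mem hm))]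
    exact ⟨⟨hu L hL hCL ▸ hCL, hu⟩, ⟨M, ⟨hM, hSM.1⟩, fun L hL => hSu L hL.1 hL.2⟩, hSM.1⟩
  have hrank : ∀ B : Subgroup G, IsElementaryAbelian p B → p ^ 3 ≤ Nat.card B → B ≤ M →
      ∀ L : Subgroup G, IsCoatom L → B ≤ L → L = M :=
    fun B hB h3 hBM L hL hBL => h.eq_of_rank_three hB h3 le_rfl hM hBM hL hBL
  by_cases hβ : p ∈ beta M
  · obtain ⟨B, hBM, hB, h3⟩ := exists_rank_three hβ.1
    obtain ⟨m₀, hm₀, hle⟩ := hSM.exists_conj_le (CfsgLib.PGroup.elemAb_isPGroup hB) hBM
    have h3' : p ^ 3 ≤ Nat.card ↥(MulAut.conj m₀ • B : Subgroup G) := by rw [card_conj_smul]; exact h3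
    have hSu : ∀ L : Subgroup G, IsCoatom L → S ≤ L → L = M := fun L hL hSL =>
      hrank _ (isElementaryAbelian_conj hB m₀) h3' (hle.trans hSM.1) L hL (hle.trans hSL)
    obtain ⟨m, hm, hmX⟩ := hSM.exists_conj_le (isPGroup_of_card_prime p hX) hXM
    refine ⟨hSu, m, hm, ?_⟩
    set Y := MulAut.conj m • X with hY
    have hYc : Nat.card Y = p := by rw [hY, card_conj_smul, hX]
    by_cases hYcen : S ≤ centralizer (Y : Set G)
    · exact ⟨S, hYcen, hSu⟩
    obtain ⟨Z, hZ, hZc⟩ := exists_card_prime_le (dvd_card_of_ne_bot (hSM.2.1.to_le inf_le_left)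
      (inf_centralizer_self_ne_bot hSM.2.1 fun e => ne_bot_of_card_prime hYc (le_bot_iff.1 (e ▸ hmX))))
    have hcomm : ∀ a ∈ Z, ∀ b ∈ Y, a * b = b * a := fun a ha b hb =>
      (mem_centralizer_iff.1 (hZ ha).2 b (hmX hb)).symm
    have hd : Z ⊓ Y = ⊥ := (inf_eq_bot_or_le hZc).resolve_right fun hle =>
      hYcen (le_centralizer_iff.1 ((eq_of_le_card_prime hZc hYc hle).ge.trans (hZ.trans inf_le_right)))
    have hA : Plane p (Z ⊔ Y) := by
      refine ⟨CfsgLib.PGroup.elemAb_sup (CfsgLib.PGroup.elemAb_of_card_eq hZc)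
        (CfsgLib.PGroup.elemAb_of_card_eq hYc) hcomm, ?_⟩
      rw [card_sup_of_disjoint (fun y hy => centralizer_le_normalizer _ (mem_centralizer_iff.2 fun z hz =>
        hcomm z hz y hy)) hd, hZc, hYc, pow_two]
    obtain ⟨T, hT⟩ := hSG.exists_sylow
    obtain ⟨B', hB'T, hB', hlt⟩ :=
      hβ.2.2.2 T (Z ⊔ Y) (hT.symm ▸ sup_le (hZ.trans inf_le_left) hmX) hA.1 hA.2
    rw [hT] at hB'T
    refine ⟨B', fun b hb => mem_centralizer_iff.2 fun y hy =>
      CfsgLib.PGroup.elemAb_comm hB' (hlt.le (mem_sup_right hy)) hb, hrank B' hB' ?_ (hB'T.trans hSM.1)⟩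
    obtain ⟨i, hi⟩ := CfsgLib.PGroup.elemAb_card hB'
    rw [hi]
    refine Nat.pow_le_pow_right hp.pos ((Nat.pow_lt_pow_iff_right hp.one_lt).1 ?_)
    rw [← hi, ← hA.2]
    exact lt_of_le_of_ne (card_le_of_le hlt.le) fun e => hlt.ne (eq_of_le_of_card_ge hlt.le e.ge)
  have hXd := hcase.resolve_left hβ
  obtain ⟨-, -, -, -, hb⟩ := h.betaHall M hM
  obtain ⟨-, ⟨P0, N, hNn, hNc⟩, -⟩ := hb p hp (mem_sigma_iff.1 hps).2.1 hβ
  set K := N.map (sigmaCore M).subtype with hK
  set Q := (P0 : Subgroup ↥(sigmaCore M)).map (sigmaCore M).subtype with hQ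
  have hQs : SylIn p Q (sigmaCore M) := sylIn_map P0
  obtain ⟨s, hs, hsS⟩ := hSσ.exists_conj_eq hQs
  have hQK : sigmaCore M ≤ normalizer (K : Set G) := by
    intro g hg
    refine mem_normalizer_of_conj_mem ?_
    rintro _ ⟨y, hy, rfl⟩
    exact ⟨_, hNn.conj_mem y hy ⟨g, hg⟩, rfl⟩
  have hSn : S ≤ normalizer (K : Set G) := hSσ.1.trans hQK
  have hKp : ¬ p ∣ Nat.card K := by
    rw [hK, card_map_of_injective (sigmaCore M).subtype_injective, ← hNc.index_eq_card]
    exact P0.not_dvd_index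
  have hKM : K ≤ M := (map_subtype_le _).trans (sigmaCore_le M)
  have hcov : sigmaCore M ≤ K ⊔ S := by
    have h1 : sigmaCore M ≤ K ⊔ Q := by
      intro g hg
      obtain ⟨⟨a, b⟩, hab⟩ := hNc.2 (⟨g, hg⟩ : ↥(sigmaCore M))
      rw [← show ((a.1 : G) * (b.1 : G)) = g from congrArg Subtype.val hab]
      exact mul_mem_sup (mem_map_of_mem _ a.2) (mem_map_of_mem _ b.2)
    have h2 := conj_smul_mono s h1
    rw [smul_sup, conj_smul_self_of_mem_normalizer (hQK hs), hsS,
      conj_smul_self_of_mem_normalizer (le_normalizer hs)] at h2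
    exact h2
  set D := K ⊔ ⁅S, S⁆ with hD
  have hXD : X ≤ D := hXd.trans ((commutator_mono hcov hcov).trans (commutator_sup_le hSn))
  have hS'D : SylIn p ⁅S, S⁆ D := by
    refine ⟨le_sup_right, hSM.2.1.to_le (commutator_le_self S), fun hd => hKp ?_⟩
    rw [hD, CfsgLib.PGroup.relIndex_normalizing_sup ((commutator_le_self S).trans hSn)] at hd
    exact hd.trans ((⁅S, S⁆.subgroupOf K).index_dvd_card)
  obtain ⟨m, hm, hmX⟩ := hS'D.exists_conj_le (isPGroup_of_card_prime p hX) hXD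
  have hmM : m ∈ M := (sup_le hKM ((commutator_le_self S).trans hSM.1)) hm
  set Y := MulAut.conj m • X with hY
  have hYc : Nat.card Y = p := by rw [hY, card_conj_smul, hX]
  have hYS : Y ≤ S := hmX.trans (commutator_le_self S)
  have hnab : ¬ IsMulCommutative S := fun hc => ne_bot_of_card_prime hYc (le_bot_iff.1 (hmX.trans (by
    rw [commutator_le]
    intro a ha b hb
    rw [mem_bot, commutatorElement_eq_one_iff_mul_comm]
    exact congrArg Subtype.val (hc.is_comm.comm ⟨a, ha⟩ ⟨b, hb⟩))))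
  have hSu : ∀ L : Subgroup G, IsCoatom L → S ≤ L → L = M :=
    fun L hL hSL => h.nonabelian_unique hSM.2.1 hnab hM hL hSM.1 hSL
  refine ⟨hSu, m, hmM, ?_⟩
  obtain ⟨T, hT⟩ := hSG.exists_sylow
  by_cases hr : PRankLE p 2 S
  · -- then `Y` is central
    refine ⟨S, ?_, hSu⟩
    rw [← hT] at hr hnab ⊢
    obtain ⟨P₁, P₂, hsup, hcom, hnab1, hcard, -, hcyc, -⟩ := (h.sylow_rank_two p hp T hr).resolve_left hnab
    refine le_centralizer_iff.1 (hmX.trans ?_)
    rw [← hT, ← hsup]
    have hcen : centralizer ((P₁ ⊔ P₂ : Subgroup G) : Set G) =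
        centralizer (P₁ : Set G) ⊓ centralizer (P₂ : Set G) := by
      refine le_antisymm (le_inf (centralizer_le (SetLike.coe_subset_coe.2 le_sup_left))
        (centralizer_le (SetLike.coe_subset_coe.2 le_sup_right))) fun g hg => ?_
      refine mem_centralizer_iff.2 fun y hy => mem_centralizer_singleton_iff.1 ((sup_le
        (fun a ha => mem_centralizer_singleton_iff.2 (mem_centralizer_iff.1 hg.1 a ha))
        (fun a ha => mem_centralizer_singleton_iff.2 (mem_centralizer_iff.1 hg.2 a ha)) :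
          P₁ ⊔ P₂ ≤ centralizer ({g} : Set G)) hy)
    have h2c : P₂ ≤ centralizer (P₁ : Set G) := fun b hb => mem_centralizer_iff.2 fun a ha => hcom a ha b hb
    have h2n : P₂ ≤ normalizer (P₁ : Set G) := h2c.trans (centralizer_le_normalizer _)
    rw [commutator_le]
    intro x hx y hy
    obtain ⟨a, ha, b, hb, rfl⟩ := exists_mul_of_mem_sup h2n hx
    obtain ⟨a', ha', b', hb', rfl⟩ := exists_mul_of_mem_sup h2n hy
    haveI := hcyc
    have hbb : Commute b b' := congrArg Subtype.val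
      ((IsCyclic.isMulCommutative (α := P₂)).is_comm.comm ⟨b, hb⟩ ⟨b', hb'⟩)
    have e1 : Commute b a' := (mem_centralizer_iff.1 (h2c hb) a' ha').symm
    have e2 : Commute b (a' * b') := e1.mul_right hbb
    have e3 : Commute a b' := mem_centralizer_iff.1 (h2c hb') a ha
    have e : ⁅a * b, a' * b'⁆ = ⁅a, a'⁆ := by
      calc ⁅a * b, a' * b'⁆ = a * (b * (a' * b') * b⁻¹) * a⁻¹ * b'⁻¹ * a'⁻¹ := by
            simp only [commutatorElement_def]; group
        _ = a * a' * (b' * a⁻¹ * b'⁻¹) * a'⁻¹ := by rw [e2.eq, mul_inv_cancel_right]; group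
        _ = ⁅a, a'⁆ := by
            rw [(e3.inv_left.symm : Commute b' a⁻¹).eq, mul_inv_cancel_right, commutatorElement_def]
    rw [e, hcen]
    have hZcard := centre_card_of_nonabelian_cube hcard hnab1
    set C1 := P₁ ⊓ centralizer (P₁ : Set G) with hC1
    have hC1n : (C1.subgroupOf P₁).Normal := normal_subgroupOf_of_le_normalizer
      (le_normalizer.trans (normalizer_le_normalizer_centre P₁))
    have hq : Nat.card (P₁ ⧸ C1.subgroupOf P₁) = p ^ 2 := by
      refine Nat.eq_of_mul_eq_mul_right hp.pos ?_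
      rw [← pow_succ, ← hcard]
      conv_lhs => rw [← hZcard, ← Nat.card_congr (subgroupOfEquivOfLe (inf_le_left : C1 ≤ P₁)).toEquiv,
        ← Subgroup.card_eq_card_quotient_mul_card_subgroup]
    have h7 : ⁅a, a'⁆ ∈ C1 := by
      have h8 : (QuotientGroup.mk' (C1.subgroupOf P₁)) ⁅(⟨a, ha⟩ : P₁), ⟨a', ha'⟩⁆ = 1 := by
        rw [map_commutatorElement, commutatorElement_eq_one_iff_mul_comm]
        exact IsPGroup.commutative_of_card_eq_prime_sq hq _ _
      have h9 := (QuotientGroup.eq_one_iff (N := C1.subgroupOf P₁) _).1 h8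
      exact h9
    exact ⟨h7.2, mem_centralizer_iff.2 fun c hc =>
      (mem_centralizer_iff.1 (h2c hc) _ h7.1).symm⟩
  obtain ⟨y, hy, hye⟩ := exists_eq_zpowers_of_card_prime hYc
  have hyp : y ^ p = 1 := (CfsgLib.PGroup.elemAb_of_card_eq hYc).2 y hy
  obtain ⟨B, hB, h3, hBc⟩ := exists_rank_three_centralizing hSM.2.1 hr (x := ⟨y, hYS hy⟩) (by
      obtain ⟨z, hz, hze⟩ := (map_subtype_commutator S).ge (hmX hy)
      rwa [show (⟨y, hYS hy⟩ : S) = z from Subtype.ext hze.symm]) (Subtype.ext hyp)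
  refine ⟨B.map S.subtype, ?_, hrank _ (CfsgLib.PGroup.elemAb_map hB S.subtype)
    (by rwa [card_map_of_injective S.subtype_injective]) ((map_subtype_le B).trans hSM.1)⟩
  show B.map S.subtype ≤ centralizer (Y : Set G)
  rw [hye, centralizer_zpowers_eq]
  rintro _ ⟨b, hb, rfl⟩
  exact mem_centralizer_singleton_iff.2 (congrArg Subtype.val (mem_centralizer_singleton_iff.1 (hBc hb)))

end CfsgLib.OddLocal.BG
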