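import Cfsg.Agent.Lib.OddLocal.BG12f
import Cfsg.Agent.Lib.Solvable.MinimalNormal
import Cfsg.Agent.Lib.Solvable.Hall

/-!
Bender-Glauberman 12.11 and 12.12: the maximal subgroups containing the normaliser of a
`sigma`-subgroup, and conjugation of `sigma`-subgroups into the sigma core.
-/

set_option autoImplicit false
set_option linter.unusedSectionVars false

namespace CfsgLib.OddLocal.BG

open Cfsg Subgroup CfsgLib.Solvable
open scoped Pointwise commutatorElement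

variable {G : Type*} [Group G] [Finite G] {p q : ℕ}

/-- An element normalising a cyclic subgroup normalises each of its subgroups. -/
theorem mem_normalizer_of_cyclic {S X : Subgroup G} (hS : IsCyclic S) (hXS : X ≤ S) {g : G}
    (hg : g ∈ normalizer (S : Set G)) : g ∈ normalizer (X : Set G) := by
  obtain ⟨m, hm⟩ := MonoidHom.map_cyclic (S.normalizerMonoidHom ⟨g, hg⟩).toMonoidHom
  refine mem_normalizer_of_conj_mem fun x hx => ?_
  have h1 : g * x * g⁻¹ = x ^ m := by simpa using congrArg Subtype.val (hm ⟨x, hXS hx⟩)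
  rw [h1]
  exact zpow_mem hx m

/-- Hall subgroups of solvable groups dominate. -/
theorem exists_conj_le_piHallOf {π : Set ℕ} {H L X : Subgroup G} (hL : Group.IsSolvable L)
    (hH : IsPiHallOf π H L) (hX : X ≤ L) (hXπ : ∀ r : ℕ, r.Prime → r ∣ Nat.card X → r ∈ π) :
    ∃ g ∈ L, MulAut.conj g • X ≤ H := by
  haveI := hL
  have hcop : ∀ {n : ℕ}, (∀ r : ℕ, r.Prime → r ∣ n → r ∈ π) → n.Coprime (H.relIndex L) := fun hn =>
    Nat.coprime_of_dvd fun r hr h1 h2 => hH.2.2 r hr (hn r hr h1) h2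
  obtain ⟨g, hg⟩ := CfsgLib.Solvable.exists_conj_le_of_coprime_index (G := L) (H := H.subgroupOf L)
    (K := X.subgroupOf L)
    (by rw [Nat.card_congr (subgroupOfEquivOfLe hH.1).toEquiv]; exact hcop hH.2.1)
    (by rw [Nat.card_congr (subgroupOfEquivOfLe hX).toEquiv]; exact hcop hXπ)
  refine ⟨g, g.2, conj_smul_le_iff.2 fun x hx => ?_⟩
  exact hg ⟨⟨x, hX hx⟩, hx, rfl⟩

/-- If `L = K (M ∩ L)` with `K` normal of order prime to `π`, then `π`-subgroups of `L` go into `M`. -/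
theorem exists_conj_le_of_cover {π : Set ℕ} {M L K X : Subgroup G} (hL : Group.IsSolvable L)
    (hn : L ≤ normalizer (K : Set G)) (hcov : L ≤ K ⊔ (M ⊓ L))
    (hK : ∀ r : ℕ, r.Prime → r ∣ Nat.card K → r ∉ π) (hX : X ≤ L)
    (hXπ : ∀ r : ℕ, r.Prime → r ∣ Nat.card X → r ∈ π) : ∃ g ∈ L, MulAut.conj g • X ≤ M := by
  obtain ⟨T, hT⟩ := CfsgLib.PGroup.exists_isPiHallOf π (M ⊓ L)
    (CfsgLib.Solvable.isSolvable_of_le hL inf_le_right)
  have hTL : IsPiHallOf π T L := by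
    refine ⟨hT.1.trans inf_le_right, hT.2.1, fun r hr hrπ hd => ?_⟩
    rw [← relIndex_mul_relIndex T (M ⊓ L) L hT.1 inf_le_right] at hd
    rcases hr.dvd_mul.1 hd with h1 | h1
    · exact hT.2.2 r hr hrπ h1
    · refine hK r hr (h1.trans ?_) hrπ
      have h2 : (M ⊓ L).relIndex (K ⊔ (M ⊓ L)) = (M ⊓ L).relIndex K :=
        CfsgLib.PGroup.relIndex_normalizing_sup (inf_le_right.trans hn)
      have h3 : (M ⊓ L).relIndex L ∣ (M ⊓ L).relIndex (K ⊔ (M ⊓ L)) :=
        ⟨_, (relIndex_mul_relIndex (M ⊓ L) L (K ⊔ (M ⊓ L)) inf_le_right hcov).symm⟩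
      exact h3.trans (h2 ▸ ((M ⊓ L).subgroupOf K).index_dvd_card)
  obtain ⟨g, hg, hle⟩ := exists_conj_le_piHallOf hL hTL hX hXπ
  exact ⟨g, hg, hle.trans (hT.1.trans inf_le_left)⟩

variable (h : Ten G)
include h

/-- 12.11 with all three conclusions. -/
theorem Ten.normalizer_max [hq : Fact q.Prime] {M X L S : Subgroup G} (hM : IsCoatom M) (hqs : q ∈ sigma M)
    (hXq : IsPGroup q X) (hX1 : X ≠ ⊥) (hXM : X ≤ M) (hL : IsCoatom L) (hne : L ≠ M)
    (hNX : normalizer (X : Set G) ≤ L) (hS : SylIn q S (M ⊓ L)) (hXS : X ≤ S) :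
    (∀ g : G, L ≠ MulAut.conj g • M) ∧ normalizer (S : Set G) ≤ M ∧ SylIn q S L := by
  have hSM : S ≤ M := hS.1.trans inf_le_left
  have hNS : normalizer (S : Set G) ≤ M := by
    by_cases hSc : IsCyclic S
    · obtain ⟨T, hT, hST⟩ := exists_sylIn_ge hS.2.1 hSM
      rcases eq_or_ne S T with rfl | hST'
      · exact normalizer_le_of_sigma hqs hT
      · exfalso
        obtain ⟨t, ht, htn, htML⟩ := hS.exists_mem_normalizer_notMem hT.2.1 hST hST'
        exact htML ⟨hT.1 ht, hNX (mem_normalizer_of_cyclic hSc hXS htn)⟩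
    · exact fun g hg => h.mem_of_noncyclic hM hqs hS.2.1 hSc hSM
        ((conj_smul_self_of_mem_normalizer hg).ge.trans (conj_smul_mono g hSM))
  refine ⟨fun g hg => hne ?_, hNS, ?_⟩
  · have hXL : X ≤ L := le_normalizer.trans hNX
    obtain ⟨m, hm, c, hc, he⟩ := (h.fusion M hM q hq.out hqs X hXq hX1 hXM).1 g⁻¹
      ((conj_smul_mono g⁻¹ (hg ▸ hXL : X ≤ MulAut.conj g • M)).trans (conj_inv_smul_smul g M).le)
    have hg' : g = c⁻¹ * m⁻¹ := by rw [← inv_inv g, he, mul_inv_rev]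
    have hLc : L = MulAut.conj c⁻¹ • M := by
      rw [hg, hg', ← conj_smul_conj_smul,
        conj_smul_self_of_mem_normalizer (le_normalizer (inv_mem hm))]
    have hcL : c ∈ L := hNX (centralizer_le_normalizer _ hc)
    calc L = MulAut.conj c • L := (conj_smul_self_of_mem_normalizer (le_normalizer hcL)).symm
      _ = M := by rw [hLc, conj_smul_inv_smul]
  · obtain ⟨T, hT, hST⟩ := exists_sylIn_ge hS.2.1 (hS.1.trans inf_le_right)
    rcases eq_or_ne S T with rfl | hST'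
    · exact hT
    · obtain ⟨t, ht, htn, htML⟩ := hS.exists_mem_normalizer_notMem hT.2.1 hST hST'
      exact absurd ⟨hNS htn, hT.1 ht⟩ htML

/-- Statement S1424. -/
theorem Ten.s1424 (M : Subgroup G) (hM : IsCoatom M) (q : ℕ) [Fact q.Prime] (hq : q ∈ sigma M)
    (X : Subgroup G) (hXq : IsPGroup q X) (hX1 : X ≠ ⊥) (hXM : X ≤ M)
    (Mstar : Subgroup G) (hMs : IsCoatom Mstar) (hne : Mstar ≠ M) (hNX : normalizer (X : Set G) ≤ Mstar)
    (S : Sylow q ↥(M ⊓ Mstar)) (hXS : X ≤ (S : Subgroup ↥(M ⊓ Mstar)).map (M ⊓ Mstar).subtype) :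
    (∀ g : G, Mstar ≠ M.map (MulAut.conj g).toMonoidHom) ∧
      normalizer (((S : Subgroup ↥(M ⊓ Mstar)).map (M ⊓ Mstar).subtype : Subgroup G) : Set G) ≤ M ∧
      ¬ q ∣ ((S : Subgroup ↥(M ⊓ Mstar)).map (M ⊓ Mstar).subtype).relIndex Mstar :=
  have h1 := h.normalizer_max hM hq hXq hX1 hXM hMs hne hNX (sylIn_map S) hXS
  ⟨h1.1, h1.2.1, h1.2.2.2.2⟩

/-- The structure of a maximal subgroup over the normaliser of a `sigma M`-subgroup: the core part has
order prime to `sigma M` and `M` covers the rest. -/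
theorem Ten.cover [hq : Fact q.Prime] {M X L : Subgroup G} (hM : IsCoatom M) (hqs : q ∈ sigma M)
    (hXq : IsPGroup q X) (hX1 : X ≠ ⊥) (hXM : X ≤ M) (hL : IsCoatom L) (hne : L ≠ M)
    (hNX : normalizer (X : Set G) ≤ L) :
    (q ∈ sigma L ∧ L ≤ piCoreOf (beta L) L ⊔ (M ⊓ L) ∧ ∀ r ∈ beta L, r ∉ sigma M) ∨
      (q ∈ tau2 L ∧ L ≤ sigmaCore L ⊔ (M ⊓ L) ∧ ∀ r ∈ sigma L, r ∉ sigma M) := by
  obtain ⟨S, hS, hXS⟩ := exists_sylIn_ge hXq (le_inf hXM (le_normalizer.trans hNX))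
  obtain ⟨hnc, hNS, hSL⟩ := h.normalizer_max hM hqs hXq hX1 hXM hL hne hNX hS hXS
  have hqd : q ∣ Nat.card L :=
    (dvd_card_of_ne_bot hXq hX1).trans (card_dvd_of_le (le_normalizer.trans hNX))
  by_cases hqL : q ∈ sigma L
  · refine Or.inl ⟨hqL, fun y hy => ?_, fun r hr hrs => ?_⟩
    · obtain ⟨u, hu, n, hn, rfl⟩ := exists_mul_of_pLengthLE (h.plength q hq.out L hL.1) hSL hy
      refine mul_mem ?_ (mem_sup_right ⟨hNS hn.2, hn.1⟩)
      set U := opPrime q L
      have hSU : S ≤ normalizer (U : Set G) := hSL.1.trans (le_normalizer_opPrime q L)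
      have hcop : (Nat.card S).Coprime (Nat.card U) := coprime_of_isPGroup hS.2.1 (not_dvd_card_opPrime L)
      have hsol : Group.IsSolvable U :=
        CfsgLib.Solvable.isSolvable_of_le (h.solvable_coatom hL) (opPrime_le q L)
      obtain ⟨x, hx, c, hc, rfl⟩ := exists_commutator_mul_centralizer hSU hcop (Or.inr hsol) hu
      refine mul_mem (mem_sup_left ?_) (mem_sup_right ⟨hNS (centralizer_le_normalizer _ hc.2),
        opPrime_le q L hc.1⟩)
      have hUS : ⁅U, S⁆ ≤ ⁅L, L⁆ := commutator_mono (opPrime_le q L) hSL.1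
      have hle : ⁅⁅U, S⁆, S⁆ ≤ piCoreOf (beta L) L :=
        h.commutator_le_betaCore hL hUS (h.le_derived_of_sigma hL hqL hS.2.1 hSL.1)
          (hcop.coprime_dvd_right (card_dvd_of_le (commutator_le_of_le_normalizer hSU))).symm
      rw [commutator_commutator_self hSU hcop (Or.inr hsol)] at hle
      exact hle hx
    · obtain ⟨g, hg⟩ := h.exists_conj_of_alpha hL hM hr.1 hrs
      exact hnc g⁻¹ (by rw [hg, conj_inv_smul_smul])
  · have hSc : ¬ IsCyclic S := fun hc => hqL (mem_sigma_iff.2 ⟨hq.out, hqd, S, hSL,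
      le_trans (fun g hg => mem_normalizer_of_cyclic hc hXS hg) hNX⟩)
    obtain ⟨A, hAS, hA⟩ := exists_plane_of_not_isCyclic (h.prime_ne_two hq.out hqd) hS.2.1 hSc
    have hAL : A ≤ L := hAS.trans hSL.1
    have hqτ : q ∈ tau2 L := ⟨hq.out, hqL, h.rank_le_two hL hqL, not_pRankLE_one_of_plane hAL hA⟩
    refine Or.inr ⟨hqτ, ?_, fun r hr hrs => ?_⟩
    · obtain ⟨E, hE, hAE⟩ := h.exists_compl_ge_pGroup hL hqL hA.isPGroup hAL
      obtain ⟨hEn, -⟩ := h.tau2_compl hL hE hqL hAE hA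
      have hAM : A ≤ M := hAS.trans (hS.1.trans inf_le_left)
      have hNA : normalizer (A : Set G) ≤ M := fun g hg => h.mem_of_noncyclic hM hqs hA.isPGroup
        hA.not_isCyclic hAM ((conj_smul_self_of_mem_normalizer hg).ge.trans (conj_smul_mono g hAM))
      conv_lhs => rw [← compl_sup hE]
      exact sup_le_sup le_rfl (le_inf (hEn.trans hNA) hE.1)
    · obtain ⟨A0, hx, -⟩ := h.exists_exc hL hqL hAL hA
      obtain ⟨g, hg⟩ := h.exists_conj_of_nilpotent hL hM (hx.nilpotent h) hr hrs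
      exact hnc g⁻¹ (by rw [hg, conj_inv_smul_smul])

/-- Statement S1425 (12.12). -/
theorem Ten.s1425 (M : Subgroup G) (hM : IsCoatom M) (Y : Subgroup G) (hY1 : Y ≠ ⊥)
    (hY : ∀ p : ℕ, p.Prime → p ∣ Nat.card Y → p ∈ sigma M) :
    ∃ g : G, Y.map (MulAut.conj g).toMonoidHom ≤ sigmaCore M := by
  suffices key : ∃ g : G, MulAut.conj g • Y ≤ M by
    obtain ⟨g, hg⟩ := key
    exact ⟨g, h.le_sigmaCore hM hg fun r hr hd => hY r hr (((card_conj_smul g Y) ▸ (hd : r ∣ Nat.card ↥(MulAut.conj g • Y : Subgroup G))))⟩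
  have hYt : Y ≠ ⊤ := fun e => by
    obtain ⟨-, hH⟩ := h.sigmaHall M hM
    refine hM.1 (top_le_iff.1 (le_trans ?_ (sigmaCore_le M)))
    refine relIndex_eq_one.1 (Nat.eq_one_iff_not_exists_prime_dvd.2 fun r hr hd => ?_)
    rw [relIndex_top_right] at hd
    refine hH.2 r hr (hY r hr ?_) hd
    rw [e, Subgroup.card_top]
    exact hd.trans (index_dvd_card _)
  haveI := h.solvable hYt
  haveI : Nontrivial Y := (nontrivial_iff_ne_bot Y).2 hY1
  obtain ⟨N, hNn, hN1, hmin⟩ := CfsgLib.Solvable.exists_minimal_normal (G := Y)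
  obtain ⟨q, hq, hexp⟩ := CfsgLib.Solvable.exists_prime_pow_eq_one_of_minimal_normal N hN1 hmin
    (CfsgLib.Solvable.isSolvable_of_le (K := (⊤ : Subgroup Y))
      (Group.isSolvable_of_surjective (f := (Subgroup.topEquiv (G := Y)).symm.toMonoidHom)
        (Subgroup.topEquiv (G := Y)).symm.surjective) le_top)
  have := Fact.mk hq
  set X := N.map Y.subtype with hXdef
  have hXq : IsPGroup q X := by
    refine IsPGroup.map ?_ _
    exact fun x => ⟨1, by rw [pow_one]; exact Subtype.ext (hexp x x.2)⟩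
  have hX1 : X ≠ ⊥ := fun e => hN1 (by rwa [hXdef, map_eq_bot_iff_of_injective _ Y.subtype_injective] at e)
  have hYX : Y ≤ normalizer (X : Set G) := fun y hy => mem_normalizer_of_conj_mem (by
    rintro _ ⟨n, hn, rfl⟩
    exact ⟨_, hNn.conj_mem n hn ⟨y, hy⟩, rfl⟩)
  have hqs : q ∈ sigma M :=
    hY q hq ((dvd_card_of_ne_bot hXq hX1).trans (card_dvd_of_le (map_subtype_le N)))
  obtain ⟨T, hT⟩ := exists_sylIn q M
  obtain ⟨g, -, hg⟩ := (sylIn_top_of_sigma hqs hT).exists_conj_le hXq (le_top (a := X))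
  set X' := MulAut.conj g • X
  have hY' : MulAut.conj g • Y ≤ normalizer (X' : Set G) := by
    rw [normalizer_conj]
    exact conj_smul_mono g hYX
  have hX'1 : X' ≠ ⊥ := fun e => hX1 (eq_bot_of_card_eq _ (by rw [← card_conj_smul g, show
    MulAut.conj g • X = ⊥ from e, card_bot]))
  by_cases hle : normalizer (X' : Set G) ≤ M
  · exact ⟨g, hY'.trans hle⟩
  obtain ⟨L, hL, hNL⟩ := h.exists_max_normalizer (isPGroup_conj hXq g) hX'1
  have hne : L ≠ M := fun e => hle (e ▸ hNL)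
  have hYπ : ∀ r : ℕ, r.Prime → r ∣ Nat.card ↥(MulAut.conj g • Y : Subgroup G) → r ∈ sigma M :=
    fun r hr hd => hY r hr (by rwa [card_conj_smul] at hd)
  rcases h.cover hM hqs (isPGroup_conj hXq g) hX'1 (hg.trans hT.1) hL hne hNL with ⟨-, hcov, hπ⟩ | ⟨-, hcov, hπ⟩
  · obtain ⟨k, -, hk⟩ := exists_conj_le_of_cover (h.solvable_coatom hL)
      (CfsgLib.OddLocal.le_normalizer_piCoreOf _ L) hcov
      (fun r hr hd => hπ r (CfsgLib.PStab.prime_mem_of_dvd_piCoreOf r hr hd)) (hY'.trans hNL) hYπ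
    exact ⟨k * g, by rwa [← conj_smul_conj_smul]⟩
  · obtain ⟨k, -, hk⟩ := exists_conj_le_of_cover (h.solvable_coatom hL)
      (le_normalizer_sigmaCore L) hcov
      (fun r hr hd => hπ r (sigma_of_dvd_sigmaCore hr hd)) (hY'.trans hNL) hYπ
    exact ⟨k * g, by rwa [← conj_smul_conj_smul]⟩

/-- A `p`-group normalising a `sigma M`-subgroup either goes into `M`, or a maximal subgroup over the
normaliser has `p` in its sigma set. -/
theorem Ten.conj_into [hp : Fact p.Prime] [hq : Fact q.Prime] {M T A : Subgroup G} (hM : IsCoatom M)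
    (hqs : q ∈ sigma M) (hT : IsPGroup q T) (hT1 : T ≠ ⊥) (hTM : T ≤ M)
    (hA : IsPGroup p A) (hAT : A ≤ normalizer (T : Set G)) :
    (∃ g : G, MulAut.conj g • A ≤ M) ∨
      ∃ L : Subgroup G, IsCoatom L ∧ L ≠ M ∧ normalizer (T : Set G) ≤ L ∧ p ∈ sigma L := by
  obtain ⟨L, hL, hNL⟩ := h.exists_max_normalizer hT hT1
  rcases eq_or_ne L M with rfl | hne
  · exact Or.inl ⟨1, by rw [conj_smul_one]; exact hAT.trans hNL⟩
  by_cases hpL : p ∈ sigma L
  · exact Or.inr ⟨L, hL, hne, hNL, hpL⟩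
  refine Or.inl ?_
  rcases h.cover hM hqs hT hT1 hTM hL hne hNL with ⟨-, hcov, -⟩ | ⟨-, hcov, -⟩
  · obtain ⟨k, -, hk⟩ := exists_conj_le_of_cover (π := {p}) (h.solvable_coatom hL)
      (CfsgLib.OddLocal.le_normalizer_piCoreOf _ L) hcov
      (fun r hr hd hrp => h.not_beta hL hpL (Set.mem_singleton_iff.1 hrp ▸
        CfsgLib.PStab.prime_mem_of_dvd_piCoreOf r hr hd))
      (hAT.trans hNL) (fun r hr hd => prime_eq_of_dvd_isPGroup hA hr hd)
    exact ⟨k, hk⟩
  · obtain ⟨k, -, hk⟩ := exists_conj_le_of_cover (π := {p}) (h.solvable_coatom hL)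
      (le_normalizer_sigmaCore L) hcov
      (fun r hr hd hrp => hpL (Set.mem_singleton_iff.1 hrp ▸ sigma_of_dvd_sigmaCore hr hd))
      (hAT.trans hNL) (fun r hr hd => prime_eq_of_dvd_isPGroup hA hr hd)
    exact ⟨k, hk⟩

end CfsgLib.OddLocal.BG
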