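import Cfsg.Agent.Lib.OddLocal.BG12g

/-!
Bender-Glauberman 12.13 / 12.14 (statement S1426): the action of the complement on the sigma core and
the intersections of the sigma core with conjugates of `M`.
-/

set_option autoImplicit false
set_option linter.unusedSectionVars false

namespace CfsgLib.OddLocal.BG

open Cfsg Subgroup CfsgLib.Solvable
open scoped Pointwise commutatorElement

variable {G : Type*} [Group G] [Finite G] {p : ℕ}

variable (h : Ten G)
include h

/-- `[M_sigma, E] = M_sigma`. -/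
theorem Ten.commutator_compl_eq {M E : Subgroup G} (hM : IsCoatom M)
    (hE : IsComplIn E (sigmaCore M) M) : ⁅sigmaCore M, E⁆ = sigmaCore M := by
  set S := sigmaCore M with hSdef
  have hEn : E ≤ normalizer (S : Set G) := hE.1.trans (le_normalizer_sigmaCore M)
  set N := ⁅S, E⁆ with hN
  have hNS : N ≤ S := commutator_le_of_le_normalizer hEn
  set L := N ⊔ ⁅S, S⁆ with hL
  have hLS : L ≤ S := sup_le hNS (commutator_le_self S)
  have hSN : S ≤ normalizer (N : Set G) := le_normalizer_commutator_left S E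
  have hEN : E ≤ normalizer (N : Set G) := le_normalizer_commutator_right hEn
  have hMN : M ≤ normalizer (N : Set G) := by
    conv_lhs => rw [← compl_sup hE]
    exact sup_le hSN hEN
  have hMD : M ≤ normalizer ((⁅S, S⁆ : Subgroup G) : Set G) := fun m hm => by
    refine mem_normalizer_iff_conj_smul.2 ?_
    have h1 : MulAut.conj m • ⁅S, S⁆ = ⁅MulAut.conj m • S, MulAut.conj m • S⁆ :=
      map_commutator S S (MulAut.conj m).toMonoidHom
    rw [h1, conj_smul_self_of_mem_normalizer (le_normalizer_sigmaCore M hm)]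
  have hML : M ≤ normalizer (L : Set G) := fun m hm => mem_normalizer_iff_conj_smul.2 (by
    rw [smul_sup, conj_smul_self_of_mem_normalizer (hMN hm), conj_smul_self_of_mem_normalizer (hMD hm)])
  have hsm : ∀ s ∈ S, ∀ m ∈ M, ⁅s, m⁆ ∈ L := by
    intro s hs m hm
    obtain ⟨e, he, t, ht, rfl⟩ := hE.2.2.2 m hm
    rw [show ⁅s, e * t⁆ = ⁅s, e⁆ * (e * ⁅s, t⁆ * e⁻¹) by simp only [commutatorElement_def]; group]
    exact mul_mem (mem_sup_left (commutator_mem_commutator hs he))
      (normalizer_conj_mem (hML (hE.1 he)) (mem_sup_right (commutator_mem_commutator hs ht)))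
  have hcov : ⁅M, M⁆ ≤ L ⊔ ⁅E, E⁆ := by
    rw [commutator_le]
    intro x hx y hy
    obtain ⟨e, he, s, hs, rfl⟩ := hE.2.2.2 x hx
    obtain ⟨e', he', s', hs', rfl⟩ := hE.2.2.2 y hy
    rw [show ⁅e * s, e' * s'⁆ = (e * ⁅s, e' * s'⁆ * e⁻¹) * (⁅e, e'⁆ * (e' * ⁅s', e⁆⁻¹ * e'⁻¹)) by
      simp only [commutatorElement_def]; group]
    exact mul_mem (mem_sup_left (normalizer_conj_mem (hML (hE.1 he)) (hsm s hs _ hy)))
      (mul_mem (mem_sup_right (commutator_mem_commutator he he'))
        (mem_sup_left (normalizer_conj_mem (hML (hE.1 he')) (inv_mem (hsm s' hs' e (hE.1 he))))))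
  have hSL : S ≤ L := by
    intro x hx
    obtain ⟨l, hl, e, he, rfl⟩ := exists_mul_of_mem_sup
      ((commutator_le_self E).trans (hE.1.trans hML)) (hcov (h.sigma_le_derived M hM hx))
    have h1 : e ∈ E ⊓ S :=
      ⟨commutator_le_self E he, by simpa using mul_mem (inv_mem (hLS hl)) hx⟩
    rw [hE.2.2.1, mem_bot] at h1
    rw [h1, mul_one]
    exact hl
  refine le_antisymm hNS ?_
  by_contra hne
  haveI : (N.subgroupOf S).Normal := normal_subgroupOf_of_le_normalizer hSN
  haveI : Nontrivial (S ⧸ N.subgroupOf S) :=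
    QuotientGroup.nontrivial_iff.2 fun e => hne (subgroupOf_eq_top.1 e)
  haveI : Group.IsSolvable S :=
    CfsgLib.Solvable.isSolvable_of_le (h.solvable_coatom hM) (sigmaCore_le M)
  haveI : Group.IsSolvable (S ⧸ N.subgroupOf S) := inferInstance
  refine (Group.IsSolvable.commutator_lt_top_of_nontrivial (G := S ⧸ N.subgroupOf S)).ne
    (eq_top_iff.2 fun z _ => ?_)
  obtain ⟨⟨x, hx⟩, rfl⟩ := QuotientGroup.mk'_surjective _ z
  obtain ⟨n, hn, c, hc, he⟩ :=
    exists_mul_of_mem_sup ((commutator_le_self S).trans hSN) (hSL hx)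
  obtain ⟨c', hc', hce⟩ := (map_subtype_commutator S).ge hc
  rw [show (⟨x, hx⟩ : S) = ⟨n, hNS hn⟩ * c' from Subtype.ext (show x = n * (c' : G) from he.trans (congrArg (n * ·) hce.symm)), map_mul,
    show QuotientGroup.mk' (N.subgroupOf S) ⟨n, hNS hn⟩ = 1 from (QuotientGroup.eq_one_iff _).2 hn,
    one_mul]
  have := mem_map_of_mem (QuotientGroup.mk' (N.subgroupOf S)) hc'
  rw [_root_.commutator_def, map_commutator,
    map_top_of_surjective _ (QuotientGroup.mk'_surjective _), ← _root_.commutator_def] at this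
  exact this

/-- The fixed points of the complement in the sigma core lie in its derived subgroup. -/
theorem Ten.inf_centralizer_compl_le {M E : Subgroup G} (hM : IsCoatom M)
    (hE : IsComplIn E (sigmaCore M) M) :
    sigmaCore M ⊓ centralizer (E : Set G) ≤ ⁅sigmaCore M, sigmaCore M⁆ := by
  set S := sigmaCore M with hSdef
  set D := ⁅S, S⁆ with hD
  have hMD : M ≤ normalizer (D : Set G) := fun m hm => by
    refine mem_normalizer_iff_conj_smul.2 ?_
    have h1 : MulAut.conj m • D = ⁅MulAut.conj m • S, MulAut.conj m • S⁆ :=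
      map_commutator S S (MulAut.conj m).toMonoidHom
    rw [h1, conj_smul_self_of_mem_normalizer (le_normalizer_sigmaCore M hm)]
  haveI : (D.subgroupOf M).Normal := normal_subgroupOf_of_le_normalizer hMD
  set f := QuotientGroup.mk' (D.subgroupOf M) with hf
  set V := (S.subgroupOf M).map f with hV
  set A := (E.subgroupOf M).map f with hA
  have hSM : S ≤ M := sigmaCore_le M
  haveI : IsMulCommutative V := by
    refine ⟨⟨fun a b => Subtype.ext ?_⟩⟩
    obtain ⟨x, hx, hxe⟩ := a.2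
    obtain ⟨y, hy, hye⟩ := b.2
    show (a : M ⧸ D.subgroupOf M) * b = b * a
    rw [← hxe, ← hye, ← commutatorElement_eq_one_iff_mul_comm, ← map_commutatorElement]
    exact (QuotientGroup.eq_one_iff _).2 (commutator_mem_commutator hx hy)
  have hAV : A ≤ normalizer (V : Set _) := by
    rintro _ ⟨e, he, rfl⟩
    refine mem_normalizer_of_conj_mem ?_
    rintro _ ⟨s, hs, rfl⟩
    exact ⟨e * s * e⁻¹, (normalizer_conj_mem (a := (e : G)) (le_normalizer_sigmaCore M (hE.1 he)) hs :
      (e : G) * (s : G) * (e : G)⁻¹ ∈ S), by simp⟩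
  have hcop : (Nat.card A).Coprime (Nat.card V) := by
    refine Nat.Coprime.coprime_dvd_left ?_ (Nat.Coprime.coprime_dvd_right ?_ (h.coprime_compl hM hE).symm)
    · exact (Subgroup.card_map_dvd _ f).trans (Nat.card_congr (subgroupOfEquivOfLe hE.1).toEquiv).dvd
    · exact (Subgroup.card_map_dvd _ f).trans (Nat.card_congr (subgroupOfEquivOfLe hSM).toEquiv).dvd
  have hfix := inf_centralizer_inf_commutator A V hAV hcop
  have hVA : ⁅V, A⁆ = V := by
    rw [hV, hA, ← map_commutator]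
    congr 1
    refine map_injective M.subtype_injective ?_
    rw [map_commutator, map_subgroupOf_eq_of_le hSM, map_subgroupOf_eq_of_le hE.1]
    exact h.commutator_compl_eq hM hE
  rw [hVA] at hfix
  rintro x ⟨hxS, hxC⟩
  have h1 : f ⟨x, hSM hxS⟩ ∈ (V ⊓ centralizer (A : Set _)) ⊓ V := by
    have hxV : f ⟨x, hSM hxS⟩ ∈ V := mem_map_of_mem f (show (⟨x, hSM hxS⟩ : M) ∈ S.subgroupOf M from hxS)
    refine ⟨⟨hxV, mem_centralizer_iff.2 ?_⟩, hxV⟩
    rintro _ ⟨e, he, rfl⟩
    rw [← map_mul, ← map_mul]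
    exact congrArg f (Subtype.ext (mem_centralizer_iff.1 hxC _ he))
  rw [hfix, mem_bot] at h1
  exact (QuotientGroup.eq_one_iff (N := D.subgroupOf M) _).1 h1

/-- Statement S1426. -/
theorem Ten.s1426 (M : Subgroup G) (hM : IsCoatom M) (E : Subgroup G)
    (hE : IsComplIn E (sigmaCore M) M) :
    sigmaCore M ⊓ centralizer (E : Set G) ≤ ⁅sigmaCore M, sigmaCore M⁆ ∧
      ⁅sigmaCore M, E⁆ = sigmaCore M ∧
      ∀ g : G, g ∉ M → IsCyclic ↥(sigmaCore M ⊓ M.map (MulAut.conj g).toMonoidHom) ∧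
        (∀ p : ℕ, p.Prime → p ∣ Nat.card ↥(sigmaCore M ⊓ M.map (MulAut.conj g).toMonoidHom) →
          p ∉ beta M) ∧
        sigmaCore M ⊓ M.map (MulAut.conj g).toMonoidHom ⊓ ⁅sigmaCore M, sigmaCore M⁆ = ⊥ := by
  refine ⟨h.inf_centralizer_compl_le hM hE, h.commutator_compl_eq hM hE, fun g hg => ?_⟩
  show IsCyclic ↥(sigmaCore M ⊓ MulAut.conj g • M) ∧
    (∀ p : ℕ, p.Prime → p ∣ Nat.card ↥(sigmaCore M ⊓ MulAut.conj g • M) → p ∉ beta M) ∧
    sigmaCore M ⊓ MulAut.conj g • M ⊓ ⁅sigmaCore M, sigmaCore M⁆ = ⊥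
  set D := sigmaCore M ⊓ MulAut.conj g • M with hDdef
  have hDM : D ≤ M := inf_le_left.trans (sigmaCore_le M)
  -- a line whose centraliser is confined to `M` cannot lie in `D`
  have hkey : ∀ (p : ℕ) [Fact p.Prime] (X : Subgroup G), X ≤ D → Nat.card X = p → p ∈ sigma M →
      (p ∈ beta M ∨ X ≤ ⁅sigmaCore M, sigmaCore M⁆) → False := by
    intro p _ X hXD hX hps hcase
    obtain ⟨P⟩ := (inferInstance : Nonempty (Sylow p ↥(sigmaCore M)))
    obtain ⟨⟨hCX, -⟩, -⟩ := h.s1423 M hM p hps X (hXD.trans hDM) hX P hcase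
    obtain ⟨m, hm, c, hc, he⟩ := (h.fusion M hM p Fact.out hps X (isPGroup_of_card_prime p hX)
      (ne_bot_of_card_prime hX) (hXD.trans hDM)).1 g⁻¹
      ((conj_smul_mono g⁻¹ (hXD.trans inf_le_right)).trans (conj_inv_smul_smul g M).le)
    exact hg (inv_mem_iff.1 (he ▸ mul_mem hm (hCX hc)))
  have hσ : ∀ p : ℕ, p.Prime → p ∣ Nat.card D → p ∈ sigma M := fun p hp hd =>
    sigma_of_dvd_sigmaCore hp (hd.trans (card_dvd_of_le inf_le_left))
  have hderiv : D ⊓ ⁅sigmaCore M, sigmaCore M⁆ = ⊥ := by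
    by_contra hne
    obtain ⟨p, hp, hd⟩ := Nat.exists_prime_and_dvd fun e => hne (eq_bot_of_card_eq _ e)
    have := Fact.mk hp
    obtain ⟨X, hX, hXc⟩ := exists_card_prime_le hd
    exact hkey p X (hX.trans inf_le_left) hXc (hσ p hp (hd.trans (card_dvd_of_le inf_le_left)))
      (Or.inr (hX.trans inf_le_right))
  refine ⟨?_, fun p hp hd hb => ?_, hderiv⟩
  · refine isCyclic_of_sylIn_cyclic (isNilpotent_of_comm fun a b => Subtype.ext ?_) fun r hr R hR => ?_
    · have h1 : ⁅(a : G), (b : G)⁆ ∈ D ⊓ ⁅sigmaCore M, sigmaCore M⁆ :=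
        ⟨commutator_le_self D (commutator_mem_commutator a.2 b.2),
          commutator_mem_commutator a.2.1 b.2.1⟩
      rw [hderiv, mem_bot, commutatorElement_eq_one_iff_mul_comm] at h1
      exact h1
    · have := Fact.mk hr
      rcases eq_or_ne R ⊥ with rfl | hR1
      · infer_instance
      by_contra hc
      exact hg (h.mem_of_noncyclic hM (hσ r hr ((dvd_card_of_ne_bot hR.2.1 hR1).trans
        (card_dvd_of_le hR.1))) hR.2.1 hc (hR.1.trans hDM) (hR.1.trans inf_le_right))
  · have := Fact.mk hp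
    obtain ⟨X, hX, hXc⟩ := exists_card_prime_le hd
    exact hkey p X hX hXc (hσ p hp hd) (Or.inl hb)

end CfsgLib.OddLocal.BG
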