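import Cfsg.Agent.Lib.OddLocal.Sec13Fixed

/-!
BG Lemma 13.4, the case `p ∈ β(H)`, and the lemma itself.
-/

set_option autoImplicit false
set_option linter.unusedSectionVars false

open scoped Pointwise

namespace CfsgLib.OddLocal.Sec13

open Cfsg Subgroup
open scoped commutatorElement
open CfsgLib.Solvable (conj_smul_le_iff mem_conj_smul_iff card_conj_smul conj_smul_conj_smul
  conj_smul_mono conj_smul_self_of_mem_normalizer conj_smul_eq_map)

universe u
variable {G : Type u} [Group G] [Finite G] (h : Pre G)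
include h

omit h in
theorem le_centralizer_symm {X Y : Subgroup G} (hXY : X ≤ centralizer (Y : Set G)) :
    Y ≤ centralizer (X : Set G) := le_centralizer_iff.1 hXY

/-- Two elements of order dividing `p` of a cyclic `p`-group: the second lies in the subgroup of order
`p`. -/
theorem Pre.mem_of_cyclic_pow {C P : Subgroup G} {p : ℕ} [hp : Fact p.Prime] (hC : IsCyclic C) (hP : P ≤ C)
    (hPc : Nat.card P = p) {x : G} (hx : x ∈ C) (hxp : x ^ p = 1) : x ∈ P := by
  rcases eq_or_ne x 1 with rfl | hx1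
  · exact one_mem P
  rw [← eq_of_cyclic_card hC (zpowers_le.2 hx) hP (by rw [Nat.card_zpowers, orderOf_eq_prime hxp hx1, hPc])]
  exact mem_zpowers x

/-- If every element of prime order in `C_{M_β}(R)` commutes with `P`, then `Z` centralises `M_β`. -/
theorem Pre.centralizes_betaCore {M H P R Z : Subgroup G} (hM : IsCoatom M) (hH : IsCoatom H)
    (hne : ∀ g : G, H ≠ MulAut.conj g • M) {q r : ℕ} [hq' : Fact q.Prime] [hr' : Fact r.Prime]
    (hqH : q ∈ sigma H) (hr : r ∈ tau1 H) (hrσ : r ∉ sigma M) (hR : Nat.card R = r) (hRM : R ≤ M)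
    (hZq : IsPGroup q Z) (hZM : Z ≤ M) (hZH : Z ≤ H) (hRZ : R ≤ normalizer (Z : Set G))
    (hfree : Z ⊓ centralizer (R : Set G) = ⊥)
    (hCP : centralizer (P : Set G) ≤ H)
    (hfix : ∀ x ∈ betaCore M, (orderOf x).Prime → x ∈ centralizer (R : Set G) →
      x ∈ centralizer (P : Set G)) : Z ≤ centralizer (betaCore M : Set G) := by
  obtain ⟨a, ha1, hao, rfl⟩ := exists_zpowers_of_card hr'.out hR
  have hZσ : Z ≤ sigmaCore H :=
    h.le_sigmaCore hH hZH ((isPi_singleton_of_isPGroup hZq).mono (by rintro x rfl; exact hqH))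
  refine h.centralizes_of_fixed (a := a) (h.isSolvable_le hM (piCoreOf_le _ _)) (by rw [hao]; exact hr'.out)
    (hRZ (mem_zpowers a)) ((sup_le hZM hRM).trans (le_normalizer_piCoreOf _ _)) ?_
    (by rw [← centralizer_zpowers]; exact hfree) ?_
  · refine coprime_of_isPi (IsPi.sup (π := {x | x = q ∨ x = r})
      ((isPi_singleton_of_isPGroup hZq).mono (by rintro x rfl; exact Or.inl rfl))
      ((isPi_singleton_of_isPGroup (isPGroup_of_card hR)).mono (by rintro x rfl; exact Or.inr rfl)) hRZ)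
      (isPi_piCoreOf (beta M) M) ?_
    rintro x - (rfl | rfl) hx
    · exact h.not_beta_of_sigma hH hM (ne_conj_symm hne) hqH hx
    · exact hrσ (h.beta_subset_sigma hM hx)
  · intro x hx hxp hax u hu
    have : Fact (orderOf x).Prime := ⟨hxp⟩
    have hxC : x ∈ centralizer ((zpowers a : Subgroup G) : Set G) := by
      rw [centralizer_zpowers]; exact mem_centralizer_singleton_iff.2 hax.symm
    have hxH : x ∈ H := hCP (hfix x hx hxp hxC)
    have hxβ : orderOf x ∈ beta M :=
      isPi_piCoreOf (beta M) M _ hxp ((betaCore M).orderOf_dvd_natCard hx)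
    have hXM : zpowers x ≤ M := zpowers_le.2 (piCoreOf_le _ _ hx)
    have h13 := h.tau13_of_beta hM hH hne hxβ (H.orderOf_dvd_natCard hxH)
    have hc := h.tau13_centralizes hH h13 (P := zpowers x) (P₁ := zpowers x)
      (isPGroup_of_card (Nat.card_zpowers x)) (ne_bot_of_card hxp (Nat.card_zpowers x)) hM
      (h.normalizer_le_of_beta hM hxβ (Nat.card_zpowers x) hXM)
      (le_inf (zpowers_le.2 hxH) hXM) (isPGroup_of_card (Nat.card_zpowers x))
    exact mem_centralizer_iff.1 (hc (mem_zpowers x)) u ⟨hZσ hu, hZM hu⟩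

/-- The case `p ∈ β(H)`. -/
theorem Pre.fixed_case_beta {M H P R Q Z : Subgroup G} (hM : IsCoatom M) (hH : IsCoatom H)
    (hne : ∀ g : G, H ≠ MulAut.conj g • M) {p q r : ℕ} [hp' : Fact p.Prime] [hq' : Fact q.Prime]
    [hr' : Fact r.Prime] (hp : p ∈ tau1 M) (hpb : p ∈ beta H) (hq : q ∈ sigma M) (hqp : q ≠ p)
    (hrσ : r ∉ sigma M) (hr : r ∈ tau1 H) (hrp : r ≠ p) (hPM : P ≤ M) (hP : Nat.card P = p)
    (hCP : centralizer (P : Set G) ≤ H) (hRM : R ≤ M) (hR : Nat.card R = r)
    (hRP : R ≤ centralizer (P : Set G))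
    (hQ : IsPiHallOf {q} Q (M ⊓ H)) (hRQn : R ≤ normalizer (Q : Set G)) (hQP : Q ≤ centralizer (P : Set G))
    (hZQ : Z ≤ Q) (hZ1 : Z ≠ ⊥) (hRZ : R ≤ normalizer (Z : Set G))
    (hfree : Z ⊓ centralizer (R : Set G) = ⊥) : False := by
  have hPp : IsPGroup p P := isPGroup_of_card hP
  have hRr : IsPGroup r R := isPGroup_of_card hR
  have hR1 : R ≠ ⊥ := ne_bot_of_card hr'.out hR
  have hQq : IsPGroup q Q := isPGroup_of_isPi_singleton hQ.2.1
  have hZq : IsPGroup q Z := hQq.to_le hZQ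
  have hQM : Q ≤ M := hQ.1.trans inf_le_left
  have hQH : Q ≤ H := hQ.1.trans inf_le_right
  have hZM : Z ≤ M := hZQ.trans hQM
  have hZH : Z ≤ H := hZQ.trans hQH
  have hMH : H ≠ M := fun e => hne 1 (by rw [map_one, one_smul, e])
  have hne' := ne_conj_symm hne
  have hPC : P ≤ centralizer (P : Set G) := by
    obtain ⟨a, -, -, rfl⟩ := exists_zpowers_of_card hp'.out hP
    rw [zpowers_le, centralizer_zpowers, mem_centralizer_singleton_iff]
  have hPH : P ≤ H := hPC.trans hCP
  have hRH : R ≤ H := hRP.trans hCP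
  have hPα : P ≤ alphaCore H :=
    h.le_alphaCore hH hPH ((isPi_singleton_of_isPGroup hPp).mono (by rintro x rfl; exact hpb.1))
  have hPσ : P ≤ sigmaCore H := h.le_sigmaCore hH hPH
    ((isPi_singleton_of_isPGroup hPp).mono (by rintro x rfl; exact h.beta_subset_sigma hH hpb))
  have hqα : q ∉ alpha H := h.not_alpha_of_sigma hM hH hne hq
  have hrα : r ∉ alpha H := fun e => hr.2.1 (h.alpha_subset_sigma hH e)
  have hNRH : ¬ normalizer (R : Set G) ≤ H := fun e =>
    (h.tau13_maximal hH (Or.inl hr) hRr hR1 hH e).1 1 (by rw [map_one, one_smul])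
  -- `N(Z) ≤ H`
  have hNZ : normalizer (Z : Set G) ≤ H := by
    by_contra hn
    have hA : IsPi {x | x = q ∨ x = r} (Z ⊔ R) :=
      IsPi.sup ((isPi_singleton_of_isPGroup hZq).mono (by rintro x rfl; exact Or.inl rfl))
        ((isPi_singleton_of_isPGroup hRr).mono (by rintro x rfl; exact Or.inr rfl)) hRZ
    have hcop : (Nat.card ↥(Z ⊔ R)).Coprime (Nat.card (alphaCore H)) :=
      coprime_of_isPi hA (isPi_piCoreOf (alpha H) H) (by
        rintro x - (rfl | rfl) hx
        exacts [hqα hx, hrα hx])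
    obtain ⟨W, hW, hAW, hPW⟩ := exists_invariant_sylowOf (A := Z ⊔ R) (U := P) (q := p)
      ((sup_le hZH hRH).trans (le_normalizer_piCoreOf _ _)) hcop
      (h.isSolvable_le hH (piCoreOf_le _ _)) hPα
      ((sup_le (hZQ.trans hQP) hRP).trans (centralizer_le_normalizer _)) hPp
    have hWp : IsPGroup p W := isPGroup_of_isPi_singleton hW.2.1
    obtain ⟨a, ha1, hao, rfl⟩ := exists_zpowers_of_card hr'.out hR
    have hcR : IsCyclic ↥(W ⊓ centralizer ((zpowers a : Subgroup G) : Set G)) :=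
      h.isCyclic_fixed_alpha hH hRH hR1 (fun s hs hd => by
        rw [hR, Nat.prime_dvd_prime_iff_eq hs hr'.out] at hd
        exact hd ▸ hrα) hNRH (inf_le_inf_right _ hW.1) (hWp.to_le inf_le_left)
    have hZW : Z ≤ centralizer (W : Set G) := by
      refine commute_of_frobenius_fixed (s := p) (a := a) (h.ne_two (dvd_of_eq hP.symm)) hWp
        (by rw [hao]; exact hr'.out) (by rw [hao]; exact hrp) (le_sup_left.trans hAW)
        (hAW (mem_sup_right (mem_zpowers a))) (hRZ (mem_zpowers a)) (fun u hu hua => ?_) ?_ ?_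
      · have : u ∈ Z ⊓ centralizer ((zpowers a : Subgroup G) : Set G) :=
          ⟨hu, by rw [centralizer_zpowers]; exact mem_centralizer_singleton_iff.2 hua⟩
        rwa [hfree, mem_bot] at this
      · rw [← hP]
        exact coprime_of_pGroups hZq hPp hqp
      · intro x hx hxp hax u hu
        have hxP : x ∈ P := h.mem_of_cyclic_pow hcR
          (le_inf hPW (le_centralizer_iff.1 hRP)) hP
          ⟨hx, by rw [centralizer_zpowers]; exact mem_centralizer_singleton_iff.2 hax.symm⟩ hxp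
        exact (mem_centralizer_iff.1 (hQP (hZQ hu)) x hxP).symm
    have hcW : IsCyclic ↥W := h.isCyclic_fixed_alpha hH hZH hZ1 (fun s hs hd => by
      have := (isPi_singleton_of_isPGroup hZq) s hs hd
      rw [Set.mem_singleton_iff.1 this]; exact hqα) hn
      (le_inf hW.1 (le_centralizer_iff.1 hZW)) hWp
    obtain ⟨A, hA', hA, hc⟩ := exists_elementary_of_not_pRankLE hpb.1.2
    obtain ⟨B, hBA, hB, hBc⟩ := exists_elementary_of_card_le (k := 2) hA (by
      obtain ⟨n, hn⟩ := IsPGroup.iff_card.1 (CfsgLib.PGroup.elemAb_isPGroup hA)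
      rw [hn] at hc ⊢
      exact Nat.pow_le_pow_right hp'.out.pos
        ((Nat.pow_lt_pow_iff_right hp'.out.one_lt).1 hc).le)
    have hWH : IsPiHallOf {p} W H := CfsgLib.PGroup.isPiHallOf_trans hW (piCoreOf_le _ _)
      fun s hs hsp hd => by
        rw [Set.mem_singleton_iff.1 hsp] at hd
        exact (h.s1405 H hH).1.2.2 p hp'.out hpb.1 hd
    obtain ⟨m, -, hle⟩ := exists_conj_le_hallOf (h.isSolvable hH.1) hWH (hBA.trans hA')
      (isPi_singleton_of_isPGroup (CfsgLib.PGroup.elemAb_isPGroup hB))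
    have hr1 : PRankLE p 1 H → False := fun e =>
      h.not_rank_one_of_plane (hBA.trans hA') hB hBc e
    refine hr1 ?_
    rw [CfsgLib.PGroup.pRankLE_subgroup_iff]
    intro C hCH hCe
    obtain ⟨m', -, hle'⟩ := exists_conj_le_hallOf (h.isSolvable hH.1) hWH hCH
      (isPi_singleton_of_isPGroup (CfsgLib.PGroup.elemAb_isPGroup hCe))
    have : IsCyclic ↥(MulAut.conj m' • C : Subgroup G) :=
      isCyclic_of_injective (Subgroup.inclusion hle') (Subgroup.inclusion_injective _)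
    obtain ⟨x, hx⟩ := IsCyclic.exists_ofOrder_eq_natCard (α := ↥(MulAut.conj m' • C : Subgroup G))
    have h1 : orderOf x ∣ p := orderOf_dvd_of_pow_eq_one (Subtype.ext (by
      simpa using (isElementaryAbelian_conj hCe m').2 _ x.2))
    rw [hx, card_conj_smul] at h1
    simpa using Nat.le_of_dvd hp'.out.pos h1
  -- a common Sylow subgroup
  obtain ⟨-, hor, S, hS, hZS, hSM, hNS⟩ := h.two_maximal hM hH hq hZq hZ1 hZM hNZ hMH
  have hqH : q ∈ sigma H := by
    rcases hor with h1 | h1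
    · exact h1
    · exfalso
      have := (h.two_maximal_tau2 hM hH hMH h1 hS hSM hNS).1
      exact ne_bot_of_card hp'.out hP (le_bot_iff.1 (this ▸ le_inf hPσ hPM))
  have hQH' : IsPiHallOf {q} Q H := by
    have e := card_hallOf_eq (hallOf_of_le hS (le_inf hSM hS.1) inf_le_right) hQ
    obtain ⟨Q', hQ', hQQ'⟩ := exists_sylow_ge hQH hQq
    rw [eq_of_le_of_card_ge hQQ' (by rw [← e, card_hallOf_eq hQ' hS])]
    exact hQ'
  have hQM' : IsPiHallOf {q} Q M := by
    obtain ⟨Q', hQ', hQQ'⟩ := exists_sylow_ge hQM hQq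
    rwa [h.sylow_global hH hqH hQH' hQQ' (isPGroup_of_isPi_singleton hQ'.2.1) |>.symm] at *
  have hNQM : normalizer (Q : Set G) ≤ M := h.normalizer_sylow_le hM hq hQM'
  have hNQH : normalizer (Q : Set G) ≤ H := h.normalizer_sylow_le hH hqH hQH'
  -- `r ∈ τ₁(M) ∪ τ₃(M)`
  have hr13 : IsTau13 M r := by
    rcases h.tau_cases hM hr'.out ((dvd_of_eq hR.symm).trans (card_dvd_of_le hRM)) hrσ with h1 | h1 | h1
    · exact Or.inl h1
    · exact absurd hq (h.not_sigma_of_nilpotent hH hM hne' (h.sigmaCore_nilpotent_of_tau2 hM h1) hqH)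
    · exact Or.inr h1
  obtain ⟨L, hL, hNR⟩ := h.exists_maximal_normalizer hM hRM hR1
  obtain ⟨hLM, hrL⟩ := h.tau13_maximal hM hr13 hRr hR1 hL hNR
  obtain ⟨hLH, -⟩ := h.tau13_maximal hH (Or.inl hr) hRr hR1 hL hNR
  have hCR : centralizer (R : Set G) ≤ L := (centralizer_le_normalizer _).trans hNR
  have hML : M ≠ L := fun e => hLM 1 (by rw [map_one, one_smul, e])
  have hNRM : ¬ normalizer (R : Set G) ≤ M := fun e =>
    (h.tau13_maximal hM hr13 hRr hR1 hM e).1 1 (by rw [map_one, one_smul])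
  -- an element of `C_{M_β}(R)` moved by `P`
  obtain ⟨x, hx, -, hxR, hxP⟩ : ∃ x ∈ betaCore M, (orderOf x).Prime ∧ x ∈ centralizer (R : Set G) ∧
      x ∉ centralizer (P : Set G) := by
    by_contra hno
    push Not at hno
    have hZb := h.centralizes_betaCore hM hH hne hqH hr hrσ hR hRM hZq hZM hZH hRZ hfree hCP hno
    refine hMH (((hM.le_iff.1 (fun g hg => ?_)).resolve_left hH.1))
    obtain ⟨k, hk, b, hb, rfl⟩ := h.two_maximal_sigma hM hq hQM' hg
    exact mul_mem (hNZ (centralizer_le_normalizer _ (le_centralizer_iff.1 hZb hk))) (hNQH hb.2)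
  -- a Sylow subgroup of it moved by `P`
  set D₀ := betaCore M ⊓ centralizer (R : Set G) with hD₀
  have hPD : P ≤ normalizer (D₀ : Set G) := CfsgLib.Solvable.le_normalizer_inf
    (hPM.trans (le_normalizer_piCoreOf _ _))
    ((le_centralizer_iff.1 hRP).trans ((centralizer_le_normalizer _).trans
      (CfsgLib.Solvable.normalizer_le_normalizer_centralizer R)))
  have hPD₀ : (Nat.card P).Coprime (Nat.card D₀) :=
    coprime_of_isPi (isPi_singleton_of_isPGroup hPp) ((isPi_piCoreOf (beta M) M).of_le inf_le_left)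
      fun s _ hs hs' => hp.2.1 (h.beta_subset_sigma hM (hs ▸ hs'))
  obtain ⟨t, ht, T, hT, hPT, hTP⟩ : ∃ t : ℕ, t.Prime ∧ ∃ T : Subgroup G, IsPiHallOf {t} T D₀ ∧
      P ≤ normalizer (T : Set G) ∧ ¬ P ≤ centralizer (T : Set G) := by
    by_contra hno
    push Not at hno
    refine hxP (le_centralizer_iff.1 (le_centralizer_of_sylows fun s hs => ?_) ((mem_inf.2 ⟨hx, hxR⟩) : x ∈ D₀))
    have : Fact s.Prime := ⟨hs⟩
    obtain ⟨T, hT, hPT, -⟩ := exists_invariant_sylowOf (A := P) (q := s) hPD hPD₀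
      (h.isSolvable_le hM (inf_le_left.trans (piCoreOf_le _ _))) bot_le
      (by intro y _; rw [normalizer_eq_top]; trivial) IsPGroup.of_bot
    exact ⟨T, hT, hno s hs T hT hPT⟩
  have ht' : Fact t.Prime := ⟨ht⟩
  have hTt : IsPGroup t T := isPGroup_of_isPi_singleton hT.2.1
  have hT1 : T ≠ ⊥ := by
    rintro rfl
    exact hTP fun y _ => mem_centralizer_iff.2 fun z hz => by rw [mem_bot.1 hz]; simp
  have htT : t ∣ Nat.card T := dvd_card_of_isPGroup hTt hT1
  have htM : t ∈ beta M :=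
    isPi_piCoreOf (beta M) M t ht (htT.trans (card_dvd_of_le (hT.1.trans inf_le_left)))
  have hTα : T ≤ alphaCore M ⊓ centralizer (R : Set G) := le_inf
    (h.le_alphaCore hM ((hT.1.trans inf_le_left).trans (piCoreOf_le _ _))
      ((isPi_singleton_of_isPGroup hTt).mono (by rintro y rfl; exact htM.1))) (hT.1.trans inf_le_right)
  have hTcyc : IsCyclic T := h.isCyclic_fixed_alpha hM hRM hR1 (fun s hs hd => by
    rw [hR, Nat.prime_dvd_prime_iff_eq hs hr'.out] at hd
    exact hd ▸ fun e => hrσ (h.alpha_subset_sigma hM e)) hNRM hTα hTt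
  have hTc : IsMulCommutative T := hTcyc.isMulCommutative
  have hPTc : (Nat.card P).Coprime (Nat.card T) := hPD₀.coprime_dvd_right (card_dvd_of_le hT.1)
  have hTP' : ⁅T, P⁆ ≠ ⊥ := fun e => hTP (le_centralizer_iff.1 (commutator_eq_bot_iff_le_centralizer.1 e))
  obtain ⟨Y, hYle, hY⟩ := exists_order_prime_le (X := ⁅T, P⁆)
    (dvd_card_of_isPGroup (hTt.to_le (CfsgLib.Solvable.commutator_le_of_le_normalizer hPT)) hTP')
  have hYT : Y ≤ T := hYle.trans (CfsgLib.Solvable.commutator_le_of_le_normalizer hPT)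
  have hYfree : Y ⊓ centralizer (P : Set G) = ⊥ := le_bot_iff.1 fun y hy =>
    (CfsgLib.Solvable.inf_centralizer_inf_commutator P T hPT hPTc).le ⟨⟨hYT hy.1, hy.2⟩, hYle hy.1⟩
  have hYt : IsPGroup t Y := isPGroup_of_card hY
  have hY1 : Y ≠ ⊥ := ne_bot_of_card ht hY
  have hPY : P ≤ normalizer (Y : Set G) := fun g hg =>
    CfsgLib.Solvable.mem_normalizer_iff_conj_smul.2 (eq_of_cyclic_card hTcyc
      ((conj_smul_mono g hYT).trans (conj_smul_self_of_mem_normalizer (hPT hg)).le) hYT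
      (card_conj_smul g Y))
  have hYP : Y = ⁅Y, P⁆ := by
    have hle : ⁅Y, P⁆ ≤ Y := CfsgLib.Solvable.commutator_le_of_le_normalizer hPY
    refine (eq_of_le_of_card_ge hle ?_).symm
    rw [hY]
    refine Nat.le_of_dvd Nat.card_pos (dvd_card_of_isPGroup (hYt.to_le hle) fun e => ?_)
    exact hY1 (le_bot_iff.1 (hYfree ▸ le_inf le_rfl (commutator_eq_bot_iff_le_centralizer.1 e)))
  have hYR : Y ≤ centralizer (R : Set G) := hYT.trans (hT.1.trans inf_le_right)
  have hYM : Y ≤ M := (hYT.trans (hT.1.trans inf_le_left)).trans (piCoreOf_le _ _)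
  have hYL : Y ≤ L := hYR.trans hCR
  have hPR : P ≤ centralizer (R : Set G) := le_centralizer_iff.1 hRP
  have hPL : P ≤ L := hPR.trans hCR
  have hRL : R ≤ L := le_normalizer.trans hNR
  have hNY : normalizer (Y : Set G) ≤ M := h.normalizer_le_of_beta hM htM hY hYM
  have hCY : centralizer (Y : Set G) ≤ M := (centralizer_le_normalizer _).trans hNY
  have ht13 : IsTau13 L t :=
    h.tau13_of_beta hM hL hLM htM ((dvd_of_eq hY.symm).trans (card_dvd_of_le hYL))
  have hp13 : IsTau13 L p :=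
    h.tau13_of_beta hH hL hLH hpb ((dvd_of_eq hP.symm).trans (card_dvd_of_le hPL))
  have hpt : p ≠ t := fun e => hp.2.1 (h.beta_subset_sigma hM (e ▸ htM))
  have hYP' : Y ≤ ⁅L, L⁆ := hYP.le.trans (commutator_mono hYL hPL)
  obtain ⟨F, hF, hUF⟩ := h.exists_compl_ge hL (U := Y ⊔ P) (sup_le hYL hPL)
    (IsPi.sup ((isPi_singleton_of_isPGroup hYt).mono (by rintro y rfl; exact ht13.not_sigma))
      ((isPi_singleton_of_isPGroup hPp).mono (by rintro y rfl; exact hp13.not_sigma)) hPY)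
  have hYF' : Y ≤ ⁅F, F⁆ :=
    hYP.le.trans (commutator_mono (le_sup_left.trans hUF) (le_sup_right.trans hUF))
  have hrσL : r ∈ sigma L := by
    refine hrL.resolve_right fun h2 => ?_
    obtain ⟨A, hAF, hA, hAc⟩ := h.exists_plane_compl hL hF h2
    refine h.not_rank_one_of_plane (le_trans ?_ hCY) hA hAc hr13.rank
    refine le_centralizer_iff.1 fun y hy => h.commute_tau2_derived hL hF h2 hAF hA hAc (hYF' hy) ?_
    exact ((Nat.coprime_primes ht hr'.out).2 fun e => hrσ
      (h.beta_subset_sigma hM (e ▸ htM))).coprime_dvd_left (hY ▸ Y.orderOf_dvd_natCard hy)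
  have hNPL : ¬ normalizer (P : Set G) ≤ L := by
    intro e
    rcases (h.tau13_maximal hM (Or.inl hp) hPp (ne_bot_of_card hp'.out hP) hL e).2 with h1 | h1
    · exact hp13.not_sigma h1
    · exact h1.2.2.2 hp13.rank
  -- the Frobenius contradiction
  have contra : ∀ (u : ℕ) (Z₀ : Subgroup G), u.Prime → u ∈ alpha L → Z₀ ≤ L → Nat.card Z₀ = u →
      Z₀ ≤ centralizer (Y : Set G) → Z₀ ≤ centralizer (P : Set G) → False := by
    intro u Z₀ hu huα hZ₀L hZ₀ hZ₀Y hZ₀P
    have : Fact u.Prime := ⟨hu⟩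
    have hcop : (Nat.card ↥(Y ⊔ P)).Coprime (Nat.card (alphaCore L)) :=
      coprime_of_isPi (IsPi.sup (π := {y | y = t ∨ y = p})
        ((isPi_singleton_of_isPGroup hYt).mono (by rintro y rfl; exact Or.inl rfl))
        ((isPi_singleton_of_isPGroup hPp).mono (by rintro y rfl; exact Or.inr rfl)) hPY)
        (isPi_piCoreOf (alpha L) L) (by
          rintro y - (rfl | rfl) hy
          exacts [ht13.not_sigma (h.alpha_subset_sigma hL hy), hp13.not_sigma (h.alpha_subset_sigma hL hy)])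
    have hZ₀u : IsPGroup u Z₀ := isPGroup_of_card hZ₀
    obtain ⟨U, hU, hAU, hZ₀U⟩ := exists_invariant_sylowOf (A := Y ⊔ P) (U := Z₀) (q := u)
      ((sup_le hYL hPL).trans (le_normalizer_piCoreOf _ _)) hcop
      (h.isSolvable_le hL (piCoreOf_le _ _))
      (h.le_alphaCore hL hZ₀L ((isPi_singleton_of_isPGroup hZ₀u).mono (by rintro y rfl; exact huα)))
      ((sup_le (le_centralizer_iff.1 hZ₀Y) (le_centralizer_iff.1 hZ₀P)).trans
        (centralizer_le_normalizer _)) hZ₀u
    have hUL : IsPiHallOf {u} U L := CfsgLib.PGroup.isPiHallOf_trans hU (piCoreOf_le _ _)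
      fun s hs hsu hd => by
        rw [Set.mem_singleton_iff.1 hsu] at hd
        exact (h.s1405 L hL).1.2.2 u hu huα hd
    obtain ⟨z, hz, hzu, hzY⟩ := h.exists_moved_of_frobenius hM hL hML hUL huα hP
      (fun e => hp13.not_sigma (h.alpha_subset_sigma hL (e ▸ huα)))
      (fun hd => ht13.not_sigma (h.alpha_subset_sigma hL
        ((Nat.prime_dvd_prime_iff_eq hu ht).1 (hY ▸ hd) ▸ huα)))
      (le_sup_left.trans hAU) (le_sup_right.trans hAU) hPY hYfree hCY
    have hcU : IsCyclic ↥(U ⊓ centralizer (P : Set G)) :=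
      h.isCyclic_fixed_alpha hL hPL (ne_bot_of_card hp'.out hP) (fun s hs hd => by
        rw [hP, Nat.prime_dvd_prime_iff_eq hs hp'.out] at hd
        exact hd ▸ fun e => hp13.not_sigma (h.alpha_subset_sigma hL e)) hNPL
        (inf_le_inf_right _ hU.1) ((isPGroup_of_isPi_singleton hU.2.1).to_le inf_le_left)
    exact hzY (hZ₀Y (h.mem_of_cyclic_pow hcU (le_inf hZ₀U hZ₀P) hZ₀ hz hzu))
  by_cases hrα' : r ∈ alpha L
  · exact contra r R hr'.out hrα' hRL hR (le_centralizer_iff.1 hYR) hRP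
  -- a prime of `β(L)` moved by `Y`
  have hYβ : ¬ Y ≤ centralizer (betaCore L : Set G) := by
    intro hYb
    have hcopσ : (Nat.card Y).Coprime (Nat.card (sigmaCore L)) :=
      coprime_of_isPi (isPi_singleton_of_isPGroup hYt) (isPi_piCoreOf (sigma L) L)
        fun y _ hy hy' => ht13.not_sigma (hy ▸ hy')
    have hYσ : Y ≤ centralizer (sigmaCore L : Set G) := by
      refine le_centralizer_of_sylows fun s hs => ?_
      have : Fact s.Prime := ⟨hs⟩
      obtain ⟨Ts, hTs, hYTs, -⟩ := exists_invariant_sylowOf (A := Y) (q := s)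
        (hYL.trans (le_normalizer_piCoreOf _ _)) hcopσ (h.isSolvable_le hL (piCoreOf_le _ _)) bot_le
        (by intro y _; rw [normalizer_eq_top]; trivial) IsPGroup.of_bot
      refine ⟨Ts, hTs, ?_⟩
      have hTsL : Ts ≤ L := hTs.1.trans (piCoreOf_le _ _)
      rcases eq_or_ne Ts ⊥ with rfl | hTs1
      · exact fun y _ => mem_centralizer_iff.2 fun w hw => by rw [mem_bot.1 hw]; simp
      by_cases hsb : s ∈ beta L
      · exact hYb.trans (centralizer_anti (h.le_betaCore hL hTsL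
          (IsPi.mono hTs.2.1 (by rintro y rfl; exact hsb))))
      · refine h.centralizes_of_le_derived hL (fun e => ht13.not_sigma ?_) hYP' hTsL hYt
          (isPGroup_of_isPi_singleton hTs.2.1) hYTs hsb
        rw [e]
        exact isPi_piCoreOf (sigma L) L s hs ((dvd_card_of_isPGroup
          (isPGroup_of_isPi_singleton hTs.2.1) hTs1).trans (card_dvd_of_le hTs.1))
    have ht3 : t ∈ tau3 L := by
      rcases ht13 with h1 | h1
      · exact absurd ((dvd_of_eq hY.symm).trans (card_dvd_of_le hYP')) h1.2.2.2.1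
      · exact h1
    obtain ⟨E₃, hE₃, hYE₃⟩ := exists_hallOf_ge (h.isSolvable_le hL hF.1) (le_sup_left.trans hUF)
      ((isPi_singleton_of_isPGroup hYt).mono (π' := tau3 L) (by rintro y rfl; exact ht3))
    obtain ⟨hcyc, -, hn⟩ := (h.s1415 L hL F hF).2.2 E₃ hE₃
    have hLN : L ≤ normalizer (Y : Set G) := by
      intro g hg
      obtain ⟨f, hf, s, hs, rfl⟩ := hF.2.2.2 g hg
      refine mul_mem (CfsgLib.Solvable.mem_normalizer_iff_conj_smul.2 (eq_of_cyclic_card hcyc
        ((conj_smul_mono f hYE₃).trans (conj_smul_self_of_mem_normalizer (hn hf)).le) hYE₃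
        (card_conj_smul f Y))) (centralizer_le_normalizer _ (le_centralizer_iff.1 hYσ hs))
    exact hML ((hL.le_iff.1 (hLN.trans hNY)).resolve_left hM.1)
  -- an invariant Sylow subgroup of `L_β` moved by `Y`
  have hRβ : r ∉ beta L := fun e => hrα' e.1
  set A₃ := Y ⊔ P ⊔ R with hA₃
  have hA₃n : R ≤ normalizer ((Y ⊔ P : Subgroup G) : Set G) :=
    ((le_centralizer_iff.1 (sup_le hYR hPR)).trans (centralizer_le_normalizer _))
  have hA₃π : IsPi {y | y = t ∨ y = p ∨ y = r} A₃ :=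
    IsPi.sup (IsPi.sup ((isPi_singleton_of_isPGroup hYt).mono (by rintro y rfl; exact Or.inl rfl))
      ((isPi_singleton_of_isPGroup hPp).mono (by rintro y rfl; exact Or.inr (Or.inl rfl))) hPY)
      ((isPi_singleton_of_isPGroup hRr).mono (by rintro y rfl; exact Or.inr (Or.inr rfl))) hA₃n
  obtain ⟨u, hu, U, hU, hAU, hUY⟩ : ∃ u : ℕ, u.Prime ∧ ∃ U : Subgroup G, IsPiHallOf {u} U (betaCore L) ∧
      A₃ ≤ normalizer (U : Set G) ∧ ¬ Y ≤ centralizer (U : Set G) := by
    by_contra hno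
    push Not at hno
    refine hYβ (le_centralizer_of_sylows fun s hs => ?_)
    have : Fact s.Prime := ⟨hs⟩
    obtain ⟨U, hU, hAU, -⟩ := exists_invariant_sylowOf (A := A₃) (q := s)
      ((sup_le (sup_le hYL hPL) hRL).trans (le_normalizer_piCoreOf _ _))
      (coprime_of_isPi hA₃π (isPi_piCoreOf (beta L) L) (by
        rintro y - (rfl | rfl | rfl) hy
        exacts [ht13.not_sigma (h.beta_subset_sigma hL hy), hp13.not_sigma (h.beta_subset_sigma hL hy),
          hRβ hy]))
      (h.isSolvable_le hL (piCoreOf_le _ _)) bot_le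
      (by intro y _; rw [normalizer_eq_top]; trivial) IsPGroup.of_bot
    exact ⟨U, hU, hno s hs U hU hAU⟩
  have hu' : Fact u.Prime := ⟨hu⟩
  have hUu : IsPGroup u U := isPGroup_of_isPi_singleton hU.2.1
  have hU1 : U ≠ ⊥ := by
    rintro rfl
    exact hUY fun y _ => mem_centralizer_iff.2 fun w hw => by rw [mem_bot.1 hw]; simp
  have huL : u ∈ beta L :=
    isPi_piCoreOf (beta L) L u hu ((dvd_card_of_isPGroup hUu hU1).trans (card_dvd_of_le hU.1))
  have hUL : IsPiHallOf {u} U L := CfsgLib.PGroup.isPiHallOf_trans hU (piCoreOf_le _ _)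
    fun s hs hsu hd => by
      rw [Set.mem_singleton_iff.1 hsu] at hd
      exact (h.betaCore_hall hL).2.2 u hu huL hd
  obtain ⟨z, hz, hzu, hzY⟩ := h.exists_moved_of_frobenius hM hL hML hUL huL.1 hP
    (fun e => hp13.not_sigma (h.beta_subset_sigma hL (e ▸ huL)))
    (fun hd => ht13.not_sigma (h.beta_subset_sigma hL
      ((Nat.prime_dvd_prime_iff_eq hu ht).1 (hY ▸ hd) ▸ huL)))
    (le_sup_left.trans (le_sup_left.trans hAU)) (le_sup_right.trans (le_sup_left.trans hAU)) hPY hYfree hCY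
  have hz1 : z ≠ 1 := fun e => hzY (e ▸ one_mem _)
  have hzo : Nat.card (zpowers z) = u := by rw [Nat.card_zpowers]; exact orderOf_eq_prime hzu hz1
  have hzP : z ∈ centralizer (P : Set G) := hz.2
  have hzH : z ∈ H := hCP hzP
  have hcUP : IsCyclic ↥(U ⊓ centralizer (P : Set G)) :=
    h.isCyclic_fixed_alpha hL hPL (ne_bot_of_card hp'.out hP) (fun s hs hd => by
      rw [hP, Nat.prime_dvd_prime_iff_eq hs hp'.out] at hd
      exact hd ▸ fun e => hp13.not_sigma (h.alpha_subset_sigma hL e)) hNPL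
      (inf_le_inf_right _ (h.le_alphaCore hL hUL.1
        ((isPi_singleton_of_isPGroup hUu).mono (by rintro y rfl; exact huL.1))))
      (hUu.to_le inf_le_left)
  have hRz : R ≤ normalizer ((zpowers z : Subgroup G) : Set G) := by
    intro g hg
    have hgC : g ∈ normalizer ((U ⊓ centralizer (P : Set G) : Subgroup G) : Set G) :=
      CfsgLib.Solvable.le_normalizer_inf (A := R) (le_sup_right.trans hAU)
        ((hRP.trans (centralizer_le_normalizer _)).trans
          (CfsgLib.Solvable.normalizer_le_normalizer_centralizer P)) hg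
    exact CfsgLib.Solvable.mem_normalizer_iff_conj_smul.2 (eq_of_cyclic_card hcUP
      ((conj_smul_mono g (zpowers_le.2 hz)).trans (conj_smul_self_of_mem_normalizer hgC).le)
      (zpowers_le.2 hz) (card_conj_smul g _))
  -- move it into `M`
  set Hb := betaCore H ⊓ centralizer (P : Set G) with hHb
  set N₀ := Hb ⊔ Q with hN₀
  have huH : u ∉ beta H := fun e => h.not_beta_of_sigma hL hH
    (fun g e' => hLH g⁻¹ (by rw [e', conj_smul_inv_self])) (h.beta_subset_sigma hL huL) e
  have hqb : q ∉ beta H := h.not_beta_of_sigma hM hH hne hq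
  have hrb : r ∉ beta H := fun e => hr.2.1 (h.beta_subset_sigma hH e)
  have hHbn : ∀ {X : Subgroup G}, X ≤ H → X ≤ centralizer (P : Set G) →
      X ≤ normalizer (Hb : Set G) := fun hXH hXP =>
    CfsgLib.Solvable.le_normalizer_inf (hXH.trans (le_normalizer_piCoreOf _ _))
      (hXP.trans le_normalizer)
  have hN₀n : H ⊓ centralizer (P : Set G) ≤ normalizer (N₀ : Set G) := by
    intro g hg
    obtain ⟨k, hk, b, hb, e⟩ := h.two_maximal_sigma hH hqH hQH' hg.1
    refine CfsgLib.Solvable.mem_normalizer_of_conj_mem ?_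
    rw [← conj_smul_le_iff]
    have hgQ : MulAut.conj g • Q ≤ N₀ := by
      intro w hw
      have hwC : w ∈ centralizer (P : Set G) := by
        have h1 := hQP (mem_conj_smul_iff.1 hw)
        simpa [mul_assoc] using mul_mem (mul_mem hg.2 h1) (Subgroup.inv_mem _ hg.2)
      have hwK : w ∈ betaCore H ⊔ Q := by
        have h1 := mem_conj_smul_iff.1 hw
        rw [e] at h1
        have h2 : b * ((k * b)⁻¹ * w * (k * b)) * b⁻¹ ∈ Q := (mem_normalizer_iff.1 hb.2 _).1 h1
        have h3 := mul_mem (mul_mem (mem_sup_left (T := Q) hk) (mem_sup_right h2))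
          (inv_mem (mem_sup_left (T := Q) hk))
        simpa [mul_assoc] using h3
      obtain ⟨k₁, hk₁, q₁, hq₁, rfl⟩ := CfsgLib.Solvable.exists_mul_of_mem_sup
        (hQH.trans (le_normalizer_piCoreOf _ _)) hwK
      refine mul_mem (mem_sup_left ⟨hk₁, ?_⟩) (mem_sup_right hq₁)
      simpa [mul_assoc] using mul_mem hwC (inv_mem (hQP hq₁))
    rw [hN₀, Subgroup.smul_sup]
    exact sup_le ((conj_smul_self_of_mem_normalizer (hHbn inf_le_left inf_le_right hg)).le.trans
      le_sup_left) hgQ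
  have hN₀H : N₀ ≤ H ⊓ centralizer (P : Set G) :=
    sup_le (inf_le_inf_right _ (piCoreOf_le _ _)) (le_inf hQH hQP)
  obtain ⟨a', ha', b', hb', hzab⟩ := frattini_hallOf (h.isSolvable_le hH (hN₀H.trans inf_le_left)) hN₀H
    hN₀n (hallOf_of_le hQH' le_sup_right (hN₀H.trans inf_le_left)) (⟨hzH, hzP⟩ : z ∈ H ⊓ _)
  obtain ⟨k, hk, q₁, hq₁, rfl⟩ :=
    CfsgLib.Solvable.exists_mul_of_mem_sup (hHbn hQH hQP) ha'
  set b := q₁ * b' with hbdef
  have hzkb : z = k * b := by rw [hzab, hbdef, mul_assoc]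
  have hbN : b ∈ normalizer (Q : Set G) := mul_mem (le_normalizer hq₁) hb'.2
  have hbP : b ∈ centralizer (P : Set G) := mul_mem (hQP hq₁) hb'.1.2
  have hbH : b ∈ H := hNQH hbN
  have hukb : u ∣ orderOf b := by
    refine dvd_orderOf_of_mul hu hk (hHbn (zpowers_le.2 hbH) (zpowers_le.2 hbP) (mem_zpowers b)) ?_ ?_
    · rw [← hzkb]; exact orderOf_eq_prime hzu hz1
    · exact fun hd => huH (isPi_piCoreOf (beta H) H u hu (hd.trans (card_dvd_of_le inf_le_left)))
  set K' := Hb ⊔ zpowers z with hK'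
  set B' := normalizer (Q : Set G) ⊓ centralizer (P : Set G) with hB'
  have hzn : zpowers z ≤ normalizer (Hb : Set G) := hHbn (zpowers_le.2 hzH) (zpowers_le.2 hzP)
  have hK'H : K' ≤ H := sup_le (inf_le_left.trans (piCoreOf_le _ _)) (zpowers_le.2 hzH)
  have hK'P : K' ≤ centralizer (P : Set G) := sup_le inf_le_right (zpowers_le.2 hzP)
  have hbK : b ∈ K' ⊓ B' := by
    refine ⟨?_, hbN, hbP⟩
    have := mul_mem (inv_mem (mem_sup_left (T := zpowers z) hk)) (mem_sup_right (mem_zpowers z))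
    rw [show k⁻¹ * z = b by rw [hzkb, inv_mul_cancel_left]] at this
    exact this
  have hK'π : IsPi {y | y ∈ beta H ∨ y = u} K' :=
    IsPi.sup (((isPi_piCoreOf (beta H) H).of_le inf_le_left).mono fun y hy => Or.inl hy)
      ((isPi_singleton_of_isPGroup (isPGroup_of_card hzo)).mono (by rintro y rfl; exact Or.inr rfl)) hzn
  have hcopK : (Nat.card R).Coprime (Nat.card K') :=
    coprime_of_isPi (isPi_singleton_of_isPGroup hRr) hK'π fun y _ hy hy' => by
      rw [Set.mem_singleton_iff.1 hy] at hy'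
      rcases hy' with h1 | h1
      · exact hrb h1
      · exact hrα' (h1 ▸ huL.1)
  have hRK : R ≤ normalizer (K' : Set G) :=
    (le_inf (hHbn hRH hRP) hRz).trans (normalizer_inf_normalizer_le_normalizer_sup _ _)
  have hRQ : R ≤ normalizer (B' : Set G) :=
     CfsgLib.Solvable.le_normalizer_inf (hRQn.trans le_normalizer) (hRP.trans le_normalizer)
  obtain ⟨Z₂, hZ₂, hRZ₂⟩ := CfsgLib.PGroup.exists_invariant_hall {u} (L := K' ⊓ B') (A := R)
    (CfsgLib.Solvable.le_normalizer_inf hRK hRQ) (hcopK.coprime_dvd_right (card_dvd_of_le inf_le_left))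
    (h.isSolvable_le hH (inf_le_left.trans hK'H))
  have hZ₂u : IsPGroup u Z₂ := isPGroup_of_isPi_singleton hZ₂.2.1
  have hZ₂1 : Z₂ ≠ ⊥ := sylowOf_ne_bot hZ₂ (hukb.trans ((K' ⊓ B').orderOf_dvd_natCard hbK))
  obtain ⟨Z₃, hZ₃, hRZ₃, hZ₂₃⟩ := exists_invariant_sylowOf (A := R) (U := Z₂) (q := u) hRK hcopK
    (h.isSolvable_le hH hK'H) (hZ₂.1.trans inf_le_left) hRZ₂ hZ₂u
  have hzK : IsPiHallOf {u} (zpowers z) K' := by
    refine ⟨le_sup_right, isPi_singleton_of_isPGroup (isPGroup_of_card hzo), fun s hs hsu hd => ?_⟩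
    rw [Set.mem_singleton_iff.1 hsu, hK', CfsgLib.PGroup.relIndex_normalizing_sup hzn] at hd
    exact huH (isPi_piCoreOf (beta H) H u hu
      ((hd.trans (relIndex_dvd_card _ _)).trans (card_dvd_of_le inf_le_left)))
  obtain ⟨c, hc, hce⟩ := CfsgLib.PGroup.exists_centralizer_conj_hall hRK hcopK
    (h.isSolvable_le hH hK'H) hzK hRz hZ₃ hRZ₃
  have hZ₂eq : Z₂ = Z₃ := eq_of_le_of_card_ge hZ₂₃ (by
    rw [← hce, card_conj_smul, hzo]
    exact Nat.le_of_dvd Nat.card_pos (dvd_card_of_isPGroup hZ₂u hZ₂1))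
  have hZ₂c : Nat.card Z₂ = u := by rw [hZ₂eq, ← hce, card_conj_smul, hzo]
  have hzL : zpowers z ≤ L := zpowers_le.2 (hUL.1 hz.1)
  have hZ₂L : Z₂ ≤ L := by
    rw [hZ₂eq, ← hce]
    exact (conj_smul_mono c hzL).trans (conj_smul_self_of_mem_normalizer (le_normalizer (hCR hc.2))).le
  have hZ₂P : Z₂ ≤ centralizer (P : Set G) := hZ₂.1.trans (inf_le_left.trans hK'P)
  have hZ₂M : Z₂ ≤ M := hZ₂.1.trans (inf_le_right.trans (inf_le_left.trans hNQM))
  have hNZ₂ : normalizer (Z₂ : Set G) ≤ L := h.normalizer_le_of_beta hL huL hZ₂c hZ₂L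
  have hu13 : IsTau13 M u :=
    h.tau13_of_beta hL hM (ne_conj_symm hLM) huL ((dvd_of_eq hZ₂c.symm).trans (card_dvd_of_le hZ₂M))
  have hYσ : Y ≤ sigmaCore M ⊓ L :=
    le_inf (h.le_sigmaCore hM hYM ((isPi_singleton_of_isPGroup hYt).mono
      (by rintro y rfl; exact h.beta_subset_sigma hM htM))) hYL
  rw [h.tau13_inter_eq hM hu13 hZ₂u hZ₂1 hZ₂M hL hNZ₂] at hYσ
  exact contra u Z₂ hu huL.1 hZ₂L hZ₂c (le_centralizer_iff.1 (hYσ.trans inf_le_right)) hZ₂P

/-- BG 13.4. -/
theorem Pre.fixed_le_centralizer_fixed {M P R : Subgroup G} (hM : IsCoatom M) {p r : ℕ}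
    [hp' : Fact p.Prime] [hr' : Fact r.Prime] (hp : p ∈ tau1 M) (hPM : P ≤ M) (hP : Nat.card P = p)
    (hrσ : r ∉ sigma M) (hRM : R ≤ M) (hR : Nat.card R = r) (hRP : R ≤ centralizer (P : Set G)) :
    sigmaCore M ⊓ centralizer (P : Set G) ≤ centralizer (R : Set G) := by
  have hPp : IsPGroup p P := isPGroup_of_card hP
  have hRr : IsPGroup r R := isPGroup_of_card hR
  have hP1 : P ≠ ⊥ := ne_bot_of_card hp'.out hP
  by_cases hrp : r = p
  · subst hrp
    have hU : IsPGroup r ↥(P ⊔ R) :=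
      IsPGroup.to_sup_of_normal_left' hPp hRr (hRP.trans (centralizer_le_normalizer _))
    have := h.isCyclic_of_rank_one hp.2.2.2.2 (sup_le hPM hRM) hU
    rw [eq_of_cyclic_card this le_sup_right le_sup_left (hR.trans hP.symm)]
    exact inf_le_right
  obtain ⟨H, hH, hNP⟩ := h.exists_maximal_normalizer hM hPM hP1
  have hCP : centralizer (P : Set G) ≤ H := (centralizer_le_normalizer _).trans hNP
  obtain ⟨hne, hσ2⟩ := h.tau13_maximal hM (Or.inl hp) hPp hP1 hH hNP
  have heq := h.tau13_inter_eq hM (Or.inl hp) hPp hP1 hPM hH hNP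
  rw [← heq, le_centralizer_iff]
  by_cases hr : r ∈ tau1 H
  swap
  · exact h.centralizes_inter hM hH hne hrσ hr (le_inf hRM (hRP.trans hCP)) hRr
  have hRI : R ≤ normalizer ((sigmaCore M ⊓ H : Subgroup G) : Set G) :=
    h.inter_le_normalizer (le_inf hRM (hRP.trans hCP))
  refine le_centralizer_of_sylows fun q hq => ?_
  have hq' : Fact q.Prime := ⟨hq⟩
  obtain ⟨Q, hQ, hRQ, -⟩ := exists_invariant_sylowOf (A := R) (q := q) hRI
    (coprime_of_isPi (isPi_singleton_of_isPGroup hRr) (isPi_inter_sigmaCore M H)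
      fun y _ hy hy' => hrσ (hy ▸ hy'))
    (h.isSolvable_le hH inf_le_right) bot_le
    (by intro y _; rw [normalizer_eq_top]; trivial) IsPGroup.of_bot
  refine ⟨Q, hQ, ?_⟩
  by_contra hQR
  have hQq : IsPGroup q Q := isPGroup_of_isPi_singleton hQ.2.1
  have hQ1 : Q ≠ ⊥ := by
    rintro rfl
    exact hQR fun y _ => mem_centralizer_iff.2 fun w hw => by rw [mem_bot.1 hw]; simp
  have hqσ : q ∈ sigma M := isPi_inter_sigmaCore M H q hq
    ((dvd_card_of_isPGroup hQq hQ1).trans (card_dvd_of_le hQ.1))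
  have hqp : q ≠ p := fun e => hp.2.1 (e ▸ hqσ)
  have hQM : Q ≤ M := hQ.1.trans (inf_le_left.trans (piCoreOf_le _ _))
  have hQH : Q ≤ H := hQ.1.trans inf_le_right
  have hQP : Q ≤ centralizer (P : Set G) := hQ.1.trans (heq.le.trans inf_le_right)
  have hMH : M ≠ H := fun e => hne 1 (by rw [map_one, one_smul, e])
  have hQc : IsMulCommutative Q := h.isMulCommutative_of_le hM hH hMH hQq hQM hQH
  have hcop : (Nat.card R).Coprime (Nat.card Q) :=
    coprime_of_pGroups hRr hQq fun e => hrσ (e ▸ hqσ)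
  set Z := ⁅Q, R⁆ with hZ
  have hZQ : Z ≤ Q := CfsgLib.Solvable.commutator_le_of_le_normalizer hRQ
  have hZ1 : Z ≠ ⊥ := fun e => hQR (le_centralizer_iff.1 (commutator_eq_bot_iff_le_centralizer.1 e))
  have hZR : Z = ⁅Z, R⁆ :=
    (CfsgLib.Solvable.commutator_commutator_self hRQ hcop (Or.inr (h.isSolvable_le hH hQH))).symm
  have hRZ : R ≤ normalizer (Z : Set G) := CfsgLib.Solvable.le_normalizer_commutator_right hRQ
  have hfree : Z ⊓ centralizer (R : Set G) = ⊥ := le_bot_iff.1 fun z hz =>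
    (CfsgLib.Solvable.inf_centralizer_inf_commutator R Q hRQ hcop).le ⟨⟨hZQ hz.1, hz.2⟩, hz.1⟩
  rcases hσ2 with hσ | h2
  · by_cases hb : p ∈ beta H
    · refine h.fixed_case_beta hM hH hne hp hb hqσ hqp hrσ hr hrp hPM hP hCP hRM hR hRP ?_ hRQ hQP hZQ hZ1
        hRZ hfree
      refine CfsgLib.PGroup.isPiHallOf_trans hQ (inf_le_inf_right H (piCoreOf_le _ _))
        fun s hs hsq hd => ?_
      rw [Set.mem_singleton_iff.1 hsq] at hd
      refine (h.sigmaCore_hall hM).2.2 q hq hqσ (hd.trans ?_)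
      rw [show sigmaCore M ⊓ H = sigmaCore M ⊓ (M ⊓ H) by
        rw [← inf_assoc, inf_eq_left.2 (show sigmaCore M ≤ M from piCoreOf_le _ _)], inf_relIndex_right,
        ← CfsgLib.PGroup.relIndex_normalized_sup (inf_le_left.trans (h.sigmaCore_normal_le le_rfl)),
        ← relIndex_mul_relIndex (sigmaCore M) (sigmaCore M ⊔ M ⊓ H) M le_sup_left
          (sup_le (piCoreOf_le _ _) inf_le_left)]
      exact dvd_mul_right _ _
    · exact h.fixed_case_sigma hM hH hne hp hσ hb hqσ hqp hPM hP hCP (hQq.to_le hZQ) hZ1 (hZQ.trans hQM)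
        (hZ ▸ commutator_mono hQH (hRP.trans hCP)) (hZQ.trans hQP)
  · exact h.fixed_case_tau2 hM hH hne hp h2 hqσ hqp hr hPM hP (hQq.to_le hZQ) hZ1 (hZQ.trans hQM)
      (hZQ.trans hQH) (hZQ.trans hQP) (hRP.trans hCP) hRr hRZ hZR

end CfsgLib.OddLocal.Sec13
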