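import Cfsg.Agent.Lib.OddLocal.BGPre
import Cfsg.Agent.Lib.OddLocal.Sec13FixedBeta

/-!
BG Lemma 13.4 (S1428) and the predecessors of the rest of section 13, from the bundle of sections 9-10.
-/

set_option autoImplicit false
set_option linter.unusedSectionVars false

namespace CfsgLib.OddLocal.BG

open Cfsg Subgroup

universe u

variable {G : Type u} [Group G] [Finite G]

/-- Statement S1428. -/
theorem Ten.s1428 (h : Ten G)
    (M : Subgroup G) (hM : IsCoatom M) (E : Subgroup G) (hE : Cfsg.IsComplIn E (Cfsg.sigmaCore M) M) (p : ℕ) (hp : p ∈ Cfsg.tau1 M) (P : Subgroup G) (hPE : P ≤ E) (hP : Nat.card P = p)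
    (R : Subgroup G) (hRE : R ≤ E ⊓ Subgroup.centralizer (P : Set G)) (hR : (Nat.card R).Prime) :
    Cfsg.sigmaCore M ⊓ Subgroup.centralizer (P : Set G) ≤ Cfsg.sigmaCore M ⊓ Subgroup.centralizer (R : Set G) := by
  have : Fact p.Prime := ⟨hp.1⟩
  have : Fact (Nat.card R).Prime := ⟨hR⟩
  exact le_inf inf_le_left (h.pre.fixed_le_centralizer_fixed hM hp (hPE.trans hE.1) hP
    (h.pre.compl_isPi hM hE _ hR (card_dvd_of_le (hRE.trans inf_le_left)))
    ((hRE.trans inf_le_left).trans hE.1) rfl (hRE.trans inf_le_right))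

/-- The hypotheses of the later part of section 13 hold. -/
theorem Ten.pre' (h : Ten G) : CfsgLib.OddLocal.Sec13.Pre' G where
  toPre := h.pre
  s1428 := h.s1428

end CfsgLib.OddLocal.BG
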