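import Cfsg.Prelude.Def_OddOrderLocal
import Cfsg.Prelude.Def_Local
import Cfsg.Agent.Lib.PStab.Supplement
import Cfsg.Agent.Lib.Transfer.PSolvable
import Cfsg.Agent.Lib.PGroup.ElemAbelian
import Cfsg.Agent.Lib.PGroup.CoprimeHall
import Cfsg.Agent.Lib.PGroup.AbelianConj
import Cfsg.Agent.Lib.Solvable.UniqueSubgroup
import Cfsg.Agent.Lib.Fusion.SylowTools
import Cfsg.Agent.Lib.Solvable.Generation
import Cfsg.Agent.Lib.PGroup.PLength

/-!
General tools for sections 11-12 of Bender-Glauberman: Sylow subgroups of subgroups, conjugation,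
planes (elementary abelian subgroups of order `p ^ 2`), the factorisation given by `p`-length one.
-/

set_option autoImplicit false

namespace CfsgLib.OddLocal.BG

open Cfsg Subgroup CfsgLib.Solvable
open scoped Pointwise commutatorElement

variable {G : Type*} [Group G] {p q : ℕ}

/-- `S` is a Sylow `p`-subgroup of the subgroup `M`. -/
def SylIn (p : ℕ) (S M : Subgroup G) : Prop :=
  S ≤ M ∧ IsPGroup p S ∧ ¬ p ∣ S.relIndex M

/-- `A` is an elementary abelian subgroup of order `p ^ 2`. -/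
def Plane (p : ℕ) (A : Subgroup G) : Prop :=
  IsElementaryAbelian p A ∧ Nat.card A = p ^ 2

/-! ### Conjugation -/

theorem conj_smul_one (H : Subgroup G) : MulAut.conj (1 : G) • H = H := by
  rw [map_one, one_smul]

theorem conj_inv_smul_smul (g : G) (H : Subgroup G) : MulAut.conj g⁻¹ • (MulAut.conj g • H) = H := by
  rw [conj_smul_conj_smul, inv_mul_cancel, conj_smul_one]

theorem conj_smul_inv_smul (g : G) (H : Subgroup G) : MulAut.conj g • (MulAut.conj g⁻¹ • H) = H := by
  rw [conj_smul_conj_smul, mul_inv_cancel, conj_smul_one]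

theorem le_conj_smul_iff {g : G} {H K : Subgroup G} :
    H ≤ MulAut.conj g • K ↔ MulAut.conj g⁻¹ • H ≤ K := by
  constructor
  · intro h
    simpa [conj_inv_smul_smul] using conj_smul_mono g⁻¹ h
  · intro h
    simpa [conj_smul_inv_smul] using conj_smul_mono g h

theorem conj_smul_le_conj_iff {g : G} {H K : Subgroup G} :
    MulAut.conj g • H ≤ MulAut.conj g • K ↔ H ≤ K := by
  rw [le_conj_smul_iff, conj_inv_smul_smul]

theorem isCoatom_conj {g : G} {M : Subgroup G} (hM : IsCoatom M) : IsCoatom (MulAut.conj g • M) :=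
  (OrderIso.isCoatom_iff (MulEquiv.mapSubgroup (MulAut.conj g : G ≃* G)) M).2 hM

theorem conj_centralizer (g : G) (X : Subgroup G) :
    MulAut.conj g • Subgroup.centralizer (X : Set G) =
      Subgroup.centralizer ((MulAut.conj g • X : Subgroup G) : Set G) := by
  ext y
  rw [mem_conj_smul_iff, mem_centralizer_iff, mem_centralizer_iff]
  constructor
  · intro h x hx
    have h1 := h _ (mem_conj_smul_iff.1 hx)
    calc x * y = g * ((g⁻¹ * x * g) * (g⁻¹ * y * g)) * g⁻¹ := by group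
      _ = g * ((g⁻¹ * y * g) * (g⁻¹ * x * g)) * g⁻¹ := by rw [h1]
      _ = y * x := by group
  · intro h x hx
    have hx' : g * x * g⁻¹ ∈ MulAut.conj g • X := conj_smul_le_iff.1 le_rfl x hx
    have h1 := h _ hx'
    calc x * (g⁻¹ * y * g) = g⁻¹ * ((g * x * g⁻¹) * y) * g := by group
      _ = g⁻¹ * (y * (g * x * g⁻¹)) * g := by rw [h1]
      _ = g⁻¹ * y * g * x := by group

theorem mem_normalizer_of_smul_le [Finite G] {g : G} {H : Subgroup G} (h : MulAut.conj g • H ≤ H) :
    g ∈ Subgroup.normalizer (H : Set G) :=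
  mem_normalizer_iff_conj_smul.2 (Subgroup.eq_of_le_of_card_ge h (card_conj_smul g H).ge)

theorem isPGroup_conj {H : Subgroup G} (h : IsPGroup p H) (g : G) :
    IsPGroup p (MulAut.conj g • H : Subgroup G) :=
  h.map (MulAut.conj g).toMonoidHom

theorem isElementaryAbelian_conj {H : Subgroup G} (h : IsElementaryAbelian p H) (g : G) :
    IsElementaryAbelian p (MulAut.conj g • H : Subgroup G) :=
  CfsgLib.PGroup.elemAb_map h (MulAut.conj g).toMonoidHom

theorem plane_conj {A : Subgroup G} (h : Plane p A) (g : G) : Plane p (MulAut.conj g • A) :=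
  ⟨isElementaryAbelian_conj h.1 g, by rw [card_conj_smul]; exact h.2⟩

/-! ### Sylow subgroups of subgroups -/

theorem relIndex_conj (g : G) (H K : Subgroup G) :
    (MulAut.conj g • H).relIndex (MulAut.conj g • K) = H.relIndex K :=
  Subgroup.relIndex_pointwise_smul (MulAut.conj g) H K

theorem SylIn.conj {S M : Subgroup G} (h : SylIn p S M) (g : G) :
    SylIn p (MulAut.conj g • S) (MulAut.conj g • M) :=
  ⟨conj_smul_mono g h.1, isPGroup_conj h.2.1 g, by rw [relIndex_conj]; exact h.2.2⟩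

theorem SylIn.conj_of_mem {S M : Subgroup G} (h : SylIn p S M) {g : G} (hg : g ∈ M) :
    SylIn p (MulAut.conj g • S) M := by
  have := h.conj g
  rwa [conj_smul_self_of_mem_normalizer (le_normalizer hg)] at this

variable [Finite G]

theorem sylIn_map [Fact p.Prime] {M : Subgroup G} (P : Sylow p M) :
    SylIn p ((P : Subgroup M).map M.subtype) M := by
  refine ⟨map_subtype_le _, P.isPGroup'.map _, ?_⟩
  rw [relIndex, subgroupOf, comap_map_eq_self_of_injective M.subtype_injective]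
  exact P.not_dvd_index

theorem sylIn_top [Fact p.Prime] (P : Sylow p G) : SylIn p (P : Subgroup G) ⊤ :=
  ⟨le_top, P.isPGroup', by rw [relIndex_top_right]; exact P.not_dvd_index⟩

theorem SylIn.exists_sylow [Fact p.Prime] {S : Subgroup G} (h : SylIn p S ⊤) :
    ∃ P : Sylow p G, (P : Subgroup G) = S :=
  ⟨h.2.1.toSylow (by rw [← relIndex_top_right]; exact h.2.2), IsPGroup.toSylow_coe _ _⟩

theorem exists_sylIn_ge [Fact p.Prime] {X M : Subgroup G} (hX : IsPGroup p X) (hXM : X ≤ M) :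
    ∃ S, SylIn p S M ∧ X ≤ S := by
  obtain ⟨P, hP⟩ := (hX.comap_subtype (K := M)).exists_le_sylow
  refine ⟨_, sylIn_map P, ?_⟩
  rw [← map_subgroupOf_eq_of_le hXM]
  exact map_mono hP

theorem exists_sylIn (p : ℕ) [Fact p.Prime] (M : Subgroup G) : ∃ S, SylIn p S M :=
  ⟨_, sylIn_map (Classical.arbitrary (Sylow p M))⟩

theorem SylIn.eq_of_le [Fact p.Prime] {S R M : Subgroup G} (h : SylIn p S M) (hR : IsPGroup p R)
    (hSR : S ≤ R) (hRM : R ≤ M) : S = R :=
  CfsgLib.Fusion.eq_of_le_of_not_dvd hR hSR hRM h.2.2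

theorem SylIn.exists_conj_le [Fact p.Prime] {S X M : Subgroup G} (h : SylIn p S M)
    (hX : IsPGroup p X) (hXM : X ≤ M) : ∃ g ∈ M, MulAut.conj g • X ≤ S := by
  obtain ⟨g, hg, hgx⟩ := CfsgLib.Fusion.exists_conj_mem_of_le hX h.2.1 hXM h.1 h.2.2
  exact ⟨g, hg, conj_smul_le_iff.2 hgx⟩

theorem SylIn.exists_conj_eq [Fact p.Prime] {S T M : Subgroup G} (hS : SylIn p S M) (hT : SylIn p T M) :
    ∃ g ∈ M, MulAut.conj g • T = S := by
  obtain ⟨g, hg, hle⟩ := hS.exists_conj_le hT.2.1 hT.1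
  exact ⟨g, hg, (hT.conj_of_mem hg).eq_of_le hS.2.1 hle hS.1⟩

theorem SylIn.mono {S H M : Subgroup G} (h : SylIn p S M) (hSH : S ≤ H) (hHM : H ≤ M) :
    SylIn p S H :=
  ⟨hSH, h.2.1, fun hd => h.2.2 (hd.trans (relIndex_dvd_of_le_right_of_le hSH hHM))⟩
where
  relIndex_dvd_of_le_right_of_le {S H M : Subgroup G} (hSH : S ≤ H) (hHM : H ≤ M) :
      S.relIndex H ∣ S.relIndex M := ⟨_, (relIndex_mul_relIndex S H M hSH hHM).symm⟩

theorem SylIn.card_dvd [Fact p.Prime] {S X M : Subgroup G} (h : SylIn p S M) (hX : IsPGroup p X)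
    (hXM : X ≤ M) : Nat.card X ∣ Nat.card S := by
  obtain ⟨g, -, hle⟩ := h.exists_conj_le hX hXM
  rw [← card_conj_smul g X]
  exact card_dvd_of_le hle

theorem SylIn.ne_bot [Fact p.Prime] {S M : Subgroup G} (h : SylIn p S M) (hd : p ∣ Nat.card M) :
    S ≠ ⊥ := by
  rintro rfl
  exact h.2.2 (by rw [relIndex_bot_left]; exact hd)

/-- Frattini: a Sylow subgroup which is not the whole grows inside a larger one. -/
theorem SylIn.exists_mem_normalizer_notMem [Fact p.Prime] {S T M : Subgroup G} (h : SylIn p S M)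
    (hT : IsPGroup p T) (hST : S ≤ T) (hne : S ≠ T) :
    ∃ t ∈ T, t ∈ Subgroup.normalizer (S : Set G) ∧ t ∉ M := by
  have := hT.isNilpotent
  have hlt : S.subgroupOf T < ⊤ := lt_top_iff_ne_top.2 fun he =>
    hne (le_antisymm hST (Subgroup.subgroupOf_eq_top.1 he))
  obtain ⟨x, hx, hxS⟩ := SetLike.exists_of_lt
    ((Group.normalizerCondition_of_isNilpotent (G := T)) (S.subgroupOf T) hlt)
  have hxn : (x : G) ∈ Subgroup.normalizer (S : Set G) := by
    refine mem_normalizer_of_conj_mem fun s hs => ?_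
    exact (mem_normalizer_iff.1 hx ⟨s, hST hs⟩).1 hs
  refine ⟨x, x.2, hxn, fun hxM => hxS ?_⟩
  have hsup : IsPGroup p (S ⊔ zpowers (x : G) : Subgroup G) :=
    hT.to_le (sup_le hST (zpowers_le.2 x.2))
  have he := h.eq_of_le hsup le_sup_left (sup_le h.1 (zpowers_le.2 hxM))
  exact show (x : G) ∈ S from he.ge (mem_sup_right (mem_zpowers _))

/-- A coprime group of operators fixes a Sylow subgroup above a given invariant `p`-subgroup. -/
theorem exists_invariant_sylIn_ge [Fact p.Prime] {A K U : Subgroup G}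
    (hAK : A ≤ Subgroup.normalizer (K : Set G)) (hcop : (Nat.card A).Coprime (Nat.card K))
    (hs : Group.IsSolvable A ∨ Group.IsSolvable K) (hUK : U ≤ K) (hU : IsPGroup p U)
    (hUA : A ≤ Subgroup.normalizer (U : Set G)) :
    ∃ S, SylIn p S K ∧ U ≤ S ∧ A ≤ Subgroup.normalizer (S : Set G) := by
  obtain ⟨P, h1, h2⟩ := exists_invariant_sylow_ge (A := A) (K := K) hAK hcop hs p hUK hU hUA
  exact ⟨_, sylIn_map P, h1, h2⟩

/-! ### Orders -/

theorem coprime_of_isPGroup [Fact p.Prime] {P K : Subgroup G} (hP : IsPGroup p P)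
    (hK : ¬ p ∣ Nat.card K) : (Nat.card P).Coprime (Nat.card K) := by
  obtain ⟨n, hn⟩ := IsPGroup.iff_card.1 hP
  rw [hn]
  exact Nat.Coprime.pow_left n ((Fact.out : p.Prime).coprime_iff_not_dvd.2 hK)

theorem prime_eq_of_dvd_isPGroup [hp : Fact p.Prime] {P : Subgroup G} (hP : IsPGroup p P) {r : ℕ}
    (hr : r.Prime) (h : r ∣ Nat.card P) : r = p := by
  obtain ⟨n, hn⟩ := IsPGroup.iff_card.1 hP
  rw [hn] at h
  exact (Nat.prime_dvd_prime_iff_eq hr hp.out).1 (hr.dvd_of_dvd_pow h)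

theorem coprime_isPGroup [Fact p.Prime] [hq : Fact q.Prime] {P Q : Subgroup G} (hP : IsPGroup p P)
    (hQ : IsPGroup q Q) (hpq : p ≠ q) : (Nat.card P).Coprime (Nat.card Q) :=
  coprime_of_isPGroup hP fun h => hpq (prime_eq_of_dvd_isPGroup hQ Fact.out h)

theorem inf_eq_bot_of_ne [Fact p.Prime] [Fact q.Prime] {P Q : Subgroup G} (hP : IsPGroup p P)
    (hQ : IsPGroup q Q) (hpq : p ≠ q) : P ⊓ Q = ⊥ :=
  disjoint_of_coprime (coprime_isPGroup hP hQ hpq)

theorem dvd_card_of_ne_bot [Fact p.Prime] {P : Subgroup G} (hP : IsPGroup p P) (h : P ≠ ⊥) :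
    p ∣ Nat.card P := by
  obtain ⟨n, hn⟩ := IsPGroup.iff_card.1 hP
  rcases Nat.eq_zero_or_pos n with rfl | h0
  · exact absurd (eq_bot_of_card_eq _ (by simpa using hn)) h
  · rw [hn]; exact dvd_pow_self p h0.ne'

theorem exists_card_prime_le [hp : Fact p.Prime] {P : Subgroup G} (h : p ∣ Nat.card P) :
    ∃ X ≤ P, Nat.card X = p := by
  obtain ⟨x, hx⟩ := exists_prime_orderOf_dvd_card' (G := P) p h
  exact ⟨zpowers (x : G), zpowers_le.2 x.2, by rw [Nat.card_zpowers, orderOf_coe, hx]⟩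

omit [Finite G] in
theorem isPGroup_of_card_prime (p : ℕ) [Fact p.Prime] {X : Subgroup G} (h : Nat.card X = p) :
    IsPGroup p X :=
  IsPGroup.of_card (n := 1) (by rw [pow_one]; exact h)

omit [Finite G] in
theorem ne_bot_of_card_prime [hp : Fact p.Prime] {X : Subgroup G} (h : Nat.card X = p) : X ≠ ⊥ := by
  rintro rfl
  rw [card_bot] at h
  exact hp.out.ne_one h.symm

theorem inf_eq_bot_or_le [hp : Fact p.Prime] {X H : Subgroup G} (h : Nat.card X = p) :
    X ⊓ H = ⊥ ∨ X ≤ H := by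
  rcases (Nat.dvd_prime hp.out).1 (h ▸ card_dvd_of_le (inf_le_left : X ⊓ H ≤ X)) with h1 | h1
  · exact Or.inl (eq_bot_of_card_eq _ h1)
  · exact Or.inr (inf_eq_left.1 (eq_of_le_of_card_ge inf_le_left (by rw [h, h1])))

theorem eq_of_le_card_prime [hp : Fact p.Prime] {X Y : Subgroup G} (hX : Nat.card X = p)
    (hY : Nat.card Y = p) (h : X ≤ Y) : X = Y :=
  eq_of_le_of_card_ge h (by rw [hX, hY])

/-! ### Planes -/

theorem Plane.isPGroup {A : Subgroup G} (h : Plane p A) : IsPGroup p A :=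
  CfsgLib.PGroup.elemAb_isPGroup h.1

theorem Plane.ne_bot [hp : Fact p.Prime] {A : Subgroup G} (h : Plane p A) : A ≠ ⊥ := by
  rintro rfl
  have := h.2
  rw [card_bot] at this
  exact (Nat.one_lt_pow two_ne_zero hp.out.one_lt).ne this

theorem Plane.not_isCyclic [hp : Fact p.Prime] {A : Subgroup G} (h : Plane p A) : ¬ IsCyclic A := by
  intro hc
  obtain ⟨g, hg⟩ := IsCyclic.exists_ofOrder_eq_natCard (α := A)
  rw [h.2] at hg
  have h1 : (g : G) ^ p = 1 := h.1.2 g g.2
  have h2 : orderOf g ∣ p := orderOf_dvd_of_pow_eq_one (Subtype.ext h1)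
  rw [hg] at h2
  have h3 := Nat.le_of_dvd hp.out.pos h2
  nlinarith [hp.out.two_le]

theorem Plane.comm {A : Subgroup G} (h : Plane p A) : ∀ x ∈ A, ∀ y ∈ A, x * y = y * x :=
  fun _ hx _ hy => CfsgLib.PGroup.elemAb_comm h.1 hx hy

theorem Plane.le_centralizer {A : Subgroup G} (h : Plane p A) : A ≤ Subgroup.centralizer (A : Set G) :=
  fun _ hx => mem_centralizer_iff.2 fun _ hy => h.comm _ hy _ hx

theorem Plane.card_zpowers [Fact p.Prime] {A : Subgroup G} (h : Plane p A) {a : G} (ha : a ∈ A)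
    (h1 : a ≠ 1) : Nat.card (zpowers a) = p := by
  rw [Nat.card_zpowers, CfsgLib.PGroup.elemAb_orderOf h.1 ha h1]

/-- Two different lines of a plane generate it. -/
theorem Plane.sup_eq [hp : Fact p.Prime] {A X Y : Subgroup G} (h : Plane p A) (hX : X ≤ A) (hY : Y ≤ A)
    (hXc : Nat.card X = p) (hYc : Nat.card Y = p) (hne : X ≠ Y) : X ⊔ Y = A := by
  have hd : X ⊓ Y = ⊥ := (inf_eq_bot_or_le hXc).resolve_right fun hle =>
    hne (eq_of_le_card_prime hXc hYc hle)
  refine eq_of_le_of_card_ge (sup_le hX hY) ?_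
  have hn : Y ≤ Subgroup.normalizer (X : Set G) := fun y hy =>
    centralizer_le_normalizer _ (mem_centralizer_iff.2 fun x hx => h.comm _ (hX hx) _ (hY hy))
  rw [card_sup_of_disjoint hn hd, hXc, hYc, h.2]
  exact le_of_eq (by ring)

theorem Plane.centralizer_eq [Fact p.Prime] {A X Y : Subgroup G} (h : Plane p A) (hX : X ≤ A)
    (hY : Y ≤ A) (hXc : Nat.card X = p) (hYc : Nat.card Y = p) (hne : X ≠ Y) :
    Subgroup.centralizer (A : Set G) = Subgroup.centralizer (X : Set G) ⊓ Subgroup.centralizer (Y : Set G) := by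
  refine le_antisymm (le_inf (centralizer_le hX) (centralizer_le hY)) fun g hg => ?_
  have h2 : A ≤ Subgroup.centralizer ({g} : Set G) := by
    rw [← h.sup_eq hX hY hXc hYc hne]
    exact sup_le
      (fun x hx => mem_centralizer_singleton_iff.2 (mem_centralizer_iff.1 hg.1 x hx))
      (fun x hx => mem_centralizer_singleton_iff.2 (mem_centralizer_iff.1 hg.2 x hx))
  exact mem_centralizer_iff.2 fun a ha => mem_centralizer_singleton_iff.1 (h2 ha)

/-- A plane acting on a group of coprime order: generation by centralisers of lines. -/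
theorem Plane.generated [Fact p.Prime] {A K : Subgroup G} (h : Plane p A)
    (hAK : A ≤ Subgroup.normalizer (K : Set G)) (hK : ¬ p ∣ Nat.card K) {T : Subgroup G}
    (hT : ∀ X ≤ A, Nat.card X = p → K ⊓ Subgroup.centralizer (X : Set G) ≤ T) : K ≤ T := by
  refine le_of_eq_of_le (iSup_centralizer_eq h.comm h.not_isCyclic hAK
    (coprime_of_isPGroup h.isPGroup hK)).symm (iSup₂_le fun a ha => ?_)
  refine le_trans ?_ (hT _ (zpowers_le.2 ha.1) (h.card_zpowers ha.1 ha.2))
  rw [Subgroup.zpowers_eq_closure, Subgroup.centralizer_closure]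

/-! ### Rank -/

theorem not_rankLE_of_card [hp : Fact p.Prime] {k : ℕ} {A K : Subgroup G} (hAK : A ≤ K)
    (hA : IsElementaryAbelian p A) (hc : p ^ (k + 1) ≤ Nat.card A) : ¬ RankLE k K := fun h => by
  have h1 := (CfsgLib.PGroup.pRankLE_subgroup_iff K).1 (h p hp.out) A hAK hA
  have h2 : p ^ k < p ^ (k + 1) := Nat.pow_lt_pow_right hp.out.one_lt k.lt_succ_self
  omega

theorem not_pRankLE_of_card [hp : Fact p.Prime] {k : ℕ} {A K : Subgroup G} (hAK : A ≤ K)
    (hA : IsElementaryAbelian p A) (hc : p ^ (k + 1) ≤ Nat.card A) : ¬ PRankLE p k K := fun h => by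
  have h1 := (CfsgLib.PGroup.pRankLE_subgroup_iff K).1 h A hAK hA
  have h2 : p ^ k < p ^ (k + 1) := Nat.pow_lt_pow_right hp.out.one_lt k.lt_succ_self
  omega

theorem exists_plane_of_not_pRankLE_one [hp : Fact p.Prime] {K : Subgroup G} (h : ¬ PRankLE p 1 K) :
    ∃ A ≤ K, Plane p A := by
  rw [CfsgLib.PGroup.pRankLE_subgroup_iff] at h
  push Not at h
  obtain ⟨E, hEK, hE, hlt⟩ := h
  obtain ⟨n, hn⟩ := CfsgLib.PGroup.elemAb_card hE
  have h2 : 2 ≤ n := by
    rw [hn] at hlt
    exact (Nat.pow_lt_pow_iff_right hp.out.one_lt).1 hlt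
  obtain ⟨A, hA⟩ := Sylow.exists_subgroup_card_pow_prime (G := E) p (n := 2) (hn ▸ pow_dvd_pow p h2)
  refine ⟨A.map E.subtype, (map_subtype_le A).trans hEK,
    CfsgLib.PGroup.elemAb_mono hE (map_subtype_le A), ?_⟩
  rw [card_map_of_injective E.subtype_injective]
  exact hA

/-- A `p`-group without planes is cyclic (`p` odd). -/
theorem isCyclic_of_pRankLE_one [hp : Fact p.Prime] (hp2 : p ≠ 2) {P : Subgroup G} (hP : IsPGroup p P)
    (h : PRankLE p 1 P) : IsCyclic P := by
  refine (isCyclic_or_quaternion hP ?_).resolve_right fun h' => hp2 h'.1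
  by_contra hu
  obtain ⟨E, hEP, hEc, hEcard, hEexp⟩ := CfsgLib.PGroup.exists_plane_of_not_unique hP hu
  exact not_pRankLE_of_card hEP ⟨hEc, hEexp⟩ (le_of_eq hEcard.symm) h

/-- A noncyclic `p`-group contains a plane (`p` odd). -/
theorem exists_plane_of_not_isCyclic [hp : Fact p.Prime] (hp2 : p ≠ 2) {P : Subgroup G}
    (hP : IsPGroup p P) (h : ¬ IsCyclic P) : ∃ A ≤ P, Plane p A :=
  exists_plane_of_not_pRankLE_one fun h1 => h (isCyclic_of_pRankLE_one hp2 hP h1)

/-! ### `p`-length one -/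

/-- `O_{p'}(H)` as a subgroup of `G`. -/
def opPrime (p : ℕ) (H : Subgroup G) : Subgroup G :=
  (pPrimeCore p H).map H.subtype

theorem opPrime_le (p : ℕ) (H : Subgroup G) : opPrime p H ≤ H := map_subtype_le _

theorem le_normalizer_opPrime (p : ℕ) (H : Subgroup G) :
    H ≤ Subgroup.normalizer (opPrime p H : Set G) := by
  have : (pPrimeCore p H).Normal :=
    have := CfsgLib.Cores.pPrimeCore_characteristic (G := H) p
    inferInstance
  refine (normal_subgroupOf_iff_le_normalizer (opPrime_le p H)).1 ?_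
  rw [opPrime, subgroupOf, comap_map_eq_self_of_injective H.subtype_injective]
  infer_instance

theorem not_dvd_card_opPrime [hp : Fact p.Prime] (H : Subgroup G) :
    ¬ p ∣ Nat.card (opPrime p H) := by
  rw [opPrime, card_map_of_injective H.subtype_injective]
  exact (CfsgLib.Cores.coprime_iff_not_dvd hp.out _).1 (CfsgLib.Cores.coprime_card_pPrimeCore p)

/-- In a group of `p`-length one, `H = O_{p'}(H) N_H(S)` for a Sylow `p`-subgroup `S`. -/
theorem exists_mul_of_pLengthLE [Fact p.Prime] {H S : Subgroup G} (hH : PLengthLE p 1 H)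
    (hS : SylIn p S H) {h : G} (hh : h ∈ H) :
    ∃ u ∈ opPrime p H, ∃ n ∈ H ⊓ Subgroup.normalizer (S : Set G), h = u * n := by
  set K := (upperPSeries p H 1).1 with hKdef
  set W := (upperPSeries p H 2).1 with hWdef
  have hKn : K.Normal := (upperPSeries p H 1).2
  have hWn : W.Normal := (upperPSeries p H 2).2
  have hK : K = pPrimeCore p H := CfsgLib.PGroup.useries_one p H
  have htop : pPrimeCore p (H ⧸ W) = ⊤ := by
    have h3 : (upperPSeries p H (2 + 1)).1 = ⊤ := hH
    rw [CfsgLib.Transfer.upperPSeries_succ_of_even p H (n := 2) (by decide)] at h3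
    have := congrArg (Subgroup.map (QuotientGroup.mk' W)) h3
    rwa [Subgroup.map_comap_eq_self_of_surjective (QuotientGroup.mk'_surjective W),
      Subgroup.map_top_of_surjective _ (QuotientGroup.mk'_surjective W)] at this
  have hidx : (Nat.card (H ⧸ W)).Coprime p := by
    have := CfsgLib.Cores.coprime_card_pPrimeCore (G := H ⧸ W) p
    rwa [htop, Subgroup.card_top] at this
  obtain ⟨hSH, hSp, hSi⟩ := id hS
  obtain ⟨P, hP⟩ : ∃ P : Sylow p H, (P : Subgroup H) = S.subgroupOf H :=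
    ⟨(hSp.comap_subtype (K := H)).toSylow hSi, rfl⟩
  have hPS : (P : Subgroup H).map H.subtype = S := by
    rw [hP]
    exact map_subgroupOf_eq_of_le hSH
  have hPW : (P : Subgroup H) ≤ W := by
    intro x hx
    rw [← QuotientGroup.ker_mk' W, MonoidHom.mem_ker]
    obtain ⟨k, hk⟩ := P.isPGroup' ⟨x, hx⟩
    have hk' : x ^ p ^ k = 1 := congrArg Subtype.val hk
    refine orderOf_eq_one_iff.1 (Nat.eq_one_of_dvd_coprimes (hidx.pow_right k) (orderOf_dvd_natCard _) ?_)
    exact (orderOf_map_dvd _ _).trans (orderOf_dvd_of_pow_eq_one hk')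
  have hKP : W ≤ K ⊔ (P : Subgroup H) := by
    rw [hWdef, CfsgLib.Transfer.upperPSeries_succ_of_odd p H (n := 1) (by decide)]
    refine le_trans (Subgroup.comap_mono
      (CfsgLib.Cores.pCore_le_sylow (P.mapSurjective (QuotientGroup.mk'_surjective K)))) ?_
    rw [Sylow.coe_mapSurjective, Subgroup.comap_map_eq, QuotientGroup.ker_mk', sup_comm]
  have hKN : K ⊔ Subgroup.normalizer ((P : Subgroup H) : Set H) = ⊤ := by
    have h1 := Sylow.normalizer_sup_eq_top' P (N := W) hPW
    exact eq_top_iff.2 (h1.ge.trans (sup_le le_sup_right (hKP.trans (sup_le le_sup_left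
      (Subgroup.le_normalizer.trans le_sup_right)))))
  obtain ⟨u, hu, n, hn, hun⟩ := exists_mul_of_mem_sup (K := K)
    (le_top.trans (Subgroup.normalizer_eq_top_iff.2 hKn).ge) (hKN.ge (mem_top (⟨h, hh⟩ : H)))
  refine ⟨u, ?_, n, ⟨n.2, ?_⟩, congrArg Subtype.val hun⟩
  · rw [opPrime, ← hK]
    exact mem_map_of_mem _ hu
  · refine mem_normalizer_of_conj_mem fun s hs => ?_
    rw [← hPS] at hs ⊢
    obtain ⟨s', hs', rfl⟩ := hs
    exact ⟨_, (mem_normalizer_iff.1 hn s').1 hs', rfl⟩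

end CfsgLib.OddLocal.BG
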