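import Cfsg.Agent.Lib.OddLocal.Bender
import Cfsg.Agent.Lib.PStab.TransHyp
import Cfsg.Agent.Lib.Solvable.CoprimeAction
import Cfsg.Agent.Lib.Local.AB
import Cfsg.Agent.S1442

/-!
Bender's lemma: for a maximal local subgroup `H` whose Fitting subgroup `F` has two prime divisors, a
subgroup `M ≤ F` containing its centralizer in `F` forces invariant `π(F)'`-subgroups of solvable groups
into their `π(F)'`-core.
-/

set_option autoImplicit false
set_option linter.unusedSectionVars false

namespace CfsgLib.OddLocal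

open Cfsg Subgroup
open scoped commutatorElement
open CfsgLib.Solvable (nilPart nilPart_le le_nilPart isPGroup_nilPart)

variable {G : Type*} [Group G] [Finite G]

omit [Finite G] in
theorem le_piCoreOf {π : Set ℕ} {X Y : Subgroup G} (hYX : Y ≤ X) (hn : X ≤ normalizer (Y : Set G))
    (hY : ∀ r : ℕ, r.Prime → r ∣ Nat.card Y → r ∈ π) : Y ≤ piCoreOf π X := by
  rw [← map_subgroupOf_eq_of_le hYX]
  exact map_mono (le_sSup (α := Subgroup X)
    (show Y.subgroupOf X ∈ {N : Subgroup X | N.Normal ∧ ∀ r : ℕ, r.Prime → r ∣ Nat.card N → r ∈ π} from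
      ⟨(normal_subgroupOf_iff_le_normalizer hYX).2 hn, fun r hr hd =>
        hY r hr (Nat.card_congr (subgroupOfEquivOfLe hYX).toEquiv ▸ hd)⟩))

theorem le_normalizer_piCoreOf (π : Set ℕ) (X : Subgroup G) : X ≤ normalizer (piCoreOf π X : Set G) :=
  le_normalizer.trans (CfsgLib.PStab.normalizer_le_normalizer_piCoreOf π X)

/-- The core of the argument, in a group where the `π(F)'`-core is trivial: a `q`-subgroup `Q` without
fixed points for commuting central pieces, each piece centralizing the Fitting parts of the other primes. -/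
theorem eq_bot_of_central_pieces {X : Type*} [Group X] [Finite X] {R Q : Subgroup X} {q : ℕ}
    [Fact q.Prime] (hR : Group.IsSolvable R) (hQR : Q ≤ R) (hQ : IsPGroup q Q)
    (S : Finset ℕ) (hS : ∀ p ∈ S, p.Prime) (hS2 : 2 ≤ S.card) (hqS : q ∉ S)
    (Z : ℕ → Subgroup X) (hZp : ∀ p ∈ S, IsPGroup p (Z p))
    (hZc : ∀ p ∈ S, ∀ r ∈ S, Z p ≤ centralizer (Z r : Set X))
    (hZR : ∀ p ∈ S, Z p ≤ normalizer (R : Set X)) (hZQ : ∀ p ∈ S, Z p ≤ normalizer (Q : Set X))
    (hfix : ∀ p ∈ S, Q ⊓ centralizer (Z p : Set X) = ⊥)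
    (hπ : ∀ r : ℕ, r.Prime → r ∣ Nat.card (fittingOf R) → r ∈ S)
    (hcross : ∀ p ∈ S, ∀ r ∈ S, p ≠ r →
      nilPart r (fittingOf R) ⊓ centralizer (Z r : Set X) ≤ centralizer (Z p : Set X)) :
    Q = ⊥ := by
  have hF := isNilpotent_fittingOf R
  have hQc : Q ≤ centralizer (fittingOf R : Set X) := centralizes_of_parts hF fun r hr hd => by
    have hrS := hπ r hr hd
    obtain ⟨p, hpS, hpr⟩ := Finset.exists_mem_ne (Nat.lt_of_succ_le hS2) r
    have : Fact r.Prime := ⟨hr⟩
    have : Fact p.Prime := ⟨hS p hpS⟩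
    set V := nilPart r (fittingOf R) with hV
    have hNV : normalizer (R : Set X) ≤ normalizer (V : Set X) :=
      (normalizer_le_normalizer_fittingOf R).trans (CfsgLib.Solvable.normalizer_le_normalizer_nilPart r _)
    have hpV : Z p ≤ centralizer (V : Set X) := by
      intro z hz
      refine mem_centralizer_iff.2 fun v hv => (CfsgLib.Local.commute_of_commute_fixedPoints (hZp r hrS)
        (fun u hu => (mem_centralizer_iff.1 (hZc p hpS r hrS hz) u hu).symm) ?_ V isPGroup_nilPart
        ((hZR r hrS).trans hNV) (hNV (hZR p hpS hz)) (fun w hw hwu => ?_) v hv).symm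
      · obtain ⟨i, hi⟩ := IsPGroup.iff_orderOf.1 (hZp p hpS) ⟨z, hz⟩
        rw [← Subgroup.orderOf_coe] at hi
        rw [show orderOf z = p ^ i from hi]
        exact ((Nat.coprime_primes (hS p hpS) hr).2 hpr).pow_left i
      · exact mem_centralizer_iff.1
          (hcross p hpS r hrS hpr ⟨hw, mem_centralizer_iff.2 fun u hu => hwu u hu⟩) z hz
    have hcop : (Nat.card (Z p)).Coprime (Nat.card Q) := by
      obtain ⟨i, hi⟩ := IsPGroup.iff_card.1 (hZp p hpS)
      obtain ⟨j, hj⟩ := IsPGroup.iff_card.1 hQ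
      rw [hi, hj]
      exact ((Nat.coprime_primes (hS p hpS) (Fact.out : q.Prime)).2 fun h => hqS (h ▸ hpS)).pow i j
    have hgen : ⁅Q, Z p⁆ = Q := by
      have := (hZp p hpS).isNilpotent
      have h := CfsgLib.Solvable.commutator_sup_centralizer (K := Q) (A := Z p) (hZQ p hpS) hcop
        (Or.inl inferInstance)
      rwa [hfix p hpS, sup_bot_eq] at h
    rw [← hgen]
    refine (commutator_mono le_rfl hpV).trans ?_
    rw [← le_normalizer_iff_commutator_le_right]
    exact hQR.trans (le_normalizer.trans (hNV.trans (CfsgLib.Solvable.normalizer_le_normalizer_centralizer V)))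
  have hle : Q ≤ fittingOf R := (le_inf hQR hQc).trans (inf_centralizer_fittingOf_le hR)
  obtain ⟨i, hi⟩ := IsPGroup.iff_card.1 hQ
  refine eq_bot_of_card_eq _ ?_
  rcases Nat.eq_zero_or_pos i with h0 | h0
  · rw [hi, h0, pow_zero]
  · exact absurd (hπ q Fact.out ((dvd_pow_self q h0.ne').trans (hi ▸ card_dvd_of_le hle))) hqS

section

variable {H M R : Subgroup G}
    (hH : IsLocalSubgroup H) (hHmax : ∀ L : Subgroup G, IsLocalSubgroup L → H ≤ L → L = H)
    (hM : M ≤ fittingOf H) (hCM : fittingOf H ⊓ centralizer (M : Set G) ≤ M)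
    (hR : Group.IsSolvable R) (hMR : M ≤ normalizer (R : Set G))
    (hXR : H ⊓ centralizer (fittingOf H : Set G) ≤ normalizer (R : Set G))

include hH hHmax in
theorem normalizer_zPart_eq {p : ℕ} [Fact p.Prime] (hp : p ∣ Nat.card (fittingOf H)) :
    normalizer ((nilPart p (fittingOf H) ⊓ centralizer (fittingOf H : Set G) : Subgroup G) : Set G) = H :=
  hHmax _ ⟨p, _, Fact.out, (isPGroup_nilPart (p := p) (A := fittingOf H)).to_le inf_le_left,
    zPart_ne_bot (isNilpotent_fittingOf H) hp, rfl⟩ (le_normalizer_zPart p H)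

include hM hCM hR hMR hXR in
/-- An `M`-invariant `π(F)'`-subgroup of `R` meets `H` trivially. -/
theorem inf_eq_bot_of_invariant {D : Subgroup G} (hDR : D ≤ R) (hMD : M ≤ normalizer (D : Set G))
    (hD : (Nat.card D).Coprime (Nat.card (fittingOf H))) : D ⊓ H = ⊥ := by
  set F := fittingOf H with hFdef
  set E := D ⊓ H with hE
  have hcopE : (Nat.card E).Coprime (Nat.card F) := hD.coprime_dvd_left (card_dvd_of_le inf_le_left)
  have hdis : E ⊓ F = ⊥ := disjoint_iff.1 (disjoint_of_coprime_natCard hcopE)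
  have hEM : M ≤ centralizer (E : Set G) := by
    rw [← commutator_eq_bot_iff_le_centralizer, eq_bot_iff]
    refine le_trans (le_inf ?_ ?_) hdis.le
    · rw [← le_normalizer_iff_commutator_le_right]
      exact CfsgLib.Solvable.le_normalizer_inf hMD ((hM.trans (fittingOf_le H)).trans le_normalizer)
    · refine (commutator_mono hM le_rfl).trans ?_
      rw [← le_normalizer_iff_commutator_le_left]
      exact inf_le_right.trans (le_normalizer_fittingOf H)
  have hEF : E ≤ centralizer (F : Set G) := by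
    refine Cfsg.Agent.S1442.result F E (isNilpotent_fittingOf H)
      (inf_le_right.trans (le_normalizer_fittingOf H)) hcopE ?_
    refine le_trans (inf_le_inf_left _ (centralizer_le (le_inf hM hEM))) (hCM.trans ?_)
    exact le_inf hM hEM
  set X := H ⊓ centralizer (F : Set G) with hX
  set Y := X ⊓ R with hY
  have hEY : E ≤ Y := le_inf (le_inf inf_le_right hEF) (inf_le_left.trans hDR)
  have hYF : fittingOf Y ≤ F := by
    have hHX : H ≤ normalizer (X : Set G) := CfsgLib.Solvable.le_normalizer_inf le_normalizer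
      ((le_normalizer_fittingOf H).trans (CfsgLib.Solvable.normalizer_le_normalizer_centralizer F))
    have hXY : X ≤ normalizer (Y : Set G) := CfsgLib.Solvable.le_normalizer_inf le_normalizer hXR
    have h1 : fittingOf Y ≤ fittingOf X := le_fittingOf ((fittingOf_le Y).trans inf_le_left)
      (hXY.trans (normalizer_le_normalizer_fittingOf Y)) (isNilpotent_fittingOf Y)
    have h2 : fittingOf X ≤ F := le_fittingOf ((fittingOf_le X).trans inf_le_left)
      (hHX.trans (normalizer_le_normalizer_fittingOf X)) (isNilpotent_fittingOf X)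
    exact h1.trans h2
  have hYle : Y ≤ F := by
    refine le_trans ?_ hYF
    refine le_trans (le_inf le_rfl ((inf_le_left.trans inf_le_right).trans (centralizer_le hYF))) ?_
    exact inf_centralizer_fittingOf_le (CfsgLib.Solvable.isSolvable_of_le hR inf_le_right)
  exact le_bot_iff.1 ((le_inf le_rfl (hEY.trans hYle)).trans hdis.le)

include hH hHmax hM hCM hR hMR hXR

variable (h2 : 2 ≤ (Nat.card (fittingOf H)).primeFactors.card)
include h2

/-- Bender's lemma. -/
theorem le_piCoreOf_of_invariant {q : ℕ} [hq : Fact q.Prime] (hqF : ¬ q ∣ Nat.card (fittingOf H))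
    {Q : Subgroup G} (hQR : Q ≤ R) (hQ : IsPGroup q Q) (hMQ : M ≤ normalizer (Q : Set G)) :
    Q ≤ piCoreOf (primesNotDvd (Nat.card (fittingOf H))) R := by
  set F := fittingOf H with hFdef
  set π := primesNotDvd (Nat.card F) with hπdef
  set T := piCoreOf π R with hTdef
  set N := normalizer (T : Set G) with hNdef
  have hTR : T ≤ R := map_subtype_le _
  have hRN : R ≤ N := le_normalizer_piCoreOf π R
  have hMN : M ≤ N := hMR.trans (CfsgLib.PStab.normalizer_le_normalizer_piCoreOf π R)
  have hTπ : ∀ r : ℕ, r.Prime → r ∣ Nat.card T → ¬ r ∣ Nat.card F := fun r hr hd =>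
    (CfsgLib.PStab.prime_mem_of_dvd_piCoreOf r hr hd).2
  have hTs : Group.IsSolvable T := CfsgLib.Solvable.isSolvable_of_le hR hTR
  set Z : ℕ → Subgroup G := fun p => nilPart p F ⊓ centralizer (F : Set G) with hZdef
  have hZM : ∀ p, Z p ≤ M := fun p =>
    le_trans (le_inf (inf_le_left.trans nilPart_le) (inf_le_right.trans (centralizer_le hM))) hCM
  have hTn : (T.subgroupOf N).Normal := normal_in_normalizer
  set f := QuotientGroup.mk' (T.subgroupOf N) with hfdef
  let bar : Subgroup G → Subgroup (N ⧸ T.subgroupOf N) := fun S => (S.subgroupOf N).map f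
  have hbarN : ∀ A S : Subgroup G, A ≤ normalizer (S : Set G) →
      bar A ≤ normalizer (bar S : Set (N ⧸ T.subgroupOf N)) := by
    intro A S hAS
    refine CfsgLib.Solvable.le_normalizer_of_conj_mem ?_
    rintro _ ⟨a, ha, rfl⟩ _ ⟨s, hs, rfl⟩
    exact ⟨a * s * a⁻¹, (mem_normalizer_iff.1 (hAS ha) (s : G)).1 hs, by simp⟩
  have hlift : ∀ p ∈ (Nat.card F).primeFactors, ∀ u : N, f u ∈ centralizer (bar (Z p) : Set _) →
      ∃ n ∈ T, n * (u : G) ∈ centralizer (Z p : Set G) ∧ n * (u : G) ∈ H := by
    intro p hp u hu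
    have : Fact p.Prime := ⟨Nat.prime_of_mem_primeFactors hp⟩
    have hcop : (Nat.card (Z p)).Coprime (Nat.card T) := by
      refine Nat.coprime_of_dvd fun r hr hr1 hr2 => hTπ r hr hr2 (hr1.trans (card_dvd_of_le ?_))
      exact inf_le_left.trans nilPart_le
    obtain ⟨n, hn, hnc⟩ := CfsgLib.Solvable.exists_mul_mem_centralizer (Z p) T
      ((hZM p).trans hMN) hcop (Or.inr hTs) (u : G) (fun a ha => by
        have h1 : f ⁅(⟨a, hMN (hZM p ha)⟩ : N), u⁆ = 1 := by
          rw [map_commutatorElement, commutatorElement_eq_one_iff_mul_comm]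
          exact mem_centralizer_iff.1 hu _ ⟨⟨a, hMN (hZM p ha)⟩, ha, rfl⟩
        have h2 := (QuotientGroup.eq_one_iff (N := T.subgroupOf N) _).1 h1
        simpa [mem_subgroupOf, commutatorElement_def] using h2)
    exact ⟨n, hn, hnc, (normalizer_zPart_eq hH hHmax (Nat.dvd_of_mem_primeFactors hp)).le
      (centralizer_le_normalizer _ hnc)⟩
  have hbot : bar Q = ⊥ := by
    have hbarR : fittingOf (bar R) ≤ bar R := fittingOf_le _
    have hF := isNilpotent_fittingOf (bar R)
    have : Group.IsSolvable R := hR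
    have hRs : Group.IsSolvable (bar R) := by
      have : Group.IsSolvable (R.subgroupOf N) :=
        Group.isSolvable_of_surjective (f := (subgroupOfEquivOfLe hRN).symm.toMonoidHom)
          (subgroupOfEquivOfLe hRN).symm.surjective
      exact Group.isSolvable_of_surjective (f.subgroupMap_surjective (R.subgroupOf N))
    refine eq_bot_of_central_pieces (R := bar R) (q := q) hRs (map_mono (comap_mono hQR))
      ((hQ.comap_of_injective N.subtype N.subtype_injective).map f) (Nat.card F).primeFactors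
      (fun p hp => Nat.prime_of_mem_primeFactors hp) h2 (fun h => hqF (Nat.dvd_of_mem_primeFactors h))
      (fun p => bar (Z p)) ?_ ?_ ?_ ?_ ?_ ?_ ?_
    · exact fun p _ => (((isPGroup_nilPart (p := p) (A := F)).to_le
        (inf_le_left : Z p ≤ nilPart p F)).comap_of_injective N.subtype N.subtype_injective).map f
    · intro p _ r _
      rintro _ ⟨a, ha, rfl⟩
      refine mem_centralizer_iff.2 ?_
      rintro _ ⟨b, hb, rfl⟩
      rw [← map_mul, ← map_mul]
      congr 1
      exact Subtype.ext (mem_centralizer_iff.1 (ha.2) (b : G) (nilPart_le hb.1))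
    · exact fun p _ => hbarN _ _ ((hZM p).trans hMR)
    · exact fun p _ => hbarN _ _ ((hZM p).trans hMQ)
    · intro p hp
      rw [eq_bot_iff]
      rintro _ ⟨⟨u, hu, rfl⟩, hc⟩
      obtain ⟨n, hn, -, hnH⟩ := hlift p hp u hc
      have hQT : n * (u : G) ∈ (Q ⊔ T) ⊓ H :=
        ⟨mul_mem (mem_sup_right hn) (mem_sup_left hu), hnH⟩
      have hcopQT : (Nat.card (Q ⊔ T : Subgroup G)).Coprime (Nat.card F) := by
        have hd : Nat.card (Q ⊔ T : Subgroup G) ∣ Nat.card T * Nat.card Q := by
          rw [sup_comm]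
          exact CfsgLib.Solvable.card_sup_dvd_of_le_normalizer (hQR.trans hRN)
        refine Nat.Coprime.coprime_dvd_left hd (Nat.Coprime.mul_left ?_ ?_)
        · exact Nat.coprime_of_dvd fun r hr hr1 hr2 => hTπ r hr hr1 hr2
        · obtain ⟨j, hj⟩ := IsPGroup.iff_card.1 hQ
          rw [hj]
          exact ((Nat.Prime.coprime_iff_not_dvd hq.out).2 hqF).pow_left j
      rw [inf_eq_bot_of_invariant hM hCM hR hMR hXR (sup_le hQR hTR) ?_ hcopQT, mem_bot] at hQT
      · refine mem_bot.2 ((QuotientGroup.eq_one_iff _).2 ?_)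
        show (u : G) ∈ T
        rw [eq_inv_of_mul_eq_one_right hQT]
        exact inv_mem hn
      · refine CfsgLib.Solvable.le_normalizer_of_conj_mem fun m hm x hx => ?_
        have hmap : (Q ⊔ T).map (MulAut.conj m).toMonoidHom = Q ⊔ T := by
          rw [Subgroup.map_sup, show Q.map (MulAut.conj m).toMonoidHom = Q from
              mem_normalizer_iff_map_conj_eq.1 (hMQ hm), show T.map (MulAut.conj m).toMonoidHom = T from
              mem_normalizer_iff_map_conj_eq.1 (hMN hm)]
        exact hmap ▸ ⟨x, hx, rfl⟩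
    · intro r hr hd
      rw [Nat.mem_primeFactors]
      refine ⟨hr, ?_, Nat.card_pos.ne'⟩
      by_contra hrF
      have : Fact r.Prime := ⟨hr⟩
      refine CfsgLib.Solvable.nilPart_ne_bot hF hd ?_
      set P := (((nilPart r (fittingOf (bar R))).comap f).map N.subtype) with hP
      have hPR : P ≤ R := by
        rintro _ ⟨x, hx, rfl⟩
        obtain ⟨y, hy, hxy⟩ := (nilPart_le.trans hbarR) (mem_comap.1 hx)
        have h1 : y⁻¹ * x ∈ T.subgroupOf N := QuotientGroup.eq.1 hxy
        have : (x : G) = y * ((y : G)⁻¹ * x) := by group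
        show (x : G) ∈ R
        rw [this]
        exact mul_mem hy (hTR h1)
      have hRP : R ≤ normalizer (P : Set G) := by
        refine CfsgLib.Solvable.le_normalizer_of_conj_mem ?_
        rintro a ha _ ⟨x, hx, rfl⟩
        refine ⟨⟨a, hRN ha⟩ * x * ⟨a, hRN ha⟩⁻¹, ?_, rfl⟩
        rw [SetLike.mem_coe, mem_comap, map_mul, map_mul, map_inv]
        exact (mem_normalizer_iff.1 (le_normalizer_nilPart_fittingOf r (bar R)
          ⟨⟨a, hRN ha⟩, ha, rfl⟩) _).1 hx
      have hPT : P ≤ T := le_piCoreOf hPR hRP fun s hs hd' => by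
        refine ⟨hs, fun hsF => ?_⟩
        rw [hP, card_map_of_injective N.subtype_injective] at hd'
        have h1 := (CfsgLib.Solvable.card_comap_mk' (T.subgroupOf N) (nilPart r (fittingOf (bar R)))).dvd
        rcases hs.dvd_mul.1 (hd'.trans h1) with h | h
        · rw [Nat.card_congr (subgroupOfEquivOfLe le_normalizer).toEquiv] at h
          exact hTπ s hs h hsF
        · obtain ⟨j, hj⟩ := IsPGroup.iff_card.1 (isPGroup_nilPart (p := r) (A := fittingOf (bar R)))
          rw [hj] at h
          exact hrF ((Nat.prime_dvd_prime_iff_eq hs hr).1 (hs.dvd_of_dvd_pow h) ▸ hsF)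
      rw [eq_bot_iff]
      intro v hv
      obtain ⟨x, rfl⟩ := QuotientGroup.mk'_surjective _ v
      rw [mem_bot, QuotientGroup.mk'_apply, QuotientGroup.eq_one_iff, mem_subgroupOf]
      exact hPT ⟨x, hv, rfl⟩
    · intro p hp r hr hpr
      rintro w ⟨hw, hwc⟩
      obtain ⟨x, rfl⟩ := QuotientGroup.mk'_surjective _ w
      obtain ⟨n, hn, -, hnH⟩ := hlift r hr x hwc
      set v : N := ⟨n, le_normalizer hn⟩ * x with hv
      have hfv : f v = f x := by
        rw [hv, map_mul, show f ⟨n, le_normalizer hn⟩ = 1 from (QuotientGroup.eq_one_iff _).2 hn, one_mul]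
      refine mem_centralizer_iff.2 ?_
      rintro _ ⟨z, hz, rfl⟩
      rw [← hfv] at hw ⊢
      have : Fact p.Prime := ⟨Nat.prime_of_mem_primeFactors hp⟩
      have : Fact r.Prime := ⟨Nat.prime_of_mem_primeFactors hr⟩
      have hrp : IsPGroup p (bar (nilPart p F)) :=
        ((isPGroup_nilPart (p := p) (A := F)).comap_of_injective N.subtype N.subtype_injective).map f
      have h1 : f ⁅v, z⁆ ∈ bar (nilPart p F) := by
        refine ⟨⁅v, z⁆, mem_subgroupOf.2 ?_, rfl⟩
        show ((⁅v, z⁆ : N) : G) ∈ nilPart p F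
        exact le_normalizer_iff_commutator_le_right.1 (le_normalizer_nilPart_fittingOf p H)
          (commutator_mem_commutator hnH hz.1)
      have h2' : f ⁅v, z⁆ ∈ nilPart r (fittingOf (bar R)) := by
        rw [map_commutatorElement]
        refine le_normalizer_iff_commutator_le_left.1 ?_ (commutator_mem_commutator hw (show f z ∈ bar (Z p) from ⟨z, hz, rfl⟩))
        exact ((hbarN _ _ ((hZM p).trans hMR)).trans (normalizer_le_normalizer_fittingOf (bar R))).trans
          (CfsgLib.Solvable.normalizer_le_normalizer_nilPart r _)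
      have h3 : f ⁅v, z⁆ = 1 := (mem_bot.1 ((IsPGroup.disjoint_of_ne p r hpr _ _ hrp isPGroup_nilPart).le_bot
        ⟨h1, h2'⟩))
      rw [map_commutatorElement, commutatorElement_eq_one_iff_mul_comm] at h3
      exact h3.symm
  intro x hx
  have h1 : f ⟨x, hQR.trans hRN hx⟩ = 1 := by
    rw [← mem_bot, ← hbot]
    exact ⟨⟨x, hQR.trans hRN hx⟩, hx, rfl⟩
  exact mem_subgroupOf.1 ((QuotientGroup.eq_one_iff (N := T.subgroupOf N) _).1 h1)

/-- Invariant `π(F)'`-subgroups of `R` centralized by `M` are trivial. -/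
theorem piCoreOf_inf_centralizer_eq_bot :
    piCoreOf (primesNotDvd (Nat.card (fittingOf H))) R ⊓ centralizer (M : Set G) = ⊥ := by
  set F := fittingOf H with hFdef
  set T := piCoreOf (primesNotDvd (Nat.card F)) R with hT
  obtain ⟨p, hp, -⟩ := Finset.exists_mem_ne (Nat.lt_of_succ_le h2) 0
  have : Fact p.Prime := ⟨Nat.prime_of_mem_primeFactors hp⟩
  have hle : centralizer (M : Set G) ≤ H := by
    refine le_trans ?_ (normalizer_zPart_eq hH hHmax (Nat.dvd_of_mem_primeFactors hp)).le
    refine (centralizer_le ?_).trans (centralizer_le_normalizer _)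
    exact le_trans (le_inf (inf_le_left.trans nilPart_le) (inf_le_right.trans (centralizer_le hM))) hCM
  refine le_bot_iff.1 (le_trans (le_inf inf_le_left (inf_le_right.trans hle)) ?_)
  refine (inf_eq_bot_of_invariant hM hCM hR hMR hXR (map_subtype_le _)
    (hMR.trans (CfsgLib.PStab.normalizer_le_normalizer_piCoreOf _ R)) ?_).le
  exact Nat.coprime_of_dvd fun r hr hr1 hr2 =>
    (CfsgLib.PStab.prime_mem_of_dvd_piCoreOf r hr hr1).2 hr2

end

end CfsgLib.OddLocal
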