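import Cfsg.Agent.Lib.OddLocal.BGHyp
import Cfsg.Agent.Lib.OddLocal.BGTools
import Cfsg.Agent.Lib.OddLocal.MaximalBasic
import Cfsg.Agent.Lib.OddLocal.InvariantPrime
import Cfsg.Agent.S1392
import Cfsg.Agent.S1394
import Cfsg.Agent.S1396

/-!
Consequences of the results of sections 9-10 used throughout sections 11-12: the sets `sigma`, `alpha`,
`beta`, the sigma core and its complements, conjugacy of maximal subgroups sharing a prime, and the
transitivity theorem for a maximal elementary abelian plane.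
-/

set_option autoImplicit false
set_option linter.unusedSectionVars false

namespace CfsgLib.OddLocal.BG

open Cfsg Subgroup CfsgLib.Solvable
open scoped Pointwise commutatorElement

variable {G : Type*} [Group G] [Finite G] {p q : ℕ}

/-- `M` is the only maximal subgroup containing `X`. -/
def OnlyMax (X M : Subgroup G) : Prop :=
  X ≤ M ∧ ∀ L : Subgroup G, IsCoatom L → X ≤ L → L = M

variable (h : Ten G)
include h

theorem Ten.solvable {H : Subgroup G} (hH : H ≠ ⊤) : Group.IsSolvable H := h.minimal.2.2.2 H hH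

theorem Ten.solvable_coatom {M : Subgroup G} (hM : IsCoatom M) : Group.IsSolvable M := h.solvable hM.1

theorem Ten.prime_ne_two (hp : p.Prime) {X : Subgroup G} (hd : p ∣ Nat.card X) : p ≠ 2 := by
  rintro rfl
  exact Nat.not_even_iff_odd.2 h.minimal.1 (even_iff_two_dvd.2 (hd.trans (card_subgroup_dvd_card X)))

theorem Ten.odd_card (X : Subgroup G) : Odd (Nat.card X) :=
  h.minimal.1.of_dvd_nat (card_subgroup_dvd_card X)

theorem Ten.ne_top_of_isPGroup [Fact p.Prime] {X : Subgroup G} (hX : IsPGroup p X) : X ≠ ⊤ := by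
  intro hXt
  haveI := hX.isNilpotent
  haveI : Group.IsNilpotent G :=
    Group.nilpotent_of_mulEquiv ((MulEquiv.subgroupCongr hXt).trans Subgroup.topEquiv)
  haveI := h.minimal.2.1
  exact h.minimal.2.2.1
    ⟨⟨fun a b => IsSimpleGroup.comm_iff_isSolvable.2 inferInstance a b⟩⟩

theorem Ten.normalizer_ne_top {X : Subgroup G} (h1 : X ≠ ⊥) (h2 : X ≠ ⊤) :
    Subgroup.normalizer (X : Set G) ≠ ⊤ :=
  CfsgLib.PStab.normalizer_ne_top_of_minSimple h.minimal h1 h2

theorem Ten.centralizer_ne_top {X : Subgroup G} (h1 : X ≠ ⊥) (h2 : X ≠ ⊤) :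
    Subgroup.centralizer (X : Set G) ≠ ⊤ := fun he =>
  h.normalizer_ne_top h1 h2 (eq_top_iff.2 (he.ge.trans (centralizer_le_normalizer _)))

theorem Ten.exists_max_normalizer [Fact p.Prime] {X : Subgroup G} (hX : IsPGroup p X) (h1 : X ≠ ⊥) :
    ∃ L : Subgroup G, IsCoatom L ∧ Subgroup.normalizer (X : Set G) ≤ L :=
  (eq_top_or_exists_le_coatom _).resolve_left (h.normalizer_ne_top h1 (h.ne_top_of_isPGroup hX))

theorem Ten.exists_max_centralizer [Fact p.Prime] {X : Subgroup G} (hX : IsPGroup p X) (h1 : X ≠ ⊥) :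
    ∃ L : Subgroup G, IsCoatom L ∧ Subgroup.centralizer (X : Set G) ≤ L :=
  (eq_top_or_exists_le_coatom _).resolve_left (h.centralizer_ne_top h1 (h.ne_top_of_isPGroup hX))

theorem Ten.normalizer_eq {M R : Subgroup G} (hM : IsCoatom M) (hR : R ≠ ⊥) (hRM : R ≤ M)
    (hn : M ≤ Subgroup.normalizer (R : Set G)) : Subgroup.normalizer (R : Set G) = M :=
  CfsgLib.OddLocal.normalizer_eq_of_isCoatom h.minimal hM hR hRM hn

theorem Ten.eq_of_conj_le {M : Subgroup G} (hM : IsCoatom M) {g : G} (hg : MulAut.conj g • M ≤ M) :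
    g ∈ M := by
  have h1 : g ∈ Subgroup.normalizer (M : Set G) := mem_normalizer_of_smul_le hg
  rwa [h.normalizer_eq hM (CfsgLib.OddLocal.ne_bot_of_isCoatom h.minimal hM) le_rfl le_normalizer] at h1

theorem Ten.mem_of_conj_eq {M : Subgroup G} (hM : IsCoatom M) {g : G} (hg : MulAut.conj g • M = M) :
    g ∈ M := h.eq_of_conj_le hM hg.le

/-! ### The sigma core -/

omit h in
theorem mem_sigma_iff {M : Subgroup G} :
    p ∈ sigma M ↔ p.Prime ∧ p ∣ Nat.card M ∧
      ∃ S : Subgroup G, SylIn p S M ∧ Subgroup.normalizer (S : Set G) ≤ M := by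
  constructor
  · rintro ⟨hp, hd, P, hP⟩
    have := Fact.mk hp
    exact ⟨hp, hd, _, sylIn_map P, hP⟩
  · rintro ⟨hp, hd, S, hS, hN⟩
    have := Fact.mk hp
    obtain ⟨hSM, hSp, hSi⟩ := hS
    refine ⟨hp, hd, (hSp.comap_subtype (K := M)).toSylow hSi, ?_⟩
    show Subgroup.normalizer (((S.subgroupOf M).map M.subtype : Subgroup G) : Set G) ≤ M
    rwa [map_subgroupOf_eq_of_le hSM]

omit h in
theorem normalizer_conj (g : G) (X : Subgroup G) :
    Subgroup.normalizer ((MulAut.conj g • X : Subgroup G) : Set G) =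
      MulAut.conj g • Subgroup.normalizer (X : Set G) := by
  ext y
  rw [mem_conj_smul_iff, mem_normalizer_iff_conj_smul, mem_normalizer_iff_conj_smul,
    conj_smul_conj_smul]
  constructor
  · intro hy
    rw [mul_assoc, ← conj_smul_conj_smul, hy, conj_inv_smul_smul]
  · intro hy
    rw [mul_assoc, ← conj_smul_conj_smul] at hy
    have := congrArg (fun Z : Subgroup G => MulAut.conj g • Z) hy
    simpa [conj_smul_inv_smul] using this

omit h in
/-- All Sylow `p`-normalisers lie in `M` for `p` in `sigma M`. -/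
theorem normalizer_le_of_sigma [Fact p.Prime] {M S : Subgroup G} (hp : p ∈ sigma M) (hS : SylIn p S M) :
    Subgroup.normalizer (S : Set G) ≤ M := by
  obtain ⟨-, -, T, hT, hN⟩ := mem_sigma_iff.1 hp
  obtain ⟨g, hg, rfl⟩ := hS.exists_conj_eq hT
  rw [normalizer_conj]
  exact (conj_smul_mono g hN).trans (conj_smul_self_of_mem_normalizer (le_normalizer hg)).le

omit h in
/-- For `p` in `sigma M` a Sylow `p`-subgroup of `M` is one of `G`. -/
theorem sylIn_top_of_sigma [Fact p.Prime] {M S : Subgroup G} (hp : p ∈ sigma M) (hS : SylIn p S M) :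
    SylIn p S ⊤ := by
  obtain ⟨T, hT, hST⟩ := exists_sylIn_ge hS.2.1 (le_top (a := S))
  by_contra hne
  obtain ⟨t, -, htn, htM⟩ := hS.exists_mem_normalizer_notMem hT.2.1 hST fun he => hne (he ▸ hT)
  exact htM (normalizer_le_of_sigma hp hS htn)

omit h in
theorem exists_normalizer_notMem [Fact p.Prime] {M S : Subgroup G} (hp : p ∉ sigma M)
    (hd : p ∣ Nat.card M) (hS : SylIn p S M) :
    ∃ g ∈ Subgroup.normalizer (S : Set G), g ∉ M :=
  SetLike.not_le_iff_exists.1 fun hN => hp (mem_sigma_iff.2 ⟨Fact.out, hd, S, hS, hN⟩)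

omit h in
theorem mem_sigma_conj {M : Subgroup G} (g : G) (hp : p ∈ sigma M) :
    p ∈ sigma (MulAut.conj g • M) := by
  obtain ⟨hp', hd, S, hS, hN⟩ := mem_sigma_iff.1 hp
  exact mem_sigma_iff.2 ⟨hp', by rwa [card_conj_smul], _, hS.conj g,
    by rw [normalizer_conj]; exact conj_smul_mono g hN⟩

omit h in
theorem sigma_conj (g : G) (M : Subgroup G) : sigma (MulAut.conj g • M) = sigma M :=
  Set.ext fun r => ⟨fun hr => by simpa [conj_inv_smul_smul] using mem_sigma_conj g⁻¹ hr,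
    mem_sigma_conj g⟩

omit h in
theorem sigmaCore_eq (M : Subgroup G) : sigmaCore M = piCoreOf (sigma M) M := rfl

omit h in
theorem alphaCore_eq (M : Subgroup G) : alphaCore M = piCoreOf (alpha M) M := rfl

omit h in
theorem piCoreOf_le (π : Set ℕ) (M : Subgroup G) : piCoreOf π M ≤ M := map_subtype_le _

omit h in
theorem sigmaCore_le (M : Subgroup G) : sigmaCore M ≤ M := piCoreOf_le _ M

omit h in
theorem le_normalizer_sigmaCore (M : Subgroup G) : M ≤ Subgroup.normalizer (sigmaCore M : Set G) :=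
  CfsgLib.OddLocal.le_normalizer_piCoreOf _ M

omit h in
theorem sigma_of_dvd_sigmaCore {M : Subgroup G} {r : ℕ} (hr : r.Prime)
    (hd : r ∣ Nat.card (sigmaCore M)) : r ∈ sigma M :=
  CfsgLib.PStab.prime_mem_of_dvd_piCoreOf r hr hd

/-- A normal Hall subgroup contains every subgroup for its set of primes. -/
theorem le_piCoreOf_of_hall {M X : Subgroup G} {π : Set ℕ} (hH : IsPiHallOf π (piCoreOf π M) M)
    (hXM : X ≤ M) (hX : ∀ r : ℕ, r.Prime → r ∣ Nat.card X → r ∈ π) : X ≤ piCoreOf π M := by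
  set N := piCoreOf π M
  have hn : X ≤ Subgroup.normalizer (N : Set G) :=
    hXM.trans (CfsgLib.OddLocal.le_normalizer_piCoreOf π M)
  have h1 : N.relIndex X = 1 := by
    by_contra hne
    obtain ⟨r, hr, hrd⟩ := Nat.exists_prime_and_dvd hne
    have h2 : N.relIndex X ∣ N.relIndex M := by
      rw [← CfsgLib.PGroup.relIndex_normalized_sup hn]
      exact ⟨_, (relIndex_mul_relIndex N (N ⊔ X) M le_sup_left (sup_le (piCoreOf_le π M) hXM)).symm⟩
    refine hH.2.2 r hr (hX r hr ?_) (hrd.trans h2)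
    exact hrd.trans ((N.subgroupOf X).index_dvd_card)
  exact relIndex_eq_one.1 h1

theorem Ten.le_sigmaCore {M X : Subgroup G} (hM : IsCoatom M) (hXM : X ≤ M)
    (hX : ∀ r : ℕ, r.Prime → r ∣ Nat.card X → r ∈ sigma M) : X ≤ sigmaCore M :=
  le_piCoreOf_of_hall h (h.sigmaHall M hM).1 hXM hX

theorem Ten.le_sigmaCore_of_isPGroup [Fact p.Prime] {M X : Subgroup G} (hM : IsCoatom M)
    (hp : p ∈ sigma M) (hX : IsPGroup p X) (hXM : X ≤ M) : X ≤ sigmaCore M :=
  h.le_sigmaCore hM hXM fun _ hr hd => prime_eq_of_dvd_isPGroup hX hr hd ▸ hp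

theorem Ten.le_derived_of_sigma [Fact p.Prime] {M X : Subgroup G} (hM : IsCoatom M)
    (hp : p ∈ sigma M) (hX : IsPGroup p X) (hXM : X ≤ M) : X ≤ ⁅M, M⁆ :=
  (h.le_sigmaCore_of_isPGroup hM hp hX hXM).trans (h.sigma_le_derived M hM)

theorem Ten.sylIn_sigmaCore [Fact p.Prime] {M S : Subgroup G} (hM : IsCoatom M) (hp : p ∈ sigma M)
    (hS : SylIn p S M) : SylIn p S (sigmaCore M) :=
  hS.mono (h.le_sigmaCore_of_isPGroup hM hp hS.2.1 hS.1) (sigmaCore_le M)

theorem Ten.normalizer_sigmaCore {M : Subgroup G} (hM : IsCoatom M) :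
    Subgroup.normalizer (sigmaCore M : Set G) = M :=
  h.normalizer_eq hM (h.sigma_ne_bot M hM) (sigmaCore_le M) (le_normalizer_sigmaCore M)

theorem Ten.exists_sigma_prime {M : Subgroup G} (hM : IsCoatom M) :
    ∃ r, r.Prime ∧ r ∈ sigma M := by
  obtain ⟨r, hr, hd⟩ := Nat.exists_prime_and_dvd
    (fun he => h.sigma_ne_bot M hM (eq_bot_of_card_eq _ he))
  exact ⟨r, hr, sigma_of_dvd_sigmaCore hr hd⟩

theorem Ten.sigmaCore_conj {M : Subgroup G} (hM : IsCoatom M) (g : G) :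
    sigmaCore (MulAut.conj g • M) = MulAut.conj g • sigmaCore M := by
  refine le_antisymm (le_conj_smul_iff.2 (h.le_sigmaCore hM ?_ fun r hr hd => ?_))
    (h.le_sigmaCore (isCoatom_conj hM) (conj_smul_mono g (sigmaCore_le M)) fun r hr hd => ?_)
  · exact le_of_le_of_eq (conj_smul_mono g⁻¹ (sigmaCore_le _)) (conj_inv_smul_smul g M)
  · rw [card_conj_smul] at hd
    exact (sigma_conj g M) ▸ sigma_of_dvd_sigmaCore hr hd
  · rw [card_conj_smul] at hd
    exact (sigma_conj g M).symm ▸ sigma_of_dvd_sigmaCore hr hd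

/-! ### alpha and beta -/

omit h in
theorem prime_of_alpha {M : Subgroup G} (hp : p ∈ alpha M) : p.Prime := hp.1

omit h in
theorem exists_rank_three {M : Subgroup G} (hp : p ∈ alpha M) :
    ∃ A ≤ M, IsElementaryAbelian p A ∧ p ^ 3 ≤ Nat.card A := by
  have := Fact.mk hp.1
  have h1 := hp.2
  rw [CfsgLib.PGroup.pRankLE_subgroup_iff] at h1
  push Not at h1
  obtain ⟨A, hAM, hA, hlt⟩ := h1
  obtain ⟨n, hn⟩ := CfsgLib.PGroup.elemAb_card hA
  refine ⟨A, hAM, hA, ?_⟩
  rw [hn] at hlt ⊢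
  exact Nat.pow_le_pow_right hp.1.pos ((Nat.pow_lt_pow_iff_right hp.1.one_lt).1 hlt)

omit h in
theorem dvd_card_of_alpha {M : Subgroup G} (hp : p ∈ alpha M) : p ∣ Nat.card M := by
  have := Fact.mk hp.1
  obtain ⟨A, hAM, hA, h3⟩ := exists_rank_three hp
  refine (dvd_card_of_ne_bot (CfsgLib.PGroup.elemAb_isPGroup hA) ?_).trans (card_dvd_of_le hAM)
  rintro rfl
  rw [card_bot] at h3
  exact absurd h3 (not_le.2 (Nat.one_lt_pow three_ne_zero hp.1.one_lt))

theorem Ten.mem_sigma_of_alpha {M : Subgroup G} (hM : IsCoatom M) (hp : p ∈ alpha M) : p ∈ sigma M := by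
  obtain ⟨hH, -, hle, -, -⟩ := h.alphaHall M hM
  refine sigma_of_dvd_sigmaCore hp.1 (dvd_trans ?_ (card_dvd_of_le hle))
  have h1 : Nat.card (alphaCore M) * (alphaCore M).relIndex M = Nat.card M := by
    rw [← relIndex_bot_left, relIndex_mul_relIndex ⊥ _ M bot_le hH.1, relIndex_bot_left]
  rcases hp.1.dvd_mul.1 (h1 ▸ dvd_card_of_alpha hp) with h2 | h2
  · exact h2
  · exact absurd h2 (hH.2.2 p hp.1 hp)

theorem Ten.not_alpha {M : Subgroup G} (hM : IsCoatom M) (hp : p ∉ sigma M) : p ∉ alpha M :=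
  fun ha => hp (h.mem_sigma_of_alpha hM ha)

theorem Ten.not_beta {M : Subgroup G} (hM : IsCoatom M) (hp : p ∉ sigma M) : p ∉ beta M :=
  fun hb => h.not_alpha hM hp hb.1

theorem Ten.rank_le_two [hp : Fact p.Prime] {M : Subgroup G} (hM : IsCoatom M) (hps : p ∉ sigma M) :
    PRankLE p 2 M := by
  by_contra hc
  exact h.not_alpha hM hps ⟨hp.out, hc⟩

omit h in
theorem not_pRankLE_one_of_plane [Fact p.Prime] {M A : Subgroup G} (hAM : A ≤ M) (hA : Plane p A) :
    ¬ PRankLE p 1 M :=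
  not_pRankLE_of_card hAM hA.1 (le_of_eq hA.2.symm)

omit h in
theorem not_rankLE_one_of_plane [Fact p.Prime] {M A : Subgroup G} (hAM : A ≤ M) (hA : Plane p A) :
    ¬ RankLE 1 M :=
  not_rankLE_of_card hAM hA.1 (le_of_eq hA.2.symm)

/-- Planes of `M` for `p` outside `sigma M` are maximal elementary abelian in `G`. -/
theorem Ten.plane_max [hp : Fact p.Prime] {M A : Subgroup G} (hM : IsCoatom M) (hps : p ∉ sigma M)
    (hAM : A ≤ M) (hA : Plane p A) :
    ∀ B : Subgroup G, IsElementaryAbelian p B → A ≤ B → B = A :=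
  (h.rank_two M hM p hp.out hps (h.rank_le_two hM hps) (not_pRankLE_one_of_plane hAM hA)).2
    A hAM hA.1 hA.2

theorem Ten.not_ideal [hp : Fact p.Prime] {M A : Subgroup G} (hM : IsCoatom M) (hps : p ∉ sigma M)
    (hAM : A ≤ M) (hA : Plane p A) : ¬ IsIdealPrime p G :=
  (h.rank_two M hM p hp.out hps (h.rank_le_two hM hps) (not_pRankLE_one_of_plane hAM hA)).1

omit h in
/-- A plane which is maximal elementary abelian rules out ideality. -/
theorem not_ideal_of_plane_max [hp : Fact p.Prime] {A : Subgroup G} (hA : Plane p A)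
    (hmax : ∀ B : Subgroup G, IsElementaryAbelian p B → A ≤ B → B = A) : ¬ IsIdealPrime p G := by
  rintro ⟨-, -, hI⟩
  obtain ⟨P, hP⟩ := hA.isPGroup.exists_le_sylow
  obtain ⟨B, -, hB, hlt⟩ := hI P A hP hA.1 hA.2
  exact hlt.ne (hmax B hB hlt.le).symm

omit h in
theorem not_beta_of_not_ideal {M : Subgroup G} (hp : ¬ IsIdealPrime p G) : p ∉ beta M := fun hb => hp hb.2

omit h in
theorem not_beta_of_plane_max [Fact p.Prime] {M A : Subgroup G} (hA : Plane p A)
    (hmax : ∀ B : Subgroup G, IsElementaryAbelian p B → A ≤ B → B = A) : p ∉ beta M :=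
  not_beta_of_not_ideal (not_ideal_of_plane_max hA hmax)

omit h in
theorem piCore_subgroupOf (π : Set ℕ) (M : Subgroup G) :
    (piCoreOf π M).subgroupOf M = piCore π M :=
  comap_map_eq_self_of_injective M.subtype_injective _

/-- Modulo `M_beta`, the derived subgroup is nilpotent: coprime elements commute. -/
theorem Ten.commutator_le_betaCore {H X Y : Subgroup G} (hH : IsCoatom H) (hX : X ≤ ⁅H, H⁆)
    (hY : Y ≤ ⁅H, H⁆) (hcop : (Nat.card X).Coprime (Nat.card Y)) :
    ⁅X, Y⁆ ≤ piCoreOf (beta H) H := by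
  obtain ⟨hbH, -, ⟨N, hN, hNnil⟩, -, -⟩ := h.betaHall H hH
  set B := piCoreOf (beta H) H with hBdef
  have hHH : ⁅H, H⁆ ≤ H := commutator_le_self H
  have hNn : N ≤ Subgroup.normalizer (B : Set G) :=
    (hN.1.trans hHH).trans (CfsgLib.OddLocal.le_normalizer_piCoreOf _ H)
  have hcov : ⁅H, H⁆ ≤ B ⊔ N := by
    have h2 : (B ⊔ N).relIndex ⁅H, H⁆ = 1 := by
      by_contra hne
      obtain ⟨r, hr, hrd⟩ := Nat.exists_prime_and_dvd hne
      have hrN : (B ⊔ N).relIndex ⁅H, H⁆ ∣ N.relIndex ⁅H, H⁆ :=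
        relIndex_dvd_of_le_left _ le_sup_right
      by_cases hb : r ∈ beta H
      · have hrB : (B ⊔ N).relIndex ⁅H, H⁆ ∣ B.relIndex H := by
          refine (relIndex_dvd_of_le_left _ le_sup_left).trans ?_
          rw [← CfsgLib.PGroup.relIndex_normalized_sup
            (hHH.trans (CfsgLib.OddLocal.le_normalizer_piCoreOf _ H))]
          exact ⟨_, (relIndex_mul_relIndex B (B ⊔ ⁅H, H⁆) H le_sup_left
            (sup_le (piCoreOf_le _ H) hHH)).symm⟩
        exact hbH.2.2 r hr hb (hrd.trans hrB)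
      · exact hN.2.2 r hr ⟨hr, hb⟩ (hrd.trans hrN)
    exact relIndex_eq_one.1 h2
  have hBn : (B.subgroupOf H).Normal :=
    (normal_subgroupOf_iff_le_normalizer (piCoreOf_le _ H)).2 (CfsgLib.OddLocal.le_normalizer_piCoreOf _ H)
  set f := QuotientGroup.mk' (B.subgroupOf H) with hf
  have hnil : Group.IsNilpotent ↥((N.subgroupOf H).map f) := by
    have : Group.IsNilpotent ↥(N.subgroupOf H) :=
      haveI := hNnil
      Group.nilpotent_of_mulEquiv (subgroupOfEquivOfLe (hN.1.trans hHH)).symm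
    exact CfsgLib.Cores.isNilpotent_map this f
  have himg : ∀ z ∈ ⁅H, H⁆, ∀ hz : z ∈ H, f ⟨z, hz⟩ ∈ (N.subgroupOf H).map f := by
    intro z hz hzH
    obtain ⟨b, hb, n, hn, rfl⟩ := exists_mul_of_mem_sup hNn (hcov hz)
    refine ⟨⟨n, hHH (hN.1 hn)⟩, hn, ?_⟩
    rw [hf, QuotientGroup.mk'_apply, QuotientGroup.mk'_apply, eq_comm, QuotientGroup.eq_iff_div_mem]
    rw [mem_subgroupOf]
    simpa [div_eq_mul_inv] using hb
  refine commutator_le.2 fun x hx y hy => ?_
  have hxH := hHH (hX hx)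
  have hyH := hHH (hY hy)
  have hcc := CfsgLib.OddLocal.commute_of_mem_nilpotent hnil (himg x (hX hx) hxH) (himg y (hY hy) hyH)
    (by
      refine Nat.Coprime.coprime_dvd_left ?_ (hcop.coprime_dvd_right ?_)
      · refine (orderOf_map_dvd f _).trans ?_
        rw [← orderOf_submonoid (⟨x, hxH⟩ : H)]
        exact Subgroup.orderOf_dvd_natCard _ hx
      · refine (orderOf_map_dvd f _).trans ?_
        rw [← orderOf_submonoid (⟨y, hyH⟩ : H)]
        exact Subgroup.orderOf_dvd_natCard _ hy)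
  have h1 : f ⁅(⟨x, hxH⟩ : H), (⟨y, hyH⟩ : H)⁆ = 1 := by
    rw [map_commutatorElement, commutatorElement_eq_one_iff_mul_comm]
    exact hcc
  have h2 := (QuotientGroup.eq_one_iff _).1 h1
  exact h2

/-- Two coprime subgroups of `H'`, one a `beta(H)'`-group normalised by the other, commute. -/
theorem Ten.le_centralizer_of_derived {H X Y : Subgroup G} (hH : IsCoatom H) (hX : X ≤ ⁅H, H⁆)
    (hY : Y ≤ ⁅H, H⁆) (hcop : (Nat.card X).Coprime (Nat.card Y))
    (hn : Y ≤ Subgroup.normalizer (X : Set G))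
    (hb : ∀ r : ℕ, r.Prime → r ∣ Nat.card X → r ∉ beta H) :
    X ≤ Subgroup.centralizer (Y : Set G) := by
  rw [← commutator_eq_bot_iff_le_centralizer, eq_bot_iff]
  refine le_trans (le_inf (CfsgLib.Solvable.commutator_le_of_le_normalizer hn)
    (h.commutator_le_betaCore hH hX hY hcop)) (le_of_eq (disjoint_of_coprime ?_))
  exact Nat.coprime_of_dvd fun r hr h1 h2 =>
    hb r hr h1 (CfsgLib.PStab.prime_mem_of_dvd_piCoreOf r hr h2)

/-! ### Uniqueness -/

omit h in
theorem eq_of_inUniqueMaximal {X M L : Subgroup G} (hX : InUniqueMaximal X) (hM : IsCoatom M)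
    (hXM : X ≤ M) (hL : IsCoatom L) (hXL : X ≤ L) : L = M :=
  hX.unique ⟨hL, hXL⟩ ⟨hM, hXM⟩

/-- A subgroup with an elementary abelian subgroup of order `p ^ 3` lies in one maximal subgroup. -/
theorem Ten.eq_of_rank_three [hp : Fact p.Prime] {X A M L : Subgroup G} (hA : IsElementaryAbelian p A)
    (h3 : p ^ 3 ≤ Nat.card A) (hAX : A ≤ X) (hM : IsCoatom M) (hXM : X ≤ M) (hL : IsCoatom L)
    (hXL : X ≤ L) : L = M :=
  eq_of_inUniqueMaximal (h.uniq X (fun he => hM.1 (top_le_iff.1 (he ▸ hXM)))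
    (not_rankLE_of_card hAX hA ((Nat.pow_le_pow_right hp.out.pos (by norm_num)).trans h3))
    (Or.inl (not_rankLE_of_card hAX hA h3))) hM hXM hL hXL

/-- A plane centralised by an elementary abelian subgroup of order `r ^ 3` lies in one maximal subgroup. -/
theorem Ten.eq_of_centralized [hp : Fact p.Prime] {r : ℕ} [hr : Fact r.Prime] {A B M L : Subgroup G}
    (hA : Plane p A) (hB : IsElementaryAbelian r B) (h3 : r ^ 3 ≤ Nat.card B)
    (hBA : B ≤ Subgroup.centralizer (A : Set G)) (hM : IsCoatom M) (hAM : A ≤ M) (hL : IsCoatom L)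
    (hAL : A ≤ L) : L = M :=
  eq_of_inUniqueMaximal (h.uniq A (h.ne_top_of_isPGroup hA.isPGroup) (not_rankLE_one_of_plane le_rfl hA)
    (Or.inr (not_rankLE_of_card hBA hB h3))) hM hAM hL hAL

/-- Lemma 10.12 (a): a prime of `alpha M` in `sigma H` makes `H` conjugate to `M`. -/
theorem Ten.exists_conj_of_alpha {M H : Subgroup G} (hM : IsCoatom M) (hH : IsCoatom H)
    (hp : p ∈ alpha M) (hp' : p ∈ sigma H) : ∃ g : G, H = MulAut.conj g • M := by
  have := Fact.mk hp.1
  obtain ⟨A, hAM, hA, h3⟩ := exists_rank_three hp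
  obtain ⟨S, hS⟩ := exists_sylIn p H
  obtain ⟨g, -, hg⟩ := (sylIn_top_of_sigma hp' hS).exists_conj_le
    (CfsgLib.PGroup.elemAb_isPGroup hA) (le_top (a := A))
  exact ⟨g, h.eq_of_rank_three (isElementaryAbelian_conj hA g) (by rw [card_conj_smul]; exact h3) le_rfl
    (isCoatom_conj hM) (conj_smul_mono g hAM) hH (hg.trans hS.1)⟩

omit h in
theorem sylIn_normal_of_nilpotent [Fact p.Prime] {N M S : Subgroup G} (hN : Group.IsNilpotent N)
    (hNM : N ≤ M) (hn : M ≤ Subgroup.normalizer (N : Set G)) (hS : SylIn p S N) :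
    M ≤ Subgroup.normalizer (S : Set G) := by
  have he : S = CfsgLib.Solvable.nilPart p N :=
    hS.eq_of_le CfsgLib.Solvable.isPGroup_nilPart (CfsgLib.Solvable.le_nilPart hN hS.1 hS.2.1)
      CfsgLib.Solvable.nilPart_le
  rw [he]
  exact hn.trans (CfsgLib.Solvable.normalizer_le_normalizer_nilPart p N)

/-- Lemma 10.12 (b): with nilpotent sigma core a common prime of `sigma` gives conjugacy. -/
theorem Ten.exists_conj_of_nilpotent {M H : Subgroup G} (hM : IsCoatom M) (hH : IsCoatom H)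
    (hnil : Group.IsNilpotent (sigmaCore M)) (hp : p ∈ sigma M) (hp' : p ∈ sigma H) :
    ∃ g : G, H = MulAut.conj g • M := by
  obtain ⟨hp0, hd, -⟩ := mem_sigma_iff.1 hp
  have := Fact.mk hp0
  obtain ⟨R, hR⟩ := exists_sylIn p M
  obtain ⟨S, hS⟩ := exists_sylIn p H
  have hn := sylIn_normal_of_nilpotent hnil (sigmaCore_le M) (le_normalizer_sigmaCore M)
    (h.sylIn_sigmaCore hM hp hR)
  have hNR := h.normalizer_eq hM (hR.ne_bot hd) hR.1 hn
  obtain ⟨g, -, hg⟩ := (sylIn_top_of_sigma hp' hS).exists_conj_eq (sylIn_top_of_sigma hp hR)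
  refine ⟨g, ?_⟩
  have h1 : MulAut.conj g • M ≤ H := by
    rw [← hNR, ← normalizer_conj, hg]
    exact normalizer_le_of_sigma hp' hS
  exact ((isCoatom_conj hM).le_iff.1 h1).resolve_left hH.1

/-- With trivial `M_alpha` the derived subgroup and the sigma core are nilpotent. -/
theorem Ten.nilpotent_derived {M : Subgroup G} (hM : IsCoatom M) (ha : alphaCore M = ⊥) :
    Group.IsNilpotent ↥⁅M, M⁆ ∧ Group.IsNilpotent (sigmaCore M) := by
  obtain ⟨-, -, -, -, hnil⟩ := h.alphaHall M hM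
  have hb : piCore (alpha M) M = ⊥ := by
    rw [← piCore_subgroupOf, ← alphaCore_eq, ha, bot_subgroupOf]
  have h1 : Group.IsNilpotent ↥(commutator M) := by
    have := hnil
    refine Group.nilpotent_of_mulEquiv (Subgroup.equivMapOfInjective (commutator M)
      (QuotientGroup.mk' (piCore (alpha M) M)) ?_).symm
    rw [← MonoidHom.ker_eq_bot_iff, QuotientGroup.ker_mk']
    exact hb
  have h2 : Group.IsNilpotent ↥⁅M, M⁆ := by
    rw [show ⁅M, M⁆ = (commutator M).map M.subtype by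
      rw [commutator_def, map_commutator, ← MonoidHom.range_eq_map, range_subtype]]
    exact CfsgLib.Cores.isNilpotent_map h1 _
  exact ⟨h2, haveI := h2; Group.nilpotent_of_mulEquiv
    (Subgroup.subgroupOfEquivOfLe (h.sigma_le_derived M hM))⟩

omit h in
theorem alphaCore_eq_bot_of {M : Subgroup G} (hα : ∀ r, r ∉ alpha M) : alphaCore M = ⊥ := by
  by_contra hne
  obtain ⟨r, hr, hd⟩ := Nat.exists_prime_and_dvd (fun he => hne (eq_bot_of_card_eq _ he))
  exact hα r (CfsgLib.PStab.prime_mem_of_dvd_piCoreOf r hr hd)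

/-! ### Transitivity for a plane -/

theorem Ten.transHyp [hp : Fact p.Prime] {A : Subgroup G} (hA : Plane p A)
    (hmax : ∀ B : Subgroup G, IsElementaryAbelian p B → A ≤ B → B = A) :
    TransitivityHypothesis A := by
  refine Cfsg.Agent.S1396.result h.minimal p
    ((dvd_card_of_ne_bot hA.isPGroup hA.ne_bot).trans (card_subgroup_dvd_card A)) A hA.isPGroup hA.1.1
    (Or.inl ⟨fun x hx => ⟨fun hxp => ?_, fun hxA => hA.1.2 x hxA⟩, h.plength p hp.out⟩)
  have hB := CfsgLib.PGroup.elemAb_sup hA.1 (CfsgLib.PGroup.elemAb_zpowers hxp) (by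
    rintro a ha _ ⟨i, rfl⟩
    exact ((show Commute a x from mem_centralizer_iff.1 hx a ha).zpow_right i).eq)
  exact (hmax _ hB le_sup_left).le (mem_sup_right (mem_zpowers x))

theorem Ten.plane_mem [hp : Fact p.Prime] {A : Subgroup G} (hA : Plane p A)
    (hmax : ∀ B : Subgroup G, IsElementaryAbelian p B → A ≤ B → B = A) {x : G}
    (hx : x ∈ Subgroup.centralizer (A : Set G)) (hxp : x ^ p = 1) : x ∈ A := by
  have hB := CfsgLib.PGroup.elemAb_sup hA.1 (CfsgLib.PGroup.elemAb_zpowers hxp) (by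
    rintro a ha _ ⟨i, rfl⟩
    exact ((show Commute a x from mem_centralizer_iff.1 hx a ha).zpow_right i).eq)
  exact (hmax _ hB le_sup_left).le (mem_sup_right (mem_zpowers x))

omit h in
theorem mem_maxInv_of_sylIn [hq : Fact q.Prime] {A R : Subgroup G} (hR : SylIn q R ⊤)
    (hn : A ≤ Subgroup.normalizer (R : Set G)) : R ∈ maxInvSubgroups ⊤ A {q} := by
  refine ⟨⟨le_top, fun r hr hd => prime_eq_of_dvd_isPGroup hR.2.1 hr hd, hn⟩, fun R' hR' hle => ?_⟩
  refine (hR.eq_of_le ?_ hle le_top).symm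
  obtain ⟨-, hπ, -⟩ := hR'
  exact IsPGroup.of_card (n := _)
    (Nat.eq_prime_pow_of_unique_prime_dvd Nat.card_pos.ne' fun hr hd => hπ _ hr hd)

omit h in
theorem card_plane_not_dvd [hp : Fact p.Prime] [hq : Fact q.Prime] {A : Subgroup G} (hA : Plane p A)
    (hqp : q ≠ p) : ¬ q ∣ Nat.card A :=
  fun hd => hqp (prime_eq_of_dvd_isPGroup hA.isPGroup hq.out hd)

omit h in
theorem core_centralizer_le (A : Subgroup G) (π : Set ℕ) :
    piCoreOf π (Subgroup.centralizer (A : Set G)) ≤ Subgroup.centralizer (A : Set G) :=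
  piCoreOf_le _ _

/-- Two Sylow subgroups of `G` normalised by a maximal plane and meeting a common proper overgroup of it
are conjugate under its centraliser. -/
theorem Ten.conj_of_common [hp : Fact p.Prime] [hq : Fact q.Prime] (hqp : q ≠ p) {A R₁ R₂ H : Subgroup G}
    (hA : Plane p A) (hmax : ∀ B : Subgroup G, IsElementaryAbelian p B → A ≤ B → B = A)
    (h₁ : SylIn q R₁ ⊤) (h₂ : SylIn q R₂ ⊤) (hn₁ : A ≤ Subgroup.normalizer (R₁ : Set G))
    (hn₂ : A ≤ Subgroup.normalizer (R₂ : Set G)) (hH : H ≠ ⊤) (hAH : A ≤ H)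
    (hi₁ : H ⊓ R₁ ≠ ⊥) (hi₂ : H ⊓ R₂ ≠ ⊥) :
    ∃ k ∈ Subgroup.centralizer (A : Set G), R₂ = MulAut.conj k • R₁ := by
  obtain ⟨k, hk, he⟩ := Cfsg.Agent.S1392.result h.minimal A (h.transHyp hA hmax) q hq.out
    (card_plane_not_dvd hA hqp) R₁ R₂ (mem_maxInv_of_sylIn h₁ hn₁) (mem_maxInv_of_sylIn h₂ hn₂) H hH
    hAH hi₁ hi₂
  exact ⟨k, core_centralizer_le _ _ hk, he⟩

/-- The same with the centraliser of a line of the plane as common overgroup. -/
theorem Ten.conj_of_line [hp : Fact p.Prime] [hq : Fact q.Prime] (hqp : q ≠ p) {A R₁ R₂ X : Subgroup G}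
    (hA : Plane p A) (hmax : ∀ B : Subgroup G, IsElementaryAbelian p B → A ≤ B → B = A)
    (h₁ : SylIn q R₁ ⊤) (h₂ : SylIn q R₂ ⊤) (hn₁ : A ≤ Subgroup.normalizer (R₁ : Set G))
    (hn₂ : A ≤ Subgroup.normalizer (R₂ : Set G)) (hXA : X ≤ A) (hX : Nat.card X = p)
    (hi₁ : Subgroup.centralizer (X : Set G) ⊓ R₁ ≠ ⊥) (hi₂ : Subgroup.centralizer (X : Set G) ⊓ R₂ ≠ ⊥) :
    ∃ k ∈ Subgroup.centralizer (A : Set G), R₂ = MulAut.conj k • R₁ :=
  h.conj_of_common hqp hA hmax h₁ h₂ hn₁ hn₂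
    (h.centralizer_ne_top (ne_bot_of_card_prime hX) (h.ne_top_of_isPGroup (isPGroup_of_card_prime p hX)))
    (hA.le_centralizer.trans (centralizer_le hXA)) hi₁ hi₂

/-- For `q` dividing `|C(A)|` all maximal `A`-invariant `q`-subgroups are conjugate under `C(A)`. -/
theorem Ten.conj_of_dvd [hp : Fact p.Prime] [hq : Fact q.Prime] (hqp : q ≠ p) {A : Subgroup G}
    (hA : Plane p A) (hmax : ∀ B : Subgroup G, IsElementaryAbelian p B → A ≤ B → B = A)
    (hd : q ∣ Nat.card (Subgroup.centralizer (A : Set G))) {Q₁ Q₂ : Subgroup G}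
    (h₁ : Q₁ ∈ maxInvSubgroups ⊤ A {q}) (h₂ : Q₂ ∈ maxInvSubgroups ⊤ A {q}) :
    ∃ k ∈ Subgroup.centralizer (A : Set G), Q₂ = MulAut.conj k • Q₁ := by
  obtain ⟨k, hk, he⟩ := Cfsg.Agent.S1394.result h.minimal A (h.transHyp hA hmax)
    (not_rankLE_one_of_plane (le_inf le_rfl hA.le_centralizer) hA) q hq.out
    (card_plane_not_dvd hA hqp) hd Q₁ h₁ Q₂ h₂
  exact ⟨k, core_centralizer_le _ _ hk, he⟩

/-! ### Complements of the sigma core -/

theorem Ten.exists_compl {M : Subgroup G} (hM : IsCoatom M) :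
    ∃ E : Subgroup G, IsComplIn E (sigmaCore M) M := by
  haveI := h.solvable_coatom hM
  obtain ⟨hH, -⟩ := h.sigmaHall M hM
  obtain ⟨E, hE⟩ := CfsgLib.PGroup.exists_isPiHallOf {r | r.Prime ∧ r ∉ sigma M} M ‹_›
  refine ⟨E, hE.1, sigmaCore_le M, ?_, ?_⟩
  · exact disjoint_of_coprime (Nat.coprime_of_dvd fun r hr h1 h2 =>
      (hE.2.1 r hr h1).2 (sigma_of_dvd_sigmaCore hr h2))
  · have hn : E ≤ Subgroup.normalizer (sigmaCore M : Set G) := hE.1.trans (le_normalizer_sigmaCore M)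
    have hsup : sigmaCore M ⊔ E = M := by
      have hle : sigmaCore M ⊔ E ≤ M := sup_le (sigmaCore_le M) hE.1
      refine le_antisymm hle (relIndex_eq_one.1 ?_)
      by_contra hne
      obtain ⟨r, hr, hrd⟩ := Nat.exists_prime_and_dvd hne
      by_cases hs : r ∈ sigma M
      · exact hH.2.2 r hr hs (hrd.trans (relIndex_dvd_of_le_left _ le_sup_left))
      · exact hE.2.2 r hr ⟨hr, hs⟩ (hrd.trans (relIndex_dvd_of_le_left _ le_sup_right))
    intro m hm
    obtain ⟨s, hs, e, he, rfl⟩ := exists_mul_of_mem_sup hn (hsup.symm ▸ hm)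
    refine ⟨e, he, e⁻¹ * s * e, ?_, by group⟩
    simpa using normalizer_conj_mem (hn (inv_mem he)) hs

omit h in
theorem compl_sup {M E : Subgroup G} (hE : IsComplIn E (sigmaCore M) M) : sigmaCore M ⊔ E = M :=
  le_antisymm (sup_le (sigmaCore_le M) hE.1) fun m hm => by
    obtain ⟨e, he, s, hs, rfl⟩ := hE.2.2.2 m hm
    exact mul_mem (mem_sup_right he) (mem_sup_left hs)

theorem Ten.compl_not_sigma {M E : Subgroup G} (hM : IsCoatom M) (hE : IsComplIn E (sigmaCore M) M)
    {r : ℕ} (hr : r.Prime) (hd : r ∣ Nat.card E) : r ∉ sigma M := by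
  intro hs
  have := Fact.mk hr
  obtain ⟨x, hx⟩ := exists_prime_orderOf_dvd_card' (G := E) r hd
  have h1 : zpowers (x : G) ≤ sigmaCore M := h.le_sigmaCore_of_isPGroup hM hs
    (isPGroup_of_card_prime r (by rw [Nat.card_zpowers, orderOf_coe, hx]))
    (zpowers_le.2 (hE.1 x.2))
  have h2 : (x : G) ∈ E ⊓ sigmaCore M := ⟨x.2, h1 (mem_zpowers _)⟩
  rw [hE.2.2.1, mem_bot] at h2
  rw [← orderOf_coe, h2, orderOf_one] at hx
  exact hr.ne_one hx.symm

theorem Ten.coprime_compl {M E : Subgroup G} (hM : IsCoatom M) (hE : IsComplIn E (sigmaCore M) M) :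
    (Nat.card (sigmaCore M)).Coprime (Nat.card E) :=
  Nat.coprime_of_dvd fun _ hr h1 h2 => h.compl_not_sigma hM hE hr h2 (sigma_of_dvd_sigmaCore hr h1)

theorem Ten.compl_ne_top {M E : Subgroup G} (hM : IsCoatom M) (hE : IsComplIn E (sigmaCore M) M) :
    Group.IsSolvable E := CfsgLib.Solvable.isSolvable_of_le (h.solvable_coatom hM) hE.1

omit h in
theorem compl_conj {M E : Subgroup G} (hE : IsComplIn E (sigmaCore M) M) {m : G} (hm : m ∈ M) :
    IsComplIn (MulAut.conj m • E) (sigmaCore M) M := by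
  have hMs := conj_smul_self_of_mem_normalizer (le_normalizer_sigmaCore M hm)
  have hMM := conj_smul_self_of_mem_normalizer (le_normalizer (H := M) hm)
  refine ⟨le_of_le_of_eq (conj_smul_mono m hE.1) hMM, sigmaCore_le M, ?_, fun y hy => ?_⟩
  · conv_lhs => rw [← hMs]
    rw [← smul_inf, hE.2.2.1, smul_bot]
  · obtain ⟨e, he, s, hs, h1⟩ := hE.2.2.2 (m⁻¹ * y * m) (mul_mem (mul_mem (inv_mem hm) hy) hm)
    refine ⟨m * e * m⁻¹, conj_smul_le_iff.1 le_rfl e he, m * s * m⁻¹,
      normalizer_conj_mem (le_normalizer_sigmaCore M hm) hs, ?_⟩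
    calc y = m * (m⁻¹ * y * m) * m⁻¹ := by group
      _ = m * e * m⁻¹ * (m * s * m⁻¹) := by rw [h1]; group

/-- Every `sigma'`-subgroup of `M` lies in a conjugate complement. -/
theorem Ten.exists_compl_ge {M X : Subgroup G} (hM : IsCoatom M) (hXM : X ≤ M)
    (hX : ∀ r : ℕ, r.Prime → r ∣ Nat.card X → r ∉ sigma M) :
    ∃ E : Subgroup G, IsComplIn E (sigmaCore M) M ∧ X ≤ E := by
  obtain ⟨E, hE⟩ := h.exists_compl hM
  obtain ⟨k, hk, hle⟩ := CfsgLib.Solvable.exists_conj_le (sigmaCore M) E X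
    (hE.1.trans (le_normalizer_sigmaCore M))
    (inf_comm E (sigmaCore M) ▸ hE.2.2.1) ((compl_sup hE).symm ▸ hXM)
    (Nat.coprime_of_dvd fun r hr h1 h2 => hX r hr h2 (sigma_of_dvd_sigmaCore hr h1))
    (Or.inl (CfsgLib.Solvable.isSolvable_of_le (h.solvable_coatom hM) (sigmaCore_le M)))
  refine ⟨MulAut.conj k⁻¹ • E, compl_conj hE (inv_mem (sigmaCore_le M hk)), ?_⟩
  rw [le_conj_smul_iff, inv_inv]
  exact hle

theorem Ten.exists_compl_ge_pGroup [Fact p.Prime] {M X : Subgroup G} (hM : IsCoatom M)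
    (hp : p ∉ sigma M) (hX : IsPGroup p X) (hXM : X ≤ M) :
    ∃ E : Subgroup G, IsComplIn E (sigmaCore M) M ∧ X ≤ E :=
  h.exists_compl_ge hM hXM fun r hr hd => prime_eq_of_dvd_isPGroup hX hr hd ▸ hp

theorem Ten.sylIn_of_compl [hp : Fact p.Prime] {M E S : Subgroup G} (hM : IsCoatom M)
    (hE : IsComplIn E (sigmaCore M) M) (hps : p ∉ sigma M) (hS : SylIn p S E) : SylIn p S M := by
  refine ⟨hS.1.trans hE.1, hS.2.1, fun hd => ?_⟩
  rw [← relIndex_mul_relIndex S E M hS.1 hE.1] at hd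
  rcases hp.out.dvd_mul.1 hd with h1 | h1
  · exact hS.2.2 h1
  · have h2 : E.relIndex M = E.relIndex (sigmaCore M) := by
      conv_lhs => rw [← compl_sup hE]
      exact CfsgLib.PGroup.relIndex_normalizing_sup (hE.1.trans (le_normalizer_sigmaCore M))
    rw [h2] at h1
    exact hps (sigma_of_dvd_sigmaCore hp.out (h1.trans (E.subgroupOf (sigmaCore M)).index_dvd_card))

end CfsgLib.OddLocal.BG
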