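import Cfsg.Agent.Lib.OddLocal.Sec13Basic
import Cfsg.Agent.Lib.OddLocal.FrobeniusAction

/-!
BG Lemma 13.1, Corollary 13.2, Theorem 13.3: how `τ₁ ∪ τ₃`-subgroups act on `M_σ`.
-/

set_option autoImplicit false
set_option linter.unusedSectionVars false

open scoped Pointwise

namespace CfsgLib.OddLocal.Sec13

open Cfsg Subgroup
open scoped commutatorElement
open CfsgLib.Solvable (conj_smul_le_iff mem_conj_smul_iff card_conj_smul conj_smul_conj_smul
  conj_smul_mono conj_smul_self_of_mem_normalizer conj_smul_eq_map)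

universe u
variable {G : Type u} [Group G] [Finite G]

/-- A coprime operator group centralizes `D` as soon as it centralizes one Sylow subgroup of `D` for
each prime. -/
theorem le_centralizer_of_sylows {A D : Subgroup G}
    (hq : ∀ q : ℕ, q.Prime → ∃ Q : Subgroup G, IsPiHallOf {q} Q D ∧ A ≤ centralizer (Q : Set G)) :
    A ≤ centralizer (D : Set G) := by
  refine le_centralizer_iff.1 ?_
  refine relIndex_eq_one.1 ?_
  by_contra hne
  obtain ⟨q, hq', hd⟩ := Nat.exists_prime_and_dvd hne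
  obtain ⟨Q, hQ, hA⟩ := hq q hq'
  refine hQ.2.2 q hq' rfl (hd.trans (relIndex_dvd_of_le_left _ (le_centralizer_iff.1 hA)))

/-- An invariant Sylow subgroup containing a given invariant `q`-subgroup. -/
theorem exists_invariant_sylowOf {A K U : Subgroup G} {q : ℕ} [Fact q.Prime]
    (hAK : A ≤ normalizer (K : Set G)) (hcop : (Nat.card A).Coprime (Nat.card K))
    (hK : Group.IsSolvable K) (hU : U ≤ K) (hAU : A ≤ normalizer (U : Set G)) (hUq : IsPGroup q U) :
    ∃ Q : Subgroup G, IsPiHallOf {q} Q K ∧ A ≤ normalizer (Q : Set G) ∧ U ≤ Q :=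
  CfsgLib.PGroup.exists_invariant_hall_ge hAK hcop hK {q} hU hAU (isPi_singleton_of_isPGroup hUq)

theorem coprime_of_pGroups {p q : ℕ} [Fact p.Prime] [Fact q.Prime] {P Q : Subgroup G}
    (hP : IsPGroup p P) (hQ : IsPGroup q Q) (hne : p ≠ q) : (Nat.card P).Coprime (Nat.card Q) :=
  coprime_of_isPi (isPi_singleton_of_isPGroup hP) (isPi_singleton_of_isPGroup hQ)
    fun _ _ hr hr' => hne (hr.symm.trans hr')

theorem dvd_card_of_isPGroup {p : ℕ} [Fact p.Prime] {P : Subgroup G} (hP : IsPGroup p P) (h1 : P ≠ ⊥) :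
    p ∣ Nat.card P :=
  hP.card_eq_or_dvd.resolve_left fun e => h1 (eq_bot_of_card_eq P e)

theorem isPi_inter_sigmaCore (M H : Subgroup G) : IsPi (sigma M) (sigmaCore M ⊓ H) :=
  IsPi.of_le (isPi_piCoreOf (sigma M) M) inf_le_left

/-- If `H = K B` with `K` normalised by `H` of order prime to `p` and `p` divides `|H'|`, then `p`
divides `|B'|`. -/
theorem dvd_commutator_of_mul {p : ℕ} (hp : p.Prime) {H K B : Subgroup G} (hK : K ≤ H) (hB : B ≤ H)
    (hn : H ≤ normalizer (K : Set G)) (hgen : ∀ g ∈ H, ∃ a ∈ K, ∃ b ∈ B, g = a * b)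
    (hpK : ¬ p ∣ Nat.card K) (hd : p ∣ Nat.card ↥⁅H, H⁆) : p ∣ Nat.card ↥⁅B, B⁆ := by
  haveI : (K.subgroupOf H).Normal := (normal_subgroupOf_iff_le_normalizer hK).2 hn
  set π := QuotientGroup.mk' (K.subgroupOf H)
  have himg : (⊤ : Subgroup H).map π = (B.subgroupOf H).map π := by
    refine le_antisymm ?_ (map_mono le_top)
    rintro _ ⟨g, -, rfl⟩
    obtain ⟨a, ha, b, hb, e⟩ := hgen g g.2
    refine ⟨⟨b, hB hb⟩, hb, ?_⟩
    rw [show g = ⟨a, hK ha⟩ * ⟨b, hB hb⟩ from Subtype.ext e, map_mul,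
      show π ⟨a, hK ha⟩ = 1 from (QuotientGroup.eq_one_iff _).2 ha, one_mul]
  have e1 : ⁅H, H⁆ = (commutator H).map H.subtype := (map_subtype_commutator H).symm
  have hcommB : ⁅B, B⁆ = ((⁅B.subgroupOf H, B.subgroupOf H⁆ : Subgroup H)).map H.subtype := by
    rw [map_commutator, map_subgroupOf_eq_of_le hB]
  rw [e1, card_map_of_injective H.subtype_injective] at hd
  rw [hcommB, card_map_of_injective H.subtype_injective]
  have h1 : (commutator H).map π = (⁅B.subgroupOf H, B.subgroupOf H⁆).map π := by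
    rw [map_commutator (B.subgroupOf H) (B.subgroupOf H) π, ← himg, ← map_commutator ⊤ ⊤ π]
    rfl
  have hker : π.ker = K.subgroupOf H := QuotientGroup.ker_mk' _
  have h3 : π.ker.relIndex (commutator H) = Nat.card ((commutator H).map π) := relIndex_ker _ π
  have h4 : Nat.card ↥(π.ker ⊓ commutator H) * π.ker.relIndex (commutator H) = Nat.card (commutator H) := by
    rw [← inf_relIndex_right π.ker, ← relIndex_bot_left, ← relIndex_bot_left (commutator H),
      relIndex_mul_relIndex ⊥ _ _ bot_le inf_le_right]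
  rw [← h4] at hd
  rcases hp.dvd_mul.1 hd with h5 | h5
  · refine absurd ((h5.trans (card_dvd_of_le inf_le_left)).trans (dvd_of_eq ?_)) hpK
    rw [hker]; exact Nat.card_congr (subgroupOfEquivOfLe hK).toEquiv
  · rw [h3, h1] at h5
    exact h5.trans (card_map_dvd _ _)

variable (h : Pre G)
include h

theorem Pre.sigmaCore_normal_le {M U : Subgroup G} (hU : U ≤ M) :
    U ≤ normalizer (sigmaCore M : Set G) := hU.trans (le_normalizer_piCoreOf _ _)

theorem Pre.inter_le_normalizer {M H U : Subgroup G} (hU : U ≤ M ⊓ H) :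
    U ≤ normalizer ((sigmaCore M ⊓ H : Subgroup G) : Set G) :=
  CfsgLib.Solvable.le_normalizer_inf (h.sigmaCore_normal_le (hU.trans inf_le_left))
    ((hU.trans inf_le_right).trans le_normalizer)

/-- 13.1 (a): a `p`-subgroup of `M ∩ H` inside `H'`, `p ∉ σ(M)`, centralizes `M_σ ∩ H`. -/
theorem Pre.centralizes_inter_of_le_derived {M H P : Subgroup G} (hM : IsCoatom M) (hH : IsCoatom H)
    (hne : ∀ g : G, H ≠ MulAut.conj g • M) {p : ℕ} [hp : Fact p.Prime] (hPp : IsPGroup p P)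
    (hpσ : p ∉ sigma M) (hP : P ≤ M ⊓ H) (hPd : P ≤ ⁅H, H⁆) :
    P ≤ centralizer ((sigmaCore M ⊓ H : Subgroup G) : Set G) := by
  set D := sigmaCore M ⊓ H with hD
  have hDσ : IsPi (sigma M) D := isPi_inter_sigmaCore M H
  have hcop : (Nat.card P).Coprime (Nat.card D) :=
    coprime_of_isPi (isPi_singleton_of_isPGroup hPp) hDσ fun r _ hr hr' => hpσ (hr ▸ hr')
  refine le_centralizer_of_sylows fun q hq => ?_
  have : Fact q.Prime := ⟨hq⟩
  obtain ⟨Q, hQ, hPQ, -⟩ := exists_invariant_sylowOf (A := P) (q := q) (h.inter_le_normalizer hP) hcop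
    (h.isSolvable_le hH inf_le_right) bot_le (by intro x _; rw [normalizer_eq_top]; trivial) IsPGroup.of_bot
  refine ⟨Q, hQ, ?_⟩
  by_cases hqD : q ∣ Nat.card D
  · have hqσ : q ∈ sigma M := hDσ q hq hqD
    exact h.centralizes_of_le_derived hH (fun e => hpσ (by rw [e]; exact hqσ)) hPd (hQ.1.trans inf_le_right) hPp
      (isPGroup_of_isPi_singleton hQ.2.1) hPQ (h.not_beta_of_sigma hM hH hne hqσ)
  · have hQ1 : Q = ⊥ := eq_bot_of_isPi hQ.2.1 fun r _ hr hd => by
      rw [Set.mem_singleton_iff.1 hr] at hd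
      exact hqD (hd.trans (card_dvd_of_le hQ.1))
    intro x _
    rw [mem_centralizer_iff, hQ1]
    rintro y hy
    rw [mem_bot.1 hy]; simp

/-- If `H_σ` is nilpotent, `σ(H)` meets no `σ(M)` with `M` not conjugate to `H`. -/
theorem Pre.not_sigma_of_nilpotent {M H : Subgroup G} (hM : IsCoatom M) (hH : IsCoatom H)
    (hne : ∀ g : G, H ≠ MulAut.conj g • M) (hnil : Group.IsNilpotent (sigmaCore H)) {q : ℕ}
    (hq : q ∈ sigma M) : q ∉ sigma H := by
  intro hqH
  have : Fact q.Prime := ⟨hq.1⟩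
  obtain ⟨T, hT⟩ := exists_sylowOf H q
  obtain ⟨S, hS⟩ := exists_sylowOf M q
  have hTσ : T ≤ sigmaCore H := h.le_sigmaCore hH hT.1 (IsPi.mono hT.2.1 (by rintro r rfl; exact hqH))
  have hTn : H ≤ normalizer (T : Set G) := by
    have hTσ' : IsPiHallOf {q} T (sigmaCore H) := hallOf_of_le hT hTσ (piCoreOf_le _ _)
    obtain ⟨R, hR⟩ := CfsgLib.PGroup.exists_isPiHallOf {r | r ≠ q} (sigmaCore H)
      (h.isSolvable_le hH (piCoreOf_le _ _))
    have hσn : sigmaCore H ≤ normalizer (T : Set G) := by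
      intro x hx
      obtain ⟨a, ha, b, hb, rfl⟩ :=
        frattini_hallOf (h.isSolvable_le hH (piCoreOf_le _ _)) le_rfl le_normalizer hTσ' hx
      refine mul_mem ?_ hb.2
      have hgen : T ⊔ R = sigmaCore H := by
        refine le_antisymm (sup_le hTσ hR.1) (relIndex_eq_one.1 ?_)
        by_contra hne
        obtain ⟨r, hr, hd⟩ := Nat.exists_prime_and_dvd hne
        rcases eq_or_ne r q with e | e
        · exact hTσ'.2.2 r hr e (hd.trans (relIndex_dvd_of_le_left _ le_sup_left))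
        · exact hR.2.2 r hr e (hd.trans (relIndex_dvd_of_le_left _ le_sup_right))
      have hc : R ≤ centralizer (T : Set G) := commutator_eq_of_nilpotent hnil hR.1 hTσ
        (coprime_of_isPi hR.2.1 hT.2.1 fun r _ hr hr' => hr hr')
      exact (sup_le le_normalizer (hc.trans (centralizer_le_normalizer _))) (hgen.ge ha)
    intro g hg
    have hg' : IsPiHallOf {q} (MulAut.conj g • T) (sigmaCore H) :=
      CfsgLib.PGroup.isPiHallOf_conj hTσ' (le_normalizer_piCoreOf _ _ hg)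
    refine CfsgLib.Solvable.mem_normalizer_iff_conj_smul.2 (hallOf_eq_of_le hTσ' ?_ hg'.1 hg'.2.1)
    exact le_of_normal_hallOf hg' ((fun x hx => by
      rw [conj_smul_normalizer, mem_conj_smul_iff]
      refine hσn ?_
      show _ ∈ piCoreOf (sigma H) H
      simpa using (mem_normalizer_iff.1 (inv_mem (le_normalizer_piCoreOf (sigma H) H hg)) x).1 hx)) hTσ hT.2.1
  obtain ⟨g, hg⟩ := h.exists_conj_le_sylow hM hq hS (isPGroup_of_isPi_singleton hT.2.1)
  have hgT : MulAut.conj g • T = S := by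
    obtain ⟨k, hk⟩ := h.exists_conj_le_sylow hH hqH hT (isPGroup_of_isPi_singleton hS.2.1)
    refine CfsgLib.Solvable.conj_smul_eq_of_le hg ?_
    rw [← card_conj_smul k S]
    exact card_le_of_le hk
  have h1 : MulAut.conj g • H ≤ M := by
    refine le_trans ?_ (h.normalizer_sylow_le hM hq hS)
    rw [← hgT, conj_smul_normalizer]
    exact conj_smul_mono g hTn
  rcases (isCoatom_conj hH g).le_iff.1 h1 with e | e
  · exact hM.1 e
  · exact hne g⁻¹ (by rw [e, conj_smul_inv_self])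

theorem Pre.sigmaCore_nilpotent_of_tau2 {H : Subgroup G} (hH : IsCoatom H) {p : ℕ}
    (hp : p ∈ tau2 H) : Group.IsNilpotent (sigmaCore H) := by
  have : Fact p.Prime := ⟨hp.1⟩
  obtain ⟨S, hS⟩ := exists_sylowOf H p
  obtain ⟨A, hAS, hA, hAc⟩ := h.exists_elementary_tau2 hH hp hS
  exact (h.s1417 H hH p hp A ⟨hAS.trans hS.1, hA, hAc⟩).1

/-- Elements of `E'` of order prime to `p ∈ τ₂` centralize `A`. -/
theorem Pre.commute_tau2_derived {H E A : Subgroup G} (hH : IsCoatom H)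
    (hE : IsComplIn E (sigmaCore H) H) {p : ℕ} [hp' : Fact p.Prime] (hp : p ∈ tau2 H)
    (hAE : A ≤ E) (hA : IsElementaryAbelian p A) (hAc : Nat.card A = p ^ 2) {y : G}
    (hy : y ∈ ⁅E, E⁆) (hyp : (orderOf y).Coprime p) : y ∈ centralizer (A : Set G) := by
  obtain ⟨⟨hEA, -⟩, -, -⟩ := h.s1418 H hH E hE p hp A ⟨hAE, hA, hAc⟩
  have hab := (h.s1420 H hH E hE).2.1
  rw [mem_centralizer_iff]
  intro a ha
  have hyE : y ∈ E := commutator_le_self E hy
  set c := ⁅y, a⁆ with hc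
  have hcA : c ∈ A := by
    rw [hc, commutatorElement_def]
    exact mul_mem ((mem_normalizer_iff.1 (hEA hyE) a).1 ha) (inv_mem ha)
  have hcE : c ∈ ⁅E, E⁆ := commutator_mem_commutator hyE (hAE ha)
  have hcy : Commute y c := congrArg Subtype.val (hab.is_comm.comm (⟨y, hy⟩ : ↥⁅E, E⁆) ⟨c, hcE⟩)
  have hconj : y * a * y⁻¹ = c * a := by rw [hc, commutatorElement_def]; group
  have hn : ∀ n : ℕ, y ^ n * a * (y ^ n)⁻¹ = c ^ n * a := by
    intro n
    induction n with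
    | zero => simp
    | succ n ih =>
      calc y ^ (n + 1) * a * (y ^ (n + 1))⁻¹ = y * (y ^ n * a * (y ^ n)⁻¹) * y⁻¹ := by
            rw [pow_succ']; group
        _ = (y * c ^ n * y⁻¹) * (y * a * y⁻¹) := by rw [ih]; group
        _ = c ^ (n + 1) * a := by rw [(hcy.pow_right n).eq, mul_inv_cancel_right, hconj, ← mul_assoc, ← pow_succ]
  have h1 : c ^ orderOf y = 1 := by
    have := hn (orderOf y)
    rw [pow_orderOf_eq_one, one_mul, inv_one, mul_one] at this
    exact (mul_eq_right.1 this.symm)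
  have h2 : c = 1 := by
    rw [← orderOf_eq_one_iff]
    exact Nat.eq_one_of_dvd_coprimes hyp (orderOf_dvd_of_pow_eq_one h1)
      (orderOf_dvd_of_pow_eq_one (hA.2 c hcA))
  rw [h2, one_mul, mul_inv_eq_iff_eq_mul] at hconj
  exact hconj.symm

/-- `E ∩ H' = E'` for a complement `E`. -/
theorem Pre.compl_inf_derived {H E : Subgroup G} (hH : IsCoatom H) (hE : IsComplIn E (sigmaCore H) H) :
    E ⊓ ⁅H, H⁆ ≤ ⁅E, E⁆ := by
  set N₀ := sigmaCore H ⊔ ⁅E, E⁆ with hN₀
  have hE'n : ⁅E, E⁆ ≤ normalizer (sigmaCore H : Set G) :=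
    ((commutator_le_self E).trans hE.1).trans (le_normalizer_piCoreOf _ _)
  have hn0 : H ≤ normalizer (N₀ : Set G) := by
    intro g hg
    obtain ⟨e, he, s, hs, rfl⟩ := hE.2.2.2 g hg
    refine mul_mem ?_ (le_normalizer (mem_sup_left hs))
    exact (le_inf (hE.1.trans (le_normalizer_piCoreOf _ _)) commutator_normal).trans
      (normalizer_inf_normalizer_le_normalizer_sup _ _) he
  have hN₀H : N₀ ≤ H := sup_le hE.2.1 ((commutator_le_self E).trans hE.1)
  haveI : (N₀.subgroupOf H).Normal := (normal_subgroupOf_iff_le_normalizer hN₀H).2 hn0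
  have hH' : ⁅H, H⁆ ≤ N₀ := by
    rw [commutator_le]
    intro a ha b hb
    set π := QuotientGroup.mk' (N₀.subgroupOf H)
    obtain ⟨e₁, he₁, s₁, hs₁, rfl⟩ := hE.2.2.2 a ha
    obtain ⟨e₂, he₂, s₂, hs₂, rfl⟩ := hE.2.2.2 b hb
    have hs : ∀ s : H, (s : G) ∈ sigmaCore H → π s = 1 := fun s hs =>
      (QuotientGroup.eq_one_iff s).2 (mem_subgroupOf.2 (mem_sup_left hs))
    have h1 : π ⁅(⟨e₁, hE.1 he₁⟩ * ⟨s₁, hE.2.1 hs₁⟩ : H), (⟨e₂, hE.1 he₂⟩ * ⟨s₂, hE.2.1 hs₂⟩ : H)⁆ =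
        π ⁅(⟨e₁, hE.1 he₁⟩ : H), (⟨e₂, hE.1 he₂⟩ : H)⁆ := by
      simp only [map_commutatorElement, map_mul, hs ⟨s₁, hE.2.1 hs₁⟩ hs₁, hs ⟨s₂, hE.2.1 hs₂⟩ hs₂, mul_one]
    rw [show π ⁅(⟨e₁, hE.1 he₁⟩ : H), (⟨e₂, hE.1 he₂⟩ : H)⁆ = 1 from (QuotientGroup.eq_one_iff _).2
      (mem_sup_right (T := ⁅E, E⁆) (commutator_mem_commutator he₁ he₂))] at h1
    exact mem_subgroupOf.1 ((QuotientGroup.eq_one_iff (N := N₀.subgroupOf H) _).1 h1)
  rintro e ⟨heE, heH⟩
  obtain ⟨s, hs, e', he', rfl⟩ := CfsgLib.Solvable.exists_mul_of_mem_sup hE'n (hH' heH)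
  have heE' : s * e' ∈ E := heE
  have hsE : s ∈ E ⊓ sigmaCore H := ⟨by
    show s ∈ E
    have h2 := mul_mem heE' (inv_mem (commutator_le_self E he'))
    simpa using h2, hs⟩
  rw [hE.2.2.1, mem_bot] at hsE
  simpa [hsE] using he'

/-- 13.1 (b). -/
theorem Pre.not_tau2_of_commutator {M H : Subgroup G} (hM : IsCoatom M) (hH : IsCoatom H)
    (hne : ∀ g : G, H ≠ MulAut.conj g • M) {p : ℕ} [hp : Fact p.Prime] (hpσ : p ∉ sigma M)
    (hpN : p ∣ Nat.card ↥(M ⊓ H)) (hDN : ⁅sigmaCore M ⊓ H, M ⊓ H⁆ ≠ ⊥) : p ∉ tau2 H := by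
  intro hp2
  have hnilH := h.sigmaCore_nilpotent_of_tau2 hH hp2
  set N := M ⊓ H with hN
  set C₁ := ⁅sigmaCore M ⊓ H, N⁆ with hC₁
  have hC₁D : C₁ ≤ sigmaCore M ⊓ H :=
    CfsgLib.Solvable.commutator_le_of_le_normalizer (h.inter_le_normalizer le_rfl)
  have hC₁n : N ≤ normalizer (C₁ : Set G) :=
    CfsgLib.Solvable.le_normalizer_commutator_right (h.inter_le_normalizer le_rfl)
  have hC₁σ : IsPi {r | r ∉ sigma H} C₁ := fun r hr hd => by
    exact h.not_sigma_of_nilpotent hM hH hne hnilH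
      (isPi_inter_sigmaCore M H r hr (hd.trans (card_dvd_of_le hC₁D)))
  obtain ⟨E, hE, hC₁E⟩ := h.exists_compl_ge hH (hC₁D.trans inf_le_right) hC₁σ
  have hC₁E' : C₁ ≤ ⁅E, E⁆ := (le_inf hC₁E (commutator_mono inf_le_right inf_le_right)).trans
    (h.compl_inf_derived hH hE)
  have hC₁c : IsMulCommutative C₁ := ⟨⟨fun x y => Subtype.ext (by
    have h' := congrArg Subtype.val ((h.s1420 H hH E hE).2.1.is_comm.comm
      (⟨x, hC₁E' x.2⟩ : ↥⁅E, E⁆) ⟨y, hC₁E' y.2⟩)
    simpa using h')⟩⟩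
  obtain ⟨q, hq, hqd⟩ := Nat.exists_prime_and_dvd (fun e => hDN (eq_bot_of_card_eq C₁ e))
  have : Fact q.Prime := ⟨hq⟩
  have hqσ : q ∈ sigma M := isPi_inter_sigmaCore M H q hq (hqd.trans (card_dvd_of_le hC₁D))
  have hqH : q ∉ sigma H := hC₁σ q hq hqd
  have hpq : p ≠ q := fun e => hpσ (by rw [e]; exact hqσ)
  -- `Q₁ = Ω₁(O_q(C₁))`
  obtain ⟨Q₁, hQ₁e, hQ₁C, hQ₁mem⟩ := exists_omega_abelian (p := q) hC₁c
  have hQ₁1 : Q₁ ≠ ⊥ := by
    obtain ⟨Y, hY, hYc⟩ := exists_order_prime_le hqd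
    intro e
    have hYQ : Y ≤ Q₁ := fun y hy => (hQ₁mem y).2 ⟨hY hy, by
      rw [← orderOf_dvd_iff_pow_eq_one, ← hYc]; exact Y.orderOf_dvd_natCard hy⟩
    have h0 := card_le_of_le hYQ
    rw [e, Subgroup.card_bot, hYc] at h0
    exact absurd h0 (not_le.2 hq.one_lt)
  have hQ₁q : IsPGroup q Q₁ := CfsgLib.PGroup.elemAb_isPGroup hQ₁e
  have hQ₁M : Q₁ ≤ M := hQ₁C.trans ((hC₁D.trans inf_le_left).trans (piCoreOf_le _ _))
  have hNQ₁ : N ≤ normalizer (Q₁ : Set G) := fun n hn =>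
    CfsgLib.Solvable.mem_normalizer_of_conj_mem fun x hx => (hQ₁mem _).2
      ⟨(mem_normalizer_iff.1 (hC₁n hn) x).1 ((hQ₁mem x).1 hx).1, by
        rw [conj_pow, ((hQ₁mem x).1 hx).2, mul_one, mul_inv_cancel]⟩
  -- `A`
  obtain ⟨S₀, hS₀⟩ := exists_sylowOf E p
  have hS₀H : IsPiHallOf {p} S₀ H := CfsgLib.PGroup.isPiHallOf_trans hS₀ hE.1 fun r hr hrp hd => by
    rw [Set.mem_singleton_iff.1 hrp] at hd
    exact (h.compl_hall hH hE).2.2 p hp.out hp2.2.1 hd
  obtain ⟨A, hAS, hA, hAc⟩ := h.exists_elementary_tau2 hH hp2 hS₀H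
  have hAE : A ≤ E := hAS.trans hS₀.1
  have hAC : A ≤ centralizer (Q₁ : Set G) := le_centralizer_iff.1 fun y hy =>
    h.commute_tau2_derived hH hE hp2 hAE hA hAc (hC₁E' (hQ₁C hy))
      (((Nat.coprime_primes hq hp.out).2 hpq.symm).coprime_dvd_left
        (orderOf_dvd_of_pow_eq_one (hQ₁e.2 y hy)))
  have hAp : IsPGroup p A := CfsgLib.PGroup.elemAb_isPGroup hA
  have hrank1 : ∀ {X A' : Subgroup G}, IsElementaryAbelian p A' → Nat.card A' = p ^ 2 → A' ≤ X →
      ¬ PRankLE p 1 X := by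
    intro X A' hA' hc hle hr
    have := CfsgLib.PGroup.pRankLE_subgroup_iff X |>.1 hr A' hle hA'
    rw [hc] at this
    exact absurd this (not_le.2 (Nat.pow_lt_pow_right hp.out.one_lt (by norm_num)))
  -- no elementary subgroup of order `p²` in `M` centralises a nontrivial part of `M_σ`
  have hnoA : ∀ {A' Y : Subgroup G}, IsElementaryAbelian p A' → Nat.card A' = p ^ 2 → A' ≤ M →
      IsPi {q} Y → Y ≤ M → Y ≠ ⊥ → A' ≤ centralizer (Y : Set G) → False := by
    intro A' Y hA' hc hle hYq hYM hY1 hYc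
    have hpM : p ∈ tau2 M := by
      rcases h.tau_cases hM hp.out (hpN.trans (card_dvd_of_le inf_le_left)) hpσ with h1 | h1 | h1
      · exact absurd h1.2.2.2.2 (hrank1 hA' hc hle)
      · exact h1
      · exact absurd h1.2.2.2 (hrank1 hA' hc hle)
    obtain ⟨-, -, -, hd, -, -⟩ := h.s1417 M hM p hpM A' ⟨hle, hA', hc⟩
    refine hY1 (le_bot_iff.1 (hd ▸ le_inf ?_ (le_centralizer_iff.1 hYc)))
    exact h.le_sigmaCore hM hYM (hYq.mono (by rintro r rfl; exact hqσ))
  have hAM : ¬ A ≤ M := fun hle =>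
    hnoA hA hAc hle (isPi_singleton_of_isPGroup hQ₁q) hQ₁M hQ₁1 hAC
  obtain ⟨L, hL, hNL⟩ := h.exists_maximal_normalizer hM hQ₁M hQ₁1
  have hAL : A ≤ L := hAC.trans ((centralizer_le_normalizer _).trans hNL)
  have hLM : L ≠ M := fun e => hAM (e ▸ hAL)
  have hNLe : N ≤ M ⊓ L := le_inf inf_le_left (hNQ₁.trans hNL)
  obtain ⟨hnc, hcase, S, hS, hQS, hSM, hNS⟩ := h.two_maximal hM hL hqσ hQ₁q hQ₁1 hQ₁M hNL hLM
  have hpL : p ∣ Nat.card L :=
    ((dvd_pow_self p two_ne_zero).trans (dvd_of_eq hAc.symm)).trans (card_dvd_of_le hAL)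
  rcases hcase with hqL | hqL
  · by_cases hpσL : p ∈ sigma L
    · -- `p, q ∈ σ(L) ∖ β(L)`
      have hpid : ¬ IsIdealPrime p G := (h.s1408 H hH p hp2.2.1 hp2.2.2.1 hp2.2.2.2).1
      have hpβ : p ∉ beta L := fun hb => hpid hb.2
      have hqβ : q ∉ beta L := h.not_beta_of_sigma hM hL hnc hqσ
      set B := L ⊓ normalizer (S : Set G) with hB
      obtain ⟨T, hT⟩ := exists_sylowOf B p
      have hTL : IsPiHallOf {p} T L := by
        refine CfsgLib.PGroup.isPiHallOf_trans hT inf_le_left fun r hr hrp hd => ?_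
        rw [Set.mem_singleton_iff.1 hrp] at hd
        refine hpβ (isPi_piCoreOf (beta L) L p hp.out ?_)
        have e : B.relIndex L = B.relIndex (betaCore L) := by
          conv_lhs => rw [show L = betaCore L ⊔ B from le_antisymm (fun g hg => by
            obtain ⟨a, ha, b, hb, rfl⟩ := h.two_maximal_sigma hL hqL hS hg
            exact mul_mem (mem_sup_left ha) (mem_sup_right hb))
            (sup_le (piCoreOf_le _ _) inf_le_left)]
          exact CfsgLib.PGroup.relIndex_normalizing_sup (inf_le_left.trans (le_normalizer_piCoreOf _ _))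
        rw [e] at hd
        exact hd.trans (relIndex_dvd_card _ _)
      have hTS : T ≤ centralizer (S : Set G) :=
        h.centralizes_of_le_derived hL hpq (h.sylow_le_commutator hL hpσL hTL) hS.1
          (isPGroup_of_isPi_singleton hT.2.1) (isPGroup_of_isPi_singleton hS.2.1) (hT.1.trans inf_le_right) hqβ
      obtain ⟨m, hm, hle⟩ := exists_conj_le_hallOf (h.isSolvable hL.1) hTL hAL (isPi_singleton_of_isPGroup hAp)
      refine hnoA (isElementaryAbelian_conj hA m) (by rw [card_conj_smul, hAc])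
        (hle.trans ((hT.1.trans inf_le_right).trans hNS)) hS.2.1 hSM ?_ (hle.trans hTS)
      intro e
      exact hQ₁1 (le_bot_iff.1 (e ▸ hQS))
    · have hp2L : p ∈ tau2 L := by
        rcases h.tau_cases hL hp.out hpL hpσL with h1 | h1 | h1
        · exact absurd h1.2.2.2.2 (hrank1 hA hAc hAL)
        · exact h1
        · exact absurd h1.2.2.2 (hrank1 hA hAc hAL)
      exact h.not_sigma_of_nilpotent hM hL hnc (h.sigmaCore_nilpotent_of_tau2 hL hp2L) hqσ hqL
  · by_cases hpσL : p ∈ sigma L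
    · exact h.not_dvd_inter hM hL hLM hqL hS hSM hNS hp.out hpσL (hpN.trans (card_dvd_of_le hNLe))
    · have hp2L : p ∈ tau2 L := by
        rcases h.tau_cases hL hp.out hpL hpσL with h1 | h1 | h1
        · exact absurd h1.2.2.2.2 (hrank1 hA hAc hAL)
        · exact h1
        · exact absurd h1.2.2.2 (hrank1 hA hAc hAL)
      obtain ⟨-, hE₀, A₂, hA₂S, hA₂, hA₂c⟩ := h.two_maximal_tau2 hM hL hLM hqL hS hSM hNS
      obtain ⟨m, hm, hle⟩ := exists_conj_le_hallOf (h.isSolvable hL.1) (h.compl_hall hL hE₀) hAL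
        ((isPi_singleton_of_isPGroup hAp).mono (by rintro r rfl; exact hpσL))
      have hA' := isElementaryAbelian_conj hA m
      have hA'c : Nat.card (MulAut.conj m • A : Subgroup G) = p ^ 2 := by rw [card_conj_smul, hAc]
      obtain ⟨⟨hn', -⟩, -, -⟩ := h.s1418 L hL _ hE₀ p hp2L _ ⟨hle, hA', hA'c⟩
      have hA₂E : A₂ ≤ M ⊓ L := le_inf (hA₂S.trans hSM) (hA₂S.trans hS.1)
      obtain ⟨⟨hn₂, -⟩, -, -⟩ := h.s1418 L hL _ hE₀ q hqL A₂ ⟨hA₂E, hA₂, hA₂c⟩
      refine hnoA hA' hA'c (hle.trans inf_le_left)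
        (isPi_singleton_of_isPGroup (CfsgLib.PGroup.elemAb_isPGroup hA₂)) (hA₂E.trans inf_le_left) ?_ ?_
      · intro e
        rw [e, Subgroup.card_bot] at hA₂c
        exact absurd hA₂c (Nat.one_lt_pow two_ne_zero hq.one_lt).ne
      · intro x hx
        refine CfsgLib.Solvable.mem_centralizer_of_mem_normalizer (hA₂E.trans hn') ?_ hx
          ((hle.trans hn₂) hx)
        exact CfsgLib.Solvable.disjoint_of_coprime
          (coprime_of_pGroups (CfsgLib.PGroup.elemAb_isPGroup hA') (CfsgLib.PGroup.elemAb_isPGroup hA₂) hpq)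

/-! ### 13.2 -/

omit h in
/-- `p ∈ τ₁(M) ∪ τ₃(M)`. -/
def IsTau13 (M : Subgroup G) (p : ℕ) : Prop := p ∈ tau1 M ∨ p ∈ tau3 M

omit h [Finite G] in
theorem IsTau13.not_sigma {M : Subgroup G} {p : ℕ} (hp : IsTau13 M p) : p ∉ sigma M :=
  hp.elim (·.2.1) (·.2.1)

omit h [Finite G] in
theorem IsTau13.rank {M : Subgroup G} {p : ℕ} (hp : IsTau13 M p) : PRankLE p 1 M :=
  hp.elim (·.2.2.2.2) (·.2.2.2)

omit h in
theorem IsTau13.dvd {M : Subgroup G} {p : ℕ} (hp : IsTau13 M p) : p ∣ Nat.card M :=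
  hp.elim (·.2.2.1) fun h => h.2.2.1.trans (card_dvd_of_le (commutator_le_self M))

/-- For a nontrivial subgroup `P` of a cyclic Sylow subgroup `S`: `N(S) ≤ N(P)`. -/
theorem Pre.normalizer_sylow_le_normalizer {S P : Subgroup G} (hS : IsCyclic S) (hP : P ≤ S) :
    normalizer (S : Set G) ≤ normalizer (P : Set G) := fun g hg =>
  CfsgLib.Solvable.mem_normalizer_iff_conj_smul.2 (eq_of_cyclic_card hS
    ((conj_smul_mono g hP).trans (conj_smul_self_of_mem_normalizer hg).le) hP (card_conj_smul g P))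

/-- A subgroup `P` with `N(P) ≤ H`, `p` of rank one in `H`: then `p ∈ σ(H)`. -/
theorem Pre.mem_sigma_of_rank_one {H P : Subgroup G} {p : ℕ} [Fact p.Prime]
    (hr : PRankLE p 1 H) (hPp : IsPGroup p P) (hP1 : P ≠ ⊥) (hNP : normalizer (P : Set G) ≤ H) :
    p ∈ sigma H := by
  obtain ⟨S, hS, hPS⟩ := exists_sylow_ge (le_normalizer.trans hNP) hPp
  refine mem_sigma_of_normalizer_le ((dvd_card_of_isPGroup hPp hP1).trans
    (card_dvd_of_le (le_normalizer.trans hNP))) hS ?_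
  exact (h.normalizer_sylow_le_normalizer
    (h.isCyclic_of_rank_one hr hS.1 (isPGroup_of_isPi_singleton hS.2.1)) hPS).trans hNP

/-- 13.2: the maximal subgroups over `N(P)`, `P` a nontrivial `τ₁ ∪ τ₃`-subgroup. -/
theorem Pre.tau13_maximal {M P H : Subgroup G} (hM : IsCoatom M) {p : ℕ} [hp' : Fact p.Prime]
    (hp : IsTau13 M p) (hPp : IsPGroup p P) (hP1 : P ≠ ⊥)
    (hH : IsCoatom H) (hNP : normalizer (P : Set G) ≤ H) :
    (∀ g : G, H ≠ MulAut.conj g • M) ∧ (p ∈ sigma H ∨ p ∈ tau2 H) := by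
  have hσ2 : p ∈ sigma H ∨ p ∈ tau2 H := by
    by_contra hc
    push Not at hc
    have hr : PRankLE p 1 H := by
      rcases h.tau_cases hH hp'.out ((dvd_card_of_isPGroup hPp hP1).trans
        (card_dvd_of_le (le_normalizer.trans hNP))) hc.1 with h1 | h1 | h1
      · exact h1.2.2.2.2
      · exact absurd h1 hc.2
      · exact h1.2.2.2
    exact hc.1 (h.mem_sigma_of_rank_one hr hPp hP1 hNP)
  refine ⟨fun g e => ?_, hσ2⟩
  rcases hσ2 with h1 | h1
  · rw [e, sigma_conj] at h1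
    exact hp.not_sigma h1
  · exact h1.2.2.2 (e ▸ pRankLE_conj hp.rank g)

/-- A prime-power subgroup of `M ∩ H` for a prime outside `σ(M) ∪ τ₁(H)` centralizes `M_σ ∩ H`. -/
theorem Pre.centralizes_inter {M H X : Subgroup G} (hM : IsCoatom M) (hH : IsCoatom H)
    (hne : ∀ g : G, H ≠ MulAut.conj g • M) {r : ℕ} [hr' : Fact r.Prime] (hrσ : r ∉ sigma M)
    (hrτ : r ∉ tau1 H) (hX : X ≤ M ⊓ H) (hXr : IsPGroup r X) :
    X ≤ centralizer ((sigmaCore M ⊓ H : Subgroup G) : Set G) := by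
  rcases eq_or_ne X ⊥ with rfl | hX1
  · exact bot_le
  by_cases hDN : ⁅sigmaCore M ⊓ H, M ⊓ H⁆ = ⊥
  · exact hX.trans (le_centralizer_iff.1 (commutator_eq_bot_iff_le_centralizer.1 hDN))
  have hrd := dvd_card_of_isPGroup hXr hX1
  have hXd : X ≤ ⁅H, H⁆ := by
    by_cases hσ : r ∈ sigma H
    · exact (h.le_sigmaCore hH (hX.trans inf_le_right) ((isPi_singleton_of_isPGroup hXr).mono
        (by rintro s rfl; exact hσ))).trans (h.sigmaCore_le_commutator hH)
    rcases h.tau_cases hH hr'.out (hrd.trans (card_dvd_of_le (hX.trans inf_le_right))) hσ with h1 | h1 | h1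
    · exact absurd h1 hrτ
    · exact absurd h1 (h.not_tau2_of_commutator hM hH hne hrσ (hrd.trans (card_dvd_of_le hX)) hDN)
    · exact h.tau3_le_commutator hH h1 (hX.trans inf_le_right) hXr
  exact h.centralizes_inter_of_le_derived hM hH hne hXr hrσ hX hXd

/-- 13.2 (a): every `p`-subgroup of `M ∩ H` centralizes `M_σ ∩ H`. -/
theorem Pre.tau13_centralizes {M P H P₁ : Subgroup G} (hM : IsCoatom M) {p : ℕ} [hp' : Fact p.Prime]
    (hp : IsTau13 M p) (hPp : IsPGroup p P) (hP1 : P ≠ ⊥)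
    (hH : IsCoatom H) (hNP : normalizer (P : Set G) ≤ H) (hP₁ : P₁ ≤ M ⊓ H) (hP₁p : IsPGroup p P₁) :
    P₁ ≤ centralizer ((sigmaCore M ⊓ H : Subgroup G) : Set G) := by
  obtain ⟨hne, hσ2⟩ := h.tau13_maximal hM hp hPp hP1 hH hNP
  refine h.centralizes_inter hM hH hne hp.not_sigma (fun h1 => ?_) hP₁ hP₁p
  rcases hσ2 with h2 | h2
  · exact h1.2.1 h2
  · exact h2.2.2.2 h1.2.2.2.2

/-- `C_{M_σ}(P) = M_σ ∩ H`. -/
theorem Pre.tau13_inter_eq {M P H : Subgroup G} (hM : IsCoatom M) {p : ℕ} [hp' : Fact p.Prime]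
    (hp : IsTau13 M p) (hPp : IsPGroup p P) (hP1 : P ≠ ⊥) (hPM : P ≤ M)
    (hH : IsCoatom H) (hNP : normalizer (P : Set G) ≤ H) :
    sigmaCore M ⊓ H = sigmaCore M ⊓ centralizer (P : Set G) :=
  le_antisymm
    (le_inf inf_le_left (le_centralizer_iff.1
      (h.tau13_centralizes hM hp hPp hP1 hH hNP (le_inf hPM (le_normalizer.trans hNP)) hPp)))
    (le_inf inf_le_left (inf_le_right.trans ((centralizer_le_normalizer _).trans hNP)))

/-- 13.3: if `p ∈ τ₁ ∪ τ₃`, a nonidentity element of a `p`-subgroup has no more fixed points in `M_σ`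
than the subgroup. -/
theorem Pre.prime_action {M S : Subgroup G} (hM : IsCoatom M) {p : ℕ} [hp' : Fact p.Prime]
    (hp : IsTau13 M p) (hSM : S ≤ M) (hSp : IsPGroup p S) {x : G} (hx : x ∈ S) (hx1 : x ≠ 1) :
    sigmaCore M ⊓ centralizer ({x} : Set G) ≤ centralizer (S : Set G) := by
  have hcyc : IsCyclic S := h.isCyclic_of_rank_one hp.rank hSM hSp
  set P := zpowers x with hP
  have hPS : P ≤ S := zpowers_le.2 hx
  have hP1 : P ≠ ⊥ := zpowers_ne_bot.2 hx1
  obtain ⟨H, hH, hNP⟩ := h.exists_maximal_normalizer hM (hPS.trans hSM) hP1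
  have hSH : S ≤ H := (le_normalizer.trans (h.normalizer_sylow_le_normalizer hcyc hPS)).trans hNP
  have h1 := h.tau13_centralizes hM hp (hSp.to_le hPS) hP1 hH hNP (le_inf hSM hSH) hSp
  rintro y ⟨hy, hyx⟩
  have hyH : y ∈ H := by
    refine hNP (centralizer_le_normalizer _ ?_)
    rw [hP, mem_centralizer_iff]
    intro z hz
    obtain ⟨i, rfl⟩ := mem_zpowers_iff.1 hz
    exact (Commute.zpow_left (show Commute x y from mem_centralizer_iff.1 hyx x rfl) i).eq
  exact (le_centralizer_iff.1 h1) ⟨hy, hyH⟩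

end CfsgLib.OddLocal.Sec13
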