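import Cfsg.Agent.Lib.OddLocal.BG12h
import Cfsg.Agent.Lib.OddLocal.BG12Stmts
import Cfsg.Agent.Lib.OddLocal.Sec13Action

/-!
The hypotheses of the section 13 development from the bundle of sections 9-10, and BG Lemma 12.16
(S1427).
-/

set_option autoImplicit false
set_option linter.unusedSectionVars false

namespace CfsgLib.OddLocal.BG

open Cfsg Subgroup
open scoped Pointwise

universe u

variable {G : Type u} [Group G] [Finite G]

/-- The predecessors of section 13 hold. -/
theorem Ten.pre (h : Ten G) : CfsgLib.OddLocal.Sec13.Pre G where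
  min := h.minimal
  s1403 := h.uniq
  s1404 M hM p _ hp X := h.fusion M hM p (Fact.out) hp X
  s1405 := h.alphaHall
  s1406 := h.cent_alpha_uniq
  s1408 M hM p _ := h.rank_two M hM p Fact.out
  s1409 M hM p _ := h.normalizer_le M hM p Fact.out
  s1411 p _ := h.focal p Fact.out
  s1412 p _ := h.sylow_rank_two p Fact.out
  s1414 := h.betaHall
  s1415 := h.s1415
  s1416 := h.s1416
  s1417 := h.s1417
  s1418 := h.s1418
  s1420 := h.s1420
  s1422 := h.s1422
  s1423 := h.s1423
  s1424 := h.s1424
  s1425 := h.s1425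
  s1426 := h.s1426

/-- Statement S1427. -/
theorem Ten.s1427 (h : Ten G)
    (M : Subgroup G) (hM : IsCoatom M) (E : Subgroup G) (hE : Cfsg.IsComplIn E (Cfsg.sigmaCore M) M) (p : ℕ) [Fact p.Prime] (S : Sylow p E) (hS1 : (S : Subgroup E) ≠ ⊥) (hSc : IsCyclic (S : Subgroup E)) :
    ∀ x ∈ (S : Subgroup E).map E.subtype, x ≠ 1 →
        Cfsg.sigmaCore M ⊓ Subgroup.centralizer ({x} : Set G) = Cfsg.sigmaCore M ⊓ Subgroup.centralizer (((S : Subgroup E).map E.subtype : Subgroup G) : Set G) := by
  intro x hx hx1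
  set S' : Subgroup G := (S : Subgroup E).map E.subtype with hS'
  have hSE : S' ≤ E := map_subtype_le _
  have hSM : S' ≤ M := hSE.trans hE.1
  have hSp : IsPGroup p S' := S.2.map _
  have hSn : S' ≠ ⊥ := fun e => hS1 (map_injective E.subtype_injective (by rw [← hS', e, Subgroup.map_bot]))
  have hdE : p ∣ Nat.card E := (dvd_card_of_ne_bot hSp hSn).trans (card_dvd_of_le hSE)
  have hpσ : p ∉ sigma M := h.pre.compl_isPi hM hE p Fact.out hdE
  have hSyl : SylIn p S' M := h.sylIn_of_compl hM hE hpσ (sylIn_map S)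
  have hr1 : PRankLE p 1 M := by
    by_contra hc
    obtain ⟨A, hAM, hA⟩ := exists_plane_of_not_pRankLE_one hc
    obtain ⟨g, -, hgA⟩ := hSyl.exists_conj_le hA.isPGroup hAM
    haveI : IsCyclic S' :=
      isCyclic_of_surjective ((S : Subgroup E).equivMapOfInjective E.subtype E.subtype_injective)
        ((S : Subgroup E).equivMapOfInjective E.subtype E.subtype_injective).surjective
    exact (plane_conj hA g).not_isCyclic (isCyclic_of_injective (Subgroup.inclusion hgA)
      (Subgroup.inclusion_injective hgA))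
  have ht : CfsgLib.OddLocal.Sec13.IsTau13 M p := by
    by_cases hd : p ∣ Nat.card ↥⁅M, M⁆
    · exact Or.inr ⟨Fact.out, hpσ, hd, hr1⟩
    · exact Or.inl ⟨Fact.out, hpσ, hdE.trans (card_dvd_of_le hE.1), hd, hr1⟩
  refine le_antisymm (le_inf inf_le_left ?_) (le_inf inf_le_left (inf_le_right.trans ?_))
  · exact h.pre.prime_action hM ht hSM hSp hx hx1
  · exact centralizer_le (Set.singleton_subset_iff.2 hx)

end CfsgLib.OddLocal.BG
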