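import Cfsg.Agent.Lib.OddLocal.MaximalBasic
import Cfsg.Agent.Lib.PStab.Stable
import Cfsg.Agent.Lib.Cores.Coprime

/-!
Bender's uniqueness argument for maximal subgroups of a minimal simple group of odd order: a maximal
subgroup whose Fitting subgroup has two prime divisors is determined by small data.
-/

set_option autoImplicit false
set_option linter.unusedSectionVars false

namespace CfsgLib.OddLocal

open Cfsg Subgroup
open scoped commutatorElement
open CfsgLib.Solvable (nilPart nilPart_le le_nilPart isPGroup_nilPart)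

variable {G : Type*} [Group G] [Finite G]

omit [Finite G] in
theorem normalizer_le_normalizer_fittingOf [Finite G] (X : Subgroup G) :
    normalizer (X : Set G) ≤ normalizer (fittingOf X : Set G) := by
  intro a ha
  refine CfsgLib.Solvable.mem_normalizer_of_conj_mem ?_
  rintro _ ⟨y, hy, rfl⟩
  let φ : X ≃* X :=
    { toFun := fun z => ⟨a * z * a⁻¹, (Subgroup.mem_normalizer_iff.1 ha z).1 z.2⟩
      invFun := fun z => ⟨a⁻¹ * z * a, (Subgroup.mem_normalizer_iff.1 ha _).2 (by
        simpa [mul_assoc] using z.2)⟩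
      left_inv := fun z => Subtype.ext (by simp [mul_assoc])
      right_inv := fun z => Subtype.ext (by simp [mul_assoc])
      map_mul' := fun z w => Subtype.ext (by simp [mul_assoc]) }
  exact ⟨φ y, (CfsgLib.Cores.map_fittingSubgroup_equiv φ).le ⟨y, hy, rfl⟩, rfl⟩

/-- A nilpotent subgroup normalised by `M` lies in `F(M)`. -/
theorem le_fittingOf {M R : Subgroup G} (hRM : R ≤ M) (hn : M ≤ normalizer (R : Set G))
    (hR : Group.IsNilpotent R) : R ≤ fittingOf M := by
  have : (R.subgroupOf M).Normal := (normal_subgroupOf_iff_le_normalizer hRM).2 hn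
  have := hR
  rw [← map_subgroupOf_eq_of_le hRM]
  exact map_mono (CfsgLib.Cores.le_fittingSubgroup
    (Group.nilpotent_of_mulEquiv (subgroupOfEquivOfLe hRM).symm))

/-- The `p'`-part of a nilpotent subgroup as generated by its elements of order prime to `p`. -/
theorem pPrimeElemClosure_le_centralizer {p : ℕ} {F D : Subgroup G} (hF : Group.IsNilpotent F)
    (h : ∀ q : ℕ, q.Prime → q ∣ Nat.card F → q ≠ p → D ≤ centralizer (nilPart q F : Set G)) :
    CfsgLib.Cores.pPrimeElemClosure p F ≤ centralizer (D : Set G) := by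
  refine (closure_le _).2 ?_
  rintro x ⟨hx, hxo⟩
  have hxF : zpowers x ≤ F := zpowers_le.2 hx
  have hnil : Group.IsNilpotent (zpowers x) := by
    have := hF
    exact Group.nilpotent_of_mulEquiv (subgroupOfEquivOfLe hxF)
  refine (CfsgLib.Solvable.le_of_nilPart_le hnil fun q hq hd => ?_) (mem_zpowers x)
  have : Fact q.Prime := ⟨hq⟩
  have hqp : q ≠ p := by
    rintro rfl
    rw [Nat.card_zpowers] at hd
    exact hq.ne_one (Nat.eq_one_of_dvd_coprimes hxo hd dvd_rfl)
  exact (le_nilPart hF (nilPart_le.trans hxF) isPGroup_nilPart).trans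
    (le_centralizer_iff.1 (h q hq (hd.trans (card_dvd_of_le hxF)) hqp))

section

variable (hG : IsMinSimpleOddOrder G)
include hG

/-- If a maximal `L` contains the centre of `F(M)` and `π(F(L)) ⊆ π(F(M))`, then `F(L) ≤ M`. -/
theorem fittingOf_le_of_center_le {M L : Subgroup G} (hM : IsCoatom M) (hL : IsCoatom L)
    (hZ : fittingOf M ⊓ centralizer (fittingOf M : Set G) ≤ L)
    (h2 : 2 ≤ (Nat.card (fittingOf M)).primeFactors.card)
    (hπ : ∀ r : ℕ, r.Prime → r ∣ Nat.card (fittingOf L) → r ∣ Nat.card (fittingOf M)) :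
    fittingOf L ≤ M ∧ ∀ q : ℕ, q.Prime → q ∣ Nat.card (fittingOf M) → q ∣ Nat.card (fittingOf L) := by
  have hLs := isSolvable_of_isCoatom hG hL
  set F := fittingOf M with hFdef
  have hF : Group.IsNilpotent F := isNilpotent_fittingOf M
  have key : ∀ p q : ℕ, p.Prime → q.Prime → p ≠ q → p ∣ Nat.card F → q ∣ Nat.card F →
      nilPart q F ⊓ centralizer (F : Set G) ≤ centralizer (nilPart p (fittingOf L) : Set G) := by
    intro p q hp hq hpq hpF hqF
    have : Fact p.Prime := ⟨hp⟩
    have : Fact q.Prime := ⟨hq⟩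
    refine balance_centralizes hLs (P := nilPart p F ⊓ centralizer (F : Set G))
      ((isPGroup_nilPart (p := p) (A := F)).to_le inf_le_left)
      ((inf_le_inf_right _ nilPart_le).trans hZ) ((inf_le_inf_right _ nilPart_le).trans hZ) ?_ ?_ ?_
    · obtain ⟨i, hi⟩ := IsPGroup.iff_card.1
        ((isPGroup_nilPart (p := q) (A := F)).to_le
          (inf_le_left : nilPart q F ⊓ centralizer (F : Set G) ≤ nilPart q F))
      rw [hi]
      exact ((Nat.coprime_primes hq hp).2 hpq.symm).pow_left i
    · exact inf_le_left.trans (nilPart_le.trans (le_centralizer_iff.1 inf_le_right))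
    · exact inf_le_right.trans ((centralizer_zPart_le hG hM hpF).trans (le_normalizer_zPart q M))
  have hpick : ∀ p : ℕ, ∃ q : ℕ, q.Prime ∧ q ∣ Nat.card F ∧ q ≠ p := by
    intro p
    obtain ⟨q, hq, hqp⟩ := Finset.exists_mem_ne (Nat.lt_of_succ_le h2) p
    exact ⟨q, (Nat.prime_of_mem_primeFactors hq), Nat.dvd_of_mem_primeFactors hq, hqp⟩
  refine ⟨CfsgLib.Solvable.le_of_nilPart_le (isNilpotent_fittingOf L) fun p hp hd => ?_, fun q hq hqF => ?_⟩
  · obtain ⟨q, hq, hqF, hqp⟩ := hpick p
    have : Fact q.Prime := ⟨hq⟩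
    exact (le_centralizer_iff.1 (key p q hp hq hqp.symm (hπ p hp hd) hqF)).trans
      (centralizer_zPart_le hG hM hqF)
  · have : Fact q.Prime := ⟨hq⟩
    by_contra hqL
    have hc : nilPart q F ⊓ centralizer (F : Set G) ≤ centralizer (fittingOf L : Set G) :=
      centralizes_of_parts (isNilpotent_fittingOf L) fun p hp hd =>
        key p q hp hq (fun h => hqL (h ▸ hd)) (hπ p hp hd) hqF
    have h1 : nilPart q F ⊓ centralizer (F : Set G) ≤ fittingOf L :=
      (le_inf ((inf_le_inf_right _ nilPart_le).trans hZ) hc).trans (inf_centralizer_fittingOf_le hLs)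
    obtain ⟨i, hi⟩ := IsPGroup.iff_card.1
      ((isPGroup_nilPart (p := q) (A := F)).to_le
        (inf_le_left : nilPart q F ⊓ centralizer (F : Set G) ≤ nilPart q F))
    have hi0 : i ≠ 0 := by
      rintro rfl
      exact zPart_ne_bot hF hqF (eq_bot_of_card_eq _ (by rw [hi, pow_zero]))
    exact hqL ((dvd_pow_self q hi0).trans (hi ▸ card_dvd_of_le h1))

/-- The two Fitting subgroups commute in different primes. -/
theorem nilPart_commute_cross {M L : Subgroup G} (hFL : fittingOf M ≤ L) (hEM : fittingOf L ≤ M)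
    {p q : ℕ} (hp : p.Prime) (hq : q.Prime) (hpq : p ≠ q) :
    nilPart p (fittingOf M) ≤ centralizer (nilPart q (fittingOf L) : Set G) := by
  have : Fact p.Prime := ⟨hp⟩
  have : Fact q.Prime := ⟨hq⟩
  rw [← commutator_eq_bot_iff_le_centralizer, eq_bot_iff]
  have h : Disjoint (nilPart p (fittingOf M)) (nilPart q (fittingOf L)) :=
    IsPGroup.disjoint_of_ne p q hpq _ _ isPGroup_nilPart isPGroup_nilPart
  refine le_trans (le_inf ?_ ?_) (disjoint_iff.1 h).le
  · rw [← le_normalizer_iff_commutator_le_left]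
    exact (nilPart_le.trans hEM).trans (le_normalizer_nilPart_fittingOf p M)
  · rw [← le_normalizer_iff_commutator_le_right]
    exact (nilPart_le.trans hFL).trans (le_normalizer_nilPart_fittingOf q L)

/-- The stability step: the centre of the `p`-part of `F(L)` lies in the `p`-part of `F(M)`. -/
theorem zPart_le_cross {M L : Subgroup G} (hM : IsCoatom M)
    (hFL : fittingOf M ≤ L) (hEM : fittingOf L ≤ M)
    {p : ℕ} (hp : p.Prime) (hpF : p ∣ Nat.card (fittingOf M)) :
    nilPart p (fittingOf L) ⊓ centralizer (fittingOf L : Set G) ≤ nilPart p (fittingOf M) := by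
  have : Fact p.Prime := ⟨hp⟩
  have hMs := isSolvable_of_isCoatom hG hM
  set F := fittingOf M with hFdef
  have hF : Group.IsNilpotent F := isNilpotent_fittingOf M
  set P := nilPart p F with hPdef
  set W := nilPart p (fittingOf L) ⊓ centralizer (fittingOf L : Set G) with hW
  have hWE : W ≤ fittingOf L := inf_le_left.trans nilPart_le
  have hWM : W ≤ M := hWE.trans hEM
  set U := CfsgLib.Cores.pPrimeElemClosure p F with hU
  have hWU : W ≤ centralizer (U : Set G) :=
    le_centralizer_iff.1 (pPrimeElemClosure_le_centralizer hF fun q hq _ hqp =>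
      inf_le_left.trans (le_centralizer_iff.1 (nilPart_commute_cross hG hFL hEM hq hp hqp)))
  have hNP : normalizer (P : Set G) = M := normalizer_eq_of_isCoatom hG hM
    (CfsgLib.Solvable.nilPart_ne_bot hF hpF) (nilPart_le.trans (fittingOf_le M))
    (le_normalizer_nilPart_fittingOf p M)
  have hFW : P ≤ normalizer (W : Set G) :=
    (nilPart_le.trans hFL).trans (le_normalizer_zPart p L)
  intro w hw
  have hquad : CfsgLib.PStab.IsQuad P w := by
    intro x hx
    have h1 : ⁅x, w⁆ ∈ W :=
      le_normalizer_iff_commutator_le_right.1 hFW (commutator_mem_commutator hx hw)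
    rw [commutatorElement_eq_one_iff_mul_comm]
    exact (mem_centralizer_iff.1 h1.2 w (hWE hw)).symm
  obtain ⟨K, hKN, hNK, hwK, hK⟩ := CfsgLib.PStab.stableAll_of_odd hG.1 (p := p) P isPGroup_nilPart w
    (hNP.symm ▸ hWM hw) hquad
  rw [hNP] at hKN hNK
  set C := K ⊓ centralizer (U : Set G) with hC
  have hCM : C ≤ M := inf_le_left.trans hKN
  have hMC : M ≤ normalizer (C : Set G) := CfsgLib.Solvable.le_normalizer_inf hNK
    (((le_normalizer_fittingOf M).trans (CfsgLib.Cores.normalizer_le_normalizer_pPrimeElemClosure p F)).trans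
      (CfsgLib.Solvable.normalizer_le_normalizer_centralizer U))
  have hpow : ∀ k ∈ C, ∃ n : ℕ, ∀ c ∈ C, c * k ^ p ^ n = k ^ p ^ n * c := by
    intro k hk
    obtain ⟨n, hn⟩ := hK k hk.1
    have hkU : k ^ p ^ n ∈ centralizer (U : Set G) := pow_mem hk.2 _
    have hcF : k ^ p ^ n ∈ centralizer (F : Set G) := by
      refine zpowers_le.1 (centralizes_of_parts hF fun r hr hd => ?_)
      rcases eq_or_ne r p with rfl | hrp
      · exact zpowers_le.2 hn
      · have : Fact r.Prime := ⟨hr⟩
        refine zpowers_le.2 (centralizer_le (fun y hy => ?_) hkU)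
        obtain ⟨i, hi⟩ := CfsgLib.Solvable.orderOf_mem_nilPart hy
        refine CfsgLib.Cores.mem_pPrimeElemClosure (nilPart_le hy) ?_
        rw [hi]
        exact ((Nat.coprime_primes hr hp).2 hrp).pow_left i
    have haF : k ^ p ^ n ∈ F :=
      inf_centralizer_fittingOf_le hMs ⟨pow_mem (hCM hk) _, hcF⟩
    obtain ⟨m, s, hs, hms⟩ := Nat.exists_eq_pow_mul_and_not_dvd (orderOf_pos (k ^ p ^ n)).ne' p hp.ne_one
    refine ⟨n + m, fun c hc => ?_⟩
    have hmem : k ^ p ^ (n + m) ∈ U := by
      rw [pow_add, pow_mul]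
      refine CfsgLib.Cores.mem_pPrimeElemClosure (pow_mem haF _) ?_
      rw [orderOf_pow, hms, Nat.gcd_eq_right (dvd_mul_right _ _), Nat.mul_div_cancel_left _ (pow_pos hp.pos _)]
      exact (CfsgLib.Cores.coprime_iff_not_dvd hp _).2 hs
    exact (mem_centralizer_iff.1 hc.2 _ hmem).symm
  have hnil : Group.IsNilpotent C := by
    have hq : IsPGroup p (C ⧸ center C) := by
      intro x
      obtain ⟨⟨k, hk⟩, rfl⟩ := QuotientGroup.mk_surjective x
      obtain ⟨n, hn⟩ := hpow k hk
      refine ⟨n, ?_⟩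
      rw [← QuotientGroup.mk_pow, QuotientGroup.eq_one_iff, mem_center_iff]
      exact fun c => Subtype.ext (by simpa using hn c c.2)
    have := hq.isNilpotent
    exact Subgroup.isNilpotent_of_ker_le_center (QuotientGroup.mk' (center C)) (by simp)
  obtain ⟨i, hi⟩ := CfsgLib.Solvable.orderOf_mem_nilPart hw.1
  exact CfsgLib.Solvable.mem_nilPart hF (le_fittingOf hCM hMC hnil ⟨hwK, hWU hw⟩) hi

/-- One half of Bender's maximal subgroup theorem. -/
theorem fittingOf_le_cross {M L : Subgroup G} (hM : IsCoatom M) (hL : IsCoatom L)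
    (hFL : fittingOf M ≤ L) (hEM : fittingOf L ≤ M)
    (h2 : 2 ≤ (Nat.card (fittingOf M)).primeFactors.card)
    (hπ : ∀ r : ℕ, r.Prime → (r ∣ Nat.card (fittingOf M) ↔ r ∣ Nat.card (fittingOf L))) :
    fittingOf L ≤ fittingOf M := by
  refine CfsgLib.Solvable.le_of_nilPart_le (isNilpotent_fittingOf L) fun q hq hd => ?_
  obtain ⟨p, hp, hpq⟩ := Finset.exists_mem_ne (Nat.lt_of_succ_le h2) q
  have hpF := Nat.dvd_of_mem_primeFactors hp
  have hp' := Nat.prime_of_mem_primeFactors hp
  have : Fact p.Prime := ⟨hp'⟩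
  have : Fact q.Prime := ⟨hq⟩
  set C := M ⊓ centralizer (nilPart p (fittingOf M) : Set G) with hC
  have hCL : C ≤ L := inf_le_right.trans ((centralizer_le
    (zPart_le_cross hG hM hFL hEM hp' hpF)).trans (centralizer_zPart_le hG hL ((hπ p hp').1 hpF)))
  have hEC : nilPart q (fittingOf L) ≤ C :=
    le_inf (nilPart_le.trans hEM) (le_centralizer_iff.1 (nilPart_commute_cross hG hFL hEM hp' hq hpq))
  have h1 : nilPart q (fittingOf L) ≤ nilPart q (fittingOf C) :=
    le_nilPart_fittingOf hEC (hCL.trans (le_normalizer_nilPart_fittingOf q L)) isPGroup_nilPart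
  have hMC : M ≤ normalizer (C : Set G) := CfsgLib.Solvable.le_normalizer_inf le_normalizer
    ((le_normalizer_nilPart_fittingOf p M).trans (CfsgLib.Solvable.normalizer_le_normalizer_centralizer _))
  have h2' : nilPart q (fittingOf C) ≤ fittingOf M := le_fittingOf
    ((nilPart_le.trans (fittingOf_le C)).trans inf_le_left)
    ((hMC.trans (normalizer_le_normalizer_fittingOf C)).trans
      (CfsgLib.Solvable.normalizer_le_normalizer_nilPart q _))
    (isPGroup_nilPart (p := q) (A := fittingOf C)).isNilpotent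
  exact h1.trans h2'

/-- Bender's uniqueness theorem. -/
theorem eq_of_center_le {M L : Subgroup G} (hM : IsCoatom M) (hL : IsCoatom L)
    (hZ : fittingOf M ⊓ centralizer (fittingOf M : Set G) ≤ L)
    (h2 : 2 ≤ (Nat.card (fittingOf M)).primeFactors.card)
    (hπ : ∀ r : ℕ, r.Prime → r ∣ Nat.card (fittingOf L) → r ∣ Nat.card (fittingOf M)) :
    L = M := by
  obtain ⟨hEM, hπ'⟩ := fittingOf_le_of_center_le hG hM hL hZ h2 hπ
  have heq : (Nat.card (fittingOf L)).primeFactors = (Nat.card (fittingOf M)).primeFactors := by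
    ext r
    simp only [Nat.mem_primeFactors, ne_eq, Nat.card_pos.ne', not_false_eq_true, and_true]
    exact ⟨fun h => ⟨h.1, hπ r h.1 h.2⟩, fun h => ⟨h.1, hπ' r h.1 h.2⟩⟩
  have hFL := (fittingOf_le_of_center_le hG hL hM (inf_le_left.trans hEM) (heq ▸ h2) hπ').1
  have h1 := fittingOf_le_cross hG hM hL hFL hEM h2 fun r hr => ⟨hπ' r hr, hπ r hr⟩
  have h3 := fittingOf_le_cross hG hL hM hEM hFL (heq ▸ h2) fun r hr => ⟨hπ r hr, hπ' r hr⟩
  have he : fittingOf L = fittingOf M := le_antisymm h1 h3
  have hn := normalizer_eq_of_isCoatom hG hM (fittingOf_ne_bot hG hM) (fittingOf_le M)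
    (le_normalizer_fittingOf M)
  rw [← he] at hn
  rw [← hn]
  exact (normalizer_eq_of_isCoatom hG hL (fittingOf_ne_bot hG hL) (fittingOf_le L)
    (le_normalizer_fittingOf L)).symm

end

end CfsgLib.OddLocal
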