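import Cfsg.Agent.Lib.OddLocal.Sec13Hyp
import Cfsg.Agent.Lib.OddLocal.HallBasic
import Cfsg.Agent.Lib.OddLocal.MaximalBasic
import Cfsg.Agent.Lib.OddLocal.FittingUnique
import Cfsg.Agent.Lib.PGroup.ElemAbelian
import Cfsg.Agent.Lib.Transfer.CyclicMaximal

/-!
Basic theory of `σ(M)`, `β(M)` and `τᵢ(M)` for maximal subgroups of a minimal simple group of odd
order, from the statements of BG section 10.
-/

set_option autoImplicit false
set_option linter.unusedSectionVars false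

open scoped Pointwise

namespace CfsgLib.OddLocal.Sec13

open Cfsg Subgroup
open CfsgLib.Solvable (conj_smul_le_iff mem_conj_smul_iff card_conj_smul conj_smul_conj_smul
  conj_smul_mono conj_smul_self_of_mem_normalizer conj_smul_eq_map)

universe u
variable {G : Type u} [Group G] [Finite G]

/-- `M_β`. -/
abbrev betaCore (M : Subgroup G) : Subgroup G := piCoreOf (beta M) M

omit [Finite G] in
theorem sigmaCore_def (M : Subgroup G) : sigmaCore M = piCoreOf (sigma M) M := rfl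

omit [Finite G] in
theorem beta_subset_alpha (M : Subgroup G) : beta M ⊆ alpha M := fun _ h => h.1

theorem exists_elementary_of_not_pRankLE {p k : ℕ} {M : Subgroup G} (h : ¬ PRankLE p k M) :
    ∃ A : Subgroup G, A ≤ M ∧ IsElementaryAbelian p A ∧ p ^ k < Nat.card A := by
  simp only [CfsgLib.PGroup.pRankLE_subgroup_iff, not_forall] at h
  obtain ⟨A, hA, hAe, hc⟩ := h
  exact ⟨A, hA, hAe, not_le.1 hc⟩

theorem exists_elementary_of_card_le {p k : ℕ} [hp : Fact p.Prime] {A : Subgroup G}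
    (hA : IsElementaryAbelian p A) (hk : p ^ k ≤ Nat.card A) :
    ∃ B : Subgroup G, B ≤ A ∧ IsElementaryAbelian p B ∧ Nat.card B = p ^ k := by
  obtain ⟨n, hn⟩ := IsPGroup.iff_card.1 (CfsgLib.PGroup.elemAb_isPGroup hA)
  have hd : p ^ k ∣ Nat.card A := by
    rw [hn] at hk ⊢
    exact pow_dvd_pow p ((Nat.pow_le_pow_iff_right hp.out.one_lt).1 hk)
  obtain ⟨B, hB⟩ := Sylow.exists_subgroup_card_pow_prime p hd
  refine ⟨B.map A.subtype, map_subtype_le B, CfsgLib.PGroup.elemAb_mono hA (map_subtype_le B), ?_⟩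
  rw [card_map_of_injective A.subtype_injective, hB]

theorem dvd_card_of_not_pRankLE {p k : ℕ} [hp : Fact p.Prime] {M : Subgroup G}
    (h : ¬ PRankLE p k M) : p ∣ Nat.card M := by
  obtain ⟨A, hAM, hA, hc⟩ := exists_elementary_of_not_pRankLE h
  obtain ⟨n, hn⟩ := IsPGroup.iff_card.1 (CfsgLib.PGroup.elemAb_isPGroup hA)
  have hn0 : n ≠ 0 := fun h0 => by
    rw [h0, pow_zero] at hn
    have := Nat.pow_pos (n := k) hp.out.pos
    omega
  exact ((dvd_pow_self p hn0).trans (dvd_of_eq hn.symm)).trans (card_dvd_of_le hAM)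

/-- A `p`-group of `p`-rank one, `p` odd, is cyclic. -/
theorem isCyclic_of_pRankLE_one {p : ℕ} [hp : Fact p.Prime] (hp2 : p ≠ 2) {P : Subgroup G}
    (hP : IsPGroup p P) (hr : PRankLE p 1 P) : IsCyclic P := by
  by_contra hc
  have hc' : ¬ IsCyclic (⊤ : Subgroup P) := fun h =>
    hc (isCyclic_of_surjective _ (topEquiv (G := P)).surjective)
  obtain ⟨A, -, -, hA, hcard⟩ := CfsgLib.Transfer.exists_normal_elemAb_sq hP hp2 (S := (⊤ : Subgroup P)) hc'
  have := CfsgLib.PGroup.pRankLE_iff.1 hr A hA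
  rw [hcard, pow_one] at this
  nlinarith [hp.out.two_le]

theorem zpowers_card {p : ℕ} {X : Subgroup G} (hp : p.Prime) (hX : Nat.card X = p) {x : G}
    (hx : x ∈ X) (hx1 : x ≠ 1) : zpowers x = X := by
  refine eq_of_le_of_card_ge (zpowers_le.2 hx) ?_
  rw [Nat.card_zpowers, hX]
  rcases hp.eq_one_or_self_of_dvd _ (hX ▸ X.orderOf_dvd_natCard hx) with h | h
  · exact absurd (orderOf_eq_one_iff.1 h) hx1
  · exact h.ge

/-- Cauchy, inside a subgroup. -/
theorem exists_order_prime_le {p : ℕ} [hp : Fact p.Prime] {X : Subgroup G} (h : p ∣ Nat.card X) :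
    ∃ Y : Subgroup G, Y ≤ X ∧ Nat.card Y = p := by
  obtain ⟨x, hx⟩ := exists_prime_orderOf_dvd_card' p h
  exact ⟨zpowers (x : G), zpowers_le.2 x.2, by rw [Nat.card_zpowers, Subgroup.orderOf_coe, hx]⟩

variable (h : Pre G)
include h

theorem Pre.isSolvable {X : Subgroup G} (hX : X ≠ ⊤) : Group.IsSolvable X := h.min.2.2.2 X hX

theorem Pre.isSolvable_le {M X : Subgroup G} (hM : IsCoatom M) (hX : X ≤ M) : Group.IsSolvable X :=
  CfsgLib.Solvable.isSolvable_of_le (h.isSolvable hM.1) hX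

theorem Pre.ne_two {p : ℕ} {X : Subgroup G} (hd : p ∣ Nat.card X) : p ≠ 2 :=
  ne_two_of_dvd h.min (hd.trans (card_subgroup_dvd_card X))

theorem Pre.ne_top_of_le {M X : Subgroup G} (hM : IsCoatom M) (hX : X ≤ M) : X ≠ ⊤ :=
  fun e => hM.1 (top_le_iff.1 (e.ge.trans hX))

theorem Pre.normalizer_ne_top {M X : Subgroup G} (hM : IsCoatom M) (hX : X ≤ M) (hX1 : X ≠ ⊥) :
    normalizer (X : Set G) ≠ ⊤ :=
  CfsgLib.PStab.normalizer_ne_top_of_minSimple h.min hX1 (h.ne_top_of_le hM hX)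

theorem Pre.exists_maximal_normalizer {M X : Subgroup G} (hM : IsCoatom M) (hX : X ≤ M) (hX1 : X ≠ ⊥) :
    ∃ L : Subgroup G, IsCoatom L ∧ normalizer (X : Set G) ≤ L :=
  exists_isCoatom_ge h.min (h.normalizer_ne_top hM hX hX1)

omit h in
theorem isCoatom_conj {M : Subgroup G} (hM : IsCoatom M) (g : G) : IsCoatom (MulAut.conj g • M) := by
  refine ⟨fun e => hM.1 ?_, fun K hK => ?_⟩
  · have := congrArg (fun X => MulAut.conj g⁻¹ • X) e
    rw [eq_top_iff]
    intro x _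
    have hx : g * x * g⁻¹ ∈ MulAut.conj g • M := e ▸ mem_top _
    simpa [mul_assoc] using mem_conj_smul_iff.1 hx
  · have h1 : M < MulAut.conj g⁻¹ • K := by
      refine lt_of_le_of_ne ?_ fun e => hK.ne ?_
      · have := conj_smul_mono g⁻¹ hK.le
        rwa [conj_smul_conj_smul, inv_mul_cancel, map_one, one_smul] at this
      · rw [e, conj_smul_conj_smul, mul_inv_cancel, map_one, one_smul]
    have := congrArg (fun X => MulAut.conj g • X) (hM.2 _ h1)
    rw [eq_top_iff]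
    intro x _
    have hx : g⁻¹ * x * g ∈ MulAut.conj g⁻¹ • K := (hM.2 _ h1).symm ▸ mem_top _
    simpa [mul_assoc] using mem_conj_smul_iff.1 hx

/-- `x` normalising a maximal subgroup lies in it. -/
theorem Pre.normalizer_maximal {M : Subgroup G} (hM : IsCoatom M) : normalizer (M : Set G) = M :=
  normalizer_eq_of_isCoatom h.min hM (ne_bot_of_isCoatom h.min hM) le_rfl le_normalizer

/-! ### `σ(M)` -/

theorem Pre.normalizer_sylow_le {M S : Subgroup G} (hM : IsCoatom M) {p : ℕ} [Fact p.Prime]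
    (hp : p ∈ sigma M) (hS : IsPiHallOf {p} S M) : normalizer (S : Set G) ≤ M := by
  obtain ⟨-, -, P, hP⟩ := hp
  obtain ⟨m, hm, e⟩ := exists_conj_sylowOf (hallOf_of_sylow P) hS
  intro g hg
  have h1 : m⁻¹ * g * m ∈ normalizer (((P : Subgroup M).map M.subtype : Subgroup G) : Set G) := by
    rw [CfsgLib.Solvable.mem_normalizer_iff_conj_smul, mul_assoc, ← conj_smul_conj_smul,
      ← conj_smul_conj_smul, e, conj_smul_self_of_mem_normalizer hg, ← e, conj_smul_conj_smul,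
      inv_mul_cancel, map_one, one_smul]
  have h2 := mul_mem (mul_mem hm (hP h1)) (inv_mem hm)
  simpa [mul_assoc] using h2

omit h in
theorem mem_sigma_of_normalizer_le {M S : Subgroup G} {p : ℕ} [hp : Fact p.Prime]
    (hpM : p ∣ Nat.card M) (hS : IsPiHallOf {p} S M) (hN : normalizer (S : Set G) ≤ M) :
    p ∈ sigma M := by
  obtain ⟨P, rfl⟩ := exists_sylow_of_hallOf hS
  exact ⟨hp.out, hpM, P, hN⟩

/-- A Sylow subgroup for a prime in `σ(M)` is a Sylow subgroup of `G`. -/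
theorem Pre.sylow_global {M S T : Subgroup G} (hM : IsCoatom M) {p : ℕ} [Fact p.Prime]
    (hp : p ∈ sigma M) (hS : IsPiHallOf {p} S M) (hST : S ≤ T) (hT : IsPGroup p T) : T = S := by
  refine le_antisymm ?_ hST
  by_contra hne
  have hlt : S < T := lt_of_le_not_ge hST hne
  have hgt := CfsgLib.Signalizer.isPGroup_inf_normalizer_gt hT hlt
  have hle : T ⊓ normalizer (S : Set G) ≤ M := inf_le_right.trans (h.normalizer_sylow_le hM hp hS)
  exact hgt.ne (hallOf_eq_of_le hS hgt.le hle (isPi_singleton_of_isPGroup (hT.to_le inf_le_left))).symm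

/-- Every `p`-subgroup of `G`, `p ∈ σ(M)`, is conjugate into a given Sylow subgroup of `M`. -/
theorem Pre.exists_conj_le_sylow {M S X : Subgroup G} (hM : IsCoatom M) {p : ℕ} [Fact p.Prime]
    (hp : p ∈ sigma M) (hS : IsPiHallOf {p} S M) (hX : IsPGroup p X) :
    ∃ g : G, MulAut.conj g • X ≤ S := by
  obtain ⟨P, hP⟩ := (isPGroup_of_isPi_singleton hS.2.1).exists_le_sylow
  obtain ⟨Q, hQ⟩ := hX.exists_le_sylow
  have hPS : (P : Subgroup G) = S := h.sylow_global hM hp hS hP P.2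
  obtain ⟨g, hg⟩ := MulAction.exists_smul_eq G Q P
  refine ⟨g, (conj_smul_mono g hQ).trans (le_of_eq ?_)⟩
  rw [← hPS, ← hg, Sylow.coe_subgroup_smul]

theorem Pre.alpha_subset_sigma {M : Subgroup G} (hM : IsCoatom M) : alpha M ⊆ sigma M := by
  intro p hp
  have : Fact p.Prime := ⟨hp.1⟩
  obtain ⟨hH, -, hle, -, -⟩ := h.s1405 M hM
  have hd : p ∣ Nat.card M := dvd_card_of_not_pRankLE hp.2
  have h1 : p ∣ Nat.card (alphaCore M) := by
    have e : Nat.card (alphaCore M) * (alphaCore M).relIndex M = Nat.card M := by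
      rw [← relIndex_bot_left, ← relIndex_bot_left M, relIndex_mul_relIndex ⊥ _ M bot_le hH.1]
    rw [← e] at hd
    exact (hp.1.dvd_mul.1 hd).resolve_right (hH.2.2 p hp.1 hp)
  exact isPi_piCoreOf (sigma M) M p hp.1 (h1.trans (card_dvd_of_le hle))

theorem Pre.beta_subset_sigma {M : Subgroup G} (hM : IsCoatom M) : beta M ⊆ sigma M :=
  (beta_subset_alpha M).trans (h.alpha_subset_sigma hM)

theorem Pre.betaCore_hall {M : Subgroup G} (hM : IsCoatom M) :
    IsPiHallOf (beta M) (betaCore M) M := (h.s1414 M hM).1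

theorem Pre.le_betaCore {M U : Subgroup G} (hM : IsCoatom M) (hUM : U ≤ M) (hU : IsPi (beta M) U) :
    U ≤ betaCore M :=
  le_of_normal_hallOf (h.betaCore_hall hM) (le_normalizer_piCoreOf _ _) hUM hU

/-- `σ`-Sylow subgroups lie in the derived subgroup. -/
theorem Pre.sylow_le_commutator {M S : Subgroup G} (hM : IsCoatom M) {p : ℕ} [hp' : Fact p.Prime]
    (hp : p ∈ sigma M) (hS : IsPiHallOf {p} S M) : S ≤ ⁅M, M⁆ := by
  obtain ⟨P, hP⟩ := (isPGroup_of_isPi_singleton hS.2.1).exists_le_sylow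
  have hPS : (P : Subgroup G) = S := h.sylow_global hM hp hS hP P.2
  have hN : normalizer ((P : Subgroup G) : Set G) ≤ M := hPS ▸ h.normalizer_sylow_le hM hp hS
  set N := normalizer ((P : Subgroup G) : Set G) with hNdef
  obtain ⟨V, hV⟩ := CfsgLib.PGroup.exists_isPiHallOf {q | q ≠ p} N (h.isSolvable_le hM hN)
  have hPN : IsPiHallOf {p} (P : Subgroup G) N := by
    refine hallOf_of_le ?_ le_normalizer hN
    rw [hPS]; exact hS
  have hc : IsComplIn V (P : Subgroup G) N :=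
    isComplIn_of_hallOf hPN hV le_rfl (fun q _ hq hq' => hq' hq)
      (fun q _ _ => (eq_or_ne q p).imp id id)
  have hc' : IsComplIn (P : Subgroup G) V N := by
    refine ⟨hc.2.1, hc.1, inf_comm V (P : Subgroup G) ▸ hc.2.2.1, fun x hx => ?_⟩
    obtain ⟨a, ha, b, hb, rfl⟩ := hc.2.2.2 x hx
    exact ⟨a * b * a⁻¹, (mem_normalizer_iff.1 (hc.1 ha) b).1 hb, a, ha, by group⟩
  rw [← hPS]
  exact (h.s1411 p P V hc').2.trans (commutator_mono hN hN)

omit h in
theorem commutator_normal {M : Subgroup G} : M ≤ normalizer ((⁅M, M⁆ : Subgroup G) : Set G) :=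
  le_normalizer.trans ((le_inf le_rfl le_rfl).trans
    (CfsgLib.Solvable.normalizer_le_normalizer_commutator M M))

/-- A `β'`-subgroup of `M'` is nilpotent. -/
theorem Pre.isNilpotent_of_le_derived {M U : Subgroup G} (hM : IsCoatom M) (hUM : U ≤ ⁅M, M⁆)
    (hU : IsPi {q | q.Prime ∧ q ∉ beta M} U) : Group.IsNilpotent U := by
  obtain ⟨H, hH, hnil⟩ := (h.s1414 M hM).2.2.1
  obtain ⟨m, -, hle⟩ := exists_conj_le_hallOf (h.isSolvable_le hM (commutator_le_self M)) hH hUM hU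
  have : Group.IsNilpotent (MulAut.conj m • U : Subgroup G) := by
    have := hnil
    exact Group.nilpotent_of_mulEquiv (Subgroup.subgroupOfEquivOfLe hle)
  exact Group.nilpotent_of_mulEquiv (Subgroup.equivSMul (MulAut.conj m) U).symm

omit h in
theorem commutator_eq_of_nilpotent {U P Q : Subgroup G} (hU : Group.IsNilpotent U) (hP : P ≤ U)
    (hQ : Q ≤ U) (hcop : (Nat.card P).Coprime (Nat.card Q)) : P ≤ centralizer (Q : Set G) := by
  intro x hx
  rw [mem_centralizer_iff]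
  intro y hy
  refine CfsgLib.OddLocal.commute_of_mem_nilpotent hU (hQ hy) (hP hx) ?_
  exact (hcop.symm.coprime_dvd_left (Q.orderOf_dvd_natCard hy)).coprime_dvd_right (P.orderOf_dvd_natCard hx)

/-- In `M'`, a `p`-group normalising a `q`-group centralises it unless `p` or `q` is in `β(M)`. -/
theorem Pre.centralizes_in_derived {M P Q : Subgroup G} (hM : IsCoatom M) {p q : ℕ} [Fact p.Prime]
    [Fact q.Prime] (hpq : p ≠ q) (hP : P ≤ ⁅M, M⁆) (hQ : Q ≤ ⁅M, M⁆) (hPp : IsPGroup p P)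
    (hQq : IsPGroup q Q) (hn : P ≤ normalizer (Q : Set G)) (hpb : p ∉ beta M) (hqb : q ∉ beta M) :
    P ≤ centralizer (Q : Set G) := by
  have hPi : IsPi {r | r.Prime ∧ r ∉ beta M} (Q ⊔ P) := by
    refine IsPi.sup ((isPi_singleton_of_isPGroup hQq).mono ?_) ((isPi_singleton_of_isPGroup hPp).mono ?_) hn
    · rintro r rfl; exact ⟨Fact.out, hqb⟩
    · rintro r rfl; exact ⟨Fact.out, hpb⟩
  exact commutator_eq_of_nilpotent (h.isNilpotent_of_le_derived hM (sup_le hQ hP) hPi) le_sup_right le_sup_left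
    (coprime_of_isPi (isPi_singleton_of_isPGroup hPp) (isPi_singleton_of_isPGroup hQq)
      fun r _ hr hr' => hpq (hr.symm.trans hr'))

/-- A `p`-group `P` of `M'` normalising a `q`-group `Q ≤ M`, `q ∉ β(M)`, centralises it: either
through the nilpotent Hall `β'`-subgroup of `M'` or because `[Q, P] ≤ Q ⊓ M_β`. -/
theorem Pre.centralizes_of_le_derived {M P Q : Subgroup G} (hM : IsCoatom M) {p q : ℕ} [Fact p.Prime]
    [hq : Fact q.Prime] (hpq : p ≠ q) (hP : P ≤ ⁅M, M⁆) (hQ : Q ≤ M) (hPp : IsPGroup p P)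
    (hQq : IsPGroup q Q) (hn : P ≤ normalizer (Q : Set G)) (hqb : q ∉ beta M) :
    P ≤ centralizer (Q : Set G) := by
  have hcop : (Nat.card P).Coprime (Nat.card Q) :=
    coprime_of_isPi (isPi_singleton_of_isPGroup hPp) (isPi_singleton_of_isPGroup hQq)
      fun r _ hr hr' => hpq (hr.symm.trans hr')
  have hs : Group.IsSolvable P ∨ Group.IsSolvable Q := Or.inr (h.isSolvable_le hM hQ)
  set Q₁ := ⁅Q, P⁆ with hQ₁
  have hQ₁Q : Q₁ ≤ Q := CfsgLib.Solvable.commutator_le_of_le_normalizer hn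
  have hQ₁M' : Q₁ ≤ ⁅M, M⁆ := commutator_mono hQ (hP.trans (commutator_le_self M))
  have hn₁ : P ≤ normalizer (Q₁ : Set G) := CfsgLib.Solvable.le_normalizer_commutator_right hn
  suffices hbot : Q₁ = ⊥ by
    refine le_centralizer_iff.1 ?_
    exact commutator_eq_bot_iff_le_centralizer.1 hbot
  by_cases hpb : p ∈ beta M
  · have hPb : P ≤ betaCore M := h.le_betaCore hM (hP.trans (commutator_le_self M))
      ((isPi_singleton_of_isPGroup hPp).mono (by rintro r rfl; exact hpb))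
    refine eq_bot_of_isPi (π := {q}) ((isPi_singleton_of_isPGroup hQq).of_le hQ₁Q) fun r hr hrq hd => ?_
    have h1 : ⁅Q, P⁆ ≤ betaCore M := by
      rw [commutator_comm]
      exact (commutator_mono hPb le_rfl).trans
        (CfsgLib.Solvable.commutator_le_of_le_normalizer (hQ.trans (le_normalizer_piCoreOf _ _)))
    exact hqb (hrq ▸ isPi_piCoreOf _ M r hr (hd.trans (card_dvd_of_le h1)))
  · have h1 := h.centralizes_in_derived hM hpq hP hQ₁M' hPp (hQq.to_le hQ₁Q) hn₁ hpb hqb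
    rw [hQ₁, ← CfsgLib.Solvable.commutator_commutator_self hn hcop hs,
      commutator_eq_bot_iff_le_centralizer]
    exact le_centralizer_iff.1 h1

/-- The subgroup `(M_β ∩ M')R`, `R` the `ρ`-part of the nilpotent Hall `β'`-subgroup of `M'`, is
normal in `M`. -/
theorem Pre.exists_normal_hall_derived {M : Subgroup G} (hM : IsCoatom M) (ρ : Set ℕ) :
    ∃ R : Subgroup G, IsPiHallOf (beta M ∪ ρ) R ⁅M, M⁆ ∧ M ≤ normalizer (R : Set G) := by
  obtain ⟨H, hH, hnil⟩ := (h.s1414 M hM).2.2.1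
  have hM'M : ⁅M, M⁆ ≤ M := commutator_le_self M
  have hsol : Group.IsSolvable ↥⁅M, M⁆ := h.isSolvable_le hM hM'M
  set B := betaCore M ⊓ ⁅M, M⁆ with hB
  have hBhall : IsPiHallOf (beta M) B ⁅M, M⁆ := hallOf_inf_normal (h.betaCore_hall hM) hM'M commutator_normal
  have hBn : M ≤ normalizer (B : Set G) :=
    CfsgLib.Solvable.le_normalizer_inf (le_normalizer_piCoreOf _ _) commutator_normal
  obtain ⟨R₀, hR₀⟩ := CfsgLib.PGroup.exists_isPiHallOf ρ H (CfsgLib.Solvable.isSolvable_of_le hsol hH.1)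
  have hR₀n : H ≤ normalizer (R₀ : Set G) := by
    obtain ⟨R₁, hR₁⟩ := CfsgLib.PGroup.exists_isPiHallOf {p | p ∉ ρ} H
      (CfsgLib.Solvable.isSolvable_of_le hsol hH.1)
    have hcomm : R₁ ≤ centralizer (R₀ : Set G) := commutator_eq_of_nilpotent hnil hR₁.1 hR₀.1
      (coprime_of_isPi hR₁.2.1 hR₀.2.1 fun r _ hr hr' => hr hr')
    have hgen : R₀ ⊔ R₁ = H := by
      refine le_antisymm (sup_le hR₀.1 hR₁.1) (relIndex_eq_one.1 ?_)
      by_contra hne
      obtain ⟨r, hr, hd⟩ := Nat.exists_prime_and_dvd hne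
      by_cases hrρ : r ∈ ρ
      · exact hR₀.2.2 r hr hrρ (hd.trans (relIndex_dvd_of_le_left H le_sup_left))
      · exact hR₁.2.2 r hr hrρ (hd.trans (relIndex_dvd_of_le_left H le_sup_right))
    calc H = R₀ ⊔ R₁ := hgen.symm
      _ ≤ normalizer (R₀ : Set G) := sup_le le_normalizer (hcomm.trans (centralizer_le_normalizer _))
  have hM'eq : B ⊔ H = ⁅M, M⁆ := by
    refine le_antisymm (sup_le inf_le_right hH.1) fun m hm => ?_
    obtain ⟨a, ha, b, hb, rfl⟩ := (isComplIn_of_hallOf hBhall hH (hM'M.trans hBn)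
      (fun r _ hr hr' => hr'.2 hr)
      (fun r hr _ => (em (r ∈ beta M)).imp id fun hn => ⟨hr, hn⟩)).2.2.2 m hm
    exact mul_mem (mem_sup_right ha) (mem_sup_left hb)
  set R := B ⊔ R₀ with hR
  have hR₀M' : R₀ ≤ ⁅M, M⁆ := hR₀.1.trans hH.1
  have hRle : R ≤ ⁅M, M⁆ := sup_le inf_le_right hR₀M'
  have hRhall : IsPiHallOf (beta M ∪ ρ) R ⁅M, M⁆ := by
    refine ⟨hRle, IsPi.sup (IsPi.mono hBhall.2.1 Set.subset_union_left)
      (IsPi.mono hR₀.2.1 Set.subset_union_right) (hR₀M'.trans (hM'M.trans hBn)), fun p hp hpm hd => ?_⟩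
    rcases hpm with hb | hρ
    · exact hBhall.2.2 p hp hb (hd.trans (relIndex_dvd_of_le_left _ le_sup_left))
    · by_cases hb : p ∈ beta M
      · exact hBhall.2.2 p hp hb (hd.trans (relIndex_dvd_of_le_left _ le_sup_left))
      have h1 : R₀.relIndex ⁅M, M⁆ = R₀.relIndex H * H.relIndex ⁅M, M⁆ :=
        (relIndex_mul_relIndex R₀ H _ hR₀.1 hH.1).symm
      have h2 := hd.trans (relIndex_dvd_of_le_left ⁅M, M⁆ le_sup_right)
      rw [h1] at h2
      exact (hp.dvd_mul.1 h2).elim (hR₀.2.2 p hp hρ) (hH.2.2 p hp ⟨hp, hb⟩)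
  have hRn' : ⁅M, M⁆ ≤ normalizer (R : Set G) := by
    rw [← hM'eq]
    refine sup_le (le_sup_left.trans le_normalizer) ?_
    exact (le_inf (hH.1.trans (hM'M.trans hBn)) hR₀n).trans
      (normalizer_inf_normalizer_le_normalizer_sup _ _)
  refine ⟨R, hRhall, fun g hg => ?_⟩
  refine CfsgLib.Solvable.mem_normalizer_of_conj_mem ?_
  rw [← conj_smul_le_iff]
  refine le_of_normal_hallOf hRhall hRn' ?_ (IsPi.conj hRhall.2.1 g)
  exact (conj_smul_mono g hRle).trans (conj_smul_self_of_mem_normalizer (commutator_normal hg)).le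

/-- A prime of `σ(M) ∖ β(M)`: `M = M_β N_M(S)`. -/
theorem Pre.exists_betaCore_mul_normalizer {M S : Subgroup G} (hM : IsCoatom M) {q : ℕ}
    [hq' : Fact q.Prime] (hq : q ∈ sigma M) (hS : IsPiHallOf {q} S M) {g : G} (hg : g ∈ M) :
    ∃ a ∈ betaCore M, ∃ b ∈ M ⊓ normalizer (S : Set G), g = a * b := by
  obtain ⟨R, hR, hRn⟩ := h.exists_normal_hall_derived hM {q}
  have hRM : R ≤ M := hR.1.trans (commutator_le_self M)
  have hSR : S ≤ R := le_of_normal_hallOf hR ((commutator_le_self M).trans hRn)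
    (h.sylow_le_commutator hM hq hS) (IsPi.mono hS.2.1 Set.subset_union_right)
  have hSR' : IsPiHallOf {q} S R := hallOf_of_le hS hSR hRM
  obtain ⟨a, ha, b, hb, rfl⟩ := frattini_hallOf (h.isSolvable_le hM hRM) hRM hRn hSR' hg
  -- `R = (R ⊓ M_β) S`
  have hBR : IsPiHallOf (beta M) (betaCore M ⊓ R) R := hallOf_inf_normal (h.betaCore_hall hM) hRM hRn
  have hgen : betaCore M ⊓ R ⊔ S = R := by
    refine le_antisymm (sup_le inf_le_right hSR) (relIndex_eq_one.1 ?_)
    by_contra hne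
    obtain ⟨r, hr, hd⟩ := Nat.exists_prime_and_dvd hne
    rcases hR.2.1 r hr (hd.trans (relIndex_dvd_card _ _)) with hb' | hb'
    · exact hBR.2.2 r hr hb' (hd.trans (relIndex_dvd_of_le_left R le_sup_left))
    · exact hSR'.2.2 r hr hb' (hd.trans (relIndex_dvd_of_le_left R le_sup_right))
  have hSn : S ≤ normalizer ((betaCore M ⊓ R : Subgroup G) : Set G) :=
    CfsgLib.Solvable.le_normalizer_inf (hS.1.trans (le_normalizer_piCoreOf _ _)) (hSR.trans le_normalizer)
  obtain ⟨c, hc, s, hs, rfl⟩ := CfsgLib.Solvable.exists_mul_of_mem_sup hSn (hgen.ge ha)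
  exact ⟨c, hc.1, s * b, ⟨mul_mem (hS.1 hs) hb.1, mul_mem (le_normalizer hs) hb.2⟩, by group⟩

/-- `M_σ` is a Hall `σ(M)`-subgroup of `M`. -/
theorem Pre.sigmaCore_hall {M : Subgroup G} (hM : IsCoatom M) :
    IsPiHallOf (sigma M) (sigmaCore M) M := by
  refine ⟨piCoreOf_le _ _, isPi_piCoreOf _ _, fun p hp hpσ hd => ?_⟩
  have : Fact p.Prime := ⟨hp⟩
  obtain ⟨S, hS⟩ := exists_sylowOf M p
  obtain ⟨R, hR, hRn⟩ := h.exists_normal_hall_derived hM {p}
  have hSR : S ≤ R := le_of_normal_hallOf hR ((commutator_le_self M).trans hRn)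
    (h.sylow_le_commutator hM hpσ hS) (IsPi.mono hS.2.1 Set.subset_union_right)
  have hRσ : R ≤ sigmaCore M := le_piCoreOf (hR.1.trans (commutator_le_self M)) hRn
    (IsPi.mono hR.2.1 (Set.union_subset (h.beta_subset_sigma hM) (by rintro r rfl; exact hpσ)))
  exact hS.2.2 p hp rfl (hd.trans (relIndex_dvd_of_le_left M (hSR.trans hRσ)))

theorem Pre.le_sigmaCore {M U : Subgroup G} (hM : IsCoatom M) (hUM : U ≤ M) (hU : IsPi (sigma M) U) :
    U ≤ sigmaCore M :=
  le_of_normal_hallOf (h.sigmaCore_hall hM) (le_normalizer_piCoreOf _ _) hUM hU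

theorem Pre.sigmaCore_global {M : Subgroup G} (hM : IsCoatom M) :
    IsPiHall (sigma M) (sigmaCore M) := by
  refine ⟨(h.sigmaCore_hall hM).2.1, fun p hp hpσ hd => ?_⟩
  have : Fact p.Prime := ⟨hp⟩
  obtain ⟨S, hS⟩ := exists_sylowOf M p
  obtain ⟨P, hP⟩ := (isPGroup_of_isPi_singleton hS.2.1).exists_le_sylow
  have hPS : (P : Subgroup G) = S := h.sylow_global hM hpσ hS hP P.2
  have hSσ : S ≤ sigmaCore M :=
    h.le_sigmaCore hM hS.1 (IsPi.mono hS.2.1 (by rintro r rfl; exact hpσ))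
  exact P.not_dvd_index (hd.trans (by rw [hPS]; exact index_dvd_of_le hSσ))

theorem Pre.sigmaCore_le_commutator {M : Subgroup G} (hM : IsCoatom M) :
    sigmaCore M ≤ ⁅M, M⁆ := by
  refine relIndex_eq_one.1 ?_
  by_contra hne
  obtain ⟨p, hp, hd⟩ := Nat.exists_prime_and_dvd hne
  have : Fact p.Prime := ⟨hp⟩
  have hpσ : p ∈ sigma M := (h.sigmaCore_hall hM).2.1 p hp (hd.trans (relIndex_dvd_card _ _))
  obtain ⟨S, hS⟩ := exists_sylowOf (sigmaCore M) p
  have hSM : IsPiHallOf {p} S M := CfsgLib.PGroup.isPiHallOf_trans hS (piCoreOf_le _ _) fun r hr hrp hd' => by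
    rw [Set.mem_singleton_iff.1 hrp] at hd'
    exact (h.sigmaCore_hall hM).2.2 p hp hpσ hd'
  refine hS.2.2 p hp rfl (hd.trans ?_)
  rw [← inf_relIndex_right ⁅M, M⁆]
  exact relIndex_dvd_of_le_left _ (le_inf (h.sylow_le_commutator hM hpσ hSM) hS.1)

theorem Pre.sigmaCore_ne_bot {M : Subgroup G} (hM : IsCoatom M) : sigmaCore M ≠ ⊥ := by
  intro hbot
  have hnσ : ∀ q : ℕ, q.Prime → q ∣ Nat.card M → q ∉ sigma M := fun q hq hd hσ => by
    have h1 : Nat.card (sigmaCore M) * (sigmaCore M).relIndex M = Nat.card M := by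
      rw [← relIndex_bot_left, ← relIndex_bot_left M,
        relIndex_mul_relIndex ⊥ (sigmaCore M) M bot_le (piCoreOf_le (sigma M) M)]
    rw [← h1, hbot, Subgroup.card_bot, one_mul, ← hbot] at hd
    exact (h.sigmaCore_hall hM).2.2 q hq hσ hd
  have hMcard : Nat.card M ≠ 1 := fun e => ne_bot_of_isCoatom h.min hM (eq_bot_of_card_eq M e)
  set p := (Nat.card M).primeFactors.max' (Nat.nonempty_primeFactors.2 (by
    have := Nat.card_pos (α := M); omega)) with hpdef
  have hpmem : p ∈ (Nat.card M).primeFactors := Finset.max'_mem _ _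
  have hp : p.Prime := Nat.prime_of_mem_primeFactors hpmem
  have hpd : p ∣ Nat.card M := Nat.dvd_of_mem_primeFactors hpmem
  have : Fact p.Prime := ⟨hp⟩
  obtain ⟨P⟩ := (inferInstance : Nonempty (Sylow p M))
  have hPn : ∀ q : ℕ, q.Prime → q ∣ Nat.card M → q ≠ p → (P : Subgroup M) ≤ pPrimeCore q M := by
    intro q hq hqd hqp
    have hlt : q < p := lt_of_le_of_ne (Finset.le_max' _ _ (Nat.mem_primeFactors.2
      ⟨hq, hqd, Nat.card_pos.ne'⟩)) hqp
    have hqb : q ∉ beta M := fun hb => hnσ q hq hqd (h.beta_subset_sigma hM hb)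
    have hidx := ((h.s1414 M hM).2.2.2.2 q hq hqd hqb).2.2
    have hnd : ¬ p ∣ (pPrimeCore q M).index := fun hd => absurd (hidx p hp hd) (not_le.2 hlt)
    haveI : (pPrimeCore q M).Normal := by unfold pPrimeCore; exact sSup_normal _ fun N hN => hN.1
    intro x hx
    rw [← QuotientGroup.eq_one_iff, ← orderOf_eq_one_iff]
    obtain ⟨k, hk⟩ := IsPGroup.iff_orderOf.1 P.2 ⟨x, hx⟩
    rw [Subgroup.orderOf_mk] at hk
    refine Nat.eq_one_of_dvd_coprimes ((hp.coprime_iff_not_dvd.2 hnd).pow_left k)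
      (hk ▸ orderOf_map_dvd (QuotientGroup.mk' (pPrimeCore q M)) x) ?_
    exact (_root_.orderOf_dvd_natCard _).trans (dvd_of_eq (index_eq_card _).symm)
  haveI hPnormal : (P : Subgroup M).Normal := by
    set K : Subgroup M := ⨅ q ∈ {q | q.Prime ∧ q ∣ Nat.card M ∧ q ≠ p}, pPrimeCore q M with hK
    have hPK : (P : Subgroup M) ≤ K := le_iInf₂ fun q hq => hPn q hq.1 hq.2.1 hq.2.2
    have hKp : IsPGroup p K := CfsgLib.PStab.isPGroup_iff_primes.2 fun q hq hd => by
      by_contra hqp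
      have hqM : q ∣ Nat.card M := hd.trans (card_subgroup_dvd_card K)
      have hKle : K ≤ pPrimeCore q M := iInf₂_le q ⟨hq, hqM, hqp⟩
      have hcop := CfsgLib.Cores.coprime_card_pPrimeCore (G := M) q
      exact hq.coprime_iff_not_dvd.1 hcop.symm (hd.trans (card_dvd_of_le hKle))
    rw [← P.3 hKp hPK]
    exact normal_iInf_normal fun q => normal_iInf_normal fun _ => by
      unfold pPrimeCore; exact sSup_normal _ fun N hN => hN.1
  refine hnσ p hp hpd ⟨hp, hpd, P, ?_⟩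
  have hP1 : (P : Subgroup M).map M.subtype ≠ ⊥ := sylowOf_ne_bot (hallOf_of_sylow P) hpd
  refine (normalizer_eq_of_isCoatom h.min hM hP1 (map_subtype_le _) ?_).le
  refine (normal_subgroupOf_iff_le_normalizer (map_subtype_le _)).1 ?_
  rw [show ((P : Subgroup M).map M.subtype).subgroupOf M = (P : Subgroup M) from
    comap_map_eq_self_of_injective M.subtype_injective _]
  exact hPnormal

/-! ### `τᵢ(M)` -/

theorem Pre.tau_cases {M : Subgroup G} (hM : IsCoatom M) {p : ℕ} (hp : p.Prime)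
    (hpM : p ∣ Nat.card M) (hσ : p ∉ sigma M) : p ∈ tau1 M ∨ p ∈ tau2 M ∨ p ∈ tau3 M := by
  have h2 : PRankLE p 2 M := by
    by_contra hn
    exact hσ (h.alpha_subset_sigma hM ⟨hp, hn⟩)
  by_cases h1 : PRankLE p 1 M
  · by_cases hd : p ∣ Nat.card ↥⁅M, M⁆
    · exact Or.inr (Or.inr ⟨hp, hσ, hd, h1⟩)
    · exact Or.inl ⟨hp, hσ, hpM, hd, h1⟩
  · exact Or.inr (Or.inl ⟨hp, hσ, h2, h1⟩)

/-- A subgroup of rank at least three lies in only one maximal subgroup. -/
theorem Pre.eq_of_rank_three {M H A : Subgroup G} (hM : IsCoatom M) (hH : IsCoatom H) {p : ℕ}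
    [hp : Fact p.Prime] (hA : IsElementaryAbelian p A) (hA3 : p ^ 3 ≤ Nat.card A) (hAM : A ≤ M)
    (hAH : A ≤ H) : M = H := by
  obtain ⟨L, -, hL⟩ := h.s1403 A (h.ne_top_of_le hM hAM)
    (not_rankLE_of_elementary hp.out le_rfl hA ((Nat.pow_le_pow_right hp.out.pos (by norm_num)).trans hA3))
    (Or.inl (not_rankLE_of_elementary hp.out le_rfl hA hA3))
  exact (hL M ⟨hM, hAM⟩).trans (hL H ⟨hH, hAH⟩).symm

/-- For non-conjugate maximal subgroups `σ(M) ∩ α(H) = ∅`. -/
theorem Pre.not_alpha_of_sigma {M H : Subgroup G} (hM : IsCoatom M) (hH : IsCoatom H)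
    (hne : ∀ g : G, H ≠ MulAut.conj g • M) {p : ℕ} (hp : p ∈ sigma M) : p ∉ alpha H := by
  intro ha
  have : Fact p.Prime := ⟨hp.1⟩
  obtain ⟨A, hAH, hA, hc⟩ := exists_elementary_of_not_pRankLE ha.2
  obtain ⟨B, hBA, hB, hBc⟩ := exists_elementary_of_card_le (k := 3) hA (by
    obtain ⟨n, hn⟩ := IsPGroup.iff_card.1 (CfsgLib.PGroup.elemAb_isPGroup hA)
    rw [hn] at hc ⊢
    exact Nat.pow_le_pow_right hp.1.pos ((Nat.pow_lt_pow_iff_right hp.1.one_lt).1 hc))
  obtain ⟨S, hS⟩ := exists_sylowOf M p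
  obtain ⟨g, hg⟩ := h.exists_conj_le_sylow hM hp hS (CfsgLib.PGroup.elemAb_isPGroup hB)
  refine hne g⁻¹ (h.eq_of_rank_three hH (isCoatom_conj hM g⁻¹) hB hBc.ge (hBA.trans hAH) ?_)
  intro x hx
  have h1 := hS.1 (hg (CfsgLib.Solvable.mem_conj_smul_iff.2 (by simpa [mul_assoc] using hx) :
    g * x * g⁻¹ ∈ MulAut.conj g • B))
  exact CfsgLib.Solvable.mem_conj_smul_iff.2 (by simpa using h1)

theorem Pre.not_beta_of_sigma {M H : Subgroup G} (hM : IsCoatom M) (hH : IsCoatom H)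
    (hne : ∀ g : G, H ≠ MulAut.conj g • M) {p : ℕ} (hp : p ∈ sigma M) : p ∉ beta H :=
  fun hb => h.not_alpha_of_sigma hM hH hne hp hb.1

/-- A `p`-subgroup of two different maximal subgroups is abelian. -/
theorem Pre.isMulCommutative_of_le {M H P : Subgroup G} (hM : IsCoatom M) (hH : IsCoatom H)
    (hne : M ≠ H) {p : ℕ} [Fact p.Prime] (hP : IsPGroup p P) (hPM : P ≤ M) (hPH : P ≤ H) :
    IsMulCommutative P := by
  by_contra hc
  obtain ⟨L, -, hL⟩ := h.s1422 p P hP hc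
  exact hne ((hL M ⟨hM, hPM⟩).trans (hL H ⟨hH, hPH⟩).symm)

theorem Pre.pRankLE_two_of_le {M H P : Subgroup G} (hM : IsCoatom M) (hH : IsCoatom H) (hne : M ≠ H)
    {p : ℕ} [hp : Fact p.Prime] (hPM : P ≤ M) (hPH : P ≤ H) : PRankLE p 2 P := by
  by_contra hc
  obtain ⟨A, hAP, hA, hcard⟩ := exists_elementary_of_not_pRankLE hc
  obtain ⟨n, hn⟩ := IsPGroup.iff_card.1 (CfsgLib.PGroup.elemAb_isPGroup hA)
  refine hne (h.eq_of_rank_three hM hH hA ?_ (hAP.trans hPM) (hAP.trans hPH))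
  rw [hn] at hcard ⊢
  exact Nat.pow_le_pow_right hp.out.pos ((Nat.pow_lt_pow_iff_right hp.out.one_lt).1 hcard)

end CfsgLib.OddLocal.Sec13
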