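import Cfsg.Agent.Lib.OddLocal.S15Kappa
import Cfsg.Agent.Lib.OddLocal.ActionTools
import Cfsg.Agent.Lib.Solvable.NilpotentParts
import Cfsg.Agent.Lib.PGroup.Basic

/-!
# The case `M_F ≠ M_σ`: the normal Sylow subgroup

If `M_σ` is not nilpotent then `U = 1`, `K*` has prime order `q`, and `M_σ` has a normal Sylow
`q`-subgroup whose complements are nilpotent.
-/

set_option autoImplicit false
set_option linter.style.haveILetI false
set_option linter.unusedSectionVars false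

open scoped Pointwise commutatorElement

namespace CfsgLib.OddLocal.S15

universe u

variable {G : Type u} [Group G] [Finite G] {M K U : Subgroup G}

theorem not_isNilpotent_sigmaCore (hG : Cfsg.IsMinSimpleOddOrder G) (h1350 : Hyp1350 G)
    (hM : IsCoatom M) (hne : Cfsg.fittingHallOf M ≠ Cfsg.sigmaCore M) :
    ¬ Group.IsNilpotent (Cfsg.sigmaCore M) := fun h =>
  hne (fittingHallOf_eq_of_isNilpotent h1350 hM hG h)

/-- The derived subgroup of a maximal subgroup is proper. -/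
theorem derived_lt (hG : Cfsg.IsMinSimpleOddOrder G) (hM : IsCoatom M) : ⁅M, M⁆ < M := by
  haveI := maximal_solvable hG hM
  haveI : Nontrivial M := (Subgroup.nontrivial_iff_ne_bot M).2 (maximal_ne_bot hG hM)
  refine lt_of_le_of_ne (Subgroup.commutator_le_self M) fun h => ?_
  refine (Group.IsSolvable.commutator_lt_top_of_nontrivial (G := M)).ne ?_
  refine Subgroup.map_injective M.subtype_injective ?_
  rw [Subgroup.map_subtype_commutator, h, ← MonoidHom.range_eq_map, Subgroup.range_subtype]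

/-- `U = 1` when `M_F ≠ M_σ`. -/
theorem U_eq_bot_of_ne (hG : Cfsg.IsMinSimpleOddOrder G) (h1350 : Hyp1350 G) (h1429 : Hyp1429 G)
    (hM : IsCoatom M) (hKU : Cfsg.IsSigmaDecomposition M K U)
    (hne : Cfsg.fittingHallOf M ≠ Cfsg.sigmaCore M) : U = ⊥ := by
  by_contra hU
  obtain ⟨p, hp, hd⟩ := Nat.exists_prime_and_dvd (fun h => hU (Subgroup.card_eq_one.1 h))
  haveI := Fact.mk hp
  obtain ⟨hpσ, hpκ⟩ := U_primes h1350 hM hKU hp hd
  have hpM := hd.trans (Subgroup.card_dvd_of_le (U_le h1350 hM hKU))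
  obtain ⟨S⟩ : Nonempty (Sylow p M) := inferInstance
  exact not_isNilpotent_sigmaCore hG h1350 hM hne
    (h1429 M hM (fun h => hpκ (h p hp hpM hpσ)) p hpM (fun h => h.elim hpσ hpκ) S).2.2

theorem le_sup_of_U_eq_bot (h1350 : Hyp1350 G) (hM : IsCoatom M)
    (hKU : Cfsg.IsSigmaDecomposition M K U) (hU : U = ⊥) : M = K ⊔ Cfsg.sigmaCore M := by
  refine le_antisymm (fun m hm => ?_) (sup_le (K_le h1350 hM hKU) (sigmaCore_le M))
  obtain ⟨a, ha, b, hb, rfl⟩ := hKU.compl.2.2.2 m hm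
  rw [hU, Subgroup.mem_bot] at ha
  rwa [ha, one_mul]

/-- `K ≠ 1` when `U = 1`. -/
theorem K_ne_bot_of_U_eq_bot (hG : Cfsg.IsMinSimpleOddOrder G) (h1350 : Hyp1350 G)
    (h1426 : Hyp1426 G) (hM : IsCoatom M) (hKU : Cfsg.IsSigmaDecomposition M K U) (hU : U = ⊥) :
    K ≠ ⊥ := by
  intro hK
  have h1 := le_sup_of_U_eq_bot h1350 hM hKU hU
  rw [hK, bot_sup_eq] at h1
  haveI := maximal_solvable hG hM
  have h2 : M ≤ ⁅M, M⁆ := h1.le.trans (sigmaCore_le_derived h1350 h1426 hM hKU)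
  have h3 := (derived_lt hG hM).not_ge
  exact h3 h2

theorem isNilpotent_comap_inclusion {A B : Subgroup G} (h : A ≤ B) (hA : Group.IsNilpotent A) :
    Group.IsNilpotent (A.subgroupOf B) := by
  haveI := hA
  exact Group.nilpotent_of_mulEquiv (Subgroup.subgroupOfEquivOfLe h).symm

/-- `F` commutes with the passage to a subgroup of a subgroup. -/
theorem map_fittingOf_subgroupOf {N : Subgroup G} (hN : N ≤ M) :
    (Cfsg.fittingOf (N.subgroupOf M)).map M.subtype = Cfsg.fittingOf N := by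
  refine le_antisymm (le_fittingOf ?_ ?_ (CfsgLib.Cores.isNilpotent_map (isNilpotent_fittingOf _) _))
    ?_
  · exact (Subgroup.map_mono (fittingOf_le _)).trans (Subgroup.map_subgroupOf_eq_of_le hN).le
  · intro x hx
    rw [Subgroup.mem_normalizer_iff]
    intro y
    have h1 := Subgroup.mem_normalizer_iff.1
      (le_normalizer_fittingOf (N.subgroupOf M) (show (⟨x, hN hx⟩ : M) ∈ N.subgroupOf M from hx))
    constructor
    · rintro ⟨z, hz, rfl⟩
      exact ⟨_, (h1 z).1 hz, rfl⟩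
    · rintro ⟨z, hz, he⟩
      refine ⟨(⟨x, hN hx⟩ : M)⁻¹ * z * ⟨x, hN hx⟩, (h1 _).2 (by simpa [mul_assoc] using hz), ?_⟩
      change (z : G) = x * y * x⁻¹ at he
      change x⁻¹ * (z : G) * x = y
      rw [he]; group
  · have hle : Cfsg.fittingOf N ≤ M := (fittingOf_le N).trans hN
    rw [← Subgroup.map_subgroupOf_eq_of_le hle]
    refine Subgroup.map_mono (le_fittingOf (Subgroup.comap_mono (fittingOf_le N)) ?_
      (isNilpotent_comap_inclusion hle (isNilpotent_fittingOf N)))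
    intro x hx
    rw [Subgroup.mem_normalizer_iff]
    intro y
    exact Subgroup.mem_normalizer_iff.1 (le_normalizer_fittingOf N (hx : (x : G) ∈ N)) y

/-- `K*` has prime order when `U = 1`. -/
theorem card_centralizer_prime (h1351 : Hyp1351 G) (h1352 : Hyp1352 G) (h1366 : Hyp1366 G)
    (h1369 : Hyp1369 G) (h1372 : Hyp1372 G) (h1354 : Hyp1354 G) (hM : IsCoatom M)
    (hKU : Cfsg.IsSigmaDecomposition M K U) (hK1 : K ≠ ⊥) (hU : U = ⊥) :
    (Nat.card ↥(Cfsg.sigmaCore M ⊓ Subgroup.centralizer (K : Set G))).Prime := by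
  obtain ⟨Ms, ⟨hMs, hKst, hKstH⟩, -⟩ := h1366 M hM K U hKU hK1
  obtain ⟨⟨Us, hUs⟩, -⟩ := h1352 Ms hMs _ ((h1351 Ms hMs).2 _ hKstH) hKstH
  have h := ((h1369 M hM K U hKU hK1 Ms hMs hKst hKstH).1.resolve_left (fun h => h hU)) Us hUs
  exact (h1372 Ms hMs _ Us hUs (h1354 M hM K hKU.cyclic hKU.hall).1 h).1

/-- The fixed points of a non-identity element of `K` in `M_σ`. -/
theorem sigmaCore_inf_centralizer_eq (h1430 : Hyp1430 G) (hM : IsCoatom M)
    (hKU : Cfsg.IsSigmaDecomposition M K U) (hK1 : K ≠ ⊥) {k : G} (hk : k ∈ K) (hk1 : k ≠ 1) :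
    Cfsg.sigmaCore M ⊓ Subgroup.centralizer ({k} : Set G) =
      Cfsg.sigmaCore M ⊓ Subgroup.centralizer (K : Set G) :=
  (h1430 M hM K hKU.hall hK1).1 k hk hk1

/-- An element of `M_σ` commuting with a non-identity element of `K` lies in `K*`. -/
theorem mem_kstar_of_commute (h1430 : Hyp1430 G) (hM : IsCoatom M)
    (hKU : Cfsg.IsSigmaDecomposition M K U) (hK1 : K ≠ ⊥) {k s : G} (hk : k ∈ K) (hk1 : k ≠ 1)
    (hs : s ∈ Cfsg.sigmaCore M) (h : s * k = k * s) :
    s ∈ Cfsg.sigmaCore M ⊓ Subgroup.centralizer (K : Set G) := by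
  rw [← sigmaCore_inf_centralizer_eq h1430 hM hKU hK1 hk hk1]
  exact ⟨hs, Subgroup.mem_centralizer_singleton_iff.2 h⟩

/-- `K*` lies in `F(M_σ)` when `M_σ` is not nilpotent. -/
theorem kstar_le_fittingOf (hG : Cfsg.IsMinSimpleOddOrder G) (h1445 : Hyp1445.{u})
    (h1350 : Hyp1350 G) (h1426 : Hyp1426 G) (h1430 : Hyp1430 G)
    (hM : IsCoatom M) (hKU : Cfsg.IsSigmaDecomposition M K U) (hU : U = ⊥) (hK1 : K ≠ ⊥)
    (hq : (Nat.card ↥(Cfsg.sigmaCore M ⊓ Subgroup.centralizer (K : Set G))).Prime)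
    (hne : Cfsg.fittingHallOf M ≠ Cfsg.sigmaCore M) :
    Cfsg.sigmaCore M ⊓ Subgroup.centralizer (K : Set G) ≤ Cfsg.fittingOf (Cfsg.sigmaCore M) := by
  by_contra hnle
  set Ks := Cfsg.sigmaCore M ⊓ Subgroup.centralizer (K : Set G) with hKs
  have hdisj : Cfsg.fittingOf (Cfsg.sigmaCore M) ⊓ Subgroup.centralizer (K : Set G) = ⊥ := by
    rw [eq_bot_iff]
    rintro x ⟨hxF, hxC⟩
    rw [Subgroup.mem_bot]
    by_contra hx1
    haveI := Fact.mk hq
    have hxK : x ∈ Ks := ⟨fittingOf_le _ hxF, hxC⟩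
    refine hnle ?_
    rw [← eq_zpowers_of_mem_prime (X := Ks) rfl hxK hx1]
    exact Subgroup.zpowers_le.2 hxF
  haveI := maximal_solvable hG hM
  set N' := (Cfsg.sigmaCore M).subgroupOf M with hN'
  haveI : N'.Normal := Subgroup.normal_subgroupOf_of_le_normalizer (le_normalizer_sigmaCore M)
  set R' := K.subgroupOf M with hR'
  have hodd : Odd (Nat.card M) := hG.1.of_dvd_nat M.card_subgroup_dvd_card
  have hsup : N' ⊔ R' = ⊤ := by
    rw [hN', hR', ← Subgroup.subgroupOf_sup (sigmaCore_le M) (K_le h1350 hM hKU), sup_comm,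
      ← le_sup_of_U_eq_bot h1350 hM hKU hU, Subgroup.subgroupOf_self]
  have hcop : (Nat.card N').Coprime (Nat.card R') := by
    rw [hN', hR', Nat.card_congr (Subgroup.subgroupOfEquivOfLe (sigmaCore_le M)).toEquiv,
      Nat.card_congr (Subgroup.subgroupOfEquivOfLe (K_le h1350 hM hKU)).toEquiv]
    exact coprime_sigmaCore h1350 hM fun p hp hd => sigma_inter_kappa (hKU.hall.2.1 p hp hd)
  have hprime : ∀ x ∈ R', x ≠ 1 → N' ⊓ Subgroup.centralizer ({x} : Set M) =
      N' ⊓ Subgroup.centralizer (R' : Set M) := by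
    intro x hx hx1
    refine le_antisymm ?_ (inf_le_inf_left _ (Subgroup.centralizer_le (by simpa using hx)))
    rintro n ⟨hn, hnc⟩
    refine ⟨hn, Subgroup.mem_centralizer_iff.2 fun y hy => Subtype.ext ?_⟩
    have := mem_kstar_of_commute h1430 hM hKU hK1 (hx : (x : G) ∈ K)
      (fun h => hx1 (Subtype.ext h)) (hn : (n : G) ∈ Cfsg.sigmaCore M)
      (congrArg Subtype.val (Subgroup.mem_centralizer_singleton_iff.1 hnc))
    exact Subgroup.mem_centralizer_iff.1 this.2 y hy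
  have hF : Cfsg.fittingOf N' ⊓ Subgroup.centralizer (R' : Set M) = ⊥ := by
    rw [eq_bot_iff]
    rintro x ⟨hxF, hxC⟩
    rw [Subgroup.mem_bot]
    refine Subtype.ext (Subgroup.mem_bot.1 (hdisj ▸ (show (x : G) ∈ _ from ⟨?_, ?_⟩)))
    · rw [← map_fittingOf_subgroupOf (sigmaCore_le M)]
      exact ⟨x, hxF, rfl⟩
    · refine Subgroup.mem_centralizer_iff.2 fun y hy => ?_
      exact congrArg Subtype.val (Subgroup.mem_centralizer_iff.1 hxC ⟨y, K_le h1350 hM hKU hy⟩ hy)
  have h := Subgroup.map_mono (f := M.subtype) (h1445 hodd N' R' hsup hcop hprime hF)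
  rw [hN', hR', Subgroup.map_commutator, Subgroup.map_subgroupOf_eq_of_le (sigmaCore_le M),
    Subgroup.map_subgroupOf_eq_of_le (K_le h1350 hM hKU),
    map_fittingOf_subgroupOf (sigmaCore_le M)] at h
  have hc := (h1426 M hM (U ⊔ K) (isComplIn_E h1350 hM hKU)).2.1
  rw [hU, bot_sup_eq] at hc
  exact not_isNilpotent_sigmaCore hG h1350 hM hne (isNilpotent_of_le_fittingOf (hc.ge.trans h))

/-- The normal Sylow subgroup containing `K*`; complements of it are nilpotent. -/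
theorem exists_normal_sylow (hG : Cfsg.IsMinSimpleOddOrder G) (h1445 : Hyp1445.{u})
    (h1350 : Hyp1350 G) (h1426 : Hyp1426 G) (h1430 : Hyp1430 G)
    (hM : IsCoatom M) (hKU : Cfsg.IsSigmaDecomposition M K U) (hU : U = ⊥) (hK1 : K ≠ ⊥)
    (hq : (Nat.card ↥(Cfsg.sigmaCore M ⊓ Subgroup.centralizer (K : Set G))).Prime)
    (hne : Cfsg.fittingHallOf M ≠ Cfsg.sigmaCore M) :
    ∃ Q : Subgroup G, Q ≤ Cfsg.sigmaCore M ∧ M ≤ Subgroup.normalizer (Q : Set G) ∧
      IsPGroup (Nat.card ↥(Cfsg.sigmaCore M ⊓ Subgroup.centralizer (K : Set G))) Q ∧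
      ¬ Nat.card ↥(Cfsg.sigmaCore M ⊓ Subgroup.centralizer (K : Set G)) ∣
        Q.relIndex (Cfsg.sigmaCore M) ∧
      Cfsg.sigmaCore M ⊓ Subgroup.centralizer (K : Set G) ≤ Q ∧
      ∀ D : Subgroup G, D ≤ Cfsg.sigmaCore M → Q ⊓ D = ⊥ → Group.IsNilpotent D := by
  set Ks := Cfsg.sigmaCore M ⊓ Subgroup.centralizer (K : Set G) with hKs
  set q := Nat.card Ks with hqdef
  haveI := Fact.mk hq
  set N := Cfsg.sigmaCore M with hN
  have hKsF := kstar_le_fittingOf hG h1445 h1350 h1426 h1430 hM hKU hU hK1 hq hne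
  set Q₁ := CfsgLib.Solvable.nilPart q (Cfsg.fittingOf N) with hQ₁
  have hQ₁N : Q₁ ≤ N := CfsgLib.Solvable.nilPart_le.trans (fittingOf_le N)
  have hQ₁p : IsPGroup q Q₁ := CfsgLib.Solvable.isPGroup_nilPart
  have hKsQ₁ : Ks ≤ Q₁ := fun x hx =>
    CfsgLib.Solvable.le_nilPart (isNilpotent_fittingOf N) hKsF
      (IsPGroup.of_card (n := 1) (by rw [pow_one])) hx
  have hnorm : Subgroup.normalizer (N : Set G) ≤ Subgroup.normalizer (Q₁ : Set G) :=
    (normalizer_le_normalizer_fittingOf N).trans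
      (CfsgLib.Solvable.normalizer_le_normalizer_nilPart q _)
  have hMQ₁ : M ≤ Subgroup.normalizer (Q₁ : Set G) := (le_normalizer_sigmaCore M).trans hnorm
  have hNQ₁ : N ≤ Subgroup.normalizer (Q₁ : Set G) := (sigmaCore_le M).trans hMQ₁
  haveI : (Q₁.subgroupOf N).Normal := Subgroup.normal_subgroupOf_of_le_normalizer hNQ₁
  obtain ⟨r, hr, hrK⟩ := Nat.exists_prime_and_dvd (fun h => hK1 (Subgroup.card_eq_one.1 h))
  haveI := Fact.mk hr
  obtain ⟨k, hk⟩ := exists_prime_orderOf_dvd_card' (G := K) r hrK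
  rw [← Subgroup.orderOf_coe] at hk
  have hqσ : q ∈ Cfsg.sigma M :=
    (sigmaCore_hallOf h1350 hM).2.1 q hq (Subgroup.card_dvd_of_le inf_le_left)
  have hco : r.Coprime (Nat.card Q₁) := by
    obtain ⟨n, hn⟩ := hQ₁p.exists_card_eq
    rw [hn]
    exact ((Nat.coprime_primes hr hq).2 (fun h => sigma_inter_kappa (hKU.hall.2.1 r hr hrK)
      (h ▸ hqσ))).pow_right n
  have hk1 : (k : G) ≠ 1 := fun h => hr.ne_one (by rw [← hk, h, orderOf_one])
  have hnil : Group.IsNilpotent (N ⧸ Q₁.subgroupOf N) :=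
    isNilpotent_quotient_of_fpf hr hk (le_normalizer_sigmaCore M (K_le h1350 hM hKU k.2))
      (hMQ₁ (K_le h1350 hM hKU k.2)) hNQ₁ hQ₁N hco
      (fun s hs h => hKsQ₁ (mem_kstar_of_commute h1430 hM hKU hK1 k.2 hk1 hs h))
  let π := QuotientGroup.mk' (Q₁.subgroupOf N)
  obtain ⟨S⟩ : Nonempty (Sylow q N) := inferInstance
  have hQS : Q₁.subgroupOf N ≤ (S : Subgroup N) := by
    obtain ⟨T, hT⟩ := (hQ₁p.comap_of_injective N.subtype N.subtype_injective).exists_le_sylow
    obtain ⟨g, rfl⟩ := MulAction.exists_smul_eq N T S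
    intro x hx
    have h1 : g⁻¹ * x * g⁻¹⁻¹ ∈ Q₁.subgroupOf N :=
      Subgroup.Normal.conj_mem inferInstance x hx g⁻¹
    have h2 := hT h1
    rw [inv_inv] at h2
    exact ⟨_, h2, by simp [mul_assoc]⟩
  have hSn : (S : Subgroup N).Normal := by
    let T : Sylow q (N ⧸ Q₁.subgroupOf N) := S.mapSurjective (QuotientGroup.mk'_surjective _)
    have hTn : (T : Subgroup (N ⧸ Q₁.subgroupOf N)).Normal :=
      T.normal_of_normalizerCondition Group.normalizerCondition_of_isNilpotent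
    have h1 : ((S : Subgroup N).map π).comap π = S := by
      rw [Subgroup.comap_map_eq, QuotientGroup.ker_mk', sup_eq_left]
      exact hQS
    rw [← h1]
    exact hTn.comap π
  refine ⟨(S : Subgroup N).map N.subtype, Subgroup.map_subtype_le _, ?_, S.2.map _,
    relIndex_sylow_map S, ?_, fun D hDN hD => ?_⟩
  · refine le_normalizer_of_coprime_normal (le_normalizer_sigmaCore M) (Subgroup.map_subtype_le _)
      (le_normalizer_map_subtype N _) ?_
    obtain ⟨n, hn⟩ := (S.2.map N.subtype).exists_card_eq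
    rw [hn]
    exact ((Nat.Prime.coprime_iff_not_dvd hq).2 (relIndex_sylow_map S)).pow_left n
  · refine hKsQ₁.trans ?_
    rw [← Subgroup.map_subgroupOf_eq_of_le hQ₁N]
    exact Subgroup.map_mono hQS
  · let f := π.comp (Subgroup.inclusion hDN)
    haveI := hnil
    have hf : Function.Injective f := by
      rw [injective_iff_map_eq_one]
      intro x hx
      have h1 : (Subgroup.inclusion hDN x) ∈ Q₁.subgroupOf N := (QuotientGroup.eq_one_iff _).1 hx
      have h2 : (x : G) ∈ (S : Subgroup N).map N.subtype ⊓ D :=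
        ⟨⟨_, hQS h1, rfl⟩, x.2⟩
      rw [hD, Subgroup.mem_bot] at h2
      exact Subtype.ext h2
    exact Group.nilpotent_of_mulEquiv (MonoidHom.ofInjective hf).symm

end CfsgLib.OddLocal.S15
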