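import Cfsg.Agent.Lib.OddLocal.S15Fcore

/-!
# The case `M_F ≠ M_σ`: complements of the normal Sylow subgroup

For a complement `D` of the normal Sylow `q`-subgroup `Q` of `M_σ`, the subgroup `Q₀ = C_Q(D)` is
normal in `M`, `Q/Q₀` is a chief factor of order `q ^ |K|`, `|K|` is prime, and `D'` centralises `Q`.
-/

set_option autoImplicit false
set_option linter.style.haveILetI false
set_option linter.unusedSectionVars false

open scoped Pointwise commutatorElement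

namespace CfsgLib.OddLocal.S15

universe u

variable {G : Type u} [Group G] [Finite G] {M K U Q D : Subgroup G}

theorem not_le_centralizer_of_ne (hG : Cfsg.IsMinSimpleOddOrder G) (h1350 : Hyp1350 G)
    (hM : IsCoatom M) (hne : Cfsg.fittingHallOf M ≠ Cfsg.sigmaCore M)
    (hQD : Cfsg.IsComplIn Q D (Cfsg.sigmaCore M)) (hQn : Group.IsNilpotent Q)
    (hDn : Group.IsNilpotent D) : ¬ D ≤ Subgroup.centralizer (Q : Set G) := by
  intro h
  refine not_isNilpotent_sigmaCore hG h1350 hM hne (isNilpotent_of_le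
    (isNilpotent_sup hQn hDn (h.trans (Subgroup.centralizer_le_normalizer _))
      ((Subgroup.le_centralizer_iff.1 h).trans (Subgroup.centralizer_le_normalizer _))) ?_)
  intro x hx
  obtain ⟨a, ha, b, hb, rfl⟩ := hQD.2.2.2 x hx
  exact mul_mem (Subgroup.mem_sup_left ha) (Subgroup.mem_sup_right hb)

/-- The analysis of an invariant complement. -/
theorem invariant_complement (hG : Cfsg.IsMinSimpleOddOrder G) (h1446 : Hyp1446.{u})
    (h1350 : Hyp1350 G) (h1430 : Hyp1430 G)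
    (hM : IsCoatom M) (hKU : Cfsg.IsSigmaDecomposition M K U) (hU : U = ⊥) (hK1 : K ≠ ⊥)
    (hne : Cfsg.fittingHallOf M ≠ Cfsg.sigmaCore M) {q : ℕ}
    (hqdef : q = Nat.card ↥(Cfsg.sigmaCore M ⊓ Subgroup.centralizer (K : Set G))) (hq : q.Prime)
    (hMQ : M ≤ Subgroup.normalizer (Q : Set G)) (hQp : IsPGroup q Q)
    (hQi : ¬ q ∣ Q.relIndex (Cfsg.sigmaCore M))
    (hKsQ : Cfsg.sigmaCore M ⊓ Subgroup.centralizer (K : Set G) ≤ Q)
    (hD : Cfsg.IsComplIn Q D (Cfsg.sigmaCore M)) (hDn : Group.IsNilpotent D)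
    (hKD : K ≤ Subgroup.normalizer (D : Set G)) :
    (Nat.card K).Prime ∧
    M ≤ Subgroup.normalizer ((Q ⊓ Subgroup.centralizer (D : Set G) : Subgroup G) : Set G) ∧
    Q ⊓ Subgroup.centralizer (D : Set G) < Q ∧
    Nat.card Q = Nat.card ↥(Q ⊓ Subgroup.centralizer (D : Set G)) * q ^ Nat.card K ∧
    (∀ a ∈ Q, ∀ b ∈ Q, a ^ q ∈ Q ⊓ Subgroup.centralizer (D : Set G) ∧
      a * b * a⁻¹ * b⁻¹ ∈ Q ⊓ Subgroup.centralizer (D : Set G)) ∧
    (∀ N : Subgroup G, Q ⊓ Subgroup.centralizer (D : Set G) < N → N < Q →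
      ¬ M ≤ Subgroup.normalizer (N : Set G)) ∧
    ⁅D, D⁆ ≤ Subgroup.centralizer (Q : Set G) := by
  set Ks := Cfsg.sigmaCore M ⊓ Subgroup.centralizer (K : Set G) with hKs
  set N₀ := Cfsg.sigmaCore M with hN₀
  set C := Q ⊓ Subgroup.centralizer (D : Set G) with hC
  haveI := Fact.mk hq
  have hKM : K ≤ M := K_le h1350 hM hKU
  have hQN : Q ≤ N₀ := hD.1
  have hDN : D ≤ N₀ := hD.2.1
  have hNM : N₀ ≤ M := sigmaCore_le M
  have hQnil : Group.IsNilpotent Q := hQp.isNilpotent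
  have hnc := not_le_centralizer_of_ne hG h1350 hM hne hD hQnil hDn
  have hDne : D ≠ ⊥ := fun h => hnc (h ▸ bot_le)
  have hMN : M = N₀ ⊔ K := by rw [sup_comm]; exact le_sup_of_U_eq_bot h1350 hM hKU hU
  have hqD : ¬ q ∣ Nat.card D := (relIndex_of_isComplIn hD).2 ▸ hQi
  have hqK : ¬ q ∣ Nat.card K := fun h => sigma_inter_kappa (hKU.hall.2.1 q hq h)
    ((sigmaCore_hallOf h1350 hM).2.1 q hq (hqdef ▸ Subgroup.card_dvd_of_le inf_le_left))
  have hcoQ : ∀ {n : ℕ}, ¬ q ∣ n → n.Coprime (Nat.card Q) := fun {n} hn => by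
    obtain ⟨j, hj⟩ := hQp.exists_card_eq
    rw [hj]
    exact ((Nat.Prime.coprime_iff_not_dvd hq).2 hn).symm.pow_right j
  obtain ⟨r, hr, hrK⟩ := Nat.exists_prime_and_dvd (fun h => hK1 (Subgroup.card_eq_one.1 h))
  haveI := Fact.mk hr
  obtain ⟨k, hk⟩ := exists_prime_orderOf_dvd_card' (G := K) r hrK
  rw [← Subgroup.orderOf_coe] at hk
  have hk1 : (k : G) ≠ 1 := fun h => hr.ne_one (by rw [← hk, h, orderOf_one])
  have hkr : (k : G) ^ r = 1 := hk ▸ pow_orderOf_eq_one _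
  have hfixK : ∀ {x : G}, x ∈ K → x ≠ 1 → ∀ s ∈ N₀, s * x = x * s → s ∈ Ks :=
    fun hx hx1 s hs h => mem_kstar_of_commute h1430 hM hKU hK1 hx hx1 hs h
  have hDfix : ∀ {x : G}, x ∈ K → x ≠ 1 → ∀ d ∈ D, d * x = x * d → d = 1 := by
    intro x hx hx1 d hd h
    have h1 : d ∈ Q ⊓ D := ⟨hKsQ (hfixK hx hx1 d (hDN hd) h), hd⟩
    rwa [hD.2.2.1, Subgroup.mem_bot] at h1
  have hDQ : D ≤ Subgroup.normalizer (Q : Set G) := (hDN.trans hNM).trans hMQ
  -- the Frattini subgroup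
  set Φ := (frattini Q).map Q.subtype with hΦ
  have hΦQ : Φ ≤ Q := Subgroup.map_subtype_le _
  have hMΦ : M ≤ Subgroup.normalizer (Φ : Set G) :=
    hMQ.trans (normalizer_le_normalizer_map_characteristic (frattini Q))
  have hKsΦ : ¬ Ks ≤ Φ := by
    intro hle
    have hNΦ : N₀ ≤ Subgroup.normalizer (Φ : Set G) := hNM.trans hMΦ
    haveI : (Φ.subgroupOf N₀).Normal := Subgroup.normal_subgroupOf_of_le_normalizer hNΦ
    have hnil : Group.IsNilpotent (N₀ ⧸ Φ.subgroupOf N₀) :=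
      isNilpotent_quotient_of_fpf hr hk (le_normalizer_sigmaCore M (hKM k.2)) (hMΦ (hKM k.2)) hNΦ
        (hΦQ.trans hQN) (by
          have := (hcoQ (n := r) (fun h => hqK (h.trans hrK))).coprime_dvd_right
            (Subgroup.card_dvd_of_le hΦQ)
          exact this)
        (fun s hs h => hle (hfixK k.2 hk1 s hs h))
    let π := QuotientGroup.mk' (Φ.subgroupOf N₀)
    have hcomm : ⁅Q, D⁆ ≤ Φ := by
      rw [Subgroup.commutator_le]
      intro a ha d hd
      have h1 : π ⟨a, hQN ha⟩ * π ⟨d, hDN hd⟩ = π ⟨d, hDN hd⟩ * π ⟨a, hQN ha⟩ := by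
        haveI := hnil
        refine commute_of_coprime_orderOf _ _ (Nat.Coprime.coprime_dvd_left (orderOf_map_dvd _ _)
          (Nat.Coprime.coprime_dvd_right (orderOf_map_dvd _ _) ?_))
        rw [← Subgroup.orderOf_coe, ← Subgroup.orderOf_coe]
        exact ((hcoQ hqD).symm.coprime_dvd_left (Subgroup.orderOf_dvd_natCard Q ha)).coprime_dvd_right
          (Subgroup.orderOf_dvd_natCard D hd)
      rw [← commutatorElement_eq_one_iff_mul_comm, ← map_commutatorElement] at h1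
      have h2 : ⁅(⟨a, hQN ha⟩ : N₀), ⟨d, hDN hd⟩⁆ ∈ Φ.subgroupOf N₀ := (QuotientGroup.eq_one_iff _).1 h1
      exact h2
    have h2 : ⁅Q, D⁆ ⊔ C = Q :=
      CfsgLib.Solvable.commutator_sup_centralizer hDQ (hcoQ hqD)
        (Or.inr (by haveI := hQnil; infer_instance))
    have h3 : C.subgroupOf Q = ⊤ := by
      refine frattini_nongenerating ?_
      rw [eq_top_iff]
      intro x _
      have hx : (x : G) ∈ C ⊔ Φ := by
        have hle' : ⁅Q, D⁆ ⊔ C ≤ C ⊔ Φ := sup_le (hcomm.trans le_sup_right) le_sup_left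
        exact hle' (h2.symm ▸ x.2)
      have hCle : C ≤ Q := inf_le_left
      rw [← Subgroup.map_subgroupOf_eq_of_le hCle, hΦ, ← Subgroup.map_sup] at hx
      obtain ⟨y, hy, hyx⟩ := hx
      rwa [← Subtype.ext hyx]
    exact hnc (Subgroup.le_centralizer_iff.1 ((Subgroup.subgroupOf_eq_top.1 h3).trans inf_le_right))
  have hKsΦ' : Ks ⊓ Φ = ⊥ := by
    rw [eq_bot_iff]
    rintro x ⟨hx, hxΦ⟩
    rw [Subgroup.mem_bot]
    by_contra hx1
    refine hKsΦ ?_
    rw [← eq_zpowers_of_mem_prime hqdef.symm hx hx1]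
    exact Subgroup.zpowers_le.2 hxΦ
  have hΦC : Φ ≤ C := by
    have hDΦ : D ≤ Subgroup.normalizer (Φ : Set G) := (hDN.trans hNM).trans hMΦ
    have hnil : Group.IsNilpotent ↥(Φ ⊔ D) := by
      refine isNilpotent_of_fpf_normalized hr (k := (k : G)) ?_ hkr fun x hx h => ?_
      · rw [← map_conj_eq_self_iff, Subgroup.map_sup, map_conj_eq_self_iff.2 (hMΦ (hKM k.2)),
          map_conj_eq_self_iff.2 (hKD k.2)]
      · obtain ⟨a, ha, b, hb, rfl⟩ := eq_mul_of_mem_sup hDΦ hx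
        have h1 : a * b ∈ Ks := hfixK k.2 hk1 _ (mul_mem (hQN (hΦQ ha)) (hDN hb)) h
        have hbQ : b ∈ Q := by
          simpa using Q.mul_mem (Q.inv_mem (hΦQ ha)) (hKsQ h1)
        have hb1 : b ∈ Q ⊓ D := ⟨hbQ, hb⟩
        rw [hD.2.2.1, Subgroup.mem_bot] at hb1
        subst hb1
        rw [mul_one] at h1 ⊢
        exact Subgroup.mem_bot.1 (hKsΦ' ▸ (show a ∈ Ks ⊓ Φ from ⟨h1, ha⟩))
    refine le_inf hΦQ fun a ha => Subgroup.mem_centralizer_iff.2 fun d hd => ?_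
    refine (commute_of_mem_nilpotent hnil (Subgroup.mem_sup_left ha) (Subgroup.mem_sup_right hd) ?_).symm
    exact ((hcoQ hqD).symm.coprime_dvd_left (Subgroup.orderOf_dvd_natCard Q (hΦQ ha))).coprime_dvd_right
      (Subgroup.orderOf_dvd_natCard D hd)
  have hpow : ∀ a ∈ Q, ∀ b ∈ Q, a ^ q ∈ C ∧ a * b * a⁻¹ * b⁻¹ ∈ C := fun a ha b hb =>
    ⟨hΦC ⟨(⟨a, ha⟩ : Q) ^ q, CfsgLib.PGroup.pow_mem_frattini hQp _, rfl⟩,
      hΦC ⟨⁅(⟨a, ha⟩ : Q), ⟨b, hb⟩⁆, CfsgLib.PGroup.commutator_le_frattini hQp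
        (Subgroup.commutator_mem_commutator (Subgroup.mem_top _) (Subgroup.mem_top _)), rfl⟩⟩
  have hQC : Q ≤ Subgroup.normalizer (C : Set G) := by
    refine CfsgLib.Solvable.le_normalizer_of_conj_mem fun a ha c hc => ?_
    have := C.mul_mem (hpow a ha c hc.1).2 hc
    simpa [mul_assoc] using this
  have hDC : D ≤ Subgroup.normalizer (C : Set G) := by
    refine CfsgLib.Solvable.le_normalizer_of_conj_mem fun d hd c hc => ?_
    rw [Subgroup.mem_centralizer_iff.1 hc.2 d hd, mul_inv_cancel_right]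
    exact hc
  have hKC : K ≤ Subgroup.normalizer (C : Set G) := by
    intro x hx
    refine (CfsgLib.Solvable.normalizer_le_normalizer_centralizer D (hKD hx)) |> fun h1 => ?_
    rw [← map_conj_eq_self_iff] at h1 ⊢
    rw [hC, Subgroup.map_inf _ _ _ (MulAut.conj x).injective, h1,
      map_conj_eq_self_iff.2 (hMQ (hKM hx))]
  have hNC : N₀ ≤ Subgroup.normalizer (C : Set G) := fun x hx => by
    obtain ⟨a, ha, b, hb, rfl⟩ := hD.2.2.2 x hx
    exact mul_mem (hQC ha) (hDC hb)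
  have hMC : M ≤ Subgroup.normalizer (C : Set G) := hMN ▸ sup_le hNC hKC
  have hCQ : C < Q := lt_of_le_of_ne inf_le_left fun h =>
    hnc (Subgroup.le_centralizer_iff.1 (h ▸ inf_le_right))
  -- the quotient
  haveI : (C.subgroupOf M).Normal := Subgroup.normal_subgroupOf_of_le_normalizer hMC
  let f := QuotientGroup.mk' (C.subgroupOf M)
  have hf : ∀ {x : M}, f x = 1 ↔ (x : G) ∈ C := fun {x} => (QuotientGroup.eq_one_iff x)
  let bar : Subgroup G → Subgroup (M ⧸ C.subgroupOf M) := fun X => (X.subgroupOf M).map f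
  have hbarm : ∀ {X : Subgroup G} {x : M}, (x : G) ∈ X → f x ∈ bar X := fun {X x} h => ⟨x, h, rfl⟩
  have hQM : Q ≤ M := hQN.trans hNM
  have hDM : D ≤ M := hDN.trans hNM
  have hcardbar : ∀ {X : Subgroup G}, X ≤ M → Nat.card (bar X) ∣ Nat.card X := fun {X} hX => by
    rw [← Nat.card_congr (Subgroup.subgroupOfEquivOfLe hX).toEquiv]
    exact Subgroup.card_map_dvd _ _
  have hcardV : ∀ {X : Subgroup G}, X ≤ M → C ≤ X →
      Nat.card X = Nat.card C * Nat.card (bar X) := fun {X} hX hCX => by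
    have h1 := Subgroup.relIndex_ker (K := X.subgroupOf M) f
    rw [QuotientGroup.ker_mk', Subgroup.relIndex_subgroupOf hX] at h1
    have h2 : Nat.card C * C.relIndex X = Nat.card X := by
      rw [← Subgroup.relIndex_bot_left, ← Subgroup.relIndex_bot_left,
        Subgroup.relIndex_mul_relIndex ⊥ C X bot_le hCX]
    rw [← h2, h1]
  have hbarne : ∀ {X : Subgroup G}, X ≤ M → X ⊓ C = ⊥ → X ≠ ⊥ → bar X ≠ ⊥ := fun {X} hX hXC hX1 h => by
    refine hX1 (le_bot_iff.1 (hXC ▸ le_inf le_rfl fun x hx => ?_))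
    exact hf.1 (Subgroup.mem_bot.1 (h ▸ hbarm (x := ⟨x, hX hx⟩) hx))
  have hbarnorm : ∀ {X Y : Subgroup G}, X ≤ M → Y ≤ M → Y ≤ Subgroup.normalizer (X : Set G) →
      bar Y ≤ Subgroup.normalizer (bar X : Set (M ⧸ C.subgroupOf M)) := by
    intro X Y hX hY hYX
    refine CfsgLib.Solvable.le_normalizer_of_conj_mem ?_
    rintro _ ⟨y, hy, rfl⟩ _ ⟨x, hx, rfl⟩
    rw [← map_inv, ← map_mul, ← map_mul]
    exact hbarm ((Subgroup.mem_normalizer_iff.1 (hYX hy) _).1 hx)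
  have hDCbot : D ⊓ C = ⊥ := le_bot_iff.1 (fun x hx => hD.2.2.1 ▸ ⟨hx.2.1, hx.1⟩)
  have hKCbot : K ⊓ C = ⊥ := le_bot_iff.1 (fun x hx =>
    (sigmaCore_inf_K h1350 hM hKU) ▸ ⟨hQN hx.2.1, hx.1⟩)
  have hbarD := hbarne hDM hDCbot hDne
  have hbarK := hbarne hKM hKCbot hK1
  have hqbar : ∀ {X : Subgroup G}, X ≤ M → ¬ q ∣ Nat.card X → ¬ q ∣ Nat.card (bar X) :=
    fun {X} hX h h' => h (h'.trans (hcardbar hX))
  have hKR : bar D ⊓ bar K = ⊥ := by
    refine inf_eq_bot_of_coprime (Nat.Coprime.coprime_dvd_left (hcardbar hDM)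
      (Nat.Coprime.coprime_dvd_right (hcardbar hKM) ?_))
    refine Nat.Coprime.coprime_dvd_left (Subgroup.card_dvd_of_le hDN) ?_
    exact coprime_sigmaCore h1350 hM fun p hp hd => sigma_inter_kappa (hKU.hall.2.1 p hp hd)
  have hfrob : ∀ x ∈ bar K, x ≠ 1 → bar D ⊓ Subgroup.centralizer ({x} : Set _) = ⊥ := by
    rintro _ ⟨x, hx, rfl⟩ hx1
    rw [eq_bot_iff]
    rintro _ ⟨⟨d, hd, rfl⟩, hc⟩
    replace hc := Subgroup.mem_centralizer_singleton_iff.1 hc
    rw [← commutatorElement_eq_one_iff_mul_comm, ← map_commutatorElement, hf] at hc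
    have h1 : ((⁅d, x⁆ : M) : G) ∈ D := by
      have := D.mul_mem (show (d : G) ∈ D from hd)
        ((Subgroup.mem_normalizer_iff.1 (hKD hx) _).1 (D.inv_mem (show (d : G) ∈ D from hd)))
      simpa [commutatorElement_def, mul_assoc] using this
    have h2 : ⁅(d : G), (x : G)⁆ = 1 := Subgroup.mem_bot.1 (hDCbot ▸ ⟨h1, hc⟩)
    rw [commutatorElement_eq_one_iff_mul_comm] at h2
    have h3 : (d : G) = 1 := hDfix hx (fun h => hx1 (hf.2 (by rw [show (x : G) = 1 from h]; exact one_mem _))) d hd h2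
    rw [Subgroup.mem_bot, hf, h3]
    exact one_mem _
  have hsolv : Group.IsSolvable ↥(bar D ⊔ bar K) := by
    haveI := maximal_solvable hG hM
    infer_instance
  have hodd : Odd (Nat.card ↥(bar D ⊔ bar K)) :=
    hG.1.of_dvd_nat (((bar D ⊔ bar K).card_subgroup_dvd_card).trans
      ((Subgroup.card_quotient_dvd_card _).trans M.card_subgroup_dvd_card))
  have hcopB : ∀ {X : Subgroup G}, X ≤ Q →
      (Nat.card ↥(bar D ⊔ bar K)).Coprime (Nat.card (bar X)) := fun {X} hX => by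
    have hK' : bar K ≤ Subgroup.normalizer (bar D : Set (M ⧸ C.subgroupOf M)) := hbarnorm hDM hKM hKD
    rw [card_sup_of_normalizes hK' hKR]
    exact Nat.Coprime.coprime_dvd_right ((hcardbar (hX.trans hQM)).trans (Subgroup.card_dvd_of_le hX))
      ((hcoQ hqD |>.coprime_dvd_left (hcardbar hDM)).mul_left
        (hcoQ hqK |>.coprime_dvd_left (hcardbar hKM)))
  have hfixD : ∀ {X : Subgroup G}, X ≤ Q →
      bar X ⊓ Subgroup.centralizer (bar D : Set (M ⧸ C.subgroupOf M)) = ⊥ := fun {X} hX => by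
    rw [eq_bot_iff]
    rintro _ ⟨⟨x, hx, rfl⟩, hc⟩
    have hxQ : (x : G) ∈ Q := hX hx
    have hu : ∀ a ∈ D, ⁅a, (x : G)⁆ ∈ C := fun a ha => by
      have h1 := Subgroup.mem_centralizer_iff.1 hc (f ⟨a, hDM ha⟩) (hbarm (x := ⟨a, hDM ha⟩) ha)
      rw [← commutatorElement_eq_one_iff_mul_comm, ← map_commutatorElement, hf] at h1
      exact h1
    obtain ⟨n, hn, hnc'⟩ := CfsgLib.Solvable.exists_mul_mem_centralizer D C hDC
      ((hcoQ hqD).coprime_dvd_right (Subgroup.card_dvd_of_le inf_le_left))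
      (Or.inl (by haveI := hDn; infer_instance)) (x : G) hu
    have h2 : (x : G) ∈ C := by
      have := C.mul_mem (C.inv_mem hn) (show n * (x : G) ∈ C from ⟨Q.mul_mem hn.1 hxQ, hnc'⟩)
      simpa [← mul_assoc] using this
    rw [Subgroup.mem_bot, hf]
    exact h2
  have hcommKs : ∀ {x : M}, (x : G) ∈ Ks → ∀ y ∈ bar K, y * f x = f x * y := by
    rintro x hx _ ⟨y, hy, rfl⟩
    rw [← map_mul, ← map_mul]
    exact congrArg f (Subtype.ext (Subgroup.mem_centralizer_iff.1 hx.2 y hy))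
  have hprime : ∀ {X : Subgroup G}, X ≤ Q → ∀ y ∈ bar K, y ≠ 1 →
      bar X ⊓ Subgroup.centralizer ({y} : Set _) =
        bar X ⊓ Subgroup.centralizer (bar K : Set (M ⧸ C.subgroupOf M)) := fun {X} hX y hy hy1 => by
    refine le_antisymm ?_ (inf_le_inf_left _ (Subgroup.centralizer_le (by simpa using hy)))
    obtain ⟨k', hk', rfl⟩ := hy
    rintro _ ⟨⟨x, hx, rfl⟩, hc⟩
    refine ⟨⟨x, hx, rfl⟩, Subgroup.mem_centralizer_iff.2 fun z hz => ?_⟩
    replace hc := Subgroup.mem_centralizer_singleton_iff.1 hc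
    have hc' : f k' * f x = f x * f k' := hc.symm
    rw [← commutatorElement_eq_one_iff_mul_comm, ← map_commutatorElement, hf] at hc'
    obtain ⟨n, hn, hn'⟩ := exists_mul_commute (hKC hk') (hQC (hX hx))
      (((hcoQ hqK).coprime_dvd_left (Subgroup.orderOf_dvd_natCard K hk')).coprime_dvd_right
        (Subgroup.card_dvd_of_le inf_le_left)) hc'
    have h1 : n * (x : G) ∈ Ks :=
      hfixK hk' (fun h => hy1 (hf.2 (by rw [show (k' : G) = 1 from h]; exact one_mem _))) _ (hQN (Q.mul_mem hn.1 (hX hx))) hn'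
    have h2 := hcommKs (x := ⟨n, hQM hn.1⟩ * x) h1 z hz
    rw [map_mul, show f ⟨n, hQM hn.1⟩ = 1 from hf.2 hn, one_mul] at h2
    exact h2
  have hne' : ∀ {X : Subgroup G}, X ≤ Q → C < X → bar X ≠ ⊥ := fun {X} hX hCX h => by
    obtain ⟨x, hx, hxC⟩ := SetLike.exists_of_lt hCX
    exact hxC (hf.1 (Subgroup.mem_bot.1 (h ▸ hbarm (x := ⟨x, hQM (hX hx)⟩) hx)))
  have main : ∀ {X : Subgroup G}, X ≤ Q → C < X → M ≤ Subgroup.normalizer (X : Set G) →
      (Nat.card K).Prime ∧ Nat.card (bar X) = Nat.card ↥(bar X ⊓ Subgroup.centralizer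
        (bar K : Set (M ⧸ C.subgroupOf M))) ^ Nat.card K ∧
      (IsCyclic ↥(bar X ⊓ Subgroup.centralizer (bar K : Set (M ⧸ C.subgroupOf M))) →
        ⁅bar D, bar D⁆ ≤ Subgroup.centralizer (bar X : Set (M ⧸ C.subgroupOf M))) := by
    intro X hX hCX hMX
    have hXnil : Group.IsNilpotent (bar X) :=
      CfsgLib.Cores.isNilpotent_map
        (isNilpotent_comap_inclusion (hX.trans hQM) (isNilpotent_of_le hQnil hX)) f
    obtain ⟨h1, h2, h3⟩ := h1446 (bar D) (bar K) (bar X) hbarD hbarK hKR (hbarnorm hDM hKM hKD) hfrob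
      hsolv hodd (hne' hX hCX) hXnil (hbarnorm (hX.trans hQM) hDM (hDM.trans hMX))
      (hbarnorm (hX.trans hQM) hKM (hKM.trans hMX)) (hcopB hX) (hfixD hX) (hprime hX)
    have hcK : Nat.card (bar K) = Nat.card K := by
      have := hcardbar (X := K) hKM
      refine Nat.dvd_antisymm this ?_
      have h4 := Subgroup.relIndex_ker (K := K.subgroupOf M) f
      rw [QuotientGroup.ker_mk', Subgroup.relIndex_subgroupOf hKM] at h4
      have h5 : C.relIndex K = Nat.card K := by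
        rw [← Subgroup.inf_relIndex_right, inf_comm, hKCbot, Subgroup.relIndex_bot_left]
      rw [h5] at h4
      exact h4.dvd
    rw [hcK] at h1 h2
    exact ⟨h1, h2, h3⟩
  obtain ⟨hpK, hcard, hder⟩ := main le_rfl hCQ hMQ
  -- the fixed points of `K` in the quotient
  have hbarKs : ∀ {X : Subgroup G}, X ≤ Q →
      bar X ⊓ Subgroup.centralizer (bar K : Set (M ⧸ C.subgroupOf M)) ≤ bar Ks := fun {X} hX => by
    rintro _ ⟨⟨x, hx, rfl⟩, hc⟩
    have hc' := Subgroup.mem_centralizer_iff.1 hc (f ⟨k, hKM k.2⟩) (hbarm (x := ⟨k, hKM k.2⟩) k.2)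
    rw [← commutatorElement_eq_one_iff_mul_comm, ← map_commutatorElement, hf] at hc'
    obtain ⟨n, hn, hn'⟩ := exists_mul_commute (hKC k.2) (hQC (hX hx))
      (((hcoQ hqK).coprime_dvd_left (Subgroup.orderOf_dvd_natCard K k.2)).coprime_dvd_right
        (Subgroup.card_dvd_of_le inf_le_left)) hc'
    have h2 := hbarm (x := ⟨n, hQM hn.1⟩ * x)
      (hfixK k.2 hk1 _ (hQN (Q.mul_mem hn.1 (hX hx))) hn' : (n * (x : G)) ∈ Ks)
    rwa [map_mul, show f ⟨n, hQM hn.1⟩ = 1 from hf.2 hn, one_mul] at h2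
  have hKsM : Ks ≤ M := hKsQ.trans hQM
  have hsmall : ∀ {X : Subgroup G}, X ≤ Q → C < X → M ≤ Subgroup.normalizer (X : Set G) →
      Nat.card ↥(bar X ⊓ Subgroup.centralizer (bar K : Set (M ⧸ C.subgroupOf M))) = q ∧
        Nat.card (bar X) = q ^ Nat.card K := by
    intro X hX hCX hMX
    obtain ⟨-, h2, -⟩ := main hX hCX hMX
    have hd : Nat.card ↥(bar X ⊓ Subgroup.centralizer (bar K : Set (M ⧸ C.subgroupOf M))) ∣ q :=
      (Subgroup.card_dvd_of_le (hbarKs hX)).trans ((hcardbar hKsM).trans (dvd_of_eq hqdef.symm))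
    rcases (Nat.dvd_prime hq).1 hd with h | h
    · rw [h, one_pow] at h2
      exact absurd (Subgroup.card_eq_one.1 h2) (hne' hX hCX)
    · exact ⟨h, by rw [h2, h]⟩
  obtain ⟨hcen, hVcard⟩ := hsmall le_rfl hCQ hMQ
  refine ⟨hpK, hMC, hCQ, by rw [hcardV hQM hCQ.le, hVcard], hpow, ?_, ?_⟩
  · intro N hCN hNQ hMN'
    have h1 := (hsmall hNQ.le hCN hMN').2
    have h2 := hcardV (hNQ.le.trans hQM) hCN.le
    have h3 := hcardV hQM hCQ.le
    rw [h1] at h2
    rw [hVcard] at h3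
    exact hNQ.ne (Subgroup.eq_of_le_of_card_ge hNQ.le (by rw [h2, h3]))
  · haveI : IsCyclic ↥(bar Q ⊓ Subgroup.centralizer (bar K : Set (M ⧸ C.subgroupOf M))) :=
      isCyclic_of_prime_card hcen
    have hd := hder inferInstance
    have hDd : ⁅D, D⁆ ≤ D := Subgroup.commutator_le_self D
    refine le_centralizer_of_chain (C := C) (hDd.trans hDQ)
      ((hcoQ hqD).coprime_dvd_left (Subgroup.card_dvd_of_le hDd))
      (Or.inr (by haveI := hQnil; infer_instance)) ?_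
      (fun c hc => Subgroup.centralizer_le (SetLike.coe_subset_coe.2 hDd) hc.2)
    rw [Subgroup.commutator_le]
    intro a ha d hd'
    have hmap : f ⟨d, (hDd.trans hDM) hd'⟩ ∈ ⁅bar D, bar D⁆ := by
      rw [← Subgroup.map_commutator]
      refine Subgroup.mem_map_of_mem f ?_
      have h4 : d ∈ (⁅D.subgroupOf M, D.subgroupOf M⁆).map M.subtype := by
        rw [Subgroup.map_commutator, Subgroup.map_subgroupOf_eq_of_le hDM]
        exact hd'
      obtain ⟨z, hz, hzd⟩ := h4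
      rwa [show (⟨d, (hDd.trans hDM) hd'⟩ : M) = z from Subtype.ext hzd.symm]
    have h5 := Subgroup.mem_centralizer_iff.1 (hd hmap) (f ⟨a, hQM ha⟩) (hbarm (x := ⟨a, hQM ha⟩) ha)
    rw [← commutatorElement_eq_one_iff_mul_comm, ← map_commutatorElement, hf] at h5
    exact h5

end CfsgLib.OddLocal.S15
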