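import Cfsg.Agent.Lib.OddLocal.S15Hall

/-!
# The Fitting subgroup of a maximal subgroup, and nilpotent Hall subgroups
-/

set_option autoImplicit false
set_option linter.style.haveILetI false
set_option linter.unusedSectionVars false

open scoped Pointwise commutatorElement

namespace CfsgLib.OddLocal.S15

universe u

variable {G : Type u} [Group G] [Finite G] {M K U H : Subgroup G}

/-- Modulo a normalised subgroup, a group with abelian image has derived group inside it. -/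
theorem commutator_sup_le {N X : Subgroup G} (hX : X ≤ Subgroup.normalizer (N : Set G))
    (hXX : ⁅X, X⁆ ≤ N) : ⁅N ⊔ X, N ⊔ X⁆ ≤ N := by
  set J := N ⊔ X
  have hJ : J ≤ Subgroup.normalizer (N : Set G) := sup_le Subgroup.le_normalizer hX
  haveI : (N.subgroupOf J).Normal := Subgroup.normal_subgroupOf_of_le_normalizer hJ
  let π := QuotientGroup.mk' (N.subgroupOf J)
  have hdec : ∀ x : J, ∃ b : J, (b : G) ∈ X ∧ π x = π b := by
    intro x
    obtain ⟨a, ha, b, hb, e⟩ := eq_mul_of_mem_sup hX x.2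
    refine ⟨⟨b, Subgroup.mem_sup_right hb⟩, hb, ?_⟩
    have : x = ⟨a, Subgroup.mem_sup_left ha⟩ * ⟨b, Subgroup.mem_sup_right hb⟩ := Subtype.ext e
    rw [this, map_mul, show π _ = 1 from (QuotientGroup.eq_one_iff _).2 ha, one_mul]
  rw [Subgroup.commutator_le]
  intro x hx y hy
  obtain ⟨a, ha, ea⟩ := hdec ⟨x, hx⟩
  obtain ⟨b, hb, eb⟩ := hdec ⟨y, hy⟩
  have h1 : π ⁅(⟨x, hx⟩ : J), ⟨y, hy⟩⁆ = 1 := by
    rw [map_commutatorElement, ea, eb, ← map_commutatorElement]
    exact (QuotientGroup.eq_one_iff _).2 (hXX (Subgroup.commutator_mem_commutator ha hb))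
  have h2 : ⁅(⟨x, hx⟩ : J), ⟨y, hy⟩⁆ ∈ N.subgroupOf J := (QuotientGroup.eq_one_iff _).1 h1
  exact h2

/-- `M = N E` with `N` normal gives `M' ≤ N E'`. -/
theorem derived_le_sup {N E : Subgroup G} (hEN : E ≤ Subgroup.normalizer (N : Set G))
    (hM : M ≤ N ⊔ E) : ⁅M, M⁆ ≤ N ⊔ ⁅E, E⁆ := by
  have hsup : N ⊔ ⁅E, E⁆ ⊔ E = N ⊔ E := by
    rw [sup_assoc, sup_eq_right.2 (Subgroup.commutator_le_self E)]
  refine (Subgroup.commutator_mono hM hM).trans ?_
  rw [← hsup]
  refine commutator_sup_le (fun e he => ?_) le_sup_right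
  rw [← map_conj_eq_self_iff, Subgroup.map_sup, map_conj_eq_self_iff.2 (hEN he),
    map_conj_eq_self_iff.2 ((le_inf Subgroup.le_normalizer Subgroup.le_normalizer).trans
      (CfsgLib.Solvable.normalizer_le_normalizer_commutator E E) he)]

/-- A finite group's `π`-core is a `π`-group. -/
theorem piCore_isPi {H : Type u} [Group H] [Finite H] (π : Set ℕ) :
    ∀ p : ℕ, p.Prime → p ∣ Nat.card (Cfsg.piCore π H) → p ∈ π := by
  refine CfsgLib.Cores.sSup_normal_induction
    (P := fun N => ∀ p : ℕ, p.Prime → p ∣ Nat.card N → p ∈ π)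
    (fun p hp hd => absurd hd (by rw [Subgroup.card_bot]; exact hp.not_dvd_one)) ?_ _
    (fun N hN => hN)
  intro N M _ _ hN hM p hp hd
  rcases hp.dvd_mul.1 (hd.trans (CfsgLib.Cores.card_sup_dvd_mul N M)) with h | h
  exacts [hN p hp h, hM p hp h]

theorem piCoreOf_isPi (π : Set ℕ) (X : Subgroup G) :
    ∀ p : ℕ, p.Prime → p ∣ Nat.card (Cfsg.piCoreOf π X) → p ∈ π := fun p hp hd =>
  piCore_isPi π p hp (by rwa [Cfsg.piCoreOf, Subgroup.card_map_of_injective X.subtype_injective] at hd)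

theorem normalizer_le_normalizer_piCoreOf (π : Set ℕ) (X : Subgroup G) :
    Subgroup.normalizer (X : Set G) ≤ Subgroup.normalizer (Cfsg.piCoreOf π X : Set G) := by
  intro g hg
  rw [← map_conj_eq_self_iff]
  have h := piCoreOf_map_conj_le π g X (piCoreOf_isPi π X)
  rw [map_conj_eq_self_iff.2 hg] at h
  exact Subgroup.eq_of_le_of_card_ge h (card_map_conj g _).ge

/-- Cyclic Sylow subgroups give `p`-rank at most one. -/
theorem pRankLE_one_of_cyclic {p : ℕ} [Fact p.Prime] {P : Subgroup G} (hP : P ≤ M)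
    (hPp : IsPGroup p P) (hPi : ¬ p ∣ P.relIndex M) (hc : IsCyclic P) : Cfsg.PRankLE p 1 M := by
  obtain ⟨S, hS⟩ := exists_sylow_map_eq_of_not_dvd hP hPp hPi
  refine (CfsgLib.PGroup.pRankLE_subgroup_iff M).2 fun A hA hAe => ?_
  obtain ⟨T, hT⟩ := ((CfsgLib.PGroup.elemAb_isPGroup hAe).of_equiv
    (Subgroup.subgroupOfEquivOfLe hA).symm).exists_le_sylow
  have hAT : A ≤ (T : Subgroup M).map M.subtype := by
    rw [← Subgroup.map_subgroupOf_eq_of_le hA]
    exact Subgroup.map_mono hT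
  obtain ⟨g, -, hg⟩ := CfsgLib.Solvable.exists_conj_sylow_map S T
  rw [hS] at hg
  haveI := hc
  haveI : IsCyclic ((T : Subgroup M).map M.subtype) := by
    rw [← hg, ← map_conj_eq_smul]
    exact isCyclic_of_surjective _
      (Subgroup.equivMapOfInjective P (MulAut.conj g).toMonoidHom (MulAut.conj g).injective).surjective
  haveI : IsCyclic A := Subgroup.isCyclic_of_le hAT
  rw [pow_one, ← IsCyclic.exponent_eq_card]
  exact Nat.le_of_dvd (Fact.out : p.Prime).pos (Monoid.exponent_dvd_of_forall_pow_eq_one fun a =>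
    Subtype.ext (hAe.2 a a.2))

theorem tau2_notMem_kappa {p : ℕ} (h : p ∈ Cfsg.tau2 M) : p ∉ Cfsg.kappa M := fun hk => by
  haveI := Fact.mk h.1
  obtain ⟨S⟩ : Nonempty (Sylow p M) := inferInstance
  haveI := (hk.2.2.2 S).1
  refine h.2.2.2 (pRankLE_one_of_cyclic (Subgroup.map_subtype_le (S : Subgroup M)) (S.2.map _)
    (relIndex_sylow_map S) ?_)
  exact isCyclic_of_surjective _
    (Subgroup.equivMapOfInjective (S : Subgroup M) M.subtype M.subtype_injective).surjective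

/-- The derived subgroup of a maximal subgroup lies in `M_σ E'`. -/
theorem derived_le_sigma_sup (h1350 : Hyp1350 G) (hM : IsCoatom M)
    (hKU : Cfsg.IsSigmaDecomposition M K U) :
    ⁅M, M⁆ ≤ Cfsg.sigmaCore M ⊔ ⁅U ⊔ K, U ⊔ K⁆ := by
  have hc := isComplIn_E h1350 hM hKU
  refine derived_le_sup (hc.1.trans (le_normalizer_sigmaCore M)) fun m hm => ?_
  obtain ⟨a, ha, b, hb, rfl⟩ := hc.2.2.2 m hm
  exact mul_mem (Subgroup.mem_sup_right ha) (Subgroup.mem_sup_left hb)

theorem derived_two_le_sigmaCore (B : Base G) (hM : IsCoatom M)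
    (hKU : Cfsg.IsSigmaDecomposition M K U) : ⁅⁅M, M⁆, ⁅M, M⁆⁆ ≤ Cfsg.sigmaCore M := by
  have h := derived_le_sigma_sup B.h1350 hM hKU
  refine (Subgroup.commutator_mono h h).trans (commutator_sup_le ?_ ?_)
  · exact ((Subgroup.commutator_le_self _).trans (isComplIn_E B.h1350 hM hKU).1).trans
      (le_normalizer_sigmaCore M)
  · refine le_of_eq_of_le ?_ bot_le
    have hab := (B.h1420 M hM (U ⊔ K) (isComplIn_E B.h1350 hM hKU)).2.1
    exact Subgroup.commutator_eq_bot_iff_le_centralizer.2 fun x hx =>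
      Subgroup.mem_centralizer_iff.2 fun y hy => comm_of_mem hab hy hx

/-- `M_F` is nontrivial. -/
theorem fittingHallOf_ne_bot (hG : Cfsg.IsMinSimpleOddOrder G) (B : Base G) (hM : IsCoatom M) :
    Cfsg.fittingHallOf M ≠ ⊥ := by
  obtain ⟨K, U, hKU⟩ := exists_decomposition B.h1350 hM B.h1351 B.h1352
  by_cases hne : Cfsg.fittingHallOf M = Cfsg.sigmaCore M
  · rw [hne]
    intro h
    exact (B.h1354 M hM K hKU.cyclic hKU.hall).1 (by rw [h, bot_inf_eq])
  · obtain ⟨-, -, -, -, hq, hd, -, -⟩ := fcore_structure hG B.h1445 B.h1446 B.h1350 B.h1351 B.h1352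
      B.h1354 B.h1366 B.h1369 B.h1372 B.h1414 B.h1426 B.h1429 B.h1430 hM hKU hne
    intro h
    rw [h, Subgroup.card_bot] at hd
    exact hq.not_dvd_one hd

theorem map_derived_le {X : Subgroup G} (hX : X ≤ M)
    (h : ⁅M, M⁆ ≤ Cfsg.fittingHallOf M ⊔ X) :
    (commutator M).map (QuotientGroup.mk' (Cfsg.fittingHall M)) ≤
      (X.subgroupOf M).map (QuotientGroup.mk' (Cfsg.fittingHall M)) := by
  have h1 : commutator M ≤ Cfsg.fittingHall M ⊔ X.subgroupOf M := by
    intro x hx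
    have h2 : (x : G) ∈ Cfsg.fittingHallOf M ⊔ X := h (by
      rw [← Subgroup.map_subtype_commutator]
      exact Subgroup.mem_map_of_mem _ hx)
    rw [← Subgroup.map_subgroupOf_eq_of_le hX, Cfsg.fittingHallOf, ← Subgroup.map_sup] at h2
    obtain ⟨y, hy, e⟩ := h2
    rwa [← Subtype.ext e]
  refine (Subgroup.map_mono h1).trans ?_
  rw [Subgroup.map_sup, (Subgroup.map_eq_bot_iff _).2 (QuotientGroup.ker_mk' _).ge, bot_sup_eq]

/-- `M' / M_F` is nilpotent. -/
theorem derived_image_nilpotent (hG : Cfsg.IsMinSimpleOddOrder G) (B : Base G) (hM : IsCoatom M) :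
    Group.IsNilpotent ↥((commutator M).map (QuotientGroup.mk' (Cfsg.fittingHall M))) := by
  obtain ⟨K, U, hKU⟩ := exists_decomposition B.h1350 hM B.h1351 B.h1352
  suffices h : ∃ X : Subgroup G, X ≤ M ∧ Group.IsNilpotent X ∧ ⁅M, M⁆ ≤ Cfsg.fittingHallOf M ⊔ X by
    obtain ⟨X, hX, hXn, hle⟩ := h
    exact isNilpotent_of_le
      (CfsgLib.Cores.isNilpotent_map (isNilpotent_comap_inclusion hX hXn) _) (map_derived_le hX hle)
  by_cases hne : Cfsg.fittingHallOf M = Cfsg.sigmaCore M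
  · refine ⟨⁅U ⊔ K, U ⊔ K⁆, ?_, ?_, hne ▸ derived_le_sigma_sup B.h1350 hM hKU⟩
    · exact (Subgroup.commutator_le_self _).trans (isComplIn_E B.h1350 hM hKU).1
    · have hab := (B.h1420 M hM (U ⊔ K) (isComplIn_E B.h1350 hM hKU)).2.1
      letI : CommGroup ↥⁅U ⊔ K, U ⊔ K⁆ :=
        { (inferInstance : Group ↥⁅U ⊔ K, U ⊔ K⁆) with mul_comm := hab.is_comm.comm }
      infer_instance
  · obtain ⟨-, -, hder, -, -, -, -, Q, hQF, -, -, -, -, -, ⟨D, hD⟩, hall⟩ :=
      fcore_structure hG B.h1445 B.h1446 B.h1350 B.h1351 B.h1352 B.h1354 B.h1366 B.h1369 B.h1372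
        B.h1414 B.h1426 B.h1429 B.h1430 hM hKU hne
    refine ⟨D, hD.2.1.trans (sigmaCore_le M), (hall D hD).1, hder.ge.trans fun x hx => ?_⟩
    obtain ⟨a, ha, d, hd, rfl⟩ := hD.2.2.2 x hx
    exact mul_mem (Subgroup.mem_sup_left (hQF ha)) (Subgroup.mem_sup_right hd)

/-- A complement of a normal subgroup is isomorphic to the quotient. -/
theorem isNilpotent_quotient_of_compl {Q D N : Subgroup G} [(Q.subgroupOf N).Normal]
    (hD : Cfsg.IsComplIn Q D N) (hDn : Group.IsNilpotent D) :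
    Group.IsNilpotent (N ⧸ Q.subgroupOf N) := by
  haveI := hDn
  refine Group.nilpotent_of_surjective
    ((QuotientGroup.mk' (Q.subgroupOf N)).comp (Subgroup.inclusion hD.2.1)) fun y => ?_
  obtain ⟨x, rfl⟩ := QuotientGroup.mk'_surjective _ y
  obtain ⟨a, ha, d, hd, e⟩ := hD.2.2.2 x x.2
  refine ⟨⟨d, hd⟩, ?_⟩
  have hx : x = ⟨a, hD.1 ha⟩ * ⟨d, hD.2.1 hd⟩ := Subtype.ext e
  rw [hx, map_mul, show (QuotientGroup.mk' (Q.subgroupOf N)) ⟨a, hD.1 ha⟩ = 1 from
    (QuotientGroup.eq_one_iff _).2 ha, one_mul]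
  rfl

/-- The centraliser in `N` of a normal subgroup `Q` with nilpotent complement is nilpotent. -/
theorem isNilpotent_inf_centralizer {Q D N : Subgroup G}
    (hQ : N ≤ Subgroup.normalizer (Q : Set G)) (hD : Cfsg.IsComplIn Q D N)
    (hDn : Group.IsNilpotent D) :
    Group.IsNilpotent ↥(N ⊓ Subgroup.centralizer (Q : Set G)) := by
  haveI : (Q.subgroupOf N).Normal := Subgroup.normal_subgroupOf_of_le_normalizer hQ
  set T := N ⊓ Subgroup.centralizer (Q : Set G)
  let f := (QuotientGroup.mk' (Q.subgroupOf N)).comp (Subgroup.inclusion (inf_le_left : T ≤ N))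
  haveI := isNilpotent_quotient_of_compl hD hDn
  have hker : f.ker ≤ Subgroup.center T := by
    intro x hx
    rw [Subgroup.mem_center_iff]
    intro y
    have hxQ : (Subgroup.inclusion (inf_le_left : T ≤ N) x) ∈ Q.subgroupOf N :=
      (QuotientGroup.eq_one_iff _).1 hx
    exact Subtype.ext (Subgroup.mem_centralizer_iff.1 y.2.2 x hxQ).symm
  exact Subgroup.isNilpotent_of_ker_le_center f hker

/-- The decomposition `F(M) = M_F C_M(M_F)`. -/
theorem fittingOf_le_sup (M : Subgroup G) :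
    Cfsg.fittingOf M ≤
      (M ⊓ Subgroup.centralizer (Cfsg.fittingHallOf M : Set G)) ⊔ Cfsg.fittingHallOf M := by
  set H := Cfsg.fittingHallOf M
  set F := Cfsg.fittingOf M
  have hnil := isNilpotent_fittingOf M
  haveI := hnil
  have hs : Group.IsSolvable F := inferInstance
  obtain ⟨T, hT⟩ := CfsgLib.PGroup.exists_isPiHallOf {p | p.Prime ∧ ¬ p ∣ Nat.card H} F hs
  have hfull : F ≤ T ⊔ H := by
    rw [← Subgroup.relIndex_eq_one]
    refine Nat.eq_one_iff_not_exists_prime_dvd.2 fun p hp hd => ?_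
    by_cases hpH : p ∣ Nat.card H
    · have h1 : H.relIndex F ∣ H.relIndex M :=
        ⟨F.relIndex M, (Subgroup.relIndex_mul_relIndex H F M (fittingHallOf_le_fittingOf M)
          (fittingOf_le M)).symm⟩
      exact Nat.not_coprime_of_dvd_of_dvd hp.one_lt hpH
        ((hd.trans (Subgroup.relIndex_dvd_of_le_left F le_sup_right)).trans h1)
        (coprime_fittingHallOf M)
    · exact hT.2.2 p hp ⟨hp, hpH⟩ (hd.trans (Subgroup.relIndex_dvd_of_le_left F le_sup_left))
  refine hfull.trans (sup_le_sup_right (le_inf (hT.1.trans (fittingOf_le M)) fun t ht => ?_) _)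
  rw [Subgroup.mem_centralizer_iff]
  intro h hh
  refine commute_of_mem_nilpotent hnil (fittingHallOf_le_fittingOf M hh) (hT.1 ht) ?_
  exact Nat.coprime_of_dvd fun p hp h1 h2 =>
    (hT.2.1 p hp (h2.trans (Subgroup.orderOf_dvd_natCard T ht))).2
      (h1.trans (Subgroup.orderOf_dvd_natCard H hh))

/-- `C_M(M_F)` is nilpotent, and lies in `M_σ` when `M_F ≠ M_σ`. -/
theorem centralizer_fittingHallOf (hG : Cfsg.IsMinSimpleOddOrder G) (B : Base G) (hM : IsCoatom M)
    (hKU : Cfsg.IsSigmaDecomposition M K U) :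
    Group.IsNilpotent ↥(M ⊓ Subgroup.centralizer (Cfsg.fittingHallOf M : Set G)) ∧
      (Cfsg.fittingHallOf M ≠ Cfsg.sigmaCore M →
        M ⊓ Subgroup.centralizer (Cfsg.fittingHallOf M : Set G) ≤ Cfsg.sigmaCore M) ∧
      ∀ x ∈ M ⊓ Subgroup.centralizer (Cfsg.fittingHallOf M : Set G),
        ∀ p : ℕ, p.Prime → p ∣ orderOf x → p ∉ Cfsg.kappa M := by
  set H := Cfsg.fittingHallOf M with hH
  have hHs : H ≤ Cfsg.sigmaCore M := fittingHallOf_le_sigmaCore B.h1350 hM hG
  have hHall : (Nat.card H).Coprime (H.relIndex (Cfsg.sigmaCore M)) :=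
    (coprime_fittingHallOf M).coprime_dvd_right
      ⟨(Cfsg.sigmaCore M).relIndex M, (Subgroup.relIndex_mul_relIndex H _ M hHs (sigmaCore_le M)).symm⟩
  obtain ⟨X, hXc, hXτ, hC⟩ := centralizer_hall hG B hM hHs (fittingHallOf_ne_bot hG B hM) hHall
  have hXC : X ≤ M ⊓ Subgroup.centralizer (H : Set G) := hC ▸ le_sup_right
  have hκ : ∀ x ∈ M ⊓ Subgroup.centralizer (H : Set G),
      ∀ p : ℕ, p.Prime → p ∣ orderOf x → p ∉ Cfsg.kappa M := by
    intro x hx p hp hd hk
    have hd' : p ∣ Nat.card ↥((Cfsg.sigmaCore M ⊓ Subgroup.centralizer (H : Set G)) ⊔ X) :=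
      hd.trans (Subgroup.orderOf_dvd_natCard _ (hC ▸ hx))
    have hn : X ≤ Subgroup.normalizer
        ((Cfsg.sigmaCore M ⊓ Subgroup.centralizer (H : Set G) : Subgroup G) : Set G) := by
      intro y hy
      rw [← map_conj_eq_self_iff, Subgroup.map_inf _ _ _ (MulAut.conj y).injective,
        map_conj_eq_self_iff.2 (le_normalizer_sigmaCore M (hXC hy).1),
        map_conj_eq_self_iff.2 (Subgroup.le_normalizer (hXC hy).2)]
    rcases hp.dvd_mul.1 (hd'.trans (CfsgLib.Solvable.card_sup_dvd_of_le_normalizer hn)) with h | h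
    · exact sigma_inter_kappa hk
        ((sigmaCore_hallOf B.h1350 hM).2.1 p hp (h.trans (Subgroup.card_dvd_of_le inf_le_left)))
    · exact tau2_notMem_kappa (hXτ p hp h) hk
  by_cases hne : H = Cfsg.sigmaCore M
  · refine ⟨?_, fun h => absurd hne h, hκ⟩
    have hX : ∀ a ∈ Cfsg.sigmaCore M, ∀ b ∈ X, a * b = b * a := fun a ha b hb =>
      Subgroup.mem_centralizer_iff.1 (hXC hb).2 a (hne.symm ▸ ha)
    rw [hC]
    haveI : Group.IsNilpotent X := by
      obtain ⟨g, hg⟩ := hXc.exists_generator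
      have hcomm : ∀ a b : X, a * b = b * a := fun a b => by
        obtain ⟨i, rfl⟩ := hg a
        obtain ⟨j, rfl⟩ := hg b
        exact (Commute.zpow_zpow (Commute.refl g) i j).eq
      letI : CommGroup X := { (inferInstance : Group X) with mul_comm := hcomm }
      infer_instance
    refine isNilpotent_sup (isNilpotent_of_le (hne ▸ isNilpotent_fittingHallOf M) inf_le_left)
      inferInstance ?_ ?_
    · refine le_trans ?_ (Subgroup.centralizer_le_normalizer _)
      exact fun b hb => Subgroup.mem_centralizer_iff.2 fun a ha => hX a ha.1 b hb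
    · refine le_trans ?_ (Subgroup.centralizer_le_normalizer _)
      exact fun a ha => Subgroup.mem_centralizer_iff.2 fun b hb => (hX a ha.1 b hb).symm
  · obtain ⟨hU, -, -, -, -, -, -, Q, hQF, -, hMQ, -, -, -, ⟨D, hD⟩, hall⟩ :=
      fcore_structure hG B.h1445 B.h1446 B.h1350 B.h1351 B.h1352 B.h1354 B.h1366 B.h1369 B.h1372
        B.h1414 B.h1426 B.h1429 B.h1430 hM hKU hne
    have hX1 : X = ⊥ := by
      by_contra hX1
      obtain ⟨p, hp, hd⟩ := Nat.exists_prime_and_dvd (fun h => hX1 (Subgroup.card_eq_one.1 h))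
      have hpM := hd.trans (Subgroup.card_dvd_of_le (hXC.trans inf_le_left))
      rw [card_M B.h1350 hM hKU, hU, Subgroup.card_bot, one_mul] at hpM
      rcases hp.dvd_mul.1 hpM with h | h
      · exact tau2_notMem_kappa (hXτ p hp hd) (hKU.hall.2.1 p hp h)
      · exact (hXτ p hp hd).2.1 ((sigmaCore_hallOf B.h1350 hM).2.1 p hp h)
    have hle : M ⊓ Subgroup.centralizer (H : Set G) ≤
        Cfsg.sigmaCore M ⊓ Subgroup.centralizer (Q : Set G) := by
      rw [hC, hX1, sup_bot_eq]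
      exact inf_le_inf_left _ (Subgroup.centralizer_le (SetLike.coe_subset_coe.2 hQF))
    exact ⟨isNilpotent_of_le (isNilpotent_inf_centralizer ((sigmaCore_le M).trans hMQ) hD (hall D hD).1)
      hle, fun _ => hle.trans inf_le_left, hκ⟩

theorem le_normalizer_centralizer_fittingHallOf (M : Subgroup G) :
    M ≤ Subgroup.normalizer
      ((M ⊓ Subgroup.centralizer (Cfsg.fittingHallOf M : Set G) : Subgroup G) : Set G) := by
  intro m hm
  rw [← map_conj_eq_self_iff, Subgroup.map_inf _ _ _ (MulAut.conj m).injective,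
    map_conj_eq_self_iff.2 (Subgroup.le_normalizer hm),
    map_conj_eq_self_iff.2 (mem_normalizer_centralizer (le_normalizer_fittingHallOf M hm))]

/-- `F(M) = C_M(M_F) M_F`. -/
theorem fittingOf_eq (hG : Cfsg.IsMinSimpleOddOrder G) (B : Base G) (hM : IsCoatom M) :
    Cfsg.fittingOf M =
      (M ⊓ Subgroup.centralizer (Cfsg.fittingHallOf M : Set G)) ⊔ Cfsg.fittingHallOf M := by
  obtain ⟨K, U, hKU⟩ := exists_decomposition B.h1350 hM B.h1351 B.h1352
  exact le_antisymm (fittingOf_le_sup M) (sup_le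
    (le_fittingOf inf_le_left (le_normalizer_centralizer_fittingHallOf M)
      (centralizer_fittingHallOf hG B hM hKU).1)
    (fittingHallOf_le_fittingOf M))

/-- `M'' ≤ F(M)`. -/
theorem derived_two_le_fittingOf (hG : Cfsg.IsMinSimpleOddOrder G) (B : Base G) (hM : IsCoatom M) :
    ⁅⁅M, M⁆, ⁅M, M⁆⁆ ≤ Cfsg.fittingOf M := by
  obtain ⟨K, U, hKU⟩ := exists_decomposition B.h1350 hM B.h1351 B.h1352
  by_cases hne : Cfsg.fittingHallOf M = Cfsg.sigmaCore M
  · exact (derived_two_le_sigmaCore B hM hKU).trans (hne.ge.trans (fittingHallOf_le_fittingOf M))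
  obtain ⟨-, -, hder, -, -, -, -, Q, hQF, hQN, hMQ, -, -, -, ⟨D, hD⟩, hall⟩ :=
    fcore_structure hG B.h1445 B.h1446 B.h1350 B.h1351 B.h1352 B.h1354 B.h1366 B.h1369 B.h1372
      B.h1414 B.h1426 B.h1429 B.h1430 hM hKU hne
  have hNQ : Cfsg.sigmaCore M ≤ Subgroup.normalizer (Q : Set G) := (sigmaCore_le M).trans hMQ
  have hsup : Cfsg.sigmaCore M ≤ Q ⊔ D := by
    intro x hx
    obtain ⟨a, ha, d, hd, rfl⟩ := hD.2.2.2 x hx
    exact mul_mem (Subgroup.mem_sup_left ha) (Subgroup.mem_sup_right hd)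
  rw [← hder]
  refine (derived_le_sup (hD.2.1.trans hNQ) hsup).trans
    (sup_le (hQF.trans (fittingHallOf_le_fittingOf M)) ?_)
  have hT : M ≤ Subgroup.normalizer
      ((Cfsg.sigmaCore M ⊓ Subgroup.centralizer (Q : Set G) : Subgroup G) : Set G) := by
    intro m hm
    rw [← map_conj_eq_self_iff, Subgroup.map_inf _ _ _ (MulAut.conj m).injective,
      map_conj_eq_self_iff.2 (le_normalizer_sigmaCore M hm),
      map_conj_eq_self_iff.2 (mem_normalizer_centralizer (hMQ hm))]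
  exact (le_inf ((Subgroup.commutator_le_self D).trans hD.2.1) (hall D hD).2.2.2.2.2.2).trans
    (le_fittingOf (inf_le_left.trans (sigmaCore_le M)) hT
      (isNilpotent_inf_centralizer hNQ hD (hall D hD).1))

/-- `F(M) ≤ M'` when `κ(M)` is not empty. -/
theorem fittingOf_le_derived (hG : Cfsg.IsMinSimpleOddOrder G) (B : Base G) (hM : IsCoatom M)
    (hκ : (Cfsg.kappa M).Nonempty) : Cfsg.fittingOf M ≤ ⁅M, M⁆ := by
  obtain ⟨K, U, hKU⟩ := exists_decomposition B.h1350 hM B.h1351 B.h1352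
  have hK1 : K ≠ ⊥ := K_ne_bot_of_mem_kappa hKU hκ.some_mem
  rw [fittingOf_eq hG B hM, derived_eq B.h1350 B.h1352 B.h1353 B.h1426 hM hKU hK1]
  refine sup_le (fun x hx => ?_) ((fittingHallOf_le_sigmaCore B.h1350 hM hG).trans le_sup_right)
  exact le_U_sup_sigmaCore B.h1350 hM hKU (le_normalizer_UMs B.h1352 hM hKU)
    (Subgroup.zpowers_le.2 hx.1) (fun p hp hd =>
      (centralizer_fittingHallOf hG B hM hKU).2.2 x hx p hp (by rwa [Nat.card_zpowers] at hd))
    (Subgroup.mem_zpowers x)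

/-- The `σ(M)'`-part `Y` of `F(M)`. -/
theorem fitting_sigmaPrime (hG : Cfsg.IsMinSimpleOddOrder G) (B : Base G) (hM : IsCoatom M) :
    IsCyclic ↥(Cfsg.piCoreOf {q | q.Prime ∧ q ∉ Cfsg.sigma M} (Cfsg.fittingOf M)) ∧
      (∀ p : ℕ, p.Prime →
        p ∣ Nat.card ↥(Cfsg.piCoreOf {q | q.Prime ∧ q ∉ Cfsg.sigma M} (Cfsg.fittingOf M)) →
        p ∈ Cfsg.tau2 M) ∧
      Cfsg.fittingOf M = Cfsg.fittingOf (Cfsg.sigmaCore M) ⊔
        Cfsg.piCoreOf {q | q.Prime ∧ q ∉ Cfsg.sigma M} (Cfsg.fittingOf M) := by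
  obtain ⟨K, U, hKU⟩ := exists_decomposition B.h1350 hM B.h1351 B.h1352
  set π : Set ℕ := {q | q.Prime ∧ q ∉ Cfsg.sigma M}
  set F := Cfsg.fittingOf M with hF
  set Y := Cfsg.piCoreOf π F with hY
  have hFM : F ≤ M := fittingOf_le M
  have hYM : Y ≤ M := (piCoreOf_le π F).trans hFM
  have hMY : M ≤ Subgroup.normalizer (Y : Set G) :=
    (le_normalizer_fittingOf M).trans (normalizer_le_normalizer_piCoreOf π F)
  have hd : Cfsg.sigmaCore M ⊓ Y = ⊥ := inf_eq_bot_of_coprime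
    (coprime_sigmaCore B.h1350 hM fun p hp h => (piCoreOf_isPi π F p hp h).2)
  have hYC : Y ≤ M ⊓ Subgroup.centralizer (Cfsg.sigmaCore M : Set G) := by
    refine le_inf hYM fun y hy => Subgroup.mem_centralizer_iff.2 fun s hs => ?_
    have h1 : ⁅s, y⁆ ∈ Cfsg.sigmaCore M ⊓ Y := by
      constructor
      · have := (Cfsg.sigmaCore M).mul_mem hs
          ((Subgroup.mem_normalizer_iff.1 (le_normalizer_sigmaCore M (hYM hy)) _).1
            ((Cfsg.sigmaCore M).inv_mem hs))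
        simpa [commutatorElement_def, mul_assoc] using this
      · have := Y.mul_mem ((Subgroup.mem_normalizer_iff.1 (hMY (sigmaCore_le M hs)) _).1 hy)
          (Y.inv_mem hy)
        simpa [commutatorElement_def, mul_assoc] using this
    rw [hd, Subgroup.mem_bot, commutatorElement_eq_one_iff_mul_comm] at h1
    exact h1
  obtain ⟨hcyc, hτ⟩ := sigmaPrime_centralizer hG B hM hKU le_rfl
    (fun h => (B.h1354 M hM K hKU.cyclic hKU.hall).1 (by rw [h, bot_inf_eq]))
    (by rw [Subgroup.relIndex_self]; exact Nat.coprime_one_right _) hYC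
    (fun p hp h => (piCoreOf_isPi π F p hp h).2)
  refine ⟨hcyc, hτ, le_antisymm ?_ (sup_le ?_ (piCoreOf_le π F))⟩
  · have hnil := isNilpotent_fittingOf M
    haveI : Group.IsNilpotent F := hnil
    have hs : Group.IsSolvable F := inferInstance
    obtain ⟨T, hT⟩ := CfsgLib.PGroup.exists_isPiHallOf (Cfsg.sigma M) F hs
    obtain ⟨T', hT'⟩ := CfsgLib.PGroup.exists_isPiHallOf π F hs
    have hTn : F ≤ Subgroup.normalizer (T : Set G) :=
      le_normalizer_of_hall_of_nilpotent hnil hT.1 (coprime_of_pi hT.2.1 hT.2.2)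
    have hT'n : F ≤ Subgroup.normalizer (T' : Set G) :=
      le_normalizer_of_hall_of_nilpotent hnil hT'.1 (coprime_of_pi hT'.2.1 hT'.2.2)
    have hfull : F ≤ T ⊔ T' := by
      rw [← Subgroup.relIndex_eq_one]
      refine Nat.eq_one_iff_not_exists_prime_dvd.2 fun p hp h => ?_
      by_cases hps : p ∈ Cfsg.sigma M
      · exact hT.2.2 p hp hps (h.trans (Subgroup.relIndex_dvd_of_le_left F le_sup_left))
      · exact hT'.2.2 p hp ⟨hp, hps⟩ (h.trans (Subgroup.relIndex_dvd_of_le_left F le_sup_right))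
    refine hfull.trans (sup_le_sup ?_ (le_piCoreOf hT'.1 hT'n hT'.2.1))
    have hTM : M ≤ Subgroup.normalizer (T : Set G) :=
      le_normalizer_of_coprime_normal (le_normalizer_fittingOf M) hT.1 hTn
        (coprime_of_pi hT.2.1 hT.2.2)
    exact le_fittingOf (le_sigmaCore B.h1350 hM (hT.1.trans hFM) hT.2.1)
      ((sigmaCore_le M).trans hTM) (isNilpotent_of_le hnil hT.1)
  · exact le_fittingOf ((fittingOf_le _).trans (sigmaCore_le M))
      ((le_normalizer_sigmaCore M).trans (normalizer_le_normalizer_fittingOf _))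
      (isNilpotent_fittingOf _)

/-- A commutator subgroup centralises every cyclic subgroup it normalises. -/
theorem derived_le_centralizer_cyclic {N : Subgroup G} (hc : IsCyclic N)
    (hMN : M ≤ Subgroup.normalizer (N : Set G)) :
    ⁅M, M⁆ ≤ Subgroup.centralizer (N : Set G) := by
  have hcomm : ∀ φ ψ : MulAut N, φ * ψ = ψ * φ := by
    intro φ ψ
    obtain ⟨g, hg⟩ := hc.exists_generator
    obtain ⟨i, hi⟩ := hg (φ g)
    obtain ⟨j, hj⟩ := hg (ψ g)
    refine MulEquiv.ext fun x => ?_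
    obtain ⟨l, rfl⟩ := hg x
    show φ (ψ (g ^ l)) = ψ (φ (g ^ l))
    rw [map_zpow, map_zpow, map_zpow, map_zpow, ← hi, ← hj]
    simp only [map_zpow, ← hi, ← hj, ← zpow_mul, mul_comm, mul_left_comm]
  rw [Subgroup.commutator_le]
  intro a ha b hb
  let L : Subgroup G := Subgroup.normalizer (N : Set G)
  have h1 : N.normalizerMonoidHom ⁅(⟨a, hMN ha⟩ : L), ⟨b, hMN hb⟩⁆ = 1 := by
    rw [map_commutatorElement, commutatorElement_eq_one_iff_mul_comm]
    exact hcomm _ _
  rw [Subgroup.mem_centralizer_iff]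
  intro x hx
  have h2 : ⁅a, b⁆ * x * ⁅a, b⁆⁻¹ = x := by
    have h3 := congrArg (fun φ : MulAut N => ((φ ⟨x, hx⟩ : N) : G)) h1
    exact h3
  exact (mul_inv_eq_iff_eq_mul.1 h2).symm

/-- For `K ≠ 1`: `K* ≤ M_F`, and `M_F` is not cyclic. -/
theorem kappa_type_fittingHall (hG : Cfsg.IsMinSimpleOddOrder G) (B : Base G) (hM : IsCoatom M)
    (hKU : Cfsg.IsSigmaDecomposition M K U) (hK1 : K ≠ ⊥) :
    IsCyclic ↥(Cfsg.sigmaCore M ⊓ Subgroup.centralizer (K : Set G)) ∧
      Cfsg.sigmaCore M ⊓ Subgroup.centralizer (K : Set G) ≠ ⊥ ∧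
      Cfsg.sigmaCore M ⊓ Subgroup.centralizer (K : Set G) ≤ Cfsg.fittingHallOf M ∧
      ¬ IsCyclic (Cfsg.fittingHallOf M) := by
  obtain ⟨Ms, ⟨hMs, -, hKstH⟩, -⟩ := B.h1366 M hM K U hKU hK1
  have hne0 := (B.h1354 M hM K hKU.cyclic hKU.hall).1
  refine ⟨(B.h1351 Ms hMs).2 _ hKstH, hne0, ?_⟩
  by_cases hne : Cfsg.fittingHallOf M = Cfsg.sigmaCore M
  · refine ⟨hne ▸ inf_le_left, fun hc => hne0 (le_bot_iff.1 ?_)⟩
    refine (centralizer_K_le_derived_two hG B.h1350 B.h1352 B.h1353 B.h1426 hM hKU hK1).trans ?_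
    have hcc := derived_le_centralizer_cyclic (hne ▸ hc) (le_normalizer_sigmaCore M)
    have hUc := U_commutative hG B.h1350 B.h1430 hM hKU hK1
    rw [derived_eq B.h1350 B.h1352 B.h1353 B.h1426 hM hKU hK1] at hcc ⊢
    rw [le_bot_iff, Subgroup.commutator_eq_bot_iff_le_centralizer, Subgroup.le_centralizer_iff]
    refine sup_le ?_ (Subgroup.le_centralizer_iff.1 hcc)
    rw [Subgroup.le_centralizer_iff]
    refine sup_le (fun x hx => Subgroup.mem_centralizer_iff.2 fun y hy => comm_of_mem hUc hy hx) ?_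
    exact Subgroup.le_centralizer_iff.1 (le_sup_left.trans hcc)
  · obtain ⟨-, -, -, hp, hq, -, -, Q, hQF, -, -, hKsQ, -, -, ⟨D, hD⟩, hall⟩ :=
      fcore_structure hG B.h1445 B.h1446 B.h1350 B.h1351 B.h1352 B.h1354 B.h1366 B.h1369 B.h1372
        B.h1414 B.h1426 B.h1429 B.h1430 hM hKU hne
    refine ⟨hKsQ.trans hQF, fun hc => ?_⟩
    obtain ⟨-, -, -, hcard, hpow, -, -⟩ := hall D hD
    haveI := hc
    obtain ⟨⟨g, hgQ⟩, hg⟩ := (Subgroup.isCyclic_of_le hQF : IsCyclic Q).exists_generator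
    set q := Nat.card ↥(Cfsg.sigmaCore M ⊓ Subgroup.centralizer (K : Set G))
    set C := Q ⊓ Subgroup.centralizer (D : Set G)
    have hQz : Subgroup.zpowers g = Q := by
      refine le_antisymm (Subgroup.zpowers_le.2 hgQ) fun x hx => ?_
      obtain ⟨i, hi⟩ := hg ⟨x, hx⟩
      exact ⟨i, congrArg Subtype.val hi⟩
    have h1 : Nat.card Q ≤ q * Nat.card C := by
      have h2 : Subgroup.zpowers (g ^ q) ≤ C := Subgroup.zpowers_le.2 (hpow g hgQ g hgQ).1
      have h3 := Nat.le_of_dvd Nat.card_pos (Subgroup.card_dvd_of_le h2)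
      rw [Nat.card_zpowers, orderOf_pow] at h3
      calc Nat.card Q = orderOf g := by rw [← hQz, Nat.card_zpowers]
        _ = (orderOf g).gcd q * (orderOf g / (orderOf g).gcd q) :=
          (Nat.mul_div_cancel' (Nat.gcd_dvd_left _ _)).symm
        _ ≤ q * Nat.card C := Nat.mul_le_mul (Nat.gcd_le_right _ hq.pos) h3
    rw [hcard, mul_comm] at h1
    have h4 : q ^ Nat.card K ≤ q ^ 1 := by
      rw [pow_one]
      exact Nat.le_of_mul_le_mul_right h1 Nat.card_pos
    exact absurd ((Nat.pow_le_pow_iff_right hq.one_lt).1 h4) (not_le.2 hp.one_lt)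

/-- A nilpotent Hall subgroup of `G` lies in some `M_σ`. -/
theorem exists_sigmaCore_ge (hG : Cfsg.IsMinSimpleOddOrder G) (B : Base G)
    (hHn : Group.IsNilpotent H) (hHall : (Nat.card H).Coprime H.index) (hH1 : H ≠ ⊥) :
    ∃ M : Subgroup G, IsCoatom M ∧ H ≤ Cfsg.sigmaCore M := by
  obtain ⟨p, hp, hpH⟩ := Nat.exists_prime_and_dvd (fun h => hH1 (Subgroup.card_eq_one.1 h))
  haveI := Fact.mk hp
  set S := CfsgLib.Solvable.nilPart p H with hS
  have hSH : S ≤ H := CfsgLib.Solvable.nilPart_le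
  have hS1 : S ≠ ⊥ := CfsgLib.Solvable.nilPart_ne_bot hHn hpH
  have hST : S ≠ ⊤ := by
    intro h
    have hp' : IsPGroup p G := (CfsgLib.Solvable.isPGroup_nilPart (p := p) (A := H)).of_surjective
      S.subtype fun x => ⟨⟨x, (SetLike.ext_iff.1 h x).2 (Subgroup.mem_top x)⟩, rfl⟩
    haveI : Nontrivial G := (minSimple_isSimple hG).toNontrivial
    haveI := hp'.center_nontrivial
    exact (Subgroup.nontrivial_iff_ne_bot _).1 inferInstance (center_eq_bot_minSimple hG)
  obtain ⟨M, hM, hNM⟩ := exists_maximal_ge (normalizer_ne_top hG hS1 hST)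
  have hHN : H ≤ Subgroup.normalizer (S : Set G) :=
    Subgroup.le_normalizer.trans (CfsgLib.Solvable.normalizer_le_normalizer_nilPart p H)
  have hHM : H ≤ M := hHN.trans hNM
  have hsyl : ∀ r : ℕ, [Fact r.Prime] → r ∣ Nat.card H →
      ¬ r ∣ (CfsgLib.Solvable.nilPart r H).relIndex M := by
    intro r hr hrH hd
    have h1 : (CfsgLib.Solvable.nilPart r H).relIndex M ∣
        (CfsgLib.Solvable.nilPart r H).relIndex H * H.index := by
      rw [Subgroup.relIndex_mul_index CfsgLib.Solvable.nilPart_le]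
      exact Subgroup.relIndex_dvd_index_of_le (CfsgLib.Solvable.nilPart_le.trans hHM)
    rcases hr.out.dvd_mul.1 (hd.trans h1) with h | h
    · obtain ⟨P⟩ : Nonempty (Sylow r H) := inferInstance
      rw [CfsgLib.Solvable.nilPart, CfsgLib.Solvable.pCore_eq_sylow_of_nilpotent hHn P] at h
      exact relIndex_sylow_map P h
    · exact Nat.not_coprime_of_dvd_of_dvd hr.out.one_lt hrH h hHall
  have hSM : S ≤ M := hSH.trans hHM
  have hSp : IsPGroup p S := CfsgLib.Solvable.isPGroup_nilPart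
  have hpσ : p ∈ Cfsg.sigma M :=
    mem_sigma_iff.2 ⟨hp, hpH.trans (Subgroup.card_dvd_of_le hHM), S, hSM, hSp, hsyl p hpH, hNM⟩
  have hSs : S ≤ Cfsg.sigmaCore M := le_sigmaCore B.h1350 hM hSM fun r hr hd => by
    obtain ⟨j, hj⟩ := hSp.exists_card_eq
    exact (Nat.prime_dvd_prime_iff_eq hr hp).1 (hr.dvd_of_dvd_pow (hj ▸ hd)) ▸ hpσ
  obtain ⟨K, U, hKU⟩ := exists_decomposition B.h1350 hM B.h1351 B.h1352
  refine ⟨M, hM, le_sigmaCore B.h1350 hM hHM fun r hr hd => ?_⟩
  by_contra hrσ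
  haveI := Fact.mk hr
  set R := CfsgLib.Solvable.nilPart r H
  have hRM : R ≤ M := CfsgLib.Solvable.nilPart_le.trans hHM
  have hrp : r ≠ p := fun h => hrσ (h ▸ hpσ)
  have hRC : R ≤ M ⊓ Subgroup.centralizer (S : Set G) := le_inf hRM fun x hx =>
    Subgroup.mem_centralizer_iff.2 fun y hy =>
      (CfsgLib.Solvable.commute_nilPart hHn (Ne.symm hrp) hy hx)
  have hScop : (Nat.card S).Coprime (S.relIndex (Cfsg.sigmaCore M)) := by
    obtain ⟨j, hj⟩ := hSp.exists_card_eq
    rw [hj]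
    refine ((Nat.Prime.coprime_iff_not_dvd hp).2 fun h => hsyl p hpH ?_).pow_left j
    exact h.trans ⟨_, (Subgroup.relIndex_mul_relIndex S _ M hSs (sigmaCore_le M)).symm⟩
  have hRpi : ∀ s : ℕ, s.Prime → s ∣ Nat.card R → s = r := fun s hs h => by
    obtain ⟨j, hj⟩ := (CfsgLib.Solvable.isPGroup_nilPart (p := r) (A := H)).exists_card_eq
    exact (Nat.prime_dvd_prime_iff_eq hs hr).1 (hs.dvd_of_dvd_pow (hj ▸ h))
  obtain ⟨hRc, hτ⟩ := sigmaPrime_centralizer hG B hM hKU hSs hS1 hScop hRC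
    (fun s hs h => hRpi s hs h ▸ hrσ)
  have hrR : r ∣ Nat.card R := by
    obtain ⟨j, hj⟩ := (CfsgLib.Solvable.isPGroup_nilPart (p := r) (A := H)).exists_card_eq
    rcases Nat.eq_zero_or_pos j with rfl | h
    · rw [pow_zero, Subgroup.card_eq_one] at hj
      exact absurd hj (CfsgLib.Solvable.nilPart_ne_bot hHn hd)
    · rw [hj]; exact dvd_pow_self r h.ne'
  exact (hτ r hr hrR).2.2.2
    (pRankLE_one_of_cyclic hRM CfsgLib.Solvable.isPGroup_nilPart (hsyl r hd) hRc)

/-- Fusion in nilpotent Hall subgroups of `G`. -/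
theorem nilpotent_hall_fusion (hG : Cfsg.IsMinSimpleOddOrder G) (B : Base G) (h1374 : Hyp1374 G)
    (hHn : Group.IsNilpotent H) (hHall : (Nat.card H).Coprime H.index)
    {x : G} (hx : x ∈ H) {g : G} (hy : g * x * g⁻¹ ∈ H) :
    ∃ n ∈ Subgroup.normalizer (H : Set G), n * x * n⁻¹ = g * x * g⁻¹ := by
  by_cases hx1 : x = 1
  · exact ⟨1, one_mem _, by simp [hx1]⟩
  obtain ⟨M, hM, hle⟩ := exists_sigmaCore_ge hG B hHn hHall
    (fun h => hx1 (Subgroup.mem_bot.1 (h ▸ hx)))
  obtain ⟨n, hn, e⟩ := hall_fusion hG B h1374 hM hle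
    (hHall.coprime_dvd_right (Subgroup.relIndex_dvd_index_of_le hle)) hx hy
  exact ⟨n, hn.2, e⟩

end CfsgLib.OddLocal.S15
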