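import Cfsg.Agent.Lib.OddLocal.S15U0
import Cfsg.Agent.Lib.OddLocal.S15FcoreMain

/-!
# Hall subgroups of `M_σ`: centralisers and fusion
-/

set_option autoImplicit false
set_option linter.style.haveILetI false
set_option linter.unusedSectionVars false

open scoped Pointwise commutatorElement

namespace CfsgLib.OddLocal.S15

universe u

variable {G : Type u} [Group G] [Finite G] {M K U H : Subgroup G}

/-- The hypotheses of section 15 that the structure of `M_F` uses. -/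
structure Base (G : Type u) [Group G] [Finite G] : Prop where
  h1350 : Hyp1350 G
  h1351 : Hyp1351 G
  h1352 : Hyp1352 G
  h1353 : Hyp1353 G
  h1354 : Hyp1354 G
  h1366 : Hyp1366 G
  h1369 : Hyp1369 G
  h1372 : Hyp1372 G
  h1405 : Hyp1405 G
  h1414 : Hyp1414 G
  h1417 : Hyp1417 G
  h1420 : Hyp1420 G
  h1421 : Hyp1421 G
  h1426 : Hyp1426 G
  h1429 : Hyp1429 G
  h1430 : Hyp1430 G
  h1431 : Hyp1431 G
  h1432 : Hyp1432 G
  h1445 : Hyp1445.{u}
  h1446 : Hyp1446.{u}

theorem isPiHallOf_hall (hH : H ≤ Cfsg.sigmaCore M)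
    (hHall : (Nat.card H).Coprime (H.relIndex (Cfsg.sigmaCore M))) :
    Cfsg.IsPiHallOf {p | p ∣ Nat.card H} H (Cfsg.sigmaCore M) :=
  ⟨hH, fun _ _ h => h, fun _ hp h1 h2 => Nat.not_coprime_of_dvd_of_dvd hp.one_lt h1 h2 hHall⟩

/-- The conjugate of an element of prime order `p ∈ κ(M)` lies in `K`. -/
theorem exists_conj_mem_K (hG : Cfsg.IsMinSimpleOddOrder G) (hM : IsCoatom M)
    (hKU : Cfsg.IsSigmaDecomposition M K U) {x : G} (hx : x ∈ M)
    (hπ : ∀ p : ℕ, p.Prime → p ∣ orderOf x → p ∈ Cfsg.kappa M) :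
    ∃ m ∈ M, m * x * m⁻¹ ∈ K := by
  obtain ⟨m, hm, hle⟩ := exists_conj_le_piHall (maximal_solvable hG hM) hKU.hall
    (Subgroup.zpowers_le.2 hx) (fun p hp hd => hπ p hp (by rwa [Nat.card_zpowers] at hd))
  exact ⟨m, hm, hle (conj_mem_map_conj (Subgroup.mem_zpowers x))⟩

theorem kappa_eq_empty_of_K_eq_bot (hKU : Cfsg.IsSigmaDecomposition M K U) (hK : K = ⊥) :
    Cfsg.kappa M = ∅ := by
  refine Set.eq_empty_of_forall_notMem fun p hp => hKU.hall.2.2 p hp.1 hp ?_
  rw [hK, Subgroup.relIndex_bot_left]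
  exact hp.2.1

theorem K_ne_bot_of_mem_kappa (hKU : Cfsg.IsSigmaDecomposition M K U) {p : ℕ}
    (hp : p ∈ Cfsg.kappa M) : K ≠ ⊥ := fun h => by
  have := kappa_eq_empty_of_K_eq_bot hKU h
  rw [this] at hp
  exact hp

/-- The `σ'`-part of the centraliser of a Hall subgroup of `M_σ`. -/
theorem sigmaPrime_centralizer (hG : Cfsg.IsMinSimpleOddOrder G) (B : Base G) (hM : IsCoatom M)
    (hKU : Cfsg.IsSigmaDecomposition M K U) (hH : H ≤ Cfsg.sigmaCore M) (hH1 : H ≠ ⊥)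
    (hHall : (Nat.card H).Coprime (H.relIndex (Cfsg.sigmaCore M))) {Y : Subgroup G}
    (hY : Y ≤ M ⊓ Subgroup.centralizer (H : Set G))
    (hYσ : ∀ p : ℕ, p.Prime → p ∣ Nat.card Y → p ∉ Cfsg.sigma M) :
    IsCyclic Y ∧ ∀ p : ℕ, p.Prime → p ∣ Nat.card Y → p ∈ Cfsg.tau2 M := by
  have h1350 := B.h1350
  obtain ⟨h₀, hh₀, hh₀1⟩ := (Subgroup.bot_or_exists_ne_one H).resolve_left hH1
  have hnκ : ∀ p : ℕ, p.Prime → p ∣ Nat.card Y → p ∉ Cfsg.kappa M := by
    intro p hp hd hκ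
    haveI := Fact.mk hp
    obtain ⟨y, hy⟩ := exists_prime_orderOf_dvd_card' (G := Y) p hd
    rw [← Subgroup.orderOf_coe] at hy
    have hy1 : (y : G) ≠ 1 := fun e => hp.ne_one (by rw [← hy, e, orderOf_one])
    have hK1 := K_ne_bot_of_mem_kappa hKU hκ
    obtain ⟨m, hm, hmK⟩ := exists_conj_mem_K hG hM hKU (hY y.2).1 fun r hr hd' => by
      rw [hy, Nat.prime_dvd_prime_iff_eq hr hp] at hd'
      exact hd' ▸ hκ
    set H' := H.map (MulAut.conj m).toMonoidHom with hH'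
    have hNm : (Cfsg.sigmaCore M).map (MulAut.conj m).toMonoidHom = Cfsg.sigmaCore M :=
      map_conj_eq_self_iff.2 (le_normalizer_sigmaCore M hm)
    have hH'K : H' ≤ Cfsg.sigmaCore M ⊓ Subgroup.centralizer (K : Set G) := by
      rintro _ ⟨h, hh, rfl⟩
      refine mem_kstar_of_commute B.h1430 hM hKU hK1 hmK (fun e => hy1 ?_)
        (hNm ▸ conj_mem_map_conj (hH hh)) ?_
      · simpa using e
      · have := Subgroup.mem_centralizer_iff.1 (hY y.2).2 h hh
        show m * h * m⁻¹ * (m * y * m⁻¹) = m * y * m⁻¹ * (m * h * m⁻¹)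
        calc m * h * m⁻¹ * (m * y * m⁻¹) = m * (h * y) * m⁻¹ := by group
          _ = m * (y * h) * m⁻¹ := by rw [this]
          _ = m * y * m⁻¹ * (m * h * m⁻¹) := by group
    have hH'c : Nat.card H' = Nat.card H := card_map_conj m H
    obtain ⟨r, hr, hrH⟩ := Nat.exists_prime_and_dvd
      (fun e => hH1 (Subgroup.card_eq_one.1 e))
    haveI := Fact.mk hr
    obtain ⟨S⟩ : Nonempty (Sylow r H') := inferInstance
    have hSH : (S : Subgroup H').map H'.subtype ≤ H' := Subgroup.map_subtype_le _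
    have hH'N : H' ≤ Cfsg.sigmaCore M := hH'K.trans inf_le_left
    have hi : ¬ r ∣ ((S : Subgroup H').map H'.subtype).relIndex (Cfsg.sigmaCore M) := by
      rw [← Subgroup.relIndex_mul_relIndex _ H' _ hSH hH'N, hr.dvd_mul]
      rintro (h | h)
      · exact relIndex_sylow_map S h
      · rw [← hNm, relIndex_map_conj] at h
        exact Nat.not_coprime_of_dvd_of_dvd hr.one_lt hrH h hHall
    obtain ⟨T, hT⟩ := exists_sylow_map_eq_of_not_dvd (hSH.trans hH'N) (S.2.map _) hi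
    refine ((B.h1431 M hM K hKU.hall hK1).2.2.1 r hr ?_ T).2.2 (hT.le.trans (hSH.trans hH'K))
    exact (hH'c ▸ hrH).trans (Subgroup.card_dvd_of_le hH'K)
  by_cases hY1 : Y = ⊥
  · subst hY1
    exact ⟨inferInstance, fun p hp hd => absurd hd (by rw [Subgroup.card_bot]; exact hp.not_dvd_one)⟩
  obtain ⟨m, hm, hle⟩ := exists_conj_le_piHall (maximal_solvable hG hM)
    (isPiHallOf_U h1350 hM hKU) (hY.trans inf_le_left)
    (fun p hp hd => ⟨hp, hnκ p hp hd, hYσ p hp hd⟩)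
  set Y' := Y.map (MulAut.conj m).toMonoidHom with hY'
  have hne : Cfsg.sigmaCore M ⊓ Subgroup.centralizer (Y' : Set G) ≠ ⊥ := by
    intro h
    have h1 : m * h₀ * m⁻¹ ∈ Cfsg.sigmaCore M ⊓ Subgroup.centralizer (Y' : Set G) := by
      refine ⟨(Subgroup.mem_normalizer_iff.1 (le_normalizer_sigmaCore M hm) _).1 (hH hh₀),
        Subgroup.mem_centralizer_iff.2 ?_⟩
      rintro _ ⟨y, hy, rfl⟩
      have := Subgroup.mem_centralizer_iff.1 (hY hy).2 h₀ hh₀
      show m * y * m⁻¹ * (m * h₀ * m⁻¹) = m * h₀ * m⁻¹ * (m * y * m⁻¹)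
      calc m * y * m⁻¹ * (m * h₀ * m⁻¹) = m * (y * h₀) * m⁻¹ := by group
        _ = m * (h₀ * y) * m⁻¹ := by rw [this]
        _ = m * h₀ * m⁻¹ * (m * y * m⁻¹) := by group
    rw [h, Subgroup.mem_bot] at h1
    exact hh₀1 (by simpa using h1)
  have hY'1 : Y' ≠ ⊥ := by
    rwa [hY', Ne, Subgroup.map_eq_bot_iff_of_injective _ (MulAut.conj m).injective]
  obtain ⟨hcyc, hτ, -, -⟩ := U_subgroup_nonregular hG h1350 B.h1417 B.h1421 B.h1430 B.h1432 hM hKU
    hle hY'1 hne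
  refine ⟨?_, fun p hp hd => hτ p hp (by rwa [hY', card_map_conj])⟩
  exact isCyclic_of_surjective _
    (Subgroup.equivMapOfInjective Y (MulAut.conj m).toMonoidHom (MulAut.conj m).injective).symm.surjective

/-- The centraliser of a Hall subgroup of `M_σ`. -/
theorem centralizer_hall (hG : Cfsg.IsMinSimpleOddOrder G) (B : Base G) (hM : IsCoatom M)
    (hH : H ≤ Cfsg.sigmaCore M) (hH1 : H ≠ ⊥)
    (hHall : (Nat.card H).Coprime (H.relIndex (Cfsg.sigmaCore M))) :
    ∃ X : Subgroup G, IsCyclic X ∧ (∀ p : ℕ, p.Prime → p ∣ Nat.card X → p ∈ Cfsg.tau2 M) ∧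
      M ⊓ Subgroup.centralizer (H : Set G) =
        (Cfsg.sigmaCore M ⊓ Subgroup.centralizer (H : Set G)) ⊔ X := by
  obtain ⟨K, U, hKU⟩ := exists_decomposition B.h1350 hM B.h1351 B.h1352
  set C := M ⊓ Subgroup.centralizer (H : Set G) with hC
  set π : Set ℕ := {p | p.Prime ∧ p ∉ Cfsg.sigma M}
  obtain ⟨Y, hY⟩ := CfsgLib.PGroup.exists_isPiHallOf π C
    (minSimple_solvable hG fun h => hM.1 (top_le_iff.1 (h ▸ (inf_le_left : C ≤ M))))
  obtain ⟨hcyc, hτ⟩ := sigmaPrime_centralizer hG B hM hKU hH hH1 hHall hY.1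
    (fun p hp hd => (hY.2.1 p hp hd).2)
  set N₀ := Cfsg.sigmaCore M ⊓ Subgroup.centralizer (H : Set G)
  have hN₀C : N₀ ≤ C := inf_le_inf_right _ (sigmaCore_le M)
  refine ⟨Y, hcyc, hτ, le_antisymm ?_ (sup_le hN₀C hY.1)⟩
  rw [← Subgroup.relIndex_eq_one]
  refine Nat.eq_one_iff_not_exists_prime_dvd.2 fun p hp hd => ?_
  by_cases hpσ : p ∈ Cfsg.sigma M
  · refine (sigmaCore_hallOf B.h1350 hM).2.2 p hp hpσ ?_
    refine (hd.trans (Subgroup.relIndex_dvd_of_le_left C le_sup_left)).trans ?_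
    have e : N₀.relIndex C = (Cfsg.sigmaCore M).relIndex C := by
      rw [← Subgroup.inf_relIndex_right (Cfsg.sigmaCore M) C]
      congr 1
      rw [hC, ← inf_assoc, inf_eq_left.2 (sigmaCore_le M)]
    rw [e]
    exact relIndex_dvd_of_normalized (le_normalizer_sigmaCore M) inf_le_left
  · exact hY.2.2 p hp ⟨hp, hpσ⟩ (hd.trans (Subgroup.relIndex_dvd_of_le_left C le_sup_right))

/-- A normal subgroup `N` of `M` meeting the Hall subgroup `H` trivially with `NH` normal in `M`. -/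
theorem exists_normal_sup (hG : Cfsg.IsMinSimpleOddOrder G) (B : Base G) (hM : IsCoatom M)
    (hH : H ≤ Cfsg.sigmaCore M)
    (hHall : (Nat.card H).Coprime (H.relIndex (Cfsg.sigmaCore M))) :
    ∃ N : Subgroup G, N ≤ Cfsg.sigmaCore M ∧ M ≤ Subgroup.normalizer (N : Set G) ∧
      (Nat.card N).Coprime (Nat.card H) ∧
      M ≤ Subgroup.normalizer ((N ⊔ H : Subgroup G) : Set G) := by
  have hbot : ∀ (_ : Cfsg.sigmaCore M ≤ Subgroup.normalizer (H : Set G)),
      ∃ N : Subgroup G, N ≤ Cfsg.sigmaCore M ∧ M ≤ Subgroup.normalizer (N : Set G) ∧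
        (Nat.card N).Coprime (Nat.card H) ∧
        M ≤ Subgroup.normalizer ((N ⊔ H : Subgroup G) : Set G) := fun h =>
    ⟨⊥, bot_le, by rw [Subgroup.normalizer_eq_top]; exact le_top,
      by rw [Subgroup.card_bot]; exact Nat.coprime_one_left _,
      by rw [bot_sup_eq]; exact le_normalizer_of_coprime_normal (le_normalizer_sigmaCore M) hH h hHall⟩
  by_cases hne : Cfsg.fittingHallOf M = Cfsg.sigmaCore M
  · exact hbot (le_normalizer_of_hall_of_nilpotent (hne ▸ isNilpotent_fittingHallOf M) hH hHall)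
  obtain ⟨K, U, hKU⟩ := exists_decomposition B.h1350 hM B.h1351 B.h1352
  obtain ⟨-, -, -, -, hq, -, -, Q, -, hQN, hMQ, -, hQp, hQi, ⟨D, hD⟩, hall⟩ := fcore_structure hG B.h1445 B.h1446 B.h1350 B.h1351 B.h1352 B.h1354 B.h1366 B.h1369
    B.h1372 B.h1414 B.h1426 B.h1429 B.h1430 hM hKU hne
  set q := Nat.card ↥(Cfsg.sigmaCore M ⊓ Subgroup.centralizer (K : Set G))
  haveI := Fact.mk hq
  have hNQ : Cfsg.sigmaCore M ≤ Subgroup.normalizer (Q : Set G) := (sigmaCore_le M).trans hMQ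
  have hsol : Group.IsSolvable (Cfsg.sigmaCore M) :=
    minSimple_solvable hG (fun h => hM.1 (top_le_iff.1 (h ▸ sigmaCore_le M)))
  have hDi : (Nat.card D).Coprime (D.relIndex (Cfsg.sigmaCore M)) := by
    rw [(relIndex_of_isComplIn hD).1]
    obtain ⟨j, hj⟩ := hQp.exists_card_eq
    rw [hj]
    exact ((Nat.Prime.coprime_iff_not_dvd hq).2 ((relIndex_of_isComplIn hD).2 ▸ hQi)).symm.pow_right j
  by_cases hqH : q ∣ Nat.card H
  · have hQH : Q ≤ H := le_of_normal_pGroup hQp hQN hH hNQ fun h =>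
      Nat.not_coprime_of_dvd_of_dvd hq.one_lt hqH h hHall
    refine hbot fun x hx => ?_
    obtain ⟨a, ha, d, hd, rfl⟩ := hD.2.2.2 x hx
    refine mul_mem (Subgroup.le_normalizer (hQH ha)) ?_
    set T := H ⊓ D
    have hTi : T.relIndex D ∣ H.relIndex (Cfsg.sigmaCore M) := by
      rw [Subgroup.inf_relIndex_right]
      have hHD : (Q ⊔ D) ≤ Cfsg.sigmaCore M := sup_le hQN hD.2.1
      set J := H ⊔ D
      have h1 : H.relIndex D = (H ⊓ D).relIndex D := (Subgroup.inf_relIndex_right H D).symm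
      rw [h1]
      refine Dvd.dvd.trans ?_ (dvd_refl _)
      -- `H D = M_σ`
      have hcard : Nat.card H = Nat.card Q * Nat.card ↥(H ⊓ D) := by
        refine card_of_isComplIn ⟨hQH, inf_le_left, ?_, fun h hh => ?_⟩
        · rw [← le_bot_iff, ← hD.2.2.1]
          exact inf_le_inf_left _ inf_le_right
        · obtain ⟨a, ha, b, hb, rfl⟩ := hD.2.2.2 h (hH hh)
          refine ⟨a, ha, b, ⟨?_, hb⟩, rfl⟩
          simpa using H.mul_mem (H.inv_mem (hQH ha)) hh
      have e1 := card_of_isComplIn hD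
      have e2 : Nat.card H * H.relIndex (Cfsg.sigmaCore M) = Nat.card (Cfsg.sigmaCore M) := by
        rw [← Subgroup.relIndex_bot_left, ← Subgroup.relIndex_bot_left,
          Subgroup.relIndex_mul_relIndex ⊥ H _ bot_le hH]
      have e3 : Nat.card ↥(H ⊓ D) * (H ⊓ D).relIndex D = Nat.card D := by
        rw [← Subgroup.relIndex_bot_left, ← Subgroup.relIndex_bot_left,
          Subgroup.relIndex_mul_relIndex ⊥ _ D bot_le inf_le_right]
      refine dvd_of_eq (Nat.eq_of_mul_eq_mul_left (Nat.card_pos (α := H)) ?_)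
      rw [e2, e1, ← e3, hcard]
      ring
    have hTn : D ≤ Subgroup.normalizer (T : Set G) :=
      le_normalizer_of_hall_of_nilpotent (hall D hD).1 inf_le_right
        ((hHall.coprime_dvd_left (Subgroup.card_dvd_of_le inf_le_left)).coprime_dvd_right hTi)
    have hHeq : Q ⊔ T = H := by
      refine le_antisymm (sup_le hQH inf_le_left) fun h hh => ?_
      obtain ⟨a, ha, b, hb, rfl⟩ := hD.2.2.2 h (hH hh)
      refine mul_mem (Subgroup.mem_sup_left ha) (Subgroup.mem_sup_right ⟨?_, hb⟩)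
      simpa using H.mul_mem (H.inv_mem (hQH ha)) hh
    rw [← map_conj_eq_self_iff, ← hHeq, Subgroup.map_sup,
      map_conj_eq_self_iff.2 (hNQ (hD.2.1 hd)), map_conj_eq_self_iff.2 (hTn hd)]
  · -- `H` lies in a complement
    obtain ⟨k, hk, hle⟩ := exists_conj_le_piHall (π := {p | p.Prime ∧ p ≠ q}) hsol
      ⟨hD.2.1, fun p hp hd => ⟨hp, fun e => hQi (e ▸ (relIndex_of_isComplIn hD).2 ▸ hd)⟩,
        fun p hp hpq hd => by
          rw [(relIndex_of_isComplIn hD).1] at hd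
          obtain ⟨j, hj⟩ := hQp.exists_card_eq
          exact hpq.2 ((Nat.prime_dvd_prime_iff_eq hp hq).1 (hp.dvd_of_dvd_pow (hj ▸ hd)))⟩
      hH (fun p hp hd => ⟨hp, fun e => hqH (e ▸ hd)⟩)
    have hQk : Q.map (MulAut.conj k).toMonoidHom = Q := map_conj_eq_self_iff.2 (hNQ hk)
    have hNk : (Cfsg.sigmaCore M).map (MulAut.conj k).toMonoidHom = Cfsg.sigmaCore M :=
      map_conj_eq_self_iff.2 (Subgroup.le_normalizer hk)
    set H' := H.map (MulAut.conj k).toMonoidHom with hH'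
    have hH'n : D ≤ Subgroup.normalizer (H' : Set G) := by
      refine le_normalizer_of_hall_of_nilpotent (hall D hD).1 hle ?_
      refine (hH'.symm ▸ (card_map_conj k H).symm ▸ hHall).coprime_dvd_right ?_
      rw [← relIndex_map_conj k H, hNk]
      exact ⟨D.relIndex (Cfsg.sigmaCore M), (Subgroup.relIndex_mul_relIndex _ D _ hle hD.2.1).symm⟩
    have hQH' : Cfsg.sigmaCore M ≤ Subgroup.normalizer ((Q ⊔ H' : Subgroup G) : Set G) := by
      intro x hx
      obtain ⟨a, ha, d, hd, rfl⟩ := hD.2.2.2 x hx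
      refine mul_mem (Subgroup.le_normalizer (Subgroup.mem_sup_left ha)) ?_
      rw [← map_conj_eq_self_iff, Subgroup.map_sup, map_conj_eq_self_iff.2 (hNQ (hD.2.1 hd)),
        map_conj_eq_self_iff.2 (hH'n hd)]
    have hQH : Cfsg.sigmaCore M ≤ Subgroup.normalizer ((Q ⊔ H : Subgroup G) : Set G) := by
      have e : (Q ⊔ H).map (MulAut.conj k).toMonoidHom = Q ⊔ H' := by rw [Subgroup.map_sup, hQk]
      have h1 := map_conj_eq_self_iff.2 (hQH' ((Cfsg.sigmaCore M).inv_mem hk))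
      rw [← e, map_conj_map_conj, inv_mul_cancel, map_conj_one, e] at h1
      rw [h1]; exact hQH'
    refine ⟨Q, hQN, hMQ, ?_, le_normalizer_of_coprime_normal (le_normalizer_sigmaCore M)
      (sup_le hQN hH) hQH ?_⟩
    · obtain ⟨j, hj⟩ := hQp.exists_card_eq
      rw [hj]
      exact ((Nat.Prime.coprime_iff_not_dvd hq).2 hqH).pow_left j
    · refine (Nat.Coprime.coprime_dvd_left (CfsgLib.Solvable.card_sup_dvd_of_le_normalizer
        (hH.trans hNQ)) (Nat.Coprime.mul_left ?_ ?_))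
      · obtain ⟨j, hj⟩ := hQp.exists_card_eq
        rw [hj]
        exact ((Nat.Prime.coprime_iff_not_dvd hq).2 fun h =>
          hQi (h.trans (Subgroup.relIndex_dvd_of_le_left _ le_sup_left))).pow_left j
      · exact hHall.coprime_dvd_right (Subgroup.relIndex_dvd_of_le_left _ le_sup_right)

/-- Fusion in a Hall subgroup of `M_σ` is controlled by `N_M(H)`. -/
theorem hall_fusion (hG : Cfsg.IsMinSimpleOddOrder G) (B : Base G) (h1374 : Hyp1374 G)
    (hM : IsCoatom M) (hH : H ≤ Cfsg.sigmaCore M)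
    (hHall : (Nat.card H).Coprime (H.relIndex (Cfsg.sigmaCore M)))
    {x : G} (hx : x ∈ H) {g : G} (hy : g * x * g⁻¹ ∈ H) :
    ∃ n ∈ M ⊓ Subgroup.normalizer (H : Set G), n * x * n⁻¹ = g * x * g⁻¹ := by
  by_cases hx1 : x = 1
  · exact ⟨1, one_mem _, by simp [hx1]⟩
  obtain ⟨-, R, -, hR, hconj⟩ := h1374 M hM x (hH hx) hx1
  have hxg : x ∈ M.map (MulAut.conj g⁻¹).toMonoidHom := by
    rw [mem_map_conj, inv_inv]
    exact sigmaCore_le M (hH hy)
  obtain ⟨r, ⟨hr, hre⟩, -⟩ := hconj g⁻¹ hxg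
  set m := g * r with hm
  have hmM : m ∈ M := by
    refine mem_of_map_conj_eq hG hM ?_
    rw [hm, ← map_conj_map_conj, hre, map_conj_map_conj, mul_inv_cancel, map_conj_one]
  have hmx : m * x * m⁻¹ = g * x * g⁻¹ := by
    have hrc := Subgroup.mem_centralizer_singleton_iff.1 (hR.2.1 hr)
    rw [hm]
    calc g * r * x * (g * r)⁻¹ = g * (r * x) * r⁻¹ * g⁻¹ := by group
      _ = g * (x * r) * r⁻¹ * g⁻¹ := by rw [hrc]
      _ = g * x * g⁻¹ := by group
  obtain ⟨N, hNN, hMN, hcop, hMNH⟩ := exists_normal_sup hG B hM hH hHall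
  have hHM : H ≤ M := hH.trans (sigmaCore_le M)
  have hd : N ⊓ H = ⊥ := inf_eq_bot_of_coprime hcop
  obtain ⟨n, hn, hle⟩ := CfsgLib.Solvable.exists_conj_le N H (H.map (MulAut.conj m).toMonoidHom)
    (hHM.trans hMN) hd (by
      calc _ ≤ (N ⊔ H).map (MulAut.conj m).toMonoidHom := Subgroup.map_mono le_sup_right
        _ = N ⊔ H := map_conj_eq_self_iff.2 (hMNH hmM))
    (by rwa [card_map_conj])
    (Or.inl (minSimple_solvable hG fun h => hM.1 (top_le_iff.1 (h ▸ hNN.trans (sigmaCore_le M)))))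
  rw [← map_conj_eq_smul, map_conj_map_conj] at hle
  have hnm : n * m ∈ Subgroup.normalizer (H : Set G) := map_conj_eq_self_iff.1
    (Subgroup.eq_of_le_of_card_ge hle (card_map_conj _ H).ge)
  refine ⟨n * m, ⟨M.mul_mem (sigmaCore_le M (hNN hn)) hmM, hnm⟩, ?_⟩
  have hy' : n * m * x * (n * m)⁻¹ ∈ H := (Subgroup.mem_normalizer_iff.1 hnm x).1 hx
  rw [← hmx]
  set y := m * x * m⁻¹ with hydef
  have hyH : y ∈ H := hmx ▸ hy
  have e : n * m * x * (n * m)⁻¹ = n * y * n⁻¹ := by rw [hydef]; group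
  have h1 : n * y * n⁻¹ * y⁻¹ ∈ N ⊓ H := by
    refine ⟨?_, H.mul_mem (e ▸ hy') (H.inv_mem hyH)⟩
    have := N.mul_mem hn ((Subgroup.mem_normalizer_iff.1 (hMN (hHM hyH)) _).1 (N.inv_mem hn))
    simpa [mul_assoc] using this
  rw [hd, Subgroup.mem_bot] at h1
  rw [e]
  exact mul_inv_eq_one.1 h1

end CfsgLib.OddLocal.S15
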