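import Cfsg.Agent.Lib.OddLocal.S15Decomp
import Cfsg.Agent.Lib.OddLocal.AbelianPRank
import Cfsg.Agent.Lib.Solvable.FrobeniusComplement
import Cfsg.Agent.S1459


/-!
# Structure of `U` and `M'` in the standard factorisation `M = K U M_σ`

The derived subgroup when `K ≠ 1`, and the action of `U` on `M_σ`.
-/

set_option autoImplicit false
set_option linter.style.haveILetI false
set_option linter.unusedSectionVars false

open scoped Pointwise commutatorElement

namespace CfsgLib.OddLocal.S15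

universe u

variable {G : Type u} [Group G] [Finite G] {M K U : Subgroup G}

theorem centralizer_singleton_le_of_mem {a z : G} (h : a ∈ Subgroup.zpowers z) :
    Subgroup.centralizer ({z} : Set G) ≤ Subgroup.centralizer ({a} : Set G) := by
  intro x hx
  rw [Subgroup.mem_centralizer_singleton_iff] at hx ⊢
  obtain ⟨i, rfl⟩ := h
  exact (Commute.zpow_right (hx : Commute x z) i).eq

theorem centralizer_zpowers (z : G) :
    Subgroup.centralizer (Subgroup.zpowers z : Set G) = Subgroup.centralizer ({z} : Set G) := by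
  refine le_antisymm (Subgroup.centralizer_le (by simp)) fun x hx => ?_
  rw [Subgroup.mem_centralizer_iff]
  intro y hy
  exact (Subgroup.mem_centralizer_singleton_iff.1 (centralizer_singleton_le_of_mem hy hx)).symm

theorem eq_zpowers_of_mem_prime {p : ℕ} [Fact p.Prime] {X : Subgroup G} (h : Nat.card X = p) {x : G}
    (hx : x ∈ X) (hx1 : x ≠ 1) : Subgroup.zpowers x = X := by
  refine Subgroup.eq_of_le_of_card_ge (Subgroup.zpowers_le.2 hx) ?_
  rw [Nat.card_zpowers, h]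
  have h1 := Subgroup.orderOf_dvd_natCard X hx
  rw [h] at h1
  rcases (Nat.dvd_prime (Fact.out : p.Prime)).1 h1 with h2 | h2
  · exact absurd (orderOf_eq_one_iff.1 h2) hx1
  · exact h2.ge

theorem comm_of_mem {A : Subgroup G} (h : IsMulCommutative A) {a b : G} (ha : a ∈ A) (hb : b ∈ A) :
    a * b = b * a :=
  congrArg Subtype.val (h.is_comm.comm (⟨a, ha⟩ : A) ⟨b, hb⟩)

theorem isMulCommutative_of_le {A B : Subgroup G} (h : IsMulCommutative A) (hBA : B ≤ A) :
    IsMulCommutative B :=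
  ⟨⟨fun a b => Subtype.ext (comm_of_mem h (hBA a.2) (hBA b.2))⟩⟩

/-- Commutativity passes to an image. -/
theorem isMulCommutative_map {A : Subgroup G} (h : IsMulCommutative A) {H : Type*} [Group H]
    (f : G →* H) : IsMulCommutative (A.map f) := by
  refine ⟨⟨?_⟩⟩
  rintro ⟨_, a, ha, rfl⟩ ⟨_, b, hb, rfl⟩
  exact Subtype.ext (show f a * f b = f b * f a by
    rw [← map_mul, ← map_mul, comm_of_mem h ha hb])

theorem sigmaCore_le_derived (h1350 : Hyp1350 G) (h1426 : Hyp1426 G) (hM : IsCoatom M)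
    (hKU : Cfsg.IsSigmaDecomposition M K U) : Cfsg.sigmaCore M ≤ ⁅M, M⁆ := by
  rw [← (h1426 M hM (U ⊔ K) (isComplIn_E h1350 hM hKU)).2.1]
  exact Subgroup.commutator_mono (sigmaCore_le M) (isComplIn_E h1350 hM hKU).1

theorem U_inf_centralizer_K (h1353 : Hyp1353 G) (hM : IsCoatom M)
    (hKU : Cfsg.IsSigmaDecomposition M K U) (hK1 : K ≠ ⊥) :
    U ⊓ Subgroup.centralizer (K : Set G) = ⊥ := by
  obtain ⟨k, hk, hk1⟩ := (K.bot_or_exists_ne_one).resolve_left hK1
  rw [eq_bot_iff, ← h1353 M hM K U hKU k hk hk1]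
  exact inf_le_inf_left _ (Subgroup.centralizer_le (by simpa using hk))

theorem isSolvable_of_cyclic {K : Subgroup G} (h : IsCyclic K) : Group.IsSolvable K :=
  Group.isSolvable_of_comm fun a b => by
    obtain ⟨g, hg⟩ := h.exists_generator
    obtain ⟨i, rfl⟩ := hg a
    obtain ⟨j, rfl⟩ := hg b
    exact (Commute.zpow_zpow (Commute.refl g) i j).eq

theorem commutator_U_K (h1350 : Hyp1350 G) (h1353 : Hyp1353 G) (hM : IsCoatom M)
    (hKU : Cfsg.IsSigmaDecomposition M K U) (hK1 : K ≠ ⊥) : ⁅U, K⁆ = U := by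
  have hcop : (Nat.card K).Coprime (Nat.card U) :=
    Nat.coprime_of_dvd fun p hp h1 h2 =>
      (U_primes h1350 hM hKU hp h2).2 (hKU.hall.2.1 p hp h1)
  have := CfsgLib.Solvable.commutator_sup_centralizer hKU.normal hcop
    (Or.inl (isSolvable_of_cyclic hKU.cyclic))
  rwa [U_inf_centralizer_K h1353 hM hKU hK1, sup_bot_eq] at this

theorem le_normalizer_UMs (h1352 : Hyp1352 G) (hM : IsCoatom M)
    (hKU : Cfsg.IsSigmaDecomposition M K U) :
    M ≤ Subgroup.normalizer ((U ⊔ Cfsg.sigmaCore M : Subgroup G) : Set G) :=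
  (h1352 M hM K hKU.cyclic hKU.hall).2 U hKU

theorem derived_le_UMs (h1350 : Hyp1350 G) (h1352 : Hyp1352 G) (hM : IsCoatom M)
    (hKU : Cfsg.IsSigmaDecomposition M K U) : ⁅M, M⁆ ≤ U ⊔ Cfsg.sigmaCore M := by
  have hn : M ≤ Subgroup.normalizer ((U ⊔ Cfsg.sigmaCore M : Subgroup G) : Set G) :=
    le_normalizer_UMs h1352 hM hKU
  set N := U ⊔ Cfsg.sigmaCore M with hN
  haveI : (N.subgroupOf M).Normal := Subgroup.normal_subgroupOf_of_le_normalizer hn
  set π := QuotientGroup.mk' (N.subgroupOf M)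
  obtain ⟨g, hg⟩ := hKU.cyclic.exists_generator
  have hdec : ∀ m : M, ∃ i : ℤ, π m = π ⟨g, K_le h1350 hM hKU g.2⟩ ^ i := by
    intro m
    obtain ⟨a, ha, b, hb, e⟩ := hKU.compl.2.2.2 m m.2
    rw [sup_comm] at hb
    obtain ⟨s, hs, k, hk, rfl⟩ :=
      eq_mul_of_mem_sup ((K_le h1350 hM hKU).trans (le_normalizer_sigmaCore M)) hb
    obtain ⟨i, hi⟩ := hg ⟨k, hk⟩
    refine ⟨i, ?_⟩
    have hk' : (k : G) = ((g : G)) ^ i := (congrArg Subtype.val hi).symm
    have hmem : (⟨a * s, mul_mem (U_le h1350 hM hKU ha) (sigmaCore_le M hs)⟩ : M) ∈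
        N.subgroupOf M :=
      mul_mem (Subgroup.mem_sup_left (T := Cfsg.sigmaCore M) ha) (Subgroup.mem_sup_right hs)
    have hm : m = ⟨a * s, mul_mem (U_le h1350 hM hKU ha) (sigmaCore_le M hs)⟩ *
        ⟨g, K_le h1350 hM hKU g.2⟩ ^ i := by
      refine Subtype.ext ?_
      simp only [Subgroup.coe_mul, Subgroup.coe_zpow, e, hk', mul_assoc]
    rw [hm, map_mul, map_zpow, show π _ = 1 from (QuotientGroup.eq_one_iff _).2 hmem, one_mul]
  rw [Subgroup.commutator_le]
  intro x hx y hy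
  have h1 : π ⁅(⟨x, hx⟩ : M), ⟨y, hy⟩⁆ = 1 := by
    obtain ⟨i, hi⟩ := hdec ⟨x, hx⟩
    obtain ⟨j, hj⟩ := hdec ⟨y, hy⟩
    rw [map_commutatorElement, hi, hj, commutatorElement_eq_one_iff_commute]
    exact Commute.zpow_zpow (Commute.refl _) i j
  have h2 : ⁅(⟨x, hx⟩ : M), ⟨y, hy⟩⁆ ∈ N.subgroupOf M := (QuotientGroup.eq_one_iff _).1 h1
  exact h2

/-- For `K ≠ 1` the derived subgroup is `U M_σ`. -/
theorem derived_eq (h1350 : Hyp1350 G) (h1352 : Hyp1352 G) (h1353 : Hyp1353 G)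
    (h1426 : Hyp1426 G) (hM : IsCoatom M) (hKU : Cfsg.IsSigmaDecomposition M K U) (hK1 : K ≠ ⊥) :
    ⁅M, M⁆ = U ⊔ Cfsg.sigmaCore M := by
  refine le_antisymm (derived_le_UMs h1350 h1352 hM hKU)
    (sup_le ?_ (sigmaCore_le_derived h1350 h1426 hM hKU))
  conv_lhs => rw [← commutator_U_K h1350 h1353 hM hKU hK1]
  exact Subgroup.commutator_mono (U_le h1350 hM hKU) (K_le h1350 hM hKU)

/-- For `K ≠ 1` the fixed points of `K` in `M_σ` lie in `M''`. -/
theorem centralizer_K_le_derived_two (hG : Cfsg.IsMinSimpleOddOrder G) (h1350 : Hyp1350 G)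
    (h1352 : Hyp1352 G) (h1353 : Hyp1353 G)
    (h1426 : Hyp1426 G) (hM : IsCoatom M) (hKU : Cfsg.IsSigmaDecomposition M K U) (hK1 : K ≠ ⊥) :
    Cfsg.sigmaCore M ⊓ Subgroup.centralizer (K : Set G) ≤ ⁅⁅M, M⁆, ⁅M, M⁆⁆ := by
  haveI := maximal_solvable hG hM
  have hD := derived_eq h1350 h1352 h1353 h1426 hM hKU hK1
  have hDM : ⁅M, M⁆ ≤ M := Subgroup.commutator_le_self M
  have hmap : (commutator M).map M.subtype = ⁅M, M⁆ := Subgroup.map_subtype_commutator M
  have hcard : Nat.card (commutator M) = Nat.card ↥(U ⊔ Cfsg.sigmaCore M) := by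
    rw [← hD, ← hmap, Subgroup.card_map_of_injective M.subtype_injective]
  have hidx : (commutator M).index = Nat.card K := by
    rw [← relIndex_U_sup_sigmaCore h1350 hM hKU, ← hD, ← hmap, Subgroup.relIndex,
      Subgroup.subgroupOf, Subgroup.comap_map_eq_self_of_injective M.subtype_injective]
  have hcop : (Nat.card (commutator M)).Coprime (commutator M).index := by
    rw [hcard, hidx]
    exact Nat.coprime_of_dvd fun p hp h1 h2 =>
      not_kappa_of_dvd_UMs h1350 hM hKU hp h1 (hKU.hall.2.1 p hp h2)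
  have hcompl : Subgroup.IsComplement' (commutator M) (K.subgroupOf M) := by
    apply Subgroup.isComplement'_of_coprime
    · rw [Nat.card_congr (Subgroup.subgroupOfEquivOfLe (K_le h1350 hM hKU)).toEquiv, ← hidx,
        Subgroup.card_mul_index]
    · rw [Nat.card_congr (Subgroup.subgroupOfEquivOfLe (K_le h1350 hM hKU)).toEquiv, ← hidx]
      exact hcop
  rintro x ⟨hxs, hxc⟩
  have hxD : x ∈ ⁅M, M⁆ := hD ▸ Subgroup.mem_sup_right hxs
  have hxM := hDM hxD
  have h1 : (⟨x, hxM⟩ : M) ∈ commutator M := by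
    rw [← hmap] at hxD
    obtain ⟨y, hy, rfl⟩ := hxD
    exact hy
  have h2 : (⟨x, hxM⟩ : M) ∈ Subgroup.centralizer ((K.subgroupOf M : Subgroup M) : Set M) := by
    rw [Subgroup.mem_centralizer_iff]
    exact fun k hk => Subtype.ext (Subgroup.mem_centralizer_iff.1 hxc k hk)
  have h3 := (Cfsg.Agent.S1459.part_a (commutator M) (K.subgroupOf M) hcop hcompl le_rfl).2 ⟨h1, h2⟩
  have h4 := Subgroup.mem_map_of_mem M.subtype h3
  rw [Subgroup.map_commutator, hmap] at h4
  exact h4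

/-- For `K ≠ 1` the subgroup `U` is abelian. -/
theorem U_commutative (hG : Cfsg.IsMinSimpleOddOrder G) (h1350 : Hyp1350 G) (h1430 : Hyp1430 G)
    (hM : IsCoatom M) (hKU : Cfsg.IsSigmaDecomposition M K U) (hK1 : K ≠ ⊥) :
    IsMulCommutative U := by
  obtain ⟨U', hU'c, hU', -⟩ := (h1430 M hM K hKU.hall hK1).2.1
  obtain ⟨g, -, e⟩ := CfsgLib.PGroup.exists_conj_of_isPiHallOf (maximal_solvable hG hM) hU'
    (isPiHallOf_U h1350 hM hKU)
  rw [← e]
  exact isMulCommutative_map hU'c _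

/-- `α(M) ⊆ σ(M)`. -/
theorem alpha_subset_sigma (h1350 : Hyp1350 G) (h1405 : Hyp1405 G) (hM : IsCoatom M) {p : ℕ}
    (hp : p.Prime) (hr : ¬ Cfsg.PRankLE p 2 M) : p ∈ Cfsg.sigma M := by
  haveI := Fact.mk hp
  obtain ⟨hHall, -, hle, -, -⟩ := h1405 M hM
  have hd : p ∣ Nat.card M := by
    by_contra hnd
    refine hr (CfsgLib.PGroup.pRankLE_iff.2 fun A hA => ?_)
    obtain ⟨n, hn⟩ := CfsgLib.PGroup.elemAb_card hA
    rcases Nat.eq_zero_or_pos n with rfl | hn0
    · rw [hn]; exact Nat.pow_le_pow_right hp.pos (by norm_num)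
    · exact absurd ((hn ▸ dvd_pow_self p hn0.ne').trans A.card_subgroup_dvd_card) hnd
  have h1 : p ∣ Nat.card (Cfsg.alphaCore M) := by
    have e : Nat.card M = Nat.card (Cfsg.alphaCore M) * (Cfsg.alphaCore M).relIndex M := by
      rw [← Subgroup.relIndex_bot_left, ← Subgroup.relIndex_bot_left,
        Subgroup.relIndex_mul_relIndex ⊥ _ M bot_le hHall.1]
    rw [e] at hd
    exact (hp.dvd_mul.1 hd).resolve_right (hHall.2.2 p hp ⟨hp, hr⟩)
  exact (sigmaCore_hallOf h1350 hM).2.1 p hp (h1.trans (Subgroup.card_dvd_of_le hle))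

theorem rankLE_two_of_notMem_sigma (h1350 : Hyp1350 G) (h1405 : Hyp1405 G) (hM : IsCoatom M)
    {p : ℕ} (hp : p.Prime) (h : p ∉ Cfsg.sigma M) : Cfsg.PRankLE p 2 M := by
  by_contra hr
  exact h (alpha_subset_sigma h1350 h1405 hM hp hr)

/-- Subgroups of prime power order of `U` are abelian. -/
theorem U_pGroup_commutative (h1350 : Hyp1350 G) (h1420 : Hyp1420 G) (hM : IsCoatom M)
    (hKU : Cfsg.IsSigmaDecomposition M K U) {p : ℕ} [Fact p.Prime] {P : Subgroup G} (hP : P ≤ U)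
    (hPp : IsPGroup p P) : IsMulCommutative P := by
  refine (h1420 M hM (U ⊔ K) (isComplIn_E h1350 hM hKU)).1 P (hP.trans (U_le h1350 hM hKU))
    hPp.isNilpotent fun r hr hd => ?_
  exact (U_primes h1350 hM hKU hr (hd.trans (Subgroup.card_dvd_of_le hP))).1

/-- Sylow subgroups of `U` are abelian of rank at most two. -/
theorem U_sylow (h1350 : Hyp1350 G) (h1405 : Hyp1405 G) (h1420 : Hyp1420 G) (hM : IsCoatom M)
    (hKU : Cfsg.IsSigmaDecomposition M K U) (p : ℕ) (hp : p.Prime) (P : Sylow p U) :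
    IsMulCommutative (P : Subgroup U) ∧ Cfsg.PRankLE p 2 (P : Subgroup U) := by
  haveI := Fact.mk hp
  constructor
  · have h := U_pGroup_commutative h1350 h1420 hM hKU
      (Subgroup.map_subtype_le (P : Subgroup U)) (P.2.map U.subtype)
    refine ⟨⟨fun a b => Subtype.ext (Subtype.ext ?_)⟩⟩
    exact comm_of_mem h (Subgroup.mem_map_of_mem U.subtype a.2) (Subgroup.mem_map_of_mem U.subtype b.2)
  · refine CfsgLib.PGroup.pRankLE_subgroup ?_ _
    by_cases hd : p ∣ Nat.card U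
    · exact CfsgLib.PGroup.pRankLE_of_injective
        (rankLE_two_of_notMem_sigma h1350 h1405 hM hp (U_primes h1350 hM hKU hp hd).1)
        (Subgroup.inclusion (U_le h1350 hM hKU)) (Subgroup.inclusion_injective _)
    · refine CfsgLib.PGroup.pRankLE_iff.2 fun A hA => ?_
      obtain ⟨n, hn⟩ := CfsgLib.PGroup.elemAb_card hA
      rcases Nat.eq_zero_or_pos n with rfl | hn0
      · rw [hn]; exact Nat.pow_le_pow_right hp.pos (by norm_num)
      · exact absurd ((hn ▸ dvd_pow_self p hn0.ne').trans A.card_subgroup_dvd_card) hd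

/-- An element of prime power or arbitrary order of `U` fixing a point of `M_σ`: its primes are in
`τ₂(M)` and `M` is the only maximal subgroup containing its centraliser. -/
theorem U_nonregular (h1350 : Hyp1350 G) (h1432 : Hyp1432 G) (hM : IsCoatom M)
    (hKU : Cfsg.IsSigmaDecomposition M K U) {u y : G} (hu : u ∈ U) (hu1 : u ≠ 1)
    (hy : y ∈ Cfsg.sigmaCore M) (hy1 : y ≠ 1) (huy : u * y = y * u) :
    (∀ p : ℕ, p.Prime → p ∣ orderOf u → p ∈ Cfsg.tau2 M) ∧
      Subgroup.centralizer ({u} : Set G) ≤ M ∧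
      ∀ L : Subgroup G, IsCoatom L → Subgroup.centralizer ({u} : Set G) ≤ L → L = M := by
  have hpr : ∀ p : ℕ, p.Prime → p ∣ orderOf u → p ∉ Cfsg.sigma M ∧ p ∉ Cfsg.kappa M :=
    fun p hp hd => U_primes h1350 hM hKU hp (hd.trans (Subgroup.orderOf_dvd_natCard U hu))
  rcases h1432 M hM y hy hy1 u ⟨U_le h1350 hM hKU hu,
      Subgroup.mem_centralizer_singleton_iff.2 huy⟩ hu1 (fun p hp hd => (hpr p hp hd).1) with
    ⟨h, -⟩ | ⟨h, -, h'⟩
  · obtain ⟨p, hp, hd⟩ := Nat.exists_prime_and_dvd (fun e => hu1 (orderOf_eq_one_iff.1 e))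
    exact absurd (h p hp hd) (hpr p hp hd).2
  · exact ⟨h, h'.1, h'.2⟩

/-- When `K = 1`: an abelian subgroup of `U` containing all nonregular elements, and a regular
subgroup of full exponent. -/
theorem U_of_K_eq_bot (h1350 : Hyp1350 G) (h1421 : Hyp1421 G) (h1432 : Hyp1432 G)
    (hM : IsCoatom M) (hKU : Cfsg.IsSigmaDecomposition M K U) (hK : K = ⊥) :
    (∃ A₀ : Subgroup G, A₀ ≤ U ∧ U ≤ Subgroup.normalizer (A₀ : Set G) ∧ IsMulCommutative A₀ ∧
        ∀ x ∈ Cfsg.sigmaCore M, x ≠ 1 → U ⊓ Subgroup.centralizer ({x} : Set G) ≤ A₀) ∧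
      ∃ U₀ : Subgroup G, U₀ ≤ U ∧ Monoid.exponent U₀ = Monoid.exponent U ∧
        ∀ e ∈ U₀, e ≠ 1 → Cfsg.sigmaCore M ⊓ Subgroup.centralizer ({e} : Set G) = ⊥ := by
  have hE : U ⊔ K = U := by rw [hK, sup_bot_eq]
  have hc := isComplIn_E h1350 hM hKU
  rw [hE] at hc
  refine h1421 M hM U hc fun e he he1 hτ => ?_
  by_contra hne
  obtain ⟨y, ⟨hy, hyc⟩, hy1⟩ :=
    (Subgroup.bot_or_exists_ne_one _).resolve_left hne
  obtain ⟨p, hp, hd⟩ := Nat.exists_prime_and_dvd (fun h => he1 (orderOf_eq_one_iff.1 h))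
  have h2 := (U_nonregular h1350 h1432 hM hKU he he1 hy hy1
    (Subgroup.mem_centralizer_singleton_iff.1 hyc).symm).1 p hp hd
  rcases hτ p hp hd with h | h
  · exact h2.2.2.2 h.2.2.2.2
  · exact h2.2.2.2 h.2.2.2

/-- The subgroup generated by the nonregular elements of `U` is abelian. -/
theorem U_hat_commutative (hG : Cfsg.IsMinSimpleOddOrder G) (h1350 : Hyp1350 G)
    (h1421 : Hyp1421 G) (h1430 : Hyp1430 G) (h1432 : Hyp1432 G)
    (hM : IsCoatom M) (hKU : Cfsg.IsSigmaDecomposition M K U) :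
    IsMulCommutative (Subgroup.closure ((U : Set G) ∩ Cfsg.sigmaHat M)) := by
  obtain ⟨A, hAc, hsub⟩ : ∃ A : Subgroup G, IsMulCommutative A ∧
      (U : Set G) ∩ Cfsg.sigmaHat M ⊆ A := by
    by_cases hK : K = ⊥
    · obtain ⟨⟨A, -, -, hAc, hA⟩, -⟩ := U_of_K_eq_bot h1350 h1421 h1432 hM hKU hK
      refine ⟨A, hAc, ?_⟩
      rintro u ⟨hu, -, y, hy, hy1, e⟩
      exact hA y hy hy1 ⟨hu, Subgroup.mem_centralizer_singleton_iff.2 e⟩
    · exact ⟨U, U_commutative hG h1350 h1430 hM hKU hK, Set.inter_subset_left⟩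
  exact isMulCommutative_of_le hAc ((Subgroup.closure_le A).2 hsub)

/-- A subgroup of `U` fixing a point of `M_σ` is a cyclic `τ₂(M)`-group whose centraliser lies in
no maximal subgroup but `M`. -/
theorem U_subgroup_nonregular (hG : Cfsg.IsMinSimpleOddOrder G) (h1350 : Hyp1350 G)
    (h1417 : Hyp1417 G) (h1421 : Hyp1421 G) (h1430 : Hyp1430 G) (h1432 : Hyp1432 G)
    (hM : IsCoatom M) (hKU : Cfsg.IsSigmaDecomposition M K U) {X : Subgroup G} (hXU : X ≤ U)
    (hX : X ≠ ⊥) (hXc : Cfsg.sigmaCore M ⊓ Subgroup.centralizer (X : Set G) ≠ ⊥) :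
    IsCyclic X ∧ (∀ p : ℕ, p.Prime → p ∣ Nat.card X → p ∈ Cfsg.tau2 M) ∧
      Subgroup.centralizer (X : Set G) ≤ M ∧
      ∀ L : Subgroup G, IsCoatom L → Subgroup.centralizer (X : Set G) ≤ L → L = M := by
  obtain ⟨y, ⟨hy, hyc⟩, hy1⟩ := (Subgroup.bot_or_exists_ne_one _).resolve_left hXc
  have hcomm : ∀ x ∈ X, x * y = y * x := fun x hx => Subgroup.mem_centralizer_iff.1 hyc x hx
  have hτ : ∀ p : ℕ, p.Prime → p ∣ Nat.card X → p ∈ Cfsg.tau2 M := by
    intro p hp hd
    haveI := Fact.mk hp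
    obtain ⟨x, hx⟩ := exists_prime_orderOf_dvd_card' (G := X) p hd
    rw [← Subgroup.orderOf_coe] at hx
    exact (U_nonregular h1350 h1432 hM hKU (hXU x.2) (fun e => hp.ne_one (by
      rw [← hx, e, orderOf_one])) hy hy1 (hcomm x x.2)).1 p hp (dvd_of_eq hx.symm)
  have hXab : IsMulCommutative X := by
    have h1 := U_hat_commutative hG h1350 h1421 h1430 h1432 hM hKU
    have hle : X ≤ Subgroup.closure ((U : Set G) ∩ Cfsg.sigmaHat M) := fun x hx =>
      Subgroup.subset_closure ⟨hXU hx, U_le h1350 hM hKU (hXU hx), y, hy, hy1, hcomm x hx⟩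
    exact isMulCommutative_of_le h1 hle
  have hcyc : IsCyclic X := by
    haveI := hXab
    haveI : IsZGroup X := by
      refine ⟨fun p hp P => ?_⟩
      haveI := Fact.mk hp
      set PG := (P : Subgroup X).map X.subtype with hPG
      have hPGp : IsPGroup p PG := P.2.map _
      have hPGX : PG ≤ X := Subgroup.map_subtype_le _
      have hPGc : IsMulCommutative PG := isMulCommutative_of_le hXab hPGX
      suffices IsCyclic PG from
        isCyclic_of_surjective _ (Subgroup.equivMapOfInjective (P : Subgroup X) X.subtype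
          X.subtype_injective).symm.surjective
      by_contra hnc
      obtain ⟨A, hA, hAe, hA2⟩ := exists_elemAb_sq hPGp hPGc hnc
      have hAM : A ≤ M := hA.trans (hPGX.trans (hXU.trans (U_le h1350 hM hKU)))
      have hpX : p ∣ Nat.card X :=
        (hA2 ▸ dvd_pow_self p two_ne_zero : p ∣ Nat.card A).trans
          (Subgroup.card_dvd_of_le (hA.trans hPGX))
      have hbot := (h1417 M hM p (hτ p hp hpX) A ⟨hAM, hAe, hA2⟩).2.2.2.1
      have hy' : y ∈ Cfsg.sigmaCore M ⊓ Subgroup.centralizer (A : Set G) :=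
        ⟨hy, fun a ha => hcomm a ((hA.trans hPGX) ha)⟩
      rw [hbot, Subgroup.mem_bot] at hy'
      exact hy1 hy'
    haveI : Group.IsNilpotent X := by
      letI : CommGroup X := { (inferInstance : Group X) with mul_comm := hXab.is_comm.comm }
      infer_instance
    infer_instance
  obtain ⟨⟨x, hxX⟩, hgen⟩ := hcyc.exists_generator
  have hXz : X = Subgroup.zpowers x := by
    refine le_antisymm (fun z hz => ?_) (Subgroup.zpowers_le.2 hxX)
    obtain ⟨i, hi⟩ := hgen ⟨z, hz⟩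
    exact ⟨i, congrArg Subtype.val hi⟩
  have hx1 : x ≠ 1 := fun e => hX (by rw [hXz, e, Subgroup.zpowers_one_eq_bot])
  have h := U_nonregular h1350 h1432 hM hKU (hXU hxX) hx1 hy hy1 (hcomm x hxX)
  refine ⟨hcyc, hτ, ?_⟩
  rw [hXz, centralizer_zpowers]
  exact ⟨h.2.1, h.2.2⟩

end CfsgLib.OddLocal.S15
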