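import Cfsg.Agent.Lib.OddLocal.S15Fitting

/-!
# Fitting subgroups that are not TI: where two of them meet
-/

set_option autoImplicit false
set_option linter.style.haveILetI false
set_option linter.unusedSectionVars false

open scoped Pointwise commutatorElement

namespace CfsgLib.OddLocal.S15

universe u

variable {G : Type u} [Group G] [Finite G] {M : Subgroup G} {g : G}

/-- The hypotheses of the analysis of non-TI Fitting subgroups. -/
structure NTBase (G : Type u) [Group G] [Finite G] : Prop extends Base G where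
  h1374 : Hyp1374 G
  h1399 : Hyp1399 G
  h1403 : Hyp1403 G
  h1412 : Hyp1412 G
  h1422 : Hyp1422 G
  h1423 : Hyp1423 G
  h1453 : Hyp1453.{u}
  h1454 : Hyp1454.{u}

theorem centralizer_singleton_ne_top (hG : Cfsg.IsMinSimpleOddOrder G) {x : G} (hx : x ≠ 1) :
    Subgroup.centralizer ({x} : Set G) ≠ ⊤ := fun h => hx <| by
  have : x ∈ Subgroup.center G := Subgroup.mem_center_iff.2 fun y =>
    Subgroup.mem_centralizer_singleton_iff.1 (h ▸ Subgroup.mem_top y : y ∈ Subgroup.centralizer {x})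
  rwa [center_eq_bot_minSimple hG, Subgroup.mem_bot] at this

theorem orderOf_conj (g x : G) : orderOf (g * x * g⁻¹) = orderOf x :=
  orderOf_injective (MulAut.conj g).toMonoidHom (MulAut.conj g).injective x

/-- An element of prime order outside `σ(M)` in `F(M)` has its centraliser in `M` only. -/
theorem centralizer_unique_of_fitting (hG : Cfsg.IsMinSimpleOddOrder G) (B : Base G) (hM : IsCoatom M)
    {x : G} (hx : x ∈ Cfsg.fittingOf M) (hp : (orderOf x).Prime) (hσ : orderOf x ∉ Cfsg.sigma M) :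
    Subgroup.centralizer ({x} : Set G) ≤ M ∧
      ∀ L : Subgroup G, IsCoatom L → Subgroup.centralizer ({x} : Set G) ≤ L → L = M := by
  obtain ⟨K, U, hKU⟩ := exists_decomposition B.h1350 hM B.h1351 B.h1352
  have hxM : x ∈ M := fittingOf_le M hx
  have hH := fittingHallOf_le_sigmaCore B.h1350 hM hG
  have hxC : x ∈ M ⊓ Subgroup.centralizer (Cfsg.fittingHallOf M : Set G) := by
    refine ⟨hxM, Subgroup.mem_centralizer_iff.2 fun y hy => ?_⟩
    refine commute_of_mem_nilpotent (isNilpotent_fittingOf M) (fittingHallOf_le_fittingOf M hy) hx ?_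
    refine Nat.Coprime.symm ((hp.coprime_iff_not_dvd).2 fun hd => hσ ?_)
    exact prime_mem_sigma_of_mem_sigmaCore B.h1350 hM (hH hy) hp hd
  obtain ⟨y, hy, hy1⟩ := (Subgroup.bot_or_exists_ne_one _).resolve_left (fittingHallOf_ne_bot hG B hM)
  have hxy : x ∈ M ⊓ Subgroup.centralizer ({y} : Set G) := ⟨hxM,
    Subgroup.mem_centralizer_singleton_iff.2 (Subgroup.mem_centralizer_iff.1 hxC.2 y hy).symm⟩
  have hσ' : ∀ p : ℕ, p.Prime → p ∣ orderOf x → p ∉ Cfsg.sigma M := fun p hp' hd =>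
    (Nat.prime_dvd_prime_iff_eq hp' hp).1 hd ▸ hσ
  rcases B.h1432 M hM y (hH hy) hy1 x hxy
    (fun h => hp.ne_one (by rw [h, orderOf_one])) hσ' with ⟨hκ, -⟩ | ⟨-, -, h⟩
  · exact absurd (hκ _ hp dvd_rfl)
      ((centralizer_fittingHallOf hG B hM hKU).2.2 x hxC _ hp dvd_rfl)
  · exact h

theorem sigma_of_mem_inter (hG : Cfsg.IsMinSimpleOddOrder G) (B : Base G) (hM : IsCoatom M)
    (hg : g ∉ M) {p : ℕ} (hp : p.Prime)
    (hd : p ∣ Nat.card ↥(Cfsg.fittingOf M ⊓ (Cfsg.fittingOf M).map (MulAut.conj g).toMonoidHom)) :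
    p ∈ Cfsg.sigma M := by
  by_contra hσ
  haveI := Fact.mk hp
  obtain ⟨⟨x, hx, hx'⟩, hxo⟩ := exists_prime_orderOf_dvd_card' p hd
  rw [← Subgroup.orderOf_coe] at hxo
  change orderOf x = p at hxo
  obtain ⟨x₀, hx₀, rfl⟩ := hx'
  change orderOf (g * x₀ * g⁻¹) = p at hxo
  have hxo' := hxo
  rw [orderOf_conj] at hxo'
  obtain ⟨h1, h2⟩ := centralizer_unique_of_fitting hG B hM hx
    (by show (orderOf (g * x₀ * g⁻¹)).Prime; rw [hxo]; exact hp)
    (by show orderOf (g * x₀ * g⁻¹) ∉ _; rw [hxo]; exact hσ)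
  obtain ⟨h3, -⟩ := centralizer_unique_of_fitting hG B hM hx₀ (hxo' ▸ hp) (hxo' ▸ hσ)
  refine hg (mem_of_map_conj_eq hG hM (h2 _ (isCoatom_map_conj hM g) ?_))
  show Subgroup.centralizer ({g * x₀ * g⁻¹} : Set G) ≤ _
  rw [centralizer_singleton_conj]
  exact Subgroup.map_mono h3

/-- `F(M) ∩ F(M)^g` lies in `M_σ`. -/
theorem inter_le_sigmaCore (hG : Cfsg.IsMinSimpleOddOrder G) (B : Base G) (hM : IsCoatom M)
    (hg : g ∉ M) :
    Cfsg.fittingOf M ⊓ (Cfsg.fittingOf M).map (MulAut.conj g).toMonoidHom ≤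
      Cfsg.sigmaCore M ⊓ M.map (MulAut.conj g).toMonoidHom :=
  le_inf (le_sigmaCore B.h1350 hM (inf_le_left.trans (fittingOf_le M))
      fun _ hp hd => sigma_of_mem_inter hG B hM hg hp hd)
    (inf_le_right.trans (Subgroup.map_mono (fittingOf_le M)))

/-- `F(M) ∩ F(M)^g` is cyclic and involves no prime of `β(M)`. -/
theorem inter_cyclic (hG : Cfsg.IsMinSimpleOddOrder G) (B : Base G) (hM : IsCoatom M) (hg : g ∉ M) :
    IsCyclic ↥(Cfsg.fittingOf M ⊓ (Cfsg.fittingOf M).map (MulAut.conj g).toMonoidHom) ∧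
      ∀ p : ℕ, p.Prime →
        p ∣ Nat.card ↥(Cfsg.fittingOf M ⊓ (Cfsg.fittingOf M).map (MulAut.conj g).toMonoidHom) →
        p ∉ Cfsg.beta M := by
  obtain ⟨K, U, hKU⟩ := exists_decomposition B.h1350 hM B.h1351 B.h1352
  obtain ⟨h1, h2, -⟩ := (B.h1426 M hM _ (isComplIn_E B.h1350 hM hKU)).2.2 g hg
  have hle := inter_le_sigmaCore hG B hM hg
  haveI := h1
  exact ⟨Subgroup.isCyclic_of_le hle, fun p hp hd => h2 p hp (hd.trans (Subgroup.card_dvd_of_le hle))⟩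

/-- `M_F = M_σ` when the Fitting subgroup is not TI. -/
theorem fittingHallOf_eq_of_inter (hG : Cfsg.IsMinSimpleOddOrder G) (B : NTBase G) (hM : IsCoatom M)
    (hg : g ∉ M)
    (hX : Cfsg.fittingOf M ⊓ (Cfsg.fittingOf M).map (MulAut.conj g).toMonoidHom ≠ ⊥) :
    Cfsg.fittingHallOf M = Cfsg.sigmaCore M := by
  by_contra hne
  obtain ⟨K, U, hKU⟩ := exists_decomposition B.h1350 hM B.h1351 B.h1352
  obtain ⟨-, -, -, -, hq, -, hβ, Q, hQF, hQs, hMQ, hKsQ, hQp, hQi, -, -⟩ :=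
    fcore_structure hG B.h1445 B.h1446 B.h1350 B.h1351 B.h1352 B.h1354 B.h1366 B.h1369 B.h1372
      B.h1414 B.h1426 B.h1429 B.h1430 hM hKU hne
  set q := Nat.card ↥(Cfsg.sigmaCore M ⊓ Subgroup.centralizer (K : Set G))
  haveI := Fact.mk hq
  have hqσ : q ∈ Cfsg.sigma M := alpha_subset_sigma B.h1350 B.h1405 hM hq hβ.1.2
  obtain ⟨P, hP⟩ := exists_sylow_map_eq_of_not_dvd hQs hQp hQi
  obtain ⟨-, hQU, hQM⟩ := B.h1423 M hM q hqσ _ (inf_le_left.trans (sigmaCore_le M)) rfl P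
    (Or.inl hβ)
  rw [hP] at hQU hQM
  obtain ⟨hXc, hXβ⟩ := inter_cyclic hG B.toBase hM hg
  obtain ⟨r, hr, hrd⟩ := Nat.exists_prime_and_dvd (fun h => hX (Subgroup.card_eq_one.1 h))
  haveI := Fact.mk hr
  obtain ⟨⟨x, hx, hx'⟩, hxo⟩ := exists_prime_orderOf_dvd_card' r hrd
  rw [← Subgroup.orderOf_coe] at hxo
  change orderOf x = r at hxo
  have hrq : r ≠ q := fun h => hXβ r hr hrd (h ▸ hβ)
  have hx1 : x ≠ 1 := fun h => hr.ne_one (by rw [← hxo, h, orderOf_one])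
  have hQF' : Q ≤ Cfsg.fittingOf M := hQF.trans (fittingHallOf_le_fittingOf M)
  have key : ∀ Y : Subgroup G, Group.IsNilpotent Y → x ∈ Y → ∀ Q' : Subgroup G, Q' ≤ Y →
      IsPGroup q Q' → Q' ≤ Subgroup.centralizer ({x} : Set G) := by
    intro Y hY hxY Q' hQ' hQ'p z hz
    refine Subgroup.mem_centralizer_singleton_iff.2 (commute_of_mem_nilpotent hY (hQ' hz) hxY ?_)
    obtain ⟨i, hi⟩ := IsPGroup.iff_orderOf.1 hQ'p ⟨z, hz⟩
    rw [← Subgroup.orderOf_coe] at hi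
    change orderOf z = q ^ i at hi
    rw [hi, hxo]
    exact ((Nat.coprime_primes hq hr).2 hrq.symm).pow_left i
  have h1 := key _ (isNilpotent_fittingOf M) hx Q hQF' hQp
  have h2 : Q.map (MulAut.conj g).toMonoidHom ≤ Subgroup.centralizer ({x} : Set G) := by
    refine key _ ?_ hx' _ (Subgroup.map_mono hQF') (hQp.map _)
    exact CfsgLib.Cores.isNilpotent_map (isNilpotent_fittingOf M) _
  obtain ⟨L, hL, hCL⟩ := exists_maximal_ge (centralizer_singleton_ne_top hG hx1)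
  have hLM : L = M := hQU.unique ⟨hL, h1.trans hCL⟩ ⟨hM, hQM⟩
  refine hg (mem_of_map_conj_eq hG hM ?_)
  have h3 : Q ≤ (L.map (MulAut.conj g⁻¹).toMonoidHom) := by
    intro z hz
    rw [mem_map_conj, inv_inv]
    exact h2.trans hCL (conj_mem_map_conj hz)
  have h4 : L.map (MulAut.conj g⁻¹).toMonoidHom = M :=
    hQU.unique ⟨isCoatom_map_conj hL _, h3⟩ ⟨hM, hQM⟩
  rw [← h4, map_conj_map_conj, mul_inv_cancel, map_conj_one, h4, hLM]

/-- `F(M)` is a TI-subset when `M_F ≠ M_σ`. -/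
theorem fittingOf_TI_of_ne (hG : Cfsg.IsMinSimpleOddOrder G) (B : NTBase G) (hM : IsCoatom M)
    (hne : Cfsg.fittingHallOf M ≠ Cfsg.sigmaCore M) :
    Cfsg.IsTISubset (Cfsg.fittingOf M : Set G) := by
  intro g hg x hx hgx
  by_contra hx1
  have hgM : g ∉ M := fun h => hg (le_normalizer_fittingOf M h)
  refine hne (fittingHallOf_eq_of_inter hG B hM hgM fun h => hx1 ?_)
  have h1 : g * x * g⁻¹ ∈
      Cfsg.fittingOf M ⊓ (Cfsg.fittingOf M).map (MulAut.conj g).toMonoidHom :=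
    ⟨hgx, conj_mem_map_conj hx⟩
  rw [h, Subgroup.mem_bot, conj_eq_one_iff] at h1
  exact h1

/-- A point of `M_σ` shared with another conjugate of `M` has its centraliser outside `M`. -/
theorem centralizer_not_le (hG : Cfsg.IsMinSimpleOddOrder G) (h1374 : Hyp1374 G) (hM : IsCoatom M)
    (hg : g ∉ M) {x : G} (hx : x ∈ Cfsg.sigmaCore M) (hx1 : x ≠ 1)
    (hxg : x ∈ M.map (MulAut.conj g).toMonoidHom) :
    ¬ Subgroup.centralizer ({x} : Set G) ≤ M := by
  intro h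
  obtain ⟨-, R, -, hR, huniq⟩ := h1374 M hM x hx hx1
  have hRb : ∀ r ∈ R, r = 1 := fun r hr => by
    have : r ∈ (M ⊓ Subgroup.centralizer ({x} : Set G)) ⊓ R :=
      ⟨⟨h (hR.2.1 hr), hR.2.1 hr⟩, hr⟩
    rwa [hR.2.2.1, Subgroup.mem_bot] at this
  obtain ⟨r, ⟨hr, he⟩, -⟩ := huniq g hxg
  rw [hRb r hr, map_conj_one] at he
  exact hg (mem_of_map_conj_eq hG hM he.symm)

/-- Such a point centralises no uniqueness subgroup of `M`. -/
theorem not_unique_le_centralizer (hG : Cfsg.IsMinSimpleOddOrder G) (h1374 : Hyp1374 G)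
    (hM : IsCoatom M) (hg : g ∉ M) {x : G} (hx : x ∈ Cfsg.sigmaCore M) (hx1 : x ≠ 1)
    (hxg : x ∈ M.map (MulAut.conj g).toMonoidHom) {Z : Subgroup G}
    (hZM : Z ≤ M) (hZC : Z ≤ Subgroup.centralizer ({x} : Set G)) : ¬ Cfsg.InUniqueMaximal Z := by
  intro hU
  obtain ⟨L, hL, hCL⟩ := exists_maximal_ge (centralizer_singleton_ne_top hG hx1)
  have hLM : L = M := hU.unique ⟨hL, hZC.trans hCL⟩ ⟨hM, hZM⟩
  exact centralizer_not_le hG h1374 hM hg hx hx1 hxg (hLM ▸ hCL)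

end CfsgLib.OddLocal.S15
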