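import Cfsg.Agent.Lib.OddLocal.S15NonTIPoint
import Cfsg.Agent.Lib.OddLocal.MaximalBasic
import Cfsg.Agent.Lib.Components.OmegaFixed

/-!
# Fitting subgroups that are not TI: the three cases
-/

set_option autoImplicit false
set_option linter.style.haveILetI false
set_option linter.unusedSectionVars false

open scoped Pointwise commutatorElement
open CfsgLib.Solvable (nilPart)

namespace CfsgLib.OddLocal.S15

universe u

variable {G : Type u} [Group G] [Finite G] {M K U : Subgroup G} {g x : G} {p : ℕ}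

/-- `O_{p'}(H)` as a subgroup of `G`. -/
def primeFreePart (p : ℕ) (H : Subgroup G) : Subgroup G := (Cfsg.pPrimeCore p H).map H.subtype

theorem primeFreePart_le (p : ℕ) (H : Subgroup G) : primeFreePart p H ≤ H :=
  Subgroup.map_subtype_le _

theorem nilPart_le_primeFreePart {p r : ℕ} [hp : Fact p.Prime] [hr : Fact r.Prime] {H : Subgroup G}
    (hrp : r ≠ p) : nilPart r H ≤ primeFreePart p H := by
  refine Subgroup.map_mono ?_
  haveI : (Cfsg.pCore r H).Normal := Subgroup.sSup_normal _ fun _ h => h.1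
  refine CfsgLib.Cores.le_pPrimeCore ?_
  obtain ⟨k, hk⟩ := (CfsgLib.Cores.isPGroup_pCore (G := H) r).exists_card_eq
  rw [hk]
  exact ((Nat.coprime_primes hr.out hp.out).2 hrp).pow_left k

theorem coprime_primeFreePart (p : ℕ) (H : Subgroup G) :
    (Nat.card (primeFreePart p H)).Coprime p := by
  rw [primeFreePart, Subgroup.card_map_of_injective H.subtype_injective]
  exact CfsgLib.Cores.coprime_card_pPrimeCore p

/-- `⁅z u, z' v⁆ = ⁅u, v⁆` for commuting `z`, `z'`. -/
theorem commutatorElement_central_mul {z z' u v : G} (h1 : Commute z u) (h2 : Commute z v)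
    (h3 : Commute z' u) (h4 : Commute z' v) (h5 : Commute z z') :
    ⁅z * u, z' * v⁆ = ⁅u, v⁆ := by
  have e1 : ⁅z * u, z' * v⁆ = ⁅u, z' * v⁆ := by
    have hz : Commute z ⁅u, z' * v⁆ := by
      rw [commutatorElement_def]
      exact ((h1.mul_right (h5.mul_right h2)).mul_right h1.inv_right).mul_right
        (h5.mul_right h2).inv_right
    have hz' : z * (z' * v) * z⁻¹ = z' * v := by rw [(h5.mul_right h2).eq, mul_inv_cancel_right]
    calc ⁅z * u, z' * v⁆ = z * ⁅u, z' * v⁆ * (z' * v) * z⁻¹ * (z' * v)⁻¹ := by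
          simp only [commutatorElement_def]; group
      _ = ⁅u, z' * v⁆ := by
          rw [hz.eq, mul_assoc _ z (z' * v), mul_assoc _ (z * (z' * v)) z⁻¹, hz',
            mul_inv_cancel_right]
  rw [e1]
  calc ⁅u, z' * v⁆ = u * z' * v * u⁻¹ * v⁻¹ * z'⁻¹ := by simp only [commutatorElement_def]; group
    _ = z' * ⁅u, v⁆ * z'⁻¹ := by rw [← h3.eq]; simp only [commutatorElement_def]; group
    _ = ⁅u, v⁆ := by
        have : Commute z' ⁅u, v⁆ := by
          rw [commutatorElement_def]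
          exact ((h3.mul_right h4).mul_right h3.inv_right).mul_right h4.inv_right
        rw [this.eq, mul_inv_cancel_right]

/-- `k ^ (p - 1)` centralises a normalised section of order `p`. -/
theorem commutator_pow_pred_mem {W Q : Subgroup G} (hp : p.Prime) (hQW : Q ≤ W)
    (hWQ : W ≤ Subgroup.normalizer (Q : Set G)) (hidx : Q.relIndex W = p) {k : G}
    (hkW : k ∈ Subgroup.normalizer (W : Set G)) (hkQ : k ∈ Subgroup.normalizer (Q : Set G))
    {w : G} (hw : w ∈ W) : ⁅k ^ (p - 1), w⁆ ∈ Q := by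
  haveI := Fact.mk hp
  haveI : (Q.subgroupOf W).Normal := (Subgroup.normal_subgroupOf_iff_le_normalizer hQW).2 hWQ
  set φ := W.normalizerMonoidHom ⟨k, hkW⟩ with hφ
  obtain ⟨ψ, hψ⟩ := CfsgLib.FGS.exists_quotient_mulAut φ (N := Q.subgroupOf W)
    fun y hy => (Subgroup.mem_normalizer_iff.1 hkQ y).1 hy
  have hc : Nat.card (W ⧸ Q.subgroupOf W) = p := hidx
  haveI : IsCyclic (W ⧸ Q.subgroupOf W) := isCyclic_of_prime_card hc
  have h1 : ψ ^ (p - 1) = 1 := by
    have : Nat.card (MulAut (W ⧸ Q.subgroupOf W)) = p - 1 := by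
      rw [IsCyclic.card_mulAut, hc, Nat.totient_prime hp]
    rw [← this]
    exact pow_card_eq_one'
  have h2 := hψ (p - 1) ⟨w, hw⟩
  rw [h1, MulAut.one_apply, hφ, ← map_pow] at h2
  obtain ⟨z, hz, e⟩ := (QuotientGroup.mk'_eq_mk' _).1 h2
  have e' : w * (z : G) = k ^ (p - 1) * w * (k ^ (p - 1))⁻¹ := congrArg Subtype.val e
  rw [commutatorElement_def, ← e']
  exact (Subgroup.mem_normalizer_iff.1 (hWQ hw) _).1 hz

/-- A non-identity element of `K` fixes no coset outside `K*`. -/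
theorem eq_one_of_fixed_coset (B : Base G) (hM : IsCoatom M)
    (hKU : Cfsg.IsSigmaDecomposition M K U) (hK1 : K ≠ ⊥) {k w : G} {Q : Subgroup G}
    (hk : k ∈ K) (hQ : Q ≤ Cfsg.sigmaCore M)
    (hKs : Cfsg.sigmaCore M ⊓ Subgroup.centralizer (K : Set G) ≤ Q) (hw : w ∈ Cfsg.sigmaCore M)
    (hwQ : w ∉ Q) (hkQ : k ∈ Subgroup.normalizer (Q : Set G))
    (hwN : w ∈ Subgroup.normalizer (Q : Set G)) (h : ⁅k, w⁆ ∈ Q) : k = 1 := by
  by_contra hk1
  have hco : (orderOf k).Coprime (Nat.card Q) :=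
    (Nat.Coprime.coprime_dvd_left (Subgroup.card_dvd_of_le hQ)
      (coprime_sigmaCore B.h1350 hM (n := orderOf k) fun q hq hd =>
        (hKU.hall.2.1 q hq (hd.trans (Subgroup.orderOf_dvd_natCard _ hk))).2.2.1)).symm
  obtain ⟨n, hn, hc⟩ := exists_mul_commute hkQ hwN hco h
  refine hwQ ?_
  have := hKs (mem_kstar_of_commute B.h1430 hM hKU hK1 hk hk1 (mul_mem (hQ hn) hw) hc)
  exact (Q.mul_mem_cancel_left hn).1 this

namespace SharedPoint

variable (D : SharedPoint M g x p)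
include D

/-- The structure of `M_σ` away from `p`, when `P` is nonabelian. -/
theorem primeFree_cyclic (B : NTBase G) (hP : ¬ IsMulCommutative (nilPart p (Cfsg.sigmaCore M))) :
    IsCyclic (primeFreePart p (Cfsg.sigmaCore M)) := by
  haveI := Fact.mk D.prime
  set H := Cfsg.sigmaCore M
  set Q := primeFreePart p H
  have hQH : Q ≤ H := primeFreePart_le p H
  have hQn : Group.IsNilpotent Q := isNilpotent_of_le D.nil hQH
  have hne : ∀ r : ℕ, r.Prime → r ∣ Nat.card Q → r ≠ p := fun r hr hd h =>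
    (Nat.Prime.coprime_iff_not_dvd D.prime).1 (coprime_primeFreePart p H).symm ((dvd_of_eq h.symm).trans hd)
  have hQc : Q ≤ Subgroup.centralizer (H : Set G) := by
    refine CfsgLib.Solvable.le_of_nilPart_le hQn fun r hr hd => ?_
    haveI := Fact.mk hr
    exact (CfsgLib.Solvable.le_nilPart D.nil (CfsgLib.Solvable.nilPart_le.trans hQH)
      CfsgLib.Solvable.isPGroup_nilPart).trans (D.part_central B hr (hne r hr hd))
  refine isCyclic_of_comm_rankLE_one ⟨⟨fun a b => Subtype.ext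
    (Subgroup.mem_centralizer_iff.1 (hQc b.2) a (hQH a.2))⟩⟩
    (D.hG.1.of_dvd_nat (Subgroup.card_subgroup_dvd_card _)) ?_
  by_contra hr
  refine D.not_unique B (hQH.trans (sigmaCore_le M)) (fun z hz => ?_)
    (B.h1399 _ Q (B.h1422 p _ CfsgLib.Solvable.isPGroup_nilPart hP)
      (hQc.trans (Subgroup.centralizer_le CfsgLib.Solvable.nilPart_le)) hr)
  exact Subgroup.mem_centralizer_singleton_iff.2
    (Subgroup.mem_centralizer_iff.1 (hQc hz) x D.mem).symm

/-- A subgroup of order `q` normal in `M` for each prime `q ≠ p` of `M_σ`. -/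
theorem exists_line (B : NTBase G) (hP : ¬ IsMulCommutative (nilPart p (Cfsg.sigmaCore M)))
    {q : ℕ} (hq : q.Prime) (hqp : q ≠ p) (hd : q ∣ Nat.card (Cfsg.sigmaCore M)) :
    ∃ Y : Subgroup G, Y ≤ Cfsg.sigmaCore M ∧ Nat.card Y = q ∧
      M ≤ Subgroup.normalizer (Y : Set G) := by
  haveI := Fact.mk D.prime
  haveI := Fact.mk hq
  set R := nilPart q (Cfsg.sigmaCore M)
  haveI := D.primeFree_cyclic B hP
  have hRc : IsCyclic R := Subgroup.isCyclic_of_le (nilPart_le_primeFreePart hqp)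
  have hdR : q ∣ Nat.card R := by
    rw [CfsgLib.Solvable.card_nilPart D.nil]
    exact dvd_pow_self q (hq.factorization_pos_of_dvd Nat.card_pos.ne' hd).ne'
  obtain ⟨Y, hY, hYc⟩ := BG.exists_card_prime_le hdR
  exact ⟨Y, hY.trans CfsgLib.Solvable.nilPart_le, hYc,
    (D.le_normalizer_part q).trans (le_normalizer_of_le_cyclic hRc hY)⟩

/-- The derived subgroup of `U` centralises `M_σ`. -/
theorem derived_U_centralizes (B : NTBase G) (hKU : Cfsg.IsSigmaDecomposition M K U) :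
    ⁅U, U⁆ ≤ Subgroup.centralizer (Cfsg.sigmaCore M : Set G) := by
  haveI := Fact.mk D.prime
  have hUM : U ≤ M := U_le B.h1350 D.max hKU
  refine centralizes_of_parts D.nil fun r hr hd => ?_
  haveI := Fact.mk hr
  by_cases hcy : IsCyclic (nilPart r (Cfsg.sigmaCore M))
  · exact (Subgroup.commutator_mono hUM hUM).trans
      (derived_le_centralizer_cyclic hcy (D.le_normalizer_part r))
  have hn : Cfsg.IsNarrow r (nilPart r (Cfsg.sigmaCore M)) := by
    by_cases hP : IsMulCommutative (nilPart p (Cfsg.sigmaCore M))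
    · exact Or.inl (CfsgLib.PGroup.pRankLE_of_injective ((D.abelian_case B hP).2.1 r hr)
        (Subgroup.inclusion CfsgLib.Solvable.nilPart_le) (Subgroup.inclusion_injective _))
    · by_cases hrp : r = p
      · obtain ⟨Z, -, -, -, -, hn, -⟩ := D.nonabelian_case B hP
        exact hrp ▸ hn
      · haveI := D.primeFree_cyclic B hP
        exact absurd (Subgroup.isCyclic_of_le (nilPart_le_primeFreePart hrp)) hcy
  refine derived_le_centralizer_narrow B.h1454 (ne_two_of_dvd_card D.hG hd)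
    CfsgLib.Solvable.isPGroup_nilPart hn (hUM.trans (D.le_normalizer_part r))
    (CfsgLib.Solvable.isSolvable_of_le (maximal_solvable D.hG D.max) hUM)
    (D.hG.1.of_dvd_nat (Subgroup.card_subgroup_dvd_card _)) ?_
  refine Nat.Coprime.symm (hr.coprime_iff_not_dvd.2 fun h => (U_primes B.h1350 D.max hKU hr h).1 ?_)
  exact (B.h1350 M D.max).1.2.1 r hr hd

/-- The exponent of `M/M_σ` when `K = 1`. -/
theorem exponent_U_dvd (B : NTBase G) (hP : ¬ IsMulCommutative (nilPart p (Cfsg.sigmaCore M)))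
    (hKU : Cfsg.IsSigmaDecomposition M K U) (hK : K = ⊥) {q : ℕ} (hq : q.Prime)
    (hd : q ∣ Nat.card (Cfsg.sigmaCore M)) : Monoid.exponent U ∣ q - 1 := by
  obtain ⟨-, U₀, hU₀, hexp, hreg⟩ := U_of_K_eq_bot B.h1350 B.h1421 B.h1432 D.max hKU hK
  obtain ⟨Y, hYH, hYc, hMY⟩ : ∃ Y : Subgroup G, Y ≤ Cfsg.sigmaCore M ∧ Nat.card Y = q ∧
      M ≤ Subgroup.normalizer (Y : Set G) := by
    by_cases hqp : q = p
    · obtain ⟨Z, hZP, -, hZc, hMZ, -⟩ := D.nonabelian_case B hP
      exact ⟨Z, hZP.trans CfsgLib.Solvable.nilPart_le, hqp ▸ hZc, hMZ⟩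
    · exact D.exists_line B hP hq hqp hd
  rw [← hexp]
  refine Monoid.exponent_dvd_of_forall_pow_eq_one fun v => ?_
  by_contra hv
  have hvM : (v : G) ∈ M := U_le B.h1350 D.max hKU (hU₀ v.2)
  have h1 := pow_pred_mem_centralizer hq hYc (hMY hvM)
  have h2 := hreg _ (U₀.pow_mem v.2 (q - 1)) (fun h => hv (Subtype.ext h))
  have h3 : Y ≤ ⊥ := h2 ▸ le_inf hYH fun y hy => Subgroup.mem_centralizer_singleton_iff.2
    (Subgroup.mem_centralizer_iff.1 h1 y hy)
  rw [le_bot_iff] at h3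
  rw [h3, Subgroup.card_bot] at hYc
  exact hq.ne_one hYc.symm

/-- `K*` lies in `P` and has order `p`, when `U = 1`. -/
theorem kstar_le (B : NTBase G) (hP : ¬ IsMulCommutative (nilPart p (Cfsg.sigmaCore M)))
    (hKU : Cfsg.IsSigmaDecomposition M K U) (hK1 : K ≠ ⊥) (hU : U = ⊥) :
    Cfsg.sigmaCore M ⊓ Subgroup.centralizer (K : Set G) ≤ nilPart p (Cfsg.sigmaCore M) ∧
      Nat.card ↥(Cfsg.sigmaCore M ⊓ Subgroup.centralizer (K : Set G)) = p := by
  haveI := Fact.mk D.prime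
  set H := Cfsg.sigmaCore M
  set P := nilPart p H
  have hd := derived_eq B.h1350 B.h1352 B.h1353 B.h1426 D.max hKU hK1
  rw [hU, bot_sup_eq] at hd
  have hH : H ≤ P ⊔ (H ⊓ Subgroup.centralizer (H : Set G)) := by
    refine CfsgLib.Solvable.le_of_nilPart_le D.nil fun r hr _ => ?_
    by_cases hrp : r = p
    · subst hrp; exact le_sup_left
    · exact (le_inf CfsgLib.Solvable.nilPart_le (D.part_central B hr hrp)).trans le_sup_right
  have hH2 : ⁅H, H⁆ ≤ P := by
    refine (derived_le_sup (N := P) (E := H ⊓ Subgroup.centralizer (H : Set G)) (M := H)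
      (inf_le_left.trans (Subgroup.le_normalizer.trans
        (CfsgLib.Solvable.normalizer_le_normalizer_nilPart p H))) hH).trans (sup_le le_rfl ?_)
    refine le_of_eq_of_le ?_ bot_le
    exact Subgroup.commutator_eq_bot_iff_le_centralizer.2
      (inf_le_right.trans (Subgroup.centralizer_le inf_le_left))
  have h1 := centralizer_K_le_derived_two D.hG B.h1350 B.h1352 B.h1353 B.h1426 D.max hKU hK1
  rw [hd] at h1
  refine ⟨h1.trans hH2, ?_⟩
  have h2 := card_centralizer_prime B.h1351 B.h1352 B.h1366 B.h1369 B.h1372 B.h1354 D.max hKU hK1 hU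
  obtain ⟨i, hi⟩ := ((CfsgLib.Solvable.isPGroup_nilPart (p := p) (A := H)).to_le
    (h1.trans hH2)).exists_card_eq
  rw [hi] at h2 ⊢
  rw [Nat.Prime.eq_one_of_pow h2, pow_one]

/-- The order of `K` when `U = 1`. -/
theorem card_K_dvd (B : NTBase G) (hP : ¬ IsMulCommutative (nilPart p (Cfsg.sigmaCore M)))
    (hKU : Cfsg.IsSigmaDecomposition M K U) (hK1 : K ≠ ⊥) (hU : U = ⊥) :
    (∀ q : ℕ, q.Prime → q ∣ Nat.card (Cfsg.sigmaCore M) → Nat.card K ∣ q - 1) ∨
      (Nat.card (nilPart p (Cfsg.sigmaCore M)) = p ^ 3 ∧ Nat.card K ∣ p + 1) := by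
  haveI := Fact.mk D.prime
  set H := Cfsg.sigmaCore M
  set P := nilPart p H
  set Ks := H ⊓ Subgroup.centralizer (K : Set G)
  obtain ⟨hKsP, hKsc⟩ := D.kstar_le B hP hKU hK1 hU
  obtain ⟨Z, hZP, hPZ, hZc, hMZ, -, -, hcase⟩ := D.nonabelian_case B hP
  have hKM : K ≤ M := K_le B.h1350 D.max hKU
  haveI := hKU.cyclic
  obtain ⟨⟨k, hk⟩, hgen⟩ := IsCyclic.exists_generator (α := K)
  have hkK : orderOf k = Nat.card K := by
    have := orderOf_eq_card_of_forall_mem_zpowers hgen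
    rwa [← Subgroup.orderOf_coe] at this
  have hdvd : ∀ {n : ℕ}, k ^ n = 1 → Nat.card K ∣ n := fun h => hkK ▸ orderOf_dvd_of_pow_eq_one h
  have hline : ∀ {q : ℕ} {Y : Subgroup G}, q.Prime → Y ≤ H → Nat.card Y = q →
      M ≤ Subgroup.normalizer (Y : Set G) → Y ≠ Ks → Nat.card K ∣ q - 1 := by
    intro q Y hq hYH hYc hMY hne
    refine hdvd ?_
    by_contra h1
    have h2 := pow_pred_mem_centralizer hq hYc (hMY (hKM hk))
    have hYle : Y ≤ Ks := fun y hy => mem_kstar_of_commute B.h1430 D.max hKU hK1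
      (K.pow_mem hk _) h1 (hYH hy) (Subgroup.mem_centralizer_iff.1 h2 y hy)
    refine hne (Subgroup.eq_of_le_of_card_ge hYle ?_)
    have := Subgroup.card_dvd_of_le hYle
    rw [hYc, hKsc] at this
    rw [hYc, hKsc, (Nat.prime_dvd_prime_iff_eq hq D.prime).1 this]
  have hothers : Nat.card K ∣ p - 1 →
      ∀ q : ℕ, q.Prime → q ∣ Nat.card H → Nat.card K ∣ q - 1 := by
    intro hp1 q hq hd
    by_cases hqp : q = p
    · exact hqp ▸ hp1
    obtain ⟨Y, hY, hYc, hMY⟩ := D.exists_line B hP hq hqp hd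
    exact hline hq hY hYc hMY fun h => hqp (by rw [← hYc, h, hKsc])
  by_cases hZK : Z = Ks
  swap
  · exact Or.inl (hothers (hline D.prime (hZP.trans CfsgLib.Solvable.nilPart_le) hZc hMZ hZK))
  rcases hcase with ⟨T, hTP, hMT, hTi, hZT, hxT⟩ | ⟨P₁, P₂, h1, h2, h3, h4, h5, h6, h7⟩
  · -- rank at least three
    refine Or.inl (hothers (hdvd ?_))
    refine eq_one_of_fixed_coset B.toBase D.max hKU hK1 (K.pow_mem hk _)
      (hTP.trans CfsgLib.Solvable.nilPart_le) (hZK.ge.trans hZT) D.mem hxT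
      (hMT (M.pow_mem (hKM hk) _)) (hMT (sigmaCore_le M D.mem)) ?_
    exact commutator_pow_pred_mem D.prime hTP ((D.part_le p).trans hMT) hTi
      (D.le_normalizer_part p (hKM hk)) (hMT (hKM hk)) D.mem_part
  -- rank two
  have hn12 : P₂ ≤ Subgroup.normalizer (P₁ : Set G) := fun b hb =>
    (Subgroup.centralizer_le_normalizer _) (Subgroup.mem_centralizer_iff.2 fun a ha => h2 a ha b hb)
  have hP1 : P₁ ≤ P := le_sup_left.trans h1.le
  have hP2 : P₂ ≤ P := le_sup_right.trans h1.le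
  haveI := h6
  have hexp1 : ∀ a ∈ P₁, a ^ p = 1 := fun a ha => by
    have := congrArg Subtype.val (Monoid.pow_exponent_eq_one (⟨a, ha⟩ : P₁))
    rwa [h5] at this
  have hZ'2 : P₁ ⊓ Subgroup.centralizer (P₁ : Set G) ≤ P₂ :=
    h7 ▸ (Subgroup.closure_le _).2 fun y hy => hy.1
  have hcenter : P ⊓ Subgroup.centralizer (P : Set G) = P₂ := by
    refine le_antisymm ?_ (le_inf hP2 fun b hb => Subgroup.mem_centralizer_iff.2 fun w hw => ?_)
    · rintro z ⟨hz, hzc⟩
      obtain ⟨a, ha, b, hb, rfl⟩ := eq_mul_of_mem_sup hn12 (show z ∈ P₁ ⊔ P₂ from h1.symm ▸ hz)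
      refine mul_mem (hZ'2 ⟨ha, Subgroup.mem_centralizer_iff.2 fun c hc => ?_⟩) hb
      have h := Subgroup.mem_centralizer_iff.1 hzc c (hP1 hc)
      rw [← mul_assoc, mul_assoc a b c, ← h2 c hc b hb, ← mul_assoc] at h
      exact mul_right_cancel h
    · obtain ⟨u, hu, v, hv, rfl⟩ := eq_mul_of_mem_sup hn12 (show w ∈ P₁ ⊔ P₂ from h1.symm ▸ hw)
      exact (Commute.mul_left (h2 u hu b hb : Commute u b)
        (congrArg Subtype.val (mul_comm' (⟨v, hv⟩ : P₂) ⟨b, hb⟩) : v * b = b * v)).eq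
  have hZ2 : Z ≤ P₂ := hcenter ▸ le_inf hZP (Subgroup.le_centralizer_iff.1 hPZ)
  have hZexp : ∀ z ∈ Z, z ^ p = 1 := fun z hz => by
    have := congrArg Subtype.val (pow_card_eq_one' (x := (⟨z, hz⟩ : Z)))
    rwa [hZc] at this
  have hZ1 : Z ≤ P₁ := fun z hz =>
    (h7.le (Subgroup.subset_closure ⟨hZ2 hz, hZexp z hz⟩)).1
  have hsmall : ∀ v ∈ P₂, v ^ p = 1 → v ∈ Z := by
    intro v hv hvp
    by_contra hvZ
    have ho : orderOf v = p := orderOf_eq_prime hvp fun h => hvZ (h ▸ one_mem Z)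
    exact hvZ ((eq_of_le_cyclic h6 hZ2 (Subgroup.zpowers_le.2 hv) (by
      rw [Nat.card_zpowers, ho, hZc])).le (Subgroup.mem_zpowers v))
  have hKP2 : K ≤ Subgroup.centralizer (P₂ : Set G) := by
    have hMP2 : M ≤ Subgroup.normalizer (P₂ : Set G) := fun m hm => by
      have hmP := D.le_normalizer_part p hm
      rw [← hcenter, ← map_conj_eq_self_iff, Subgroup.map_inf _ _ _ (MulAut.conj m).injective,
        map_conj_eq_self_iff.2 hmP, map_conj_eq_self_iff.2 (mem_normalizer_centralizer hmP)]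
    refine CfsgLib.Components.commute_of_fixed_omega D.ne_two
      ((CfsgLib.Solvable.isPGroup_nilPart (p := p) (A := H)).to_le hP2) ?_ (IsPGroup.of_bot (p := p))
      (hKM.trans hMP2) bot_le bot_le fun v hv hvp _ => ?_
    · refine Nat.Coprime.symm (D.prime.coprime_iff_not_dvd.2 fun h =>
        (hKU.hall.2.1 p D.prime h).2.2.1 ((B.h1350 M D.max).1.2.1 p D.prime D.dvd_card))
    · exact (hZK ▸ hsmall v hv hvp : v ∈ Ks).2
  have hP2Z : P₂ ≤ Z := fun v hv => hZK.symm ▸
    (⟨CfsgLib.Solvable.nilPart_le (hP2 hv), Subgroup.le_centralizer_iff.1 hKP2 hv⟩ : v ∈ Ks)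
  have hPP1 : P = P₁ := h1.symm.trans (sup_eq_left.2 (hP2Z.trans hZ1))
  have hPc : Nat.card P = p ^ 3 := hPP1 ▸ h4
  have hPexp : ∀ w ∈ P, w ^ p = 1 := fun w hw => hexp1 w (hPP1 ▸ hw)
  have hcenZ : P ⊓ Subgroup.centralizer (P : Set G) = Z := hcenter.trans (le_antisymm hP2Z hZ2)
  have hder : ⁅P, P⁆ ≤ Z := by
    rw [← hcenZ, hPP1, Ten.inf_centralizer_eq_commutator P₁ h4 h3]
  have hKcomm : ∀ a ∈ K, ∀ b ∈ K, a * b = b * a := fun a ha b hb =>
    congrArg Subtype.val (mul_comm' (⟨a, ha⟩ : K) ⟨b, hb⟩)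
  have hKZ : ∀ a ∈ K, ∀ z ∈ Z, a * z = z * a := fun a ha z hz =>
    Subgroup.mem_centralizer_iff.1 (hZK ▸ hz : z ∈ Ks).2 a ha
  by_cases hex : ∃ W : Subgroup G, Z ≤ W ∧ W ≤ P ∧ Nat.card W = p ^ 2 ∧
      K ≤ Subgroup.normalizer (W : Set G)
  · obtain ⟨W, hZW, hWP, hWc, hKW⟩ := hex
    obtain ⟨w, hw, hwZ⟩ : ∃ w ∈ W, w ∉ Z := SetLike.not_le_iff_exists.1 fun h => by
      have := Nat.le_of_dvd Nat.card_pos (Subgroup.card_dvd_of_le h)
      rw [hWc, hZc] at this
      exact (lt_self_pow₀ D.prime.one_lt (by norm_num : 1 < 2)).not_ge this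
    have hWN : W ≤ Subgroup.normalizer (Z : Set G) :=
      hWP.trans ((D.part_le p).trans hMZ)
    refine Or.inl (hothers (hdvd (eq_one_of_fixed_coset B.toBase D.max hKU hK1 (K.pow_mem hk _)
      (hZP.trans CfsgLib.Solvable.nilPart_le) hZK.ge (CfsgLib.Solvable.nilPart_le (hWP hw)) hwZ
      (hMZ (M.pow_mem (hKM hk) _)) (hWN hw) ?_)))
    refine commutator_pow_pred_mem D.prime hZW hWN ?_ (hKW hk) (hMZ (hKM hk)) hw
    refine Nat.eq_of_mul_eq_mul_left D.prime.pos ?_
    nth_rewrite 1 [← hZc]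
    rw [← Subgroup.relIndex_bot_left, Subgroup.relIndex_mul_relIndex ⊥ Z W bot_le hZW,
      Subgroup.relIndex_bot_left, hWc, pow_two]
  · refine Or.inr ⟨hPc, card_dvd_succ_of_free_lines (hKM.trans (D.le_normalizer_part p))
      (hKM.trans hMZ) hZP hPc hZc hPZ hPexp fun h hh hh1 W hZW hWP hWc hhW => hh1 ?_⟩
    obtain ⟨k', hk', hk'W⟩ := SetLike.not_le_iff_exists.1 fun hle => hex ⟨W, hZW, hWP, hWc, hle⟩
    obtain ⟨w, hw, hwZ⟩ : ∃ w ∈ W, w ∉ Z := SetLike.not_le_iff_exists.1 fun h => by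
      have := Nat.le_of_dvd Nat.card_pos (Subgroup.card_dvd_of_le h)
      rw [hWc, hZc] at this
      exact (lt_self_pow₀ D.prime.one_lt (by norm_num : 1 < 2)).not_ge this
    have hcomZ : ∀ z ∈ Z, ∀ v ∈ P, Commute z v := fun z hz v hv =>
      Subgroup.mem_centralizer_iff.1 (hPZ hv) z hz
    have hwn : Subgroup.zpowers w ≤ Subgroup.normalizer (Z : Set G) :=
      Subgroup.zpowers_le.2 ((hWP.trans ((D.part_le p).trans hMZ)) hw)
    have hwo : orderOf w = p := orderOf_eq_prime (hPexp w (hWP hw)) fun e => hwZ (e ▸ one_mem Z)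
    have hWgen : Z ⊔ Subgroup.zpowers w = W := by
      refine Subgroup.eq_of_le_of_card_ge (sup_le hZW (Subgroup.zpowers_le.2 hw)) ?_
      rw [hWc, card_sup_of_normalizes hwn, hZc, Nat.card_zpowers, hwo, pow_two]
      rw [eq_bot_iff]
      rintro z ⟨hzZ, hzw⟩
      by_contra hz1
      rw [Subgroup.mem_bot] at hz1
      refine hwZ (Subgroup.zpowers_le.2 hzZ ?_)
      rw [eq_zpowers_of_mem_prime (p := p) (by rw [Nat.card_zpowers, hwo]) hzw hz1]
      exact Subgroup.mem_zpowers w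
    obtain ⟨z, hz, b, hb, he⟩ := eq_mul_of_mem_sup hwn
      (show h * w * h⁻¹ ∈ Z ⊔ Subgroup.zpowers w from
        hWgen.symm ▸ (Subgroup.mem_normalizer_iff.1 hhW w).1 hw)
    obtain ⟨a, rfl⟩ : ∃ a : ℕ, w ^ a = b := mem_powers_iff_mem_zpowers.2 hb
    set w' := k' * w * k'⁻¹ with hw'
    have hk'P : ∀ v ∈ P, k' * v * k'⁻¹ ∈ P := fun v hv =>
      (Subgroup.mem_normalizer_iff.1 (D.le_normalizer_part p (hKM hk')) v).1 hv
    have hw'P : w' ∈ P := hk'P w (hWP hw)
    have hkz : k' * z * k'⁻¹ = z := by rw [hKZ k' hk' z hz, mul_inv_cancel_right]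
    have he' : h * w' * h⁻¹ = z * w' ^ a := by
      have hc := hKcomm h hh k' hk'
      calc h * w' * h⁻¹ = (h * k') * w * (h * k')⁻¹ := by rw [hw']; group
        _ = k' * (h * w * h⁻¹) * k'⁻¹ := by rw [hc]; group
        _ = z * w' ^ a := by
          rw [he, hw', conj_pow]
          conv_rhs => rw [← hkz]
          group
    -- `w` and `w'` do not commute
    have hw'W : w' ∉ W := fun hmem => hk'W (map_conj_eq_self_iff.1 (Subgroup.eq_of_le_of_card_ge
      (by
        rw [← hWgen, Subgroup.map_sup, map_conj_eq_self_iff.2 (hMZ (hKM hk')),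
          MonoidHom.map_zpowers, hWgen]
        exact sup_le hZW (Subgroup.zpowers_le.2 hmem))
      (card_map_conj _ _).ge))
    set c := ⁅w, w'⁆ with hcdef
    have hcZ : c ∈ Z := hder (Subgroup.commutator_mem_commutator (hWP hw) hw'P)
    have hc1 : c ≠ 1 := fun hc => hwZ (hcenZ.le ⟨hWP hw, Subgroup.mem_centralizer_iff.2 fun v hv => by
      rw [hcdef, commutatorElement_eq_one_iff_mul_comm] at hc
      have hle : W ⊔ Subgroup.zpowers w' ≤ P ⊓ Subgroup.centralizer ({w} : Set G) := by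
        refine sup_le (hWgen ▸ sup_le ?_ ?_) ?_
        · exact le_inf hZP fun y hy => Subgroup.mem_centralizer_singleton_iff.2
            (hcomZ y hy w (hWP hw)).eq
        · exact Subgroup.zpowers_le.2 ⟨hWP hw, Subgroup.mem_centralizer_singleton_iff.2 rfl⟩
        · exact Subgroup.zpowers_le.2 ⟨hw'P, Subgroup.mem_centralizer_singleton_iff.2 hc.symm⟩
      have hP3 : W ⊔ Subgroup.zpowers w' = P := by
        refine Subgroup.eq_of_le_of_card_ge (sup_le hWP (Subgroup.zpowers_le.2 hw'P)) ?_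
        obtain ⟨i, hi⟩ := ((CfsgLib.Solvable.isPGroup_nilPart (p := p) (A := H)).to_le
          (sup_le hWP (Subgroup.zpowers_le.2 hw'P))).exists_card_eq
        rw [hi, hPc]
        refine Nat.pow_le_pow_right D.prime.pos ?_
        by_contra hlt
        refine hw'W ((Subgroup.eq_of_le_of_card_ge (le_sup_left : W ≤ W ⊔ Subgroup.zpowers w') ?_) ▸
          Subgroup.mem_sup_right (Subgroup.mem_zpowers w'))
        rw [hi, hWc]
        exact Nat.pow_le_pow_right D.prime.pos (by omega)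
      exact Subgroup.mem_centralizer_singleton_iff.1 (hle (hP3.symm ▸ hv)).2⟩)
    have hco : orderOf c = p := orderOf_eq_prime (hZexp c hcZ) hc1
    have hfix : c = c ^ (a * a) := by
      calc c = h * c * h⁻¹ := by rw [hKZ h hh c hcZ, mul_inv_cancel_right]
        _ = ⁅h * w * h⁻¹, h * w' * h⁻¹⁆ := by
          rw [hcdef]; simp only [commutatorElement_def]; group
        _ = ⁅z * w ^ a, z * w' ^ a⁆ := by rw [he, he']
        _ = ⁅w ^ a, w' ^ a⁆ := commutatorElement_central_mul ((hcomZ z hz w (hWP hw)).pow_right a)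
            ((hcomZ z hz w' hw'P).pow_right a) ((hcomZ z hz w (hWP hw)).pow_right a)
            ((hcomZ z hz w' hw'P).pow_right a) (Commute.refl z)
        _ = c ^ (a * a) := commutatorElement_pow_of_commute (hcomZ c hcZ w (hWP hw))
            (hcomZ c hcZ w' hw'P) a a
    have haa : w ^ (a * a) = w := by
      conv_rhs => rw [← pow_one w]
      rw [pow_eq_pow_iff_modEq, hwo, ← hco, ← pow_eq_pow_iff_modEq, pow_one]
      exact hfix.symm
    have hhZ : h ∈ Subgroup.normalizer (Z : Set G) := hMZ (hKM hh)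
    have h2 : h * h = 1 := by
      refine eq_one_of_fixed_coset B.toBase D.max hKU hK1 (K.mul_mem hh hh)
        (hZP.trans CfsgLib.Solvable.nilPart_le) hZK.ge (CfsgLib.Solvable.nilPart_le (hWP hw)) hwZ
        (mul_mem hhZ hhZ) (hwn (Subgroup.mem_zpowers w)) ?_
      have : h * h * w * (h * h)⁻¹ = z ^ (a + 1) * w := by
        calc h * h * w * (h * h)⁻¹ = h * (h * w * h⁻¹) * h⁻¹ := by group
          _ = (h * z * h⁻¹) * (h * w * h⁻¹) ^ a := by rw [conj_pow, he]; group
          _ = z * (z * w ^ a) ^ a := by rw [he, hKZ h hh z hz, mul_inv_cancel_right]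
          _ = z ^ (a + 1) * w := by
            rw [((hcomZ z hz w (hWP hw)).pow_right a).mul_pow, ← pow_mul, haa, pow_succ', mul_assoc]
      rw [commutatorElement_def, this, mul_inv_cancel_right]
      exact Z.pow_mem hz _
    have hodd : Odd (orderOf h) := D.hG.1.of_dvd_nat (orderOf_dvd_natCard h)
    have hd2 : orderOf h ∣ 2 := orderOf_dvd_of_pow_eq_one (by rw [pow_two, h2])
    rcases (Nat.dvd_prime Nat.prime_two).1 hd2 with h' | h'
    · exact orderOf_eq_one_iff.1 h'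
    · rw [h'] at hodd
      exact absurd hodd (by decide)

end SharedPoint

end CfsgLib.OddLocal.S15
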