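import Cfsg.Agent.Lib.OddLocal.S15NonTICases

/-!
# Fitting subgroups that are not TI: conclusions
-/

set_option autoImplicit false
set_option linter.style.haveILetI false
set_option linter.unusedSectionVars false

open scoped Pointwise commutatorElement
open CfsgLib.Solvable (nilPart)

namespace CfsgLib.OddLocal.S15

universe u

variable {G : Type u} [Group G] [Finite G] {M K U : Subgroup G} {g x : G} {p : ℕ}

theorem normalizer_fittingOf_eq (hG : Cfsg.IsMinSimpleOddOrder G) (B : Base G) (hM : IsCoatom M) :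
    Subgroup.normalizer (Cfsg.fittingOf M : Set G) = M :=
  normalizer_eq_of_normal hG hM (fittingOf_le M)
    (fun h => fittingHallOf_ne_bot hG B hM (le_bot_iff.1 (h ▸ fittingHallOf_le_fittingOf M)))
    (S15.le_normalizer_fittingOf M)

theorem inter_eq_bot_of_TI (hG : Cfsg.IsMinSimpleOddOrder G) (B : Base G) (hM : IsCoatom M)
    (hg : g ∉ M) (hTI : Cfsg.IsTISubset (Cfsg.fittingOf M : Set G)) :
    Cfsg.fittingOf M ⊓ (Cfsg.fittingOf M).map (MulAut.conj g).toMonoidHom = ⊥ := by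
  rw [eq_bot_iff]
  rintro _ ⟨hy, y, hy0, rfl⟩
  rw [Subgroup.mem_bot]
  have h1 := hTI g (fun h => hg ((normalizer_fittingOf_eq hG B hM).le h)) y hy0 hy
  rw [h1, map_one]

/-- The intersection of two Fitting subgroups contains a shared point for each of its primes. -/
theorem exists_sharedPoint (hG : Cfsg.IsMinSimpleOddOrder G) (B : NTBase G) (hM : IsCoatom M)
    (hg : g ∉ M) (hnil : Group.IsNilpotent (Cfsg.sigmaCore M))
    {X : Subgroup G}
    (hX : X ≤ Cfsg.fittingOf M ⊓ (Cfsg.fittingOf M).map (MulAut.conj g).toMonoidHom)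
    (hp : p.Prime) (hd : p ∣ Nat.card X) :
    ∃ x ∈ X, SharedPoint M g x p := by
  haveI := Fact.mk hp
  obtain ⟨⟨x, hx⟩, hxo⟩ := exists_prime_orderOf_dvd_card' p hd
  rw [← Subgroup.orderOf_coe] at hxo
  have h := inter_le_sigmaCore hG B.toBase hM hg (hX hx)
  exact ⟨x, hx, hG, hM, hg, hnil, hp, hxo, h.1, h.2⟩

/-- The structure of `M_σ` when the Fitting subgroup is not TI. -/
theorem inter_structure (hG : Cfsg.IsMinSimpleOddOrder G) (B : NTBase G) (hM : IsCoatom M)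
    (hg : g ∉ M)
    (hX : Cfsg.fittingOf M ⊓ (Cfsg.fittingOf M).map (MulAut.conj g).toMonoidHom ≠ ⊥) :
    (IsMulCommutative (Cfsg.sigmaCore M) ∧ Cfsg.RankLE 2 (Cfsg.sigmaCore M) ∧
        ¬ Cfsg.RankLE 1 (Cfsg.sigmaCore M)) ∨
      ∃ (p : ℕ) (x : G), SharedPoint M g x p ∧
        Nat.card ↥(Cfsg.fittingOf M ⊓ (Cfsg.fittingOf M).map (MulAut.conj g).toMonoidHom) = p ∧
        ¬ IsMulCommutative (nilPart p (Cfsg.sigmaCore M)) := by
  set X := Cfsg.fittingOf M ⊓ (Cfsg.fittingOf M).map (MulAut.conj g).toMonoidHom with hXdef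
  have hH := fittingHallOf_eq_of_inter hG B hM hg hX
  have hnil : Group.IsNilpotent (Cfsg.sigmaCore M) := hH ▸ isNilpotent_fittingHallOf M
  obtain ⟨p, hp, hd⟩ := Nat.exists_prime_and_dvd (fun h => hX (Subgroup.card_eq_one.1 h))
  haveI := Fact.mk hp
  obtain ⟨x, hxX, D⟩ := exists_sharedPoint hG B hM hg hnil le_rfl hp hd
  by_cases hP : IsMulCommutative (nilPart p (Cfsg.sigmaCore M))
  · exact Or.inl (D.abelian_case B hP)
  refine Or.inr ⟨p, x, D, ?_, hP⟩
  have hall : ∀ r : ℕ, r.Prime → r ∣ Nat.card X → r = p := by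
    intro r hr hrd
    by_contra hne
    haveI := Fact.mk hr
    obtain ⟨y, hy, D'⟩ := exists_sharedPoint hG B hM hg hnil le_rfl hr hrd
    exact D'.not_unique B (D.part_le p) (D'.part_le_centralizer hp (Ne.symm hne))
      (B.h1422 p _ CfsgLib.Solvable.isPGroup_nilPart hP)
  have hpg : IsPGroup p X := by
    refine IsPGroup.of_card (n := (Nat.card X).factorization p) ?_
    refine Nat.eq_pow_of_factorization_eq_single Nat.card_pos.ne' ?_
    ext r
    by_cases hrp : r = p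
    · rw [hrp, Finsupp.single_eq_same]
    · rw [Finsupp.single_eq_of_ne hrp]
      by_cases hr : r.Prime
      · exact Nat.factorization_eq_zero_of_not_dvd fun h => hrp (hall r hr h)
      · exact Nat.factorization_eq_zero_of_not_prime _ hr
  obtain ⟨n, hn⟩ := hpg.exists_card_eq
  have hn0 : n ≠ 0 := fun h => hX (Subgroup.card_eq_one.1 (by rw [hn, h, pow_zero]))
  by_contra hcard
  have hn2 : 2 ≤ n := by
    by_contra h
    exact hcard (by rw [hn, show n = 1 by omega, pow_one])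
  haveI := (inter_cyclic hG B.toBase hM hg).1
  obtain ⟨c, hc⟩ := IsCyclic.exists_ofOrder_eq_natCard (α := X)
  set c' : X := c ^ p ^ (n - 2) with hc'
  have hco : orderOf c' = p ^ 2 := by
    rw [hc', orderOf_pow_of_dvd (pow_pos hp.pos _).ne' (by
      rw [hc, hn]; exact pow_dvd_pow p (by omega)), hc, hn]
    rw [Nat.pow_div (by omega) hp.pos, show n - (n - 2) = 2 by omega]
  have hco' : orderOf (c' : G) = p ^ 2 := by rw [Subgroup.orderOf_coe, hco]
  have hxo : orderOf ((c' : G) ^ p) = p := by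
    rw [orderOf_pow_of_dvd hp.ne_zero (by rw [hco']; exact dvd_pow_self p (by norm_num)), hco', pow_two,
      Nat.mul_div_cancel _ hp.pos]
  have hmem := inter_le_sigmaCore hG B.toBase hM hg (X.pow_mem c'.2 p)
  have D' : SharedPoint M g ((c' : G) ^ p) p := ⟨hG, hM, hg, hnil, hp, hxo, hmem.1, hmem.2⟩
  obtain ⟨Z, -, -, -, -, -, hnp, -⟩ := D'.nonabelian_case B hP
  refine hnp _ ?_ rfl
  exact CfsgLib.Solvable.mem_nilPart hnil (inter_le_sigmaCore hG B.toBase hM hg c'.2).1 hco'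

/-- `M' ≤ F(M)` when the Fitting subgroup is not TI, with equality for `K ≠ 1`. -/
theorem derived_le_fittingOf_of_inter (hG : Cfsg.IsMinSimpleOddOrder G) (B : NTBase G)
    (hM : IsCoatom M) (hKU : Cfsg.IsSigmaDecomposition M K U) (hg : g ∉ M)
    (hX : Cfsg.fittingOf M ⊓ (Cfsg.fittingOf M).map (MulAut.conj g).toMonoidHom ≠ ⊥) :
    ⁅M, M⁆ ≤ Cfsg.fittingOf M ∧ (K ≠ ⊥ → U = ⊥ ∧ ⁅M, M⁆ = Cfsg.fittingOf M) := by
  have hH := fittingHallOf_eq_of_inter hG B hM hg hX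
  have hHF : Cfsg.sigmaCore M ≤ Cfsg.fittingOf M := hH ▸ fittingHallOf_le_fittingOf M
  have hU : K ≠ ⊥ → U = ⊥ := fun hK => by
    by_contra hU
    exact hX (inter_eq_bot_of_TI hG B.toBase hM hg (B.h1372 M hM K U hKU hK hU).2.1)
  by_cases hK : K = ⊥
  swap
  · have hd := derived_eq B.h1350 B.h1352 B.h1353 B.h1426 hM hKU hK
    rw [hU hK, bot_sup_eq] at hd
    refine ⟨hd.le.trans hHF, fun _ => ⟨hU hK, le_antisymm (hd.le.trans hHF)
      (fittingOf_le_derived hG B.toBase hM ?_)⟩⟩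
    obtain ⟨q, hq, hqd⟩ := Nat.exists_prime_and_dvd (fun h => hK (Subgroup.card_eq_one.1 h))
    exact ⟨q, hKU.hall.2.1 q hq hqd⟩
  refine ⟨?_, fun h => absurd hK h⟩
  have hnil : Group.IsNilpotent (Cfsg.sigmaCore M) := hH ▸ isNilpotent_fittingHallOf M
  obtain ⟨p, hp, hd⟩ := Nat.exists_prime_and_dvd (fun h => hX (Subgroup.card_eq_one.1 h))
  obtain ⟨x, -, D⟩ := exists_sharedPoint hG B hM hg hnil le_rfl hp hd
  have h1 := derived_le_sigma_sup B.h1350 hM hKU
  rw [hK, sup_bot_eq] at h1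
  refine h1.trans (sup_le hHF ?_)
  refine le_trans (le_inf ((Subgroup.commutator_le_self U).trans (U_le B.h1350 hM hKU))
    (hH ▸ D.derived_U_centralizes B hKU)) ?_
  rw [fittingOf_eq hG B.toBase hM]
  exact le_sup_left

/-- `F(M) = M_σ × O_{σ'}(F(M))` when the Fitting subgroup is not TI. -/
theorem fittingOf_eq_of_inter (hG : Cfsg.IsMinSimpleOddOrder G) (B : NTBase G) (hM : IsCoatom M)
    (hg : g ∉ M)
    (hX : Cfsg.fittingOf M ⊓ (Cfsg.fittingOf M).map (MulAut.conj g).toMonoidHom ≠ ⊥) :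
    Cfsg.fittingOf M = Cfsg.sigmaCore M ⊔
      Cfsg.piCoreOf {q | q.Prime ∧ q ∉ Cfsg.sigma M} (Cfsg.fittingOf M) := by
  have hH := fittingHallOf_eq_of_inter hG B hM hg hX
  have hnil : Group.IsNilpotent (Cfsg.sigmaCore M) := hH ▸ isNilpotent_fittingHallOf M
  conv_lhs => rw [(fitting_sigmaPrime hG B.toBase hM).2.2]
  rw [le_antisymm (fittingOf_le _) (S15.le_fittingOf le_rfl Subgroup.le_normalizer hnil)]

/-- The three cases. -/
theorem inter_cases (hG : Cfsg.IsMinSimpleOddOrder G) (B : NTBase G) (hM : IsCoatom M)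
    (hKU : Cfsg.IsSigmaDecomposition M K U) (hg : g ∉ M)
    (hX : Cfsg.fittingOf M ⊓ (Cfsg.fittingOf M).map (MulAut.conj g).toMonoidHom ≠ ⊥) :
    (K = ⊥ ∧ IsMulCommutative (Cfsg.fittingHallOf M) ∧ Cfsg.RankLE 2 (Cfsg.fittingHallOf M) ∧
        ¬ Cfsg.RankLE 1 (Cfsg.fittingHallOf M)) ∨
      (∃ p : ℕ, p.Prime ∧
          Nat.card ↥(Cfsg.fittingOf M ⊓ (Cfsg.fittingOf M).map (MulAut.conj g).toMonoidHom) = p ∧
          p ∈ Cfsg.sigma M ∧ p ∉ Cfsg.beta M ∧
          ¬ IsMulCommutative (Cfsg.pCore p ↥(Cfsg.fittingHallOf M)) ∧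
          IsCyclic (Cfsg.pPrimeCore p ↥(Cfsg.fittingHallOf M)) ∧
          ∀ q : ℕ, q.Prime → q ∣ Nat.card (Cfsg.fittingHallOf M) →
            Monoid.exponent (↥M ⧸ Cfsg.fittingHall ↥M) ∣ q - 1) ∨
      (∃ p : ℕ, p.Prime ∧
          Nat.card ↥(Cfsg.fittingOf M ⊓ (Cfsg.fittingOf M).map (MulAut.conj g).toMonoidHom) = p ∧
          p ∈ Cfsg.sigma M ∧ p ∉ Cfsg.beta M ∧
          IsCyclic (Cfsg.pPrimeCore p ↥(Cfsg.fittingHallOf M)) ∧
          Nat.card (Cfsg.pCore p ↥(Cfsg.fittingHallOf M)) = p ^ 3 ∧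
          ¬ IsMulCommutative (Cfsg.pCore p ↥(Cfsg.fittingHallOf M)) ∧ K ≠ ⊥ ∧ U = ⊥ ∧
          (Cfsg.fittingHallOf M).relIndex M ∣ p + 1) := by
  have hH := fittingHallOf_eq_of_inter hG B hM hg hX
  have hKU' := fun hK : K ≠ ⊥ => ((derived_le_fittingOf_of_inter hG B hM hKU hg hX).2 hK).1
  rcases inter_structure hG B hM hg hX with ⟨hc, h2, h1⟩ | ⟨p, x, D, hcard, hP⟩
  · refine Or.inl ⟨?_, by rw [hH]; exact hc, by rw [hH]; exact h2, by rw [hH]; exact h1⟩
    by_contra hK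
    have hd := derived_eq B.h1350 B.h1352 B.h1353 B.h1426 hM hKU hK
    rw [hKU' hK, bot_sup_eq] at hd
    have h3 := centralizer_K_le_derived_two hG B.h1350 B.h1352 B.h1353 B.h1426 hM hKU hK
    rw [hd] at h3
    refine (B.h1354 M hM K hKU.cyclic hKU.hall).1 (le_bot_iff.1 (h3.trans (le_of_eq ?_)))
    exact Subgroup.commutator_eq_bot_iff_le_centralizer.2 fun a ha =>
      Subgroup.mem_centralizer_iff.2 fun b hb => comm_of_mem hc hb ha
  haveI := Fact.mk D.prime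
  have hσ : p ∈ Cfsg.sigma M := (B.h1350 M hM).1.2.1 p D.prime D.dvd_card
  have hβ : p ∉ Cfsg.beta M :=
    (inter_cyclic hG B.toBase hM hg).2 p D.prime (dvd_of_eq hcard.symm)
  have hPnc : ¬ IsMulCommutative (Cfsg.pCore p ↥(Cfsg.fittingHallOf M)) := fun h => hP <| by
    have h' := isMulCommutative_map h (Cfsg.fittingHallOf M).subtype
    change IsMulCommutative (nilPart p (Cfsg.fittingHallOf M)) at h'
    rwa [hH] at h'
  have hQc : IsCyclic (Cfsg.pPrimeCore p ↥(Cfsg.fittingHallOf M)) := by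
    rw [hH]
    haveI : IsCyclic ↥((Cfsg.pPrimeCore p ↥(Cfsg.sigmaCore M)).map (Cfsg.sigmaCore M).subtype) :=
      D.primeFree_cyclic B hP
    exact isCyclic_of_surjective _ (Subgroup.equivMapOfInjective
      (Cfsg.pPrimeCore p ↥(Cfsg.sigmaCore M)) _ (Cfsg.sigmaCore M).subtype_injective).symm.surjective
  have hfh : ∀ z, z ∈ (Cfsg.fittingHall ↥M).map M.subtype ↔ z ∈ Cfsg.sigmaCore M := fun z => by
    rw [← hH]; rfl
  have hMsN := le_normalizer_sigmaCore M
  by_cases hK : K = ⊥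
  · refine Or.inr (Or.inl ⟨p, D.prime, hcard, hσ, hβ, hPnc, hQc, fun q hq hqd => ?_⟩)
    refine (exponent_quotient_dvd _ (fun m hm => ?_) (U_le B.h1350 hM hKU)).trans
      (D.exponent_U_dvd B hP hKU hK hq (hH ▸ hqd))
    obtain ⟨a, ha, b, hb, rfl⟩ := hKU.compl.2.2.2 m hm
    rw [hK, bot_sup_eq] at hb
    exact ⟨a, ha, b, (hfh b).2 hb, rfl⟩
  have hU := hKU' hK
  have hM' : ∀ m ∈ M, ∃ k ∈ K, ∃ n ∈ (Cfsg.fittingHall ↥M).map M.subtype, m = k * n := by
    intro m hm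
    rw [le_sup_of_U_eq_bot B.h1350 hM hKU hU, sup_comm] at hm
    obtain ⟨a, ha, b, hb, rfl⟩ := eq_mul_of_mem_sup ((K_le B.h1350 hM hKU).trans hMsN) hm
    refine ⟨b, hb, b⁻¹ * a * b, (hfh _).2 ?_, by group⟩
    simpa using (Subgroup.mem_normalizer_iff.1
      (inv_mem (hMsN (K_le B.h1350 hM hKU hb))) a).1 ha
  rcases D.card_K_dvd B hP hKU hK hU with h | ⟨hc3, hdvd⟩
  · refine Or.inr (Or.inl ⟨p, D.prime, hcard, hσ, hβ, hPnc, hQc, fun q hq hqd => ?_⟩)
    refine (exponent_quotient_dvd _ hM' (K_le B.h1350 hM hKU)).trans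
      (Group.exponent_dvd_nat_card.trans (h q hq (hH ▸ hqd)))
  · refine Or.inr (Or.inr ⟨p, D.prime, hcard, hσ, hβ, hQc, ?_, hPnc, hK, hU, ?_⟩)
    · rw [hH, ← hc3]
      exact (Subgroup.card_map_of_injective (Cfsg.sigmaCore M).subtype_injective).symm
    · rw [hH]
      have h1 : Nat.card (Cfsg.sigmaCore M) * (Cfsg.sigmaCore M).relIndex M = Nat.card M := by
        rw [← Subgroup.relIndex_bot_left, ← Subgroup.relIndex_bot_left,
          Subgroup.relIndex_mul_relIndex ⊥ _ M bot_le (sigmaCore_le M)]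
      rw [card_M B.h1350 hM hKU, hU, Subgroup.card_bot, one_mul, mul_comm (Nat.card K)] at h1
      exact Nat.eq_of_mul_eq_mul_left Nat.card_pos h1 ▸ hdvd

end CfsgLib.OddLocal.S15
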