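import Cfsg.Agent.Lib.OddLocal.S15Hyp
import Cfsg.Agent.Lib.OddLocal.MaxBasic
import Cfsg.Agent.Lib.OddLocal.S15Decomp
import Cfsg.Agent.Lib.OddLocal.Ten.RankOne
import Cfsg.Agent.Lib.Solvable.NilpotentParts

/-!
# General lemmas for the subgroups with non-TI Fitting subgroup
-/

set_option autoImplicit false
set_option linter.style.haveILetI false
set_option linter.unusedSectionVars false

open scoped Pointwise commutatorElement

namespace CfsgLib.OddLocal.S15

universe u

variable {G : Type u} [Group G] [Finite G]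

/-- An automorphism group of odd order and coprime to `p` of a narrow `p`-group is abelian; in
subgroup form: the derived subgroup centralises. -/
theorem derived_le_centralizer_narrow (h1454 : Hyp1454.{u}) {p : ℕ} [hp : Fact p.Prime] (hp2 : p ≠ 2)
    {R A : Subgroup G} (hR : IsPGroup p R) (hn : Cfsg.IsNarrow p R)
    (hA : A ≤ Subgroup.normalizer (R : Set G)) (hAs : Group.IsSolvable A)
    (hodd : Odd (Nat.card A)) (hco : (Nat.card A).Coprime p) :
    ⁅A, A⁆ ≤ Subgroup.centralizer (R : Set G) := by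
  set N := Subgroup.normalizer (R : Set G)
  set ν : N →* MulAut R := R.normalizerMonoidHom
  set ψ : A →* MulAut R := ν.comp (Subgroup.inclusion hA) with hψ
  let S := R ⋊[MonoidHom.id (MulAut R)] MulAut R
  haveI : Finite S := Finite.of_equiv _ SemidirectProduct.equivProd.symm
  set ι : R →* S := SemidirectProduct.inl
  set R' : Subgroup S := ι.range
  set f : A →* S := SemidirectProduct.inr.comp ψ with hf
  set A' : Subgroup S := f.range
  let e : R ≃* R' := MonoidHom.ofInjective SemidirectProduct.inl_injective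
  have hA'd : Nat.card A' ∣ Nat.card A := Subgroup.card_range_dvd f
  have hnorm : A' ≤ Subgroup.normalizer (R' : Set S) := by
    rintro _ ⟨a, rfl⟩
    rw [← map_conj_eq_self_iff]
    refine Subgroup.eq_of_le_of_card_ge ?_ (card_map_conj _ _).ge
    rintro _ ⟨_, ⟨r, rfl⟩, rfl⟩
    refine ⟨ψ a r, ?_⟩
    show _ = f a * ι r * (f a)⁻¹
    simpa [hf, ι, map_inv] using SemidirectProduct.inl_aut (φ := MonoidHom.id (MulAut R)) (ψ a) r
  have hfaith : A' ⊓ Subgroup.centralizer (R' : Set S) = ⊥ := by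
    rw [eq_bot_iff]
    rintro _ ⟨⟨a, rfl⟩, hc⟩
    rw [Subgroup.mem_bot]
    have h1 : ψ a = 1 := by
      refine MulEquiv.ext fun r => SemidirectProduct.inl_injective (φ := MonoidHom.id (MulAut R)) ?_
      have h2 : ι r * f a = f a * ι r := Subgroup.mem_centralizer_iff.1 hc _ ⟨r, rfl⟩
      have h3 : f a * ι r * (f a)⁻¹ = ι r := by rw [← h2, mul_inv_cancel_right]
      simp only [hf, ι, MonoidHom.comp_apply] at h3
      rw [← map_inv] at h3
      exact (SemidirectProduct.inl_aut (φ := MonoidHom.id (MulAut R)) (ψ a) r).trans h3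
    rw [hf, MonoidHom.comp_apply, h1, map_one]
  have hA's : Group.IsSolvable A' := by
    haveI := hAs
    exact Group.isSolvable_of_surjective f.rangeRestrict_surjective
  have hn' : Cfsg.IsNarrow p R' := by
    rcases hn with h | ⟨R₀, R₁, h0, h1, h2, h3, h4⟩
    · exact Or.inl (CfsgLib.PGroup.pRankLE_of_injective h e.symm.toMonoidHom e.symm.injective)
    · refine Or.inr ⟨R₀.map e.toMonoidHom, R₁.map e.toMonoidHom, ?_, ?_, ?_, ?_, ?_⟩
      · rw [Subgroup.card_map_of_injective (f := e.toMonoidHom) e.injective, h0]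
      · exact isCyclic_of_surjective _
          (Subgroup.equivMapOfInjective R₁ e.toMonoidHom e.injective).surjective
      · rw [← Subgroup.map_inf R₀ R₁ e.toMonoidHom e.injective, h2, Subgroup.map_bot]
      · rintro _ ⟨a, ha, rfl⟩ _ ⟨b, hb, rfl⟩
        rw [← map_mul, h3 a ha b hb, map_mul]
      · rw [← Subgroup.map_sup, h4]
        ext x
        constructor
        · rintro ⟨y, hy, rfl⟩
          refine Subgroup.mem_centralizer_iff.2 ?_
          rintro _ ⟨z, hz, rfl⟩
          rw [← map_mul, Subgroup.mem_centralizer_iff.1 hy z hz, map_mul]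
        · intro hx
          refine ⟨e.symm x, Subgroup.mem_centralizer_iff.2 fun z hz => e.injective ?_,
            e.apply_symm_apply x⟩
          rw [map_mul, map_mul, e.apply_symm_apply]
          exact Subgroup.mem_centralizer_iff.1 hx _ ⟨z, hz, rfl⟩
  obtain ⟨⟨hcore, -⟩, -⟩ := h1454 p hp2 R' A' (hR.of_equiv e) hn' hnorm hA's
    (hodd.of_dvd_nat hA'd) hfaith
  have hbot : Cfsg.pCore p A' = ⊥ := by
    refine Subgroup.card_eq_one.1 ?_
    obtain ⟨k, hk⟩ := (CfsgLib.Cores.isPGroup_pCore (G := A') p).exists_card_eq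
    rcases Nat.eq_zero_or_pos k with hk0 | hk0
    · rw [hk, hk0, pow_zero]
    · exfalso
      have h1 : p ∣ Nat.card A := by
        have h2 := Subgroup.card_subgroup_dvd_card (Cfsg.pCore p A')
        rw [hk] at h2
        exact ((dvd_pow_self p hk0.ne').trans h2).trans hA'd
      exact (hp.out.coprime_iff_not_dvd.1 hco.symm) h1
  rw [hbot, le_bot_iff] at hcore
  rw [Subgroup.commutator_le]
  intro a ha b hb
  have hc : f.rangeRestrict ⁅(⟨a, ha⟩ : A), ⟨b, hb⟩⁆ = 1 := by
    rw [map_commutatorElement, ← Subgroup.mem_bot, ← hcore, commutator_def]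
    exact Subgroup.commutator_mem_commutator (Subgroup.mem_top _) (Subgroup.mem_top _)
  have h1 : ψ ⁅(⟨a, ha⟩ : A), ⟨b, hb⟩⁆ = 1 :=
    SemidirectProduct.inr_injective (φ := MonoidHom.id (MulAut R))
      ((congrArg Subtype.val hc).trans (map_one _).symm)
  refine Subgroup.mem_centralizer_iff.2 fun x hx => ?_
  have h2 : ⁅a, b⁆ * x * ⁅a, b⁆⁻¹ = x :=
    congrArg (fun φ : MulAut R => ((φ ⟨x, hx⟩ : R) : G)) h1
  exact (mul_inv_eq_iff_eq_mul.1 h2).symm

/-- An abelian group of odd order and rank at most one is cyclic. -/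
theorem isCyclic_of_comm_rankLE_one {A : Subgroup G} (hc : IsMulCommutative A)
    (hodd : Odd (Nat.card A)) (hr : Cfsg.RankLE 1 A) : IsCyclic A := by
  haveI := hc
  haveI := Ten.isZGroup_of_rankLE_one hodd hr
  haveI : Group.IsNilpotent A := by
    letI : CommGroup A :=
      { (inferInstance : Group A) with mul_comm := fun a b => hc.is_comm.comm a b }
    infer_instance
  infer_instance

/-- Conjugation by `k ^ (q - 1)` is trivial on a normalised subgroup of prime order `q`. -/
theorem pow_pred_mem_centralizer {q : ℕ} (hq : q.Prime) {Z : Subgroup G} (hZ : Nat.card Z = q)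
    {k : G} (hk : k ∈ Subgroup.normalizer (Z : Set G)) :
    k ^ (q - 1) ∈ Subgroup.centralizer (Z : Set G) := by
  haveI := Fact.mk hq
  haveI : IsCyclic Z := isCyclic_of_prime_card hZ
  have h1 : Z.normalizerMonoidHom (⟨k, hk⟩ ^ (q - 1)) = 1 := by
    rw [map_pow]
    have : Nat.card (MulAut Z) = q - 1 := by rw [IsCyclic.card_mulAut, hZ, Nat.totient_prime hq]
    rw [← this]
    exact pow_card_eq_one'
  refine Subgroup.mem_centralizer_iff.2 fun x hx => ?_
  have h2 : k ^ (q - 1) * x * (k ^ (q - 1))⁻¹ = x :=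
    congrArg (fun φ : MulAut Z => ((φ ⟨x, hx⟩ : Z) : G)) h1
  exact (mul_inv_eq_iff_eq_mul.1 h2).symm

/-- Subgroups of equal order in a cyclic group coincide. -/
theorem eq_of_le_cyclic {R Y Y' : Subgroup G} (hR : IsCyclic R) (hY : Y ≤ R) (hY' : Y' ≤ R)
    (hc : Nat.card Y' = Nat.card Y) : Y' = Y := by
  haveI := hR
  set n := Nat.card Y with hn
  set S : Set R := {a | a ^ n = 1}
  have hS : S.ncard ≤ n := by
    classical
    haveI := Fintype.ofFinite R
    refine le_of_eq_of_le ?_ (IsCyclic.card_pow_eq_one_le (α := R) (Nat.card_pos))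
    rw [Set.ncard_eq_toFinset_card']
    congr 1
    ext a
    simp [S]
  have hsub : ∀ W : Subgroup G, W ≤ R → Nat.card W = n → ((W.subgroupOf R : Subgroup R) : Set R) = S := by
    intro W hW hWc
    refine Set.eq_of_subset_of_ncard_le (fun a ha => ?_) ?_
    · refine Subtype.ext ?_
      rw [SubmonoidClass.coe_pow, OneMemClass.coe_one, ← hWc]
      exact congrArg Subtype.val (pow_card_eq_one' (x := (⟨a, ha⟩ : W)))
    · refine hS.trans (le_of_eq ?_)
      rw [← Nat.card_coe_set_eq, ← hWc]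
      exact (Nat.card_congr (Subgroup.subgroupOfEquivOfLe hW).toEquiv).symm
  have h := (hsub Y hY rfl).trans (hsub _ hY' hc).symm
  have h' := congrArg (Subgroup.map R.subtype) (SetLike.coe_injective h.symm)
  rwa [Subgroup.map_subgroupOf_eq_of_le hY', Subgroup.map_subgroupOf_eq_of_le hY] at h'

theorem le_normalizer_of_le_cyclic {R Y : Subgroup G} (hR : IsCyclic R) (hY : Y ≤ R) :
    Subgroup.normalizer (R : Set G) ≤ Subgroup.normalizer (Y : Set G) := fun g hg =>
  map_conj_eq_self_iff.1 (eq_of_le_cyclic hR hY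
    ((Subgroup.map_mono hY).trans (map_conj_eq_self_iff.2 hg).le) (card_map_conj g Y))

/-- The exponent of `M/N` divides that of a complement. -/
theorem exponent_quotient_dvd {M U : Subgroup G} (N : Subgroup M) [N.Normal]
    (hM : ∀ m ∈ M, ∃ u ∈ U, ∃ n ∈ N.map M.subtype, m = u * n) (hU : U ≤ M) :
    Monoid.exponent (↥M ⧸ N) ∣ Monoid.exponent U := by
  refine Monoid.exponent_dvd_of_forall_pow_eq_one fun y => ?_
  obtain ⟨⟨m, hm⟩, rfl⟩ := QuotientGroup.mk'_surjective N y
  obtain ⟨u, hu, n, ⟨n', hn', rfl⟩, he⟩ := hM m hm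
  have h1 : (⟨m, hm⟩ : M) = ⟨u, hU hu⟩ * n' := Subtype.ext he
  have hn1 : QuotientGroup.mk' N n' = 1 := (QuotientGroup.eq_one_iff n').2 hn'
  rw [h1, map_mul, hn1, mul_one, ← map_pow]
  have h2 : (⟨u, hU hu⟩ : M) ^ Monoid.exponent U = 1 := by
    refine Subtype.ext ?_
    have h3 := congrArg Subtype.val (Monoid.pow_exponent_eq_one (⟨u, hu⟩ : U))
    rw [SubmonoidClass.coe_pow, OneMemClass.coe_one] at h3 ⊢
    exact h3
  rw [h2, map_one]

/-- Powers in a commutator with central value. -/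
theorem commutatorElement_pow_of_commute {x y : G} (hx : Commute ⁅x, y⁆ x) (hy : Commute ⁅x, y⁆ y)
    (m n : ℕ) : ⁅x ^ m, y ^ n⁆ = ⁅x, y⁆ ^ (m * n) := by
  have key : ∀ (a b : G), Commute ⁅a, b⁆ a → ∀ m : ℕ, a ^ m * b = ⁅a, b⁆ ^ m * b * a ^ m := by
    intro a b hc m
    induction m with
    | zero => simp
    | succ m ih =>
      have e : a * b = ⁅a, b⁆ * (b * a) := by rw [commutatorElement_def]; group
      rw [pow_succ a m, mul_assoc, e, ← mul_assoc, (hc.symm.pow_left m).eq, mul_assoc,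
        ← mul_assoc (a ^ m) b a, ih, pow_succ' ⁅a, b⁆ m]
      simp only [mul_assoc]
  have h1 : ⁅x ^ m, y⁆ = ⁅x, y⁆ ^ m := by
    rw [commutatorElement_def (x ^ m), key x y hx m]; group
  have e2 : ⁅y, x ^ m⁆ = (⁅x, y⁆ ^ m)⁻¹ := by rw [← h1, commutatorElement_inv]
  have h2 := key y (x ^ m) (by rw [e2]; exact (hy.pow_left m).inv_left) n
  rw [← commutatorElement_inv (y ^ n) (x ^ m), commutatorElement_def (y ^ n), h2, e2, inv_pow,
    ← pow_mul]
  group

/-- A group acting without fixed lines on a group of order `p ^ 3` has order dividing `p + 1`. -/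
theorem card_dvd_succ_of_free_lines {p : ℕ} [hp : Fact p.Prime] {P Z K : Subgroup G}
    (hKP : K ≤ Subgroup.normalizer (P : Set G)) (hKZ : K ≤ Subgroup.normalizer (Z : Set G))
    (hZP : Z ≤ P) (hPc : Nat.card P = p ^ 3) (hZc : Nat.card Z = p)
    (hcen : P ≤ Subgroup.centralizer (Z : Set G)) (hexp : ∀ w ∈ P, w ^ p = 1)
    (hfree : ∀ k ∈ K, k ≠ 1 → ∀ W : Subgroup G, Z ≤ W → W ≤ P → Nat.card W = p ^ 2 →
      k ∉ Subgroup.normalizer (W : Set G)) : Nat.card K ∣ p + 1 := by
  classical
  let S := {W : Subgroup G // Z ≤ W ∧ W ≤ P ∧ Nat.card W = p ^ 2}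
  have hline : ∀ w ∈ P, w ∉ Z → Nat.card ↥(Z ⊔ Subgroup.zpowers w) = p ^ 2 := by
    intro w hw hwZ
    have ho : orderOf w = p := orderOf_eq_prime (hexp w hw) (fun h => hwZ (h ▸ one_mem Z))
    rw [card_sup_of_normalizes ((Subgroup.zpowers_le.2 (hcen hw)).trans
      (Subgroup.centralizer_le_normalizer _)), hZc, Nat.card_zpowers, ho, pow_two]
    rw [eq_bot_iff]
    rintro z ⟨hzZ, hzw⟩
    by_contra hz1
    rw [Subgroup.mem_bot] at hz1
    have h1 : Subgroup.zpowers z = Subgroup.zpowers w := Subgroup.eq_of_le_of_card_ge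
      (Subgroup.zpowers_le.2 hzw) (by
        rw [Nat.card_zpowers, Nat.card_zpowers, ho,
          orderOf_eq_prime (hexp z (hZP hzZ)) hz1])
    exact hwZ (Subgroup.zpowers_le.2 hzZ (h1.symm ▸ Subgroup.mem_zpowers w))
  have hWZ : ∀ W : S, ((W.1 : Set G) \ (Z : Set G)).ncard = p ^ 2 - p := by
    intro W
    rw [Set.ncard_sdiff W.2.1, ← Nat.card_coe_set_eq, ← Nat.card_coe_set_eq]
    show Nat.card W.1 - Nat.card Z = _
    rw [W.2.2.2, hZc]
  let Φ : ↥((P : Set G) \ (Z : Set G)) ≃ Σ W : S, ↥((W.1 : Set G) \ (Z : Set G)) :=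
    { toFun := fun w => ⟨⟨Z ⊔ Subgroup.zpowers w.1, le_sup_left,
          sup_le hZP (Subgroup.zpowers_le.2 w.2.1), hline w.1 w.2.1 w.2.2⟩,
        ⟨w.1, Subgroup.mem_sup_right (Subgroup.mem_zpowers _), w.2.2⟩⟩
      invFun := fun s => ⟨s.2.1, s.1.2.2.1 s.2.2.1, s.2.2.2⟩
      left_inv := fun w => rfl
      right_inv := fun s => by
        obtain ⟨⟨W, hW1, hW2, hW3⟩, ⟨w, hw1, hw2⟩⟩ := s
        have he : Z ⊔ Subgroup.zpowers w = W := Subgroup.eq_of_le_of_card_ge
          (sup_le hW1 (Subgroup.zpowers_le.2 hw1)) (by rw [hline w (hW2 hw1) hw2, hW3])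
        subst he
        rfl }
  haveI : Fintype S := Fintype.ofFinite S
  have hcount : p ^ 3 - p = Nat.card S * (p ^ 2 - p) := by
    have h1 := Nat.card_congr Φ
    rw [Nat.card_sigma, Nat.card_coe_set_eq, Set.ncard_sdiff hZP] at h1
    simp only [Nat.card_coe_set_eq, hWZ, Finset.sum_const, smul_eq_mul, Finset.card_univ] at h1
    rw [← Nat.card_coe_set_eq, ← Nat.card_coe_set_eq] at h1
    change Nat.card P - Nat.card Z = _ at h1
    rw [hPc, hZc] at h1
    rw [h1, Nat.card_eq_fintype_card]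
  have hS : Nat.card S = p + 1 := by
    have h2 := hp.out.two_le
    have h3 : p ≤ p ^ 2 := Nat.le_self_pow (by norm_num) p
    have h4 : p ≤ p ^ 3 := Nat.le_self_pow (by norm_num) p
    refine Nat.eq_of_mul_eq_mul_right (show 0 < p ^ 2 - p by
      have : p < p ^ 2 := lt_self_pow₀ hp.out.one_lt (by norm_num)
      omega) (hcount.symm.trans ?_)
    zify [h3, h4]
    ring
  letI : MulAction K S :=
    { smul := fun k W => ⟨W.1.map (MulAut.conj (k : G)).toMonoidHom,
        by
          have h := Subgroup.map_mono (f := (MulAut.conj (k : G)).toMonoidHom) W.2.1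
          rwa [map_conj_eq_self_iff.2 (hKZ k.2)] at h,
        by
          have h := Subgroup.map_mono (f := (MulAut.conj (k : G)).toMonoidHom) W.2.2.1
          rwa [map_conj_eq_self_iff.2 (hKP k.2)] at h,
        (card_map_conj _ _).trans W.2.2.2⟩
      one_smul := fun W => Subtype.ext (map_conj_one W.1)
      mul_smul := fun a b W => Subtype.ext (map_conj_map_conj (a : G) (b : G) W.1).symm }
  have hst : ∀ W : S, MulAction.stabilizer K W = ⊥ := by
    intro W
    rw [eq_bot_iff]
    intro k hk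
    rw [Subgroup.mem_bot]
    by_contra hk1
    refine hfree k k.2 (fun h => hk1 (Subtype.ext h)) W.1 W.2.1 W.2.2.1 W.2.2.2 ?_
    exact map_conj_eq_self_iff.1 (congrArg Subtype.val (MulAction.mem_stabilizer_iff.1 hk))
  have := Nat.card_congr (MulAction.selfEquivOrbitsQuotientProd hst)
  rw [Nat.card_prod, hS] at this
  exact this ▸ dvd_mul_left _ _

end CfsgLib.OddLocal.S15
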