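import Cfsg.Agent.Lib.OddLocal.S15NonTI
import Cfsg.Agent.Lib.OddLocal.S15NonTITools
import Cfsg.Agent.Lib.OddLocal.BGTools
import Cfsg.Agent.Lib.OddLocal.Ten.Narrow
import Cfsg.Agent.Lib.OddLocal.Ten.SylowFusion

/-!
# Fitting subgroups that are not TI: the structure at a shared point
-/

set_option autoImplicit false
set_option linter.style.haveILetI false
set_option linter.unusedSectionVars false

open scoped Pointwise commutatorElement
open CfsgLib.Solvable (nilPart)

namespace CfsgLib.OddLocal.S15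

universe u

variable {G : Type u} [Group G] [Finite G] {M : Subgroup G} {g x : G} {p : ℕ}

theorem ne_two_of_dvd_card (hG : Cfsg.IsMinSimpleOddOrder G) {X : Subgroup G} {p : ℕ}
    (hd : p ∣ Nat.card X) : p ≠ 2 := fun h =>
  Nat.not_even_iff_odd.2 hG.1 (even_iff_two_dvd.2
    ((h ▸ hd).trans (Subgroup.card_subgroup_dvd_card X)))

/-- A shared point: `x ∈ M_σ ∩ M^g`, `g ∉ M`, of prime order `p`. -/
structure SharedPoint (M : Subgroup G) (g x : G) (p : ℕ) : Prop where
  hG : Cfsg.IsMinSimpleOddOrder G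
  max : IsCoatom M
  notMem : g ∉ M
  nil : Group.IsNilpotent (Cfsg.sigmaCore M)
  prime : p.Prime
  order : orderOf x = p
  mem : x ∈ Cfsg.sigmaCore M
  mem' : x ∈ M.map (MulAut.conj g).toMonoidHom

namespace SharedPoint

variable (D : SharedPoint M g x p)
include D

theorem x_ne_one : x ≠ 1 := fun h => D.prime.ne_one (by rw [← D.order, h, orderOf_one])

theorem dvd_card : p ∣ Nat.card (Cfsg.sigmaCore M) := by
  rw [← D.order]
  exact Subgroup.orderOf_dvd_natCard _ D.mem

theorem ne_two : p ≠ 2 := ne_two_of_dvd_card D.hG D.dvd_card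

theorem mem_part : x ∈ nilPart p (Cfsg.sigmaCore M) := by
  haveI := Fact.mk D.prime
  exact CfsgLib.Solvable.mem_nilPart D.nil D.mem (i := 1) (by rw [D.order, pow_one])

theorem not_unique (B : NTBase G) {Z : Subgroup G} (hZM : Z ≤ M)
    (hZC : Z ≤ Subgroup.centralizer ({x} : Set G)) : ¬ Cfsg.InUniqueMaximal Z :=
  not_unique_le_centralizer D.hG B.h1374 D.max D.notMem D.mem D.x_ne_one D.mem' hZM hZC

theorem part_le (r : ℕ) : nilPart r (Cfsg.sigmaCore M) ≤ M :=
  CfsgLib.Solvable.nilPart_le.trans (sigmaCore_le M)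

theorem le_normalizer_part (r : ℕ) :
    M ≤ Subgroup.normalizer (nilPart r (Cfsg.sigmaCore M) : Set G) :=
  (le_normalizer_sigmaCore M).trans (CfsgLib.Solvable.normalizer_le_normalizer_nilPart r _)

theorem part_le_centralizer {r : ℕ} (hr : r.Prime) (h : r ≠ p) :
    nilPart r (Cfsg.sigmaCore M) ≤ Subgroup.centralizer ({x} : Set G) := by
  haveI := Fact.mk hr
  haveI := Fact.mk D.prime
  exact fun z hz => Subgroup.mem_centralizer_singleton_iff.2
    (CfsgLib.Solvable.commute_nilPart D.nil h hz D.mem_part)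

/-- The parts away from `p` are central in `M_σ`. -/
theorem part_central (B : NTBase G) {r : ℕ} (hr : r.Prime) (h : r ≠ p) :
    nilPart r (Cfsg.sigmaCore M) ≤ Subgroup.centralizer (Cfsg.sigmaCore M : Set G) := by
  haveI := Fact.mk hr
  have hab : IsMulCommutative (nilPart r (Cfsg.sigmaCore M)) := by
    by_contra hna
    exact D.not_unique B (D.part_le r) (D.part_le_centralizer hr h)
      (B.h1422 r _ CfsgLib.Solvable.isPGroup_nilPart hna)
  intro z hz
  refine Subgroup.mem_centralizer_iff.2 (CfsgLib.Solvable.commute_of_central_nilPart D.nil hz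
    fun w hw => comm_of_mem hab hw hz)

/-- The case of an abelian Sylow subgroup. -/
theorem abelian_case (B : NTBase G) (hP : IsMulCommutative (nilPart p (Cfsg.sigmaCore M))) :
    IsMulCommutative (Cfsg.sigmaCore M) ∧ Cfsg.RankLE 2 (Cfsg.sigmaCore M) ∧
      ¬ Cfsg.RankLE 1 (Cfsg.sigmaCore M) := by
  haveI := Fact.mk D.prime
  set H := Cfsg.sigmaCore M
  have hcen : H ≤ Subgroup.centralizer (H : Set G) := by
    refine CfsgLib.Solvable.le_of_nilPart_le D.nil fun r hr _ => ?_
    by_cases h : r = p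
    · subst h
      intro z hz
      exact Subgroup.mem_centralizer_iff.2 (CfsgLib.Solvable.commute_of_central_nilPart D.nil hz
        fun w hw => comm_of_mem hP hw hz)
    · exact D.part_central B hr h
  have hc : IsMulCommutative H := ⟨⟨fun a b => Subtype.ext
    (Subgroup.mem_centralizer_iff.1 (hcen b.2) a a.2)⟩⟩
  have h1 : ¬ Cfsg.RankLE 1 H := by
    intro hr
    have hPc : IsCyclic (nilPart p H) := BG.isCyclic_of_pRankLE_one D.ne_two
      CfsgLib.Solvable.isPGroup_nilPart (CfsgLib.PGroup.pRankLE_of_injective (hr p D.prime)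
        (Subgroup.inclusion CfsgLib.Solvable.nilPart_le) (Subgroup.inclusion_injective _))
    have hxP : Subgroup.zpowers x ≤ nilPart p H := Subgroup.zpowers_le.2 D.mem_part
    have hn : Subgroup.normalizer (Subgroup.zpowers x : Set G) = M :=
      normalizer_eq_of_normal D.hG D.max (hxP.trans (D.part_le p))
        (fun h => D.x_ne_one (Subgroup.zpowers_eq_bot.1 h))
        ((D.le_normalizer_part p).trans (le_normalizer_of_le_cyclic hPc hxP))
    refine centralizer_not_le D.hG B.h1374 D.max D.notMem D.mem D.x_ne_one D.mem' ?_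
    rw [← centralizer_zpowers]
    exact (Subgroup.centralizer_le_normalizer _).trans hn.le
  refine ⟨hc, ?_, h1⟩
  by_contra h2
  refine D.not_unique B (sigmaCore_le M) (fun z hz => ?_) (B.h1403 H
    (fun h => D.max.1 (top_le_iff.1 (h ▸ sigmaCore_le M))) h1 (Or.inl h2))
  exact Subgroup.mem_centralizer_singleton_iff.2 (comm_of_mem hc hz D.mem)

theorem part_sylow (h1350 : Hyp1350 G) :
    ∃ S : Sylow p G, (S : Subgroup G) = nilPart p (Cfsg.sigmaCore M) := by
  haveI hp := Fact.mk D.prime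
  set H := Cfsg.sigmaCore M
  set P := nilPart p H
  have hσ : p ∈ Cfsg.sigma M := prime_mem_sigma_of_mem_sigmaCore h1350 D.max D.mem D.prime
    (by rw [D.order])
  have hPi : ¬ p ∣ P.relIndex H := by
    intro hd
    have h1 : p ^ ((Nat.card H).factorization p + 1) ∣ Nat.card H := by
      rw [pow_succ]
      have h2 : Nat.card P * P.relIndex H = Nat.card H := by
        rw [← Subgroup.relIndex_bot_left, ← Subgroup.relIndex_bot_left,
          Subgroup.relIndex_mul_relIndex ⊥ P H bot_le CfsgLib.Solvable.nilPart_le]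
      rw [CfsgLib.Solvable.card_nilPart D.nil] at h2
      exact (Nat.mul_dvd_mul dvd_rfl hd).trans h2.dvd
    exact Nat.pow_succ_factorization_not_dvd Nat.card_pos.ne' D.prime h1
  refine ⟨IsPGroup.toSylow (P := P) CfsgLib.Solvable.isPGroup_nilPart ?_, rfl⟩
  rw [← Subgroup.relIndex_mul_index (CfsgLib.Solvable.nilPart_le : P ≤ H)]
  exact fun h => (D.prime.dvd_mul.1 h).elim hPi ((h1350 M D.max).2.1.2 p D.prime hσ)

/-- The case of a nonabelian Sylow subgroup `P`. -/
theorem nonabelian_case (B : NTBase G) (hP : ¬ IsMulCommutative (nilPart p (Cfsg.sigmaCore M))) :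
    ∃ Z : Subgroup G, Z ≤ nilPart p (Cfsg.sigmaCore M) ∧
      nilPart p (Cfsg.sigmaCore M) ≤ Subgroup.centralizer (Z : Set G) ∧ Nat.card Z = p ∧
      M ≤ Subgroup.normalizer (Z : Set G) ∧
      Cfsg.IsNarrow p (nilPart p (Cfsg.sigmaCore M)) ∧
      (∀ c ∈ nilPart p (Cfsg.sigmaCore M), c ^ p ≠ x) ∧
      ((∃ T : Subgroup G, T ≤ nilPart p (Cfsg.sigmaCore M) ∧
          M ≤ Subgroup.normalizer (T : Set G) ∧
          T.relIndex (nilPart p (Cfsg.sigmaCore M)) = p ∧ Z ≤ T ∧ x ∉ T) ∨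
       ∃ P₁ P₂ : Subgroup G, P₁ ⊔ P₂ = nilPart p (Cfsg.sigmaCore M) ∧
          (∀ a ∈ P₁, ∀ b ∈ P₂, a * b = b * a) ∧ ¬ IsMulCommutative P₁ ∧
          Nat.card P₁ = p ^ 3 ∧ Monoid.exponent P₁ = p ∧ IsCyclic P₂ ∧
          Subgroup.closure {y : G | y ∈ P₂ ∧ y ^ p = 1} = P₁ ⊓ Subgroup.centralizer (P₁ : Set G)) := by
  haveI hpf := Fact.mk D.prime
  set P := nilPart p (Cfsg.sigmaCore M)
  have hPp : IsPGroup p P := CfsgLib.Solvable.isPGroup_nilPart
  have hxP : x ∈ P := D.mem_part
  have hPU := B.h1422 p P hPp hP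
  have hxZ : x ∉ Subgroup.centralizer (P : Set G) := fun h => D.not_unique B (D.part_le p)
    (fun z hz => Subgroup.mem_centralizer_singleton_iff.2 (Subgroup.mem_centralizer_iff.1 h z hz)) hPU
  set C := P ⊓ Subgroup.centralizer ({x} : Set G)
  have hCM : C ≤ M := inf_le_left.trans (D.part_le p)
  have hCab : IsMulCommutative C := by
    by_contra hna
    exact D.not_unique B hCM inf_le_right (B.h1422 p C (hPp.to_le inf_le_left) hna)
  -- the central elements of order `p`
  let Z : Subgroup G :=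
    { carrier := {z | z ∈ P ⊓ Subgroup.centralizer (P : Set G) ∧ z ^ p = 1}
      one_mem' := ⟨one_mem _, one_pow p⟩
      mul_mem' := fun {a b} ha hb => ⟨mul_mem ha.1 hb.1, by
        have hab : Commute a b := Subgroup.mem_centralizer_iff.1 hb.1.2 a ha.1.1
        rw [hab.mul_pow, ha.2, hb.2, mul_one]⟩
      inv_mem' := fun {a} ha => ⟨inv_mem ha.1, by rw [inv_pow, ha.2, inv_one]⟩ }
  have hZP : Z ≤ P := fun z hz => hz.1.1
  have hPZ : P ≤ Subgroup.centralizer (Z : Set G) := fun a ha =>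
    Subgroup.mem_centralizer_iff.2 fun z hz => (Subgroup.mem_centralizer_iff.1 hz.1.2 a ha).symm
  have hZe : Cfsg.IsElementaryAbelian p Z := ⟨⟨⟨fun a b => Subtype.ext
    (Subgroup.mem_centralizer_iff.1 b.2.1.2 a a.2.1.1)⟩⟩, fun a ha => ha.2⟩
  have hMZ : M ≤ Subgroup.normalizer (Z : Set G) := fun m hm => by
    have hmP := D.le_normalizer_part p hm
    rw [← map_conj_eq_self_iff]
    refine Subgroup.eq_of_le_of_card_ge ?_ (card_map_conj _ _).ge
    rintro _ ⟨z, hz, rfl⟩
    refine ⟨⟨(Subgroup.mem_normalizer_iff.1 hmP z).1 hz.1.1, ?_⟩, ?_⟩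
    · exact (Subgroup.mem_normalizer_iff.1 (mem_normalizer_centralizer hmP) z).1 hz.1.2
    · show (MulAut.conj m) z ^ p = 1
      rw [← map_pow, hz.2, map_one]
  obtain ⟨z₀, hz₀, hz₀o, hz₀c⟩ := CfsgLib.Solvable.exists_central_of_prime_dvd (p := p)
    (A := P) hPp.isNilpotent ((dvd_of_eq D.order.symm).trans (Subgroup.orderOf_dvd_natCard _ hxP))
  have hz₀Z : z₀ ∈ Z := ⟨⟨hz₀, Subgroup.mem_centralizer_iff.2 hz₀c⟩, by rw [← hz₀o, pow_orderOf_eq_one]⟩
  have hZC : Z ≤ C := le_inf hZP fun z hz => Subgroup.mem_centralizer_singleton_iff.2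
    (Subgroup.mem_centralizer_iff.1 hz.1.2 x hxP).symm
  have hxC : x ∈ C := ⟨hxP, Subgroup.mem_centralizer_singleton_iff.2 rfl⟩
  have hxn : x ∉ Z := fun h => hxZ h.1.2
  -- `E = ⟨x⟩ × Z`
  set E := Z ⊔ Subgroup.zpowers x
  have hE : Cfsg.IsElementaryAbelian p E := CfsgLib.PGroup.elemAb_sup hZe
    (CfsgLib.PGroup.elemAb_zpowers (by rw [← D.order, pow_orderOf_eq_one])) fun a ha b hb =>
      comm_of_mem hCab (hZC ha) ((Subgroup.zpowers_le.2 hxC) hb)
  have hEC : E ≤ C := sup_le hZC (Subgroup.zpowers_le.2 hxC)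
  have hEcard : Nat.card E = Nat.card Z * p := by
    rw [card_sup_of_normalizes (K := Subgroup.zpowers x), Nat.card_zpowers, D.order]
    · exact Subgroup.zpowers_le.2 ((hPZ.trans (Subgroup.centralizer_le_normalizer _)) hxP)
    · rw [eq_bot_iff]
      rintro z ⟨hzZ, hzx⟩
      by_contra hz1
      rw [Subgroup.mem_bot] at hz1
      refine hxn (Subgroup.zpowers_le.2 hzZ ?_)
      rw [eq_zpowers_of_mem_prime (p := p) (by rw [Nat.card_zpowers, D.order]) hzx hz1]
      exact Subgroup.mem_zpowers x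
  obtain ⟨n, hn⟩ := (CfsgLib.PGroup.elemAb_isPGroup hZe).exists_card_eq
  have hn0 : n ≠ 0 := fun h => by
    rw [h, pow_zero, Subgroup.card_eq_one] at hn
    rw [hn, Subgroup.mem_bot] at hz₀Z
    exact D.prime.ne_one (by rw [← hz₀o, hz₀Z, orderOf_one])
  have hC1 : ¬ Cfsg.RankLE 1 C := BG.not_rankLE_of_card hEC hE (by
    rw [hEcard, hn, ← pow_succ]
    exact Nat.pow_le_pow_right D.prime.pos (by omega))
  have hC2 : Cfsg.RankLE 2 C := by
    by_contra h2
    exact D.not_unique B hCM inf_le_right (B.h1403 C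
      (fun h => D.max.1 (top_le_iff.1 (h ▸ hCM))) hC1 (Or.inl h2))
  have hn1 : n = 1 := by
    by_contra h
    refine BG.not_rankLE_of_card (k := 2) hEC hE ?_ hC2
    rw [hEcard, hn, ← pow_succ]
    exact Nat.pow_le_pow_right D.prime.pos (by omega)
  have hZc : Nat.card Z = p := by rw [hn, hn1, pow_one]
  have hEsq : Nat.card E = p ^ 2 := by rw [hEcard, hZc, pow_two]
  have hEmax : ∀ B' : Subgroup G, B' ≤ P → Cfsg.IsElementaryAbelian p B' → E ≤ B' → B' = E := by
    intro B' hB'P hB' hEB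
    have hB'C : B' ≤ C := le_inf hB'P fun b hb => Subgroup.mem_centralizer_singleton_iff.2
      (comm_of_mem hB'.1 hb (hEB (Subgroup.mem_sup_right (Subgroup.mem_zpowers x))))
    refine (Subgroup.eq_of_le_of_card_ge hEB ?_).symm
    rw [hEsq]
    exact (CfsgLib.PGroup.pRankLE_subgroup_iff C).1 (hC2 p D.prime) B' hB'C hB'
  by_cases hr : Cfsg.PRankLE p 2 P
  · obtain ⟨S, hS⟩ := D.part_sylow B.h1350
    rcases B.h1412 p S (by rw [hS]; exact hr) with h | ⟨P₁, P₂, h1, h2, h3, h4, h5, h6, h7⟩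
    · rw [hS] at h; exact absurd h hP
    rw [hS] at h1
    refine ⟨Z, hZP, hPZ, hZc, hMZ, Or.inl hr, fun c hc hcx => hxZ ?_,
      Or.inr ⟨P₁, P₂, h1, h2, h3, h4, h5, h6, h7⟩⟩
    have hn12 : P₂ ≤ Subgroup.normalizer (P₁ : Set G) := fun b hb =>
      (Subgroup.centralizer_le_normalizer _) (Subgroup.mem_centralizer_iff.2 fun a ha => h2 a ha b hb)
    obtain ⟨a, ha, b, hb, rfl⟩ := eq_mul_of_mem_sup hn12 (show c ∈ P₁ ⊔ P₂ from h1.symm ▸ hc)
    have ha1 : a ^ p = 1 := by
      have := congrArg Subtype.val (Monoid.pow_exponent_eq_one (⟨a, ha⟩ : P₁))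
      rwa [h5] at this
    rw [← hcx, Commute.mul_pow (h2 a ha b hb), ha1, one_mul]
    refine Subgroup.mem_centralizer_iff.2 fun w hw => ?_
    haveI := h6
    obtain ⟨u, hu, v, hv, rfl⟩ := eq_mul_of_mem_sup hn12 (show w ∈ P₁ ⊔ P₂ from h1.symm ▸ hw)
    have hvb : Commute v (b ^ p) :=
      Commute.pow_right (congrArg Subtype.val (mul_comm' (⟨v, hv⟩ : P₂) ⟨b, hb⟩) : v * b = b * v) p
    exact (Commute.mul_left (Commute.pow_right (h2 u hu b hb) p) hvb).eq
  · -- the case of rank at least three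
    have hER : Cfsg.IsElementaryAbelian p (E.subgroupOf P) := CfsgLib.PGroup.elemAb_subgroupOf hE
    have hEle : E ≤ P := hEC.trans inf_le_left
    have hER2 : Nat.card (E.subgroupOf P) = p ^ 2 := by
      rw [Nat.card_congr (Subgroup.subgroupOfEquivOfLe hEle).toEquiv, hEsq]
    have hERmax : ∀ B' : Subgroup P, Cfsg.IsElementaryAbelian p B' → E.subgroupOf P ≤ B' →
        B' = E.subgroupOf P := by
      intro B' hB' hle
      have h := hEmax (B'.map P.subtype) (Subgroup.map_subtype_le B')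
        (CfsgLib.PGroup.elemAb_map hB' _) (by
          rw [← Subgroup.map_subgroupOf_eq_of_le hEle]; exact Subgroup.map_mono hle)
      rw [← h]
      exact (Subgroup.comap_map_eq_self_of_injective P.subtype_injective B').symm
    obtain ⟨hEW, -, -, hchar, hidx⟩ := B.h1453 p D.ne_two hPp hr _ hER hER2 hERmax
    set W := Subgroup.closure {y : P | y ∈ Subgroup.upperCentralSeries P 2 ∧ y ^ p = 1}
    set T₀ : Subgroup P := Subgroup.centralizer (W : Set P)
    haveI := hchar
    have hZT : Z ≤ T₀.map P.subtype := fun z hz => ⟨⟨z, hZP hz⟩,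
      Subgroup.mem_centralizer_iff.2 fun w _ => Subtype.ext
        (Subgroup.mem_centralizer_iff.1 hz.1.2 w w.2), rfl⟩
    have hxT : x ∉ T₀.map P.subtype := fun hxT => hEW fun e he => by
      obtain ⟨y, hy, he'⟩ := (sup_le hZT (Subgroup.zpowers_le.2 hxT)) he
      exact (Subtype.ext he' : y = e) ▸ hy
    refine ⟨Z, hZP, hPZ, hZc, hMZ, Ten.isNarrow_of_maximal_sq hPp D.ne_two hr hER hER2 hERmax,
      fun c hc hcx => hxT ?_, Or.inl ⟨T₀.map P.subtype, Subgroup.map_subtype_le T₀,
        (D.le_normalizer_part p).trans (normalizer_le_normalizer_map_characteristic T₀), ?_, hZT, hxT⟩⟩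
    · have h1 : (⟨c, hc⟩ : P) ^ p ∈ T₀ := by
        have := Subgroup.pow_index_mem T₀ (⟨c, hc⟩ : P)
        rwa [hidx] at this
      exact ⟨_, h1, hcx⟩
    · rw [Subgroup.relIndex, Subgroup.subgroupOf,
        Subgroup.comap_map_eq_self_of_injective P.subtype_injective, hidx]

end SharedPoint

end CfsgLib.OddLocal.S15
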