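import Cfsg.Agent.Lib.OddLocal.S15NonTIMain
import Cfsg.Agent.Lib.OddLocal.FrobeniusAction

/-!
# The maximal subgroup attached to a type-`P₂` subgroup
-/

set_option autoImplicit false
set_option linter.style.haveILetI false
set_option linter.unusedSectionVars false

open scoped Pointwise commutatorElement

namespace CfsgLib.OddLocal.S15

universe u

variable {G : Type u} [Group G] [Finite G] {M K U H A : Subgroup G}

/-- The hypotheses used for the signalizer. -/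
structure SigBase (G : Type u) [Group G] [Finite G] : Prop extends NTBase G where
  h1375 : Hyp1375 G
  h1378 : Hyp1378 G
  h1418 : Hyp1418 G
  h1419 : Hyp1419 G
  h1435 : Hyp1435 G

theorem isComplIn_map_conj {A B N : Subgroup G} (g : G) (h : Cfsg.IsComplIn A B N) :
    Cfsg.IsComplIn (A.map (MulAut.conj g).toMonoidHom) (B.map (MulAut.conj g).toMonoidHom)
      (N.map (MulAut.conj g).toMonoidHom) := by
  refine ⟨Subgroup.map_mono h.1, Subgroup.map_mono h.2.1, ?_, ?_⟩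
  · rw [← Subgroup.map_inf _ _ _ (MulAut.conj g).injective, h.2.2.1, Subgroup.map_bot]
  · rintro _ ⟨m, hm, rfl⟩
    obtain ⟨a, ha, b, hb, rfl⟩ := h.2.2.2 m hm
    exact ⟨_, ⟨a, ha, rfl⟩, _, ⟨b, hb, rfl⟩, map_mul _ a b⟩

theorem isPiHallOf_compl (h1350 : Hyp1350 G) (hH : IsCoatom H) {E : Subgroup G}
    (hE : Cfsg.IsComplIn E (Cfsg.sigmaCore H) H) :
    Cfsg.IsPiHallOf {q | q ∉ Cfsg.sigma H} E H := by
  obtain ⟨e1, e2⟩ := relIndex_of_isComplIn hE
  refine ⟨hE.1, fun p hp hd hσ => ?_, fun p hp hpσ hd => ?_⟩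
  · rw [← e1] at hd
    exact (h1350 H hH).1.2.2 p hp hσ hd
  · rw [e2] at hd
    exact hpσ ((h1350 H hH).1.2.1 p hp hd)

/-- A plane for `t ∈ τ₂(H)` inside a given complement. -/
theorem exists_plane_in_compl (hG : Cfsg.IsMinSimpleOddOrder G) (h1350 : Hyp1350 G) (hH : IsCoatom H)
    {E : Subgroup G} (hE : Cfsg.IsComplIn E (Cfsg.sigmaCore H) H) {t : ℕ} [ht : Fact t.Prime]
    (hτ : t ∈ Cfsg.tau2 H) :
    ∃ A : Subgroup G, A ≤ E ∧ Cfsg.IsElementaryAbelian t A ∧ Nat.card A = t ^ 2 := by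
  obtain ⟨A, hAH, hA⟩ := BG.exists_plane_of_not_pRankLE_one (K := H) hτ.2.2.2
  obtain ⟨g, -, hgA⟩ := exists_conj_le_piHall (maximal_solvable hG hH) (isPiHallOf_compl h1350 hH hE)
    hAH (fun p hp hd hσ => hτ.2.1 (by
      rw [hA.2] at hd
      exact (Nat.prime_dvd_prime_iff_eq hp ht.out).1 (hp.dvd_of_dvd_pow hd) ▸ hσ))
  exact ⟨_, hgA, CfsgLib.PGroup.elemAb_map hA.1 _, by rw [card_map_conj, hA.2]⟩

/-- The normal Sylow subgroup of `M_σ` is centralised by whatever centralises `K*`. -/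
theorem normal_sylow_le_centralizer (hG : Cfsg.IsMinSimpleOddOrder G) (B : Base G) (hM : IsCoatom M)
    (hKU : Cfsg.IsSigmaDecomposition M K U) (hne : Cfsg.fittingHallOf M ≠ Cfsg.sigmaCore M)
    (hA : A ≤ Cfsg.sigmaCore M)
    (hAK : A ≤ Subgroup.centralizer ((Cfsg.sigmaCore M ⊓ Subgroup.centralizer (K : Set G) : Subgroup G) : Set G))
    (hAq : ¬ Nat.card ↥(Cfsg.sigmaCore M ⊓ Subgroup.centralizer (K : Set G)) ∣ Nat.card A) :
    ∃ Q : Subgroup G, Q ≤ Cfsg.sigmaCore M ∧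
      IsPGroup (Nat.card ↥(Cfsg.sigmaCore M ⊓ Subgroup.centralizer (K : Set G))) Q ∧
      ¬ Nat.card ↥(Cfsg.sigmaCore M ⊓ Subgroup.centralizer (K : Set G)) ∣
          Q.relIndex (Cfsg.sigmaCore M) ∧
      Q ≤ Subgroup.centralizer (A : Set G) := by
  obtain ⟨hU, hK1, -, hpK, hq, -, -, Q, -, hQs, hMQ, hKsQ, hQp, hQi, -, hall⟩ :=
    fcore_structure hG B.h1445 B.h1446 B.h1350 B.h1351 B.h1352 B.h1354 B.h1366 B.h1369 B.h1372
      B.h1414 B.h1426 B.h1429 B.h1430 hM hKU hne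
  refine ⟨Q, hQs, hQp, hQi, ?_⟩
  set Ks := Cfsg.sigmaCore M ⊓ Subgroup.centralizer (K : Set G)
  set q := Nat.card Ks
  haveI := Fact.mk hq
  have hNM := sigmaCore_le M
  have hKM := K_le B.h1350 hM hKU
  have hsolv : Group.IsSolvable (Cfsg.sigmaCore M) :=
    CfsgLib.Solvable.isSolvable_of_le (maximal_solvable hG hM) hNM
  have hcoK : (Nat.card K).Coprime (Nat.card (Cfsg.sigmaCore M)) :=
    (coprime_sigmaCore B.h1350 hM fun p hp hd => sigma_inter_kappa (hKU.hall.2.1 p hp hd)).symm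
  obtain ⟨D₀, hD₀, hKD₀⟩ := exists_invariant_complement hq (hKM.trans (le_normalizer_sigmaCore M))
    hcoK hsolv hQs (hNM.trans hMQ) hQp hQi
  have hq2 : q ≠ 2 := ne_two_of_dvd_card hG (dvd_refl q)
  have hD₀q : ¬ q ∣ Nat.card D₀ := (relIndex_of_isComplIn hD₀).2 ▸ hQi
  -- `K*` is not centralised by a complement
  have hKsC : ¬ Ks ≤ Q ⊓ Subgroup.centralizer (D₀ : Set G) := fun hle => by
    obtain ⟨k, hk, hk1⟩ := (Subgroup.bot_or_exists_ne_one K).resolve_left hK1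
    haveI := Fact.mk hpK
    have hko : orderOf k = Nat.card K := by
      rw [← Nat.card_zpowers, eq_zpowers_of_mem_prime (p := Nat.card K) rfl hk hk1]
    have hne' : orderOf k ≠ q := fun h => by
      rw [hko] at h
      exact sigma_inter_kappa (hKU.hall.2.1 _ hpK dvd_rfl)
        ((B.h1350 M hM).1.2.1 _ hpK (h ▸ Subgroup.card_dvd_of_le inf_le_left))
    have h1 : D₀ ≤ Subgroup.centralizer (Q : Set G) := by
      refine commute_of_frobenius_fixed hq2 hQp (hko ▸ hpK) hne' ((hD₀.2.1.trans hNM).trans hMQ)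
        (hMQ (hKM hk)) (hKD₀ hk) ?_ ((hq.coprime_iff_not_dvd.2 hD₀q).symm) ?_
      · intro u hu h
        have h2 : u ∈ Q ⊓ D₀ :=
          ⟨hKsQ (mem_kstar_of_commute B.h1430 hM hKU hK1 hk hk1 (hD₀.2.1 hu) h), hu⟩
        rwa [hD₀.2.2.1, Subgroup.mem_bot] at h2
      · intro x hx _ hkx u hu
        exact Subgroup.mem_centralizer_iff.1
          (hle (mem_kstar_of_commute B.h1430 hM hKU hK1 hk hk1 (hQs hx) hkx.symm)).2 u hu
    exact (hall D₀ hD₀).2.2.1.ne (inf_eq_left.2 (Subgroup.le_centralizer_iff.1 h1))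
  -- a complement containing `A`
  have hhall : Cfsg.IsPiHallOf {p : ℕ | p.Prime ∧ p ≠ q} D₀ (Cfsg.sigmaCore M) := by
    obtain ⟨e1, e2⟩ := relIndex_of_isComplIn hD₀
    refine ⟨hD₀.2.1, fun p hp hd => ⟨hp, fun h => hQi (h ▸ e2 ▸ hd)⟩, fun p hp hpq hd => ?_⟩
    rw [e1] at hd
    obtain ⟨j, hj⟩ := hQp.exists_card_eq
    exact hpq.2 ((Nat.prime_dvd_prime_iff_eq hp hq).1 (hp.dvd_of_dvd_pow (hj ▸ hd)))
  obtain ⟨g, hg, hgA⟩ := exists_conj_le_piHall hsolv hhall hA
    (fun p hp hd => ⟨hp, fun h => hAq (h ▸ hd)⟩)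
  set D := D₀.map (MulAut.conj g⁻¹).toMonoidHom with hDdef
  have hAD : A ≤ D := by
    intro a ha
    rw [hDdef, mem_map_conj, inv_inv]
    exact hgA (conj_mem_map_conj ha)
  have hD : Cfsg.IsComplIn Q D (Cfsg.sigmaCore M) := by
    have h := isComplIn_map_conj g⁻¹ hD₀
    rwa [map_conj_eq_self_iff.2 (hMQ (hNM (inv_mem hg))),
      map_conj_eq_self_iff.2 (le_normalizer_sigmaCore M (hNM (inv_mem hg)))] at h
  obtain ⟨-, hMC, -, -, hpow, hchief, hder⟩ := hall D hD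
  set C := Q ⊓ Subgroup.centralizer (D : Set G) with hCdef
  have hKsC' : ¬ Ks ≤ C := by
    obtain ⟨-, hMC₀, -, -, -, -, -⟩ := hall D₀ hD₀
    have hCg : Q ⊓ Subgroup.centralizer (D : Set G) = Q ⊓ Subgroup.centralizer (D₀ : Set G) := by
      have h1 := map_conj_eq_self_iff.2 (hMC₀ (hNM (inv_mem hg)))
      rw [Subgroup.map_inf _ _ _ (MulAut.conj g⁻¹).injective,
        map_conj_eq_self_iff.2 (hMQ (hNM (inv_mem hg)))] at h1
      rw [← h1]
      congr 1
      rw [hDdef, map_conj_eq_smul, map_conj_eq_smul]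
      exact (BG.conj_centralizer g⁻¹ D₀).symm
    rw [hCdef, hCg]
    exact hKsC
  set S : Set G := {x | ∃ s ∈ Cfsg.sigmaCore M, ∃ v ∈ Ks, x = s * v * s⁻¹}
  set W := C ⊔ Subgroup.closure S
  have hSQ : Subgroup.closure S ≤ Q := (Subgroup.closure_le _).2 (by
    rintro _ ⟨s, hs, v, hv, rfl⟩
    exact (Subgroup.mem_normalizer_iff.1 (hMQ (hNM hs)) v).1 (hKsQ hv))
  have hWQ : W ≤ Q := sup_le inf_le_left hSQ
  have hWA : W ≤ Subgroup.centralizer (A : Set G) := by
    refine sup_le (inf_le_right.trans (Subgroup.centralizer_le hAD)) ((Subgroup.closure_le _).2 ?_)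
    rintro _ ⟨s, hs, v, hv, rfl⟩
    obtain ⟨w, hw, e, he, rfl⟩ := hD.2.2.2 s hs
    set q₀ := e * v * e⁻¹
    have hq₀ : q₀ ∈ Q := (Subgroup.mem_normalizer_iff.1 (hMQ (hNM (hD.2.1 he))) v).1 (hKsQ hv)
    have hq₀A : q₀ ∈ Subgroup.centralizer (A : Set G) := by
      refine Subgroup.mem_centralizer_iff.2 fun a ha => ?_
      have hc := Subgroup.mem_centralizer_iff.1
        (hder (Subgroup.commutator_mem_commutator (hAD ha) he)) q₀ hq₀
      have hav : v * a = a * v := Subgroup.mem_centralizer_iff.1 (hAK ha) v hv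
      have h1 : a * q₀ * a⁻¹ = q₀ := by
        calc a * q₀ * a⁻¹ = ⁅a, e⁆ * (e * (a * v) * a⁻¹ * e⁻¹) * ⁅a, e⁆⁻¹ := by
              simp only [q₀, commutatorElement_def]; group
          _ = ⁅a, e⁆ * q₀ * ⁅a, e⁆⁻¹ := by
              rw [← hav]; simp only [q₀]; group
          _ = q₀ := by rw [← hc, mul_inv_cancel_right]
      exact mul_inv_eq_iff_eq_mul.1 h1
    show w * e * v * (w * e)⁻¹ ∈ Subgroup.centralizer (A : Set G)
    have h2 : w * e * v * (w * e)⁻¹ = (w * q₀ * w⁻¹ * q₀⁻¹) * q₀ := by simp only [q₀]; group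
    rw [h2]
    exact mul_mem (Subgroup.centralizer_le hAD (hpow w hw q₀ hq₀).2.2) hq₀A
  have hMW : M ≤ Subgroup.normalizer (W : Set G) := fun m hm => by
    rw [← map_conj_eq_self_iff]
    refine Subgroup.eq_of_le_of_card_ge ?_ (card_map_conj _ _).ge
    rw [Subgroup.map_sup, map_conj_eq_self_iff.2 (hMC hm), MonoidHom.map_closure]
    refine sup_le_sup_left (Subgroup.closure_mono ?_) _
    rintro _ ⟨_, ⟨s, hs, v, hv, rfl⟩, rfl⟩
    rw [le_sup_of_U_eq_bot B.h1350 hM hKU hU, sup_comm] at hm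
    obtain ⟨s', hs', k, hk, rfl⟩ :=
      eq_mul_of_mem_sup (hKM.trans (le_normalizer_sigmaCore M)) hm
    have hkv : k * v = v * k := Subgroup.mem_centralizer_iff.1 hv.2 k hk
    refine ⟨s' * (k * s * k⁻¹), mul_mem hs'
      ((Subgroup.mem_normalizer_iff.1 (le_normalizer_sigmaCore M (hKM hk)) s).1 hs), v, hv, ?_⟩
    show s' * k * (s * v * s⁻¹) * (s' * k)⁻¹ = _
    calc s' * k * (s * v * s⁻¹) * (s' * k)⁻¹
        = s' * (k * s * k⁻¹) * (k * v * k⁻¹) * (s' * (k * s * k⁻¹))⁻¹ := by group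
      _ = _ := by rw [hkv, mul_inv_cancel_right]
  have hlt : C < W := lt_of_le_of_ne le_sup_left fun h => hKsC' fun v hv => by
    rw [h]
    exact Subgroup.mem_sup_right (Subgroup.subset_closure ⟨1, one_mem _, v, hv, by group⟩)
  rcases hWQ.lt_or_eq with hlt' | heq
  · exact absurd hMW (hchief W hlt hlt')
  · exact heq ▸ hWA

/-- `τ₂(H)` is empty for the maximal subgroup `H` attached to a type-`P₂` subgroup `M`, provided
some element of `U` has its centraliser in `M`. -/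
theorem tau2_eq_empty_of_P2 (hG : Cfsg.IsMinSimpleOddOrder G) (B : SigBase G) (hM : IsCoatom M)
    (hKU : Cfsg.IsSigmaDecomposition M K U) (hK1 : K ≠ ⊥) (hU1 : U ≠ ⊥) {Ms : Subgroup G}
    (hMs : IsCoatom Ms)
    (hKst : K = Cfsg.sigmaCore Ms ⊓ Subgroup.centralizer
      ((Cfsg.sigmaCore M ⊓ Subgroup.centralizer (K : Set G)) : Set G))
    (hKstH : Cfsg.IsPiHallOf (Cfsg.kappa Ms) (Cfsg.sigmaCore M ⊓ Subgroup.centralizer (K : Set G)) Ms)
    {r : ℕ} [Fact r.Prime] (hr : r ∣ Nat.card U) (R : Sylow r U) (hH : IsCoatom H)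
    (hNR : Subgroup.normalizer (((R : Subgroup U).map U.subtype : Subgroup G) : Set G) ≤ H)
    {x : G} (hx : x ∈ U) (hxM : Subgroup.centralizer ({x} : Set G) ≤ M) : Cfsg.tau2 H = ∅ := by
  obtain ⟨-, hUH, hMH, -, hKF, hE⟩ := B.h1435 M hM K U hKU hK1 hU1 Ms hMs hKst hKstH r hr R H hH hNR
  refine Set.eq_empty_of_forall_notMem fun t hτ => ?_
  have ht : t.Prime := hτ.1
  haveI := Fact.mk ht
  have hpK : (Nat.card K).Prime := (B.h1372 M hM K U hKU hK1 hU1).1
  set p := Nat.card K with hpdef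
  set E := H ⊓ Ms
  set Ks := Cfsg.sigmaCore M ⊓ Subgroup.centralizer (K : Set G) with hKsdef
  obtain ⟨A, hAE, hA, hAc⟩ := exists_plane_in_compl hG B.h1350 hH hE hτ
  obtain ⟨⟨hEA, -⟩, ⟨hCA, hNA, -⟩, huniq⟩ := B.h1418 H hH E hE t hτ A ⟨hAE, hA, hAc⟩
  have hAMs : A ≤ Ms := hAE.trans inf_le_right
  have hKsne : Ks ≠ ⊥ := (B.h1354 M hM K hKU.cyclic hKU.hall).1
  have hHs : Cfsg.sigmaCore H ⊓ Ms = ⊥ := by
    refine le_bot_iff.1 ?_
    rw [← hE.2.2.1]
    exact le_inf (le_inf (inf_le_left.trans (sigmaCore_le H)) inf_le_right) inf_le_left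
  have hHne : Cfsg.sigmaCore H ≠ ⊥ := fun h => fittingHallOf_ne_bot hG B.toBase hH
    (le_bot_iff.1 (h ▸ fittingHallOf_le_sigmaCore B.h1350 hH hG))
  have hnotMs : H ≠ Ms := fun h => by
    rw [← h, inf_eq_left.2 (sigmaCore_le H)] at hHs
    exact hHne hHs
  have hKsig : K ≤ Cfsg.sigmaCore Ms := hKst.le.trans inf_le_left
  -- a Sylow subgroup of `Ms_σ` for `p` centralising `A` is impossible
  have key : ∀ S : Subgroup G, S ≤ Cfsg.sigmaCore Ms → IsPGroup p S →
      ¬ p ∣ S.relIndex (Cfsg.sigmaCore Ms) → S ≤ Subgroup.centralizer (A : Set G) → False := by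
    intro S hS hSp hSi hSA
    haveI := Fact.mk hpK
    obtain ⟨T, hT⟩ := exists_sylow_map_eq_of_not_dvd hS hSp hSi
    obtain ⟨hU', hle, -⟩ := (B.h1431 Ms hMs Ks hKstH hKsne).2.2.1 p hpK
      (by rw [hpdef]; exact (Subgroup.card_dvd_of_le hKst.le)) T
    rw [hT] at hU' hle
    exact hnotMs (hU'.unique ⟨hH, fun s hs => (hCA (hSA hs)).1⟩ ⟨hMs, hle⟩)
  by_cases htp : t = p
  · -- `t = p`
    subst htp
    haveI := Fact.mk hpK
    by_cases hab : ∀ S : Sylow p G, ¬ IsMulCommutative (S : Subgroup G)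
    · obtain ⟨-, ⟨hA₀c, -⟩, -⟩ := B.h1419 H hH E hE p hτ hab A ⟨hAE, hA, hAc⟩
      obtain ⟨a, ha, ha1⟩ := (Subgroup.bot_or_exists_ne_one _).resolve_left
        (BG.ne_bot_of_card_prime hA₀c)
      have hax : a ∈ M := hxM (Subgroup.mem_centralizer_singleton_iff.2
        (Subgroup.mem_centralizer_iff.1 ha.2 x (hUH hx)).symm)
      have haUK : a ∈ U ⊔ K := hMH.le ⟨hax, (hAE ha.1).1⟩
      obtain ⟨u, hu, k, hk, rfl⟩ := eq_mul_of_mem_sup hKU.normal haUK
      have hk1 : k ≠ 1 := by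
        intro hk1
        rw [hk1, mul_one] at ha ha1
        have ho : orderOf u = p := orderOf_eq_prime (hA.2 u ha.1) ha1
        exact (U_primes B.h1350 hM hKU ht (ho ▸ Subgroup.orderOf_dvd_natCard U hu)).2
          (hKU.hall.2.1 p ht hpdef.dvd)
      refine hU1 (le_bot_iff.1 ?_)
      rw [← B.h1353 M hM K U hKU k hk hk1]
      refine le_inf le_rfl fun w hw => Subgroup.mem_centralizer_singleton_iff.2 ?_
      have h1 : w * (u * k) = (u * k) * w := Subgroup.mem_centralizer_iff.1 ha.2 w (hUH hw)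
      have h2 : w * u = u * w := comm_of_mem (U_commutative hG B.h1350 B.h1430 hM hKU hK1) hw hu
      rw [← mul_assoc, h2, mul_assoc, mul_assoc] at h1
      exact mul_left_cancel h1
    · push_neg at hab
      obtain ⟨S₁, hS₁⟩ := hab
      have htσ : p ∈ Cfsg.sigma Ms :=
        (B.h1350 Ms hMs).1.2.1 p ht (hpdef.dvd.trans (Subgroup.card_dvd_of_le hKsig))
      have hAs : A ≤ Cfsg.sigmaCore Ms := le_sigmaCore B.h1350 hMs hAMs fun q hq hd => by
        rw [hAc] at hd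
        exact (Nat.prime_dvd_prime_iff_eq hq ht).1 (hq.dvd_of_dvd_pow hd) ▸ htσ
      obtain ⟨S, hS⟩ := ((CfsgLib.PGroup.elemAb_isPGroup hA).of_equiv
        (Subgroup.subgroupOfEquivOfLe hAs).symm).exists_le_sylow
      set S' := (S : Subgroup ↥(Cfsg.sigmaCore Ms)).map (Cfsg.sigmaCore Ms).subtype
      have hS'i : ¬ p ∣ S'.relIndex (Cfsg.sigmaCore Ms) := relIndex_sylow_map S
      have hAS : A ≤ S' := by
        rw [← Subgroup.map_subgroupOf_eq_of_le hAs]; exact Subgroup.map_mono hS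
      have hS'c : IsMulCommutative S' := by
        obtain ⟨T, hT⟩ := (S.2.map (Cfsg.sigmaCore Ms).subtype).exists_le_sylow
        obtain ⟨c, rfl⟩ := MulAction.exists_smul_eq G S₁ T
        refine isMulCommutative_of_le ?_ hT
        rw [Sylow.coe_subgroup_smul, ← map_conj_eq_smul]
        exact isMulCommutative_map hS₁ _
      refine key S' (Subgroup.map_subtype_le _) (S.2.map _) hS'i fun s hs => ?_
      exact Subgroup.mem_centralizer_iff.2 fun a ha => comm_of_mem hS'c (hAS ha) hs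
  · -- `t ≠ p`
    have hAC : A ≤ Subgroup.centralizer (K : Set G) := by
      have hAF : A ≤ Cfsg.fittingOf E :=
        S15.le_fittingOf hAE hEA (CfsgLib.PGroup.elemAb_isPGroup hA).isNilpotent
      refine fun a ha => Subgroup.mem_centralizer_iff.2 fun k hk =>
        commute_of_mem_nilpotent (isNilpotent_fittingOf E) (hKF hk) (hAF ha) ?_
      refine (Nat.Coprime.coprime_dvd_left (Subgroup.orderOf_dvd_natCard K hk) ?_)
      refine Nat.Coprime.coprime_dvd_right (hAc ▸ Subgroup.orderOf_dvd_natCard A ha) ?_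
      exact ((Nat.coprime_primes hpK ht).2 (Ne.symm htp)).pow_right 2
    have hKne : K ≠ ⊥ := hK1
    have htσ : t ∈ Cfsg.sigma Ms := by
      by_contra hts
      have h2 : t ∈ Cfsg.tau2 Ms := ⟨ht, hts, rankLE_two_of_notMem_sigma B.h1350 B.h1405 hMs ht hts,
        BG.not_pRankLE_of_card hAMs hA (by rw [hAc])⟩
      refine hKne (le_bot_iff.1 ?_)
      rw [← (B.h1417 Ms hMs t h2 A ⟨hAMs, hA, hAc⟩).2.2.2.1]
      exact le_inf hKsig (Subgroup.le_centralizer_iff.1 hAC)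
    have hAs : A ≤ Cfsg.sigmaCore Ms := le_sigmaCore B.h1350 hMs hAMs fun q hq hd => by
      rw [hAc] at hd
      exact (Nat.prime_dvd_prime_iff_eq hq ht).1 (hq.dvd_of_dvd_pow hd) ▸ htσ
    obtain ⟨⟨Us, hUs⟩, -⟩ := B.h1352 Ms hMs Ks ((B.h1351 Ms hMs).2 _ hKstH) hKstH
    have hUsb : Us = ⊥ := by
      by_contra hne
      obtain ⟨-, hTI, hσF⟩ := B.h1372 Ms hMs Ks Us hUs hKsne hne
      have hplane : BG.Plane t A := ⟨hA, hAc⟩
      refine hHne (le_bot_iff.1 (hplane.generated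
        ((hAE.trans inf_le_left).trans (le_normalizer_sigmaCore H))
        (fun h => hτ.2.1 ((B.h1350 H hH).1.2.1 t ht h)) fun X hXA hXc => ?_))
      by_contra hXne
      rw [le_bot_iff] at hXne
      obtain ⟨hCX, -⟩ := huniq X hXA hXc hXne
      obtain ⟨a, ha, ha1⟩ := (Subgroup.bot_or_exists_ne_one _).resolve_left
        (BG.ne_bot_of_card_prime hXc)
      refine hXne (le_bot_iff.1 ?_)
      rw [← hHs]
      refine le_inf inf_le_left fun c hc => ?_
      have hca : c * a * c⁻¹ = a := by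
        rw [← Subgroup.mem_centralizer_iff.1 hc.2 a ha, mul_inv_cancel_right]
      by_contra hcM
      refine ha1 (hTI c (fun h => hcM ((normalizer_fittingOf_eq hG B.toBase hMs).le h)) a
        (hσF (hAs (hXA ha))) ?_)
      rw [hca]
      exact hσF (hAs (hXA ha))
    haveI := Fact.mk hpK
    have hq : Nat.card ↥(Cfsg.sigmaCore Ms ⊓ Subgroup.centralizer (Ks : Set G)) = p :=
      congrArg (fun X : Subgroup G => Nat.card X) hKst.symm
    have hpA : ¬ p ∣ Nat.card A := fun h => htp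
      ((Nat.prime_dvd_prime_iff_eq hpK ht).1 (hpK.dvd_of_dvd_pow (hAc ▸ h))).symm
    by_cases hne : Cfsg.fittingHallOf Ms = Cfsg.sigmaCore Ms
    · have hnil : Group.IsNilpotent (Cfsg.sigmaCore Ms) := hne ▸ isNilpotent_fittingHallOf Ms
      obtain ⟨S⟩ : Nonempty (Sylow p ↥(Cfsg.sigmaCore Ms)) := inferInstance
      refine key _ (Subgroup.map_subtype_le _) (S.2.map _) (relIndex_sylow_map S) ?_
      intro s hs
      refine Subgroup.mem_centralizer_iff.2 fun a ha =>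
        commute_of_mem_nilpotent hnil (hAs ha) (Subgroup.map_subtype_le _ hs) ?_
      obtain ⟨i, hi⟩ := IsPGroup.iff_orderOf.1 (S.2.map (Cfsg.sigmaCore Ms).subtype) ⟨s, hs⟩
      rw [← Subgroup.orderOf_coe] at hi
      change orderOf s = p ^ i at hi
      rw [hi]
      exact (((Nat.Prime.coprime_iff_not_dvd hpK).2 fun h =>
        hpA (h.trans (Subgroup.orderOf_dvd_natCard A ha))).pow_left i).symm
    · obtain ⟨Q, hQs, hQp, hQi, hQA⟩ := normal_sylow_le_centralizer hG B.toBase hMs hUs hne hAs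
        (by rw [show Cfsg.sigmaCore Ms ⊓ Subgroup.centralizer (Ks : Set G) = K from hKst.symm]; exact hAC) (by rw [hq]; exact hpA)
      rw [hq] at hQp hQi
      exact key Q hQs hQp hQi hQA

end CfsgLib.OddLocal.S15
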