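import Cfsg.Agent.Lib.OddLocal.S16TypeP
import Cfsg.Agent.Lib.OddLocal.TypeICore

/-!
# Section 16: the five types
-/

set_option autoImplicit false
set_option linter.style.haveILetI false
set_option linter.unusedSectionVars false

open scoped Pointwise commutatorElement
open CfsgLib.Solvable (nilPart)

namespace CfsgLib.OddLocal.S15

universe u

variable {G : Type u} [Group G] [Finite G] {M N K U T : Subgroup G}

theorem isOfTypeI_of_core (M : Subgroup G) (hcore : IsTypeICore M)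
    (hcyc : (∃ p : ℕ, p.Prime ∧ p ∣ Nat.card (Cfsg.fittingHallOf M) ∧
        IsCyclic (Cfsg.pPrimeCore p ↥(Cfsg.fittingHallOf M))) →
      ∃ p : ℕ, p.Prime ∧ p ∣ Nat.card (Cfsg.fittingHallOf M) ∧ IsCyclic (Cfsg.pPrimeCore p M)) :
    Cfsg.IsOfTypeI M := by
  obtain ⟨hF, h | h | ⟨h1, h2⟩⟩ := hcore
  exacts [⟨hF, Or.inl h⟩, ⟨hF, Or.inr (Or.inl h)⟩, ⟨hF, Or.inr (Or.inr ⟨h1, hcyc h2⟩)⟩]

/-- Frobenius type from data in the ambient group. -/
theorem isOfTypeF_of (hs : Group.IsSolvable N) (hodd : Odd (Nat.card N))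
    (hc : Cfsg.IsComplIn U (Cfsg.fittingHallOf N) N) (hH : Cfsg.fittingHallOf N ≠ ⊥) (hU : U ≠ ⊥)
    {U₁ U₀ : Subgroup G} (hU₁ : U₁ ≤ U) (hU₁n : U ≤ Subgroup.normalizer (U₁ : Set G))
    (hU₁c : IsMulCommutative U₁)
    (hU₁x : ∀ x ∈ Cfsg.fittingHallOf N, x ≠ 1 → U ⊓ Subgroup.centralizer ({x} : Set G) ≤ U₁)
    (hU₀ : U₀ ≤ U) (hexp : Monoid.exponent U₀ = Monoid.exponent U)
    (hreg : ∀ u ∈ U₀, u ≠ 1 → ∀ x ∈ Cfsg.fittingHallOf N, u * x = x * u → x = 1) :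
    Cfsg.IsOfTypeF N := by
  have hUN : U ≤ N := hc.1
  have hmem : ∀ x : N, x ∈ Cfsg.fittingHall N ↔ (x : G) ∈ Cfsg.fittingHallOf N := fun x =>
    ⟨fun h => ⟨x, h, rfl⟩, fun ⟨y, hy, he⟩ => Subtype.ext he ▸ hy⟩
  have hexpeq : ∀ {V : Subgroup G}, V ≤ N → Monoid.exponent (V.subgroupOf N) = Monoid.exponent V :=
    fun {V} hV => Monoid.exponent_eq_of_mulEquiv (Subgroup.subgroupOfEquivOfLe hV)
  refine ⟨hs, hodd, fun h => hH ?_, fun h => hU ?_, U.subgroupOf N, ?_, ?_,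
    ⟨U₁.subgroupOf N, fun x hx => hU₁ hx, fun x hx => ?_, ?_, fun x hx hx1 => ?_⟩,
    ⟨U₀.subgroupOf N, fun x hx => hU₀ hx, ?_, fun u hu hu1 x hx hux => ?_⟩⟩
  · rw [Cfsg.fittingHallOf, h, Subgroup.map_bot]
  · refine le_bot_iff.1 fun x hx => ?_
    rw [← hc.2.2.1]
    exact ⟨hx, (hmem ⟨x, hUN hx⟩).1 (h ▸ Subgroup.mem_top _)⟩
  · rw [Ne, Subgroup.subgroupOf_eq_bot, disjoint_iff, inf_eq_left.2 hUN]
    exact hU
  · refine Subgroup.isComplement'_of_disjoint_and_mul_eq_univ (disjoint_iff.2 (eq_bot_iff.2 ?_)) ?_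
    · rintro ⟨x, hxN⟩ ⟨h1, h2⟩
      have : x ∈ U ⊓ Cfsg.fittingHallOf N := ⟨h2, (hmem _).1 h1⟩
      rw [hc.2.2.1, Subgroup.mem_bot] at this
      exact Subgroup.mem_bot.2 (Subtype.ext this)
    · refine Set.eq_univ_of_forall fun x => ?_
      obtain ⟨a, ha, b, hb, he⟩ := hc.2.2.2 x x.2
      have hb' : a * b * a⁻¹ ∈ Cfsg.fittingHallOf N :=
        (Subgroup.mem_normalizer_iff.1 (le_normalizer_fittingHallOf N (hUN ha)) b).1 hb
      refine ⟨⟨a * b * a⁻¹, fittingHallOf_le N hb'⟩, (hmem _).2 hb', ⟨a, hUN ha⟩, ha, Subtype.ext ?_⟩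
      show a * b * a⁻¹ * a = (x : G)
      rw [he]; group
  · rw [Subgroup.mem_normalizer_iff]
    intro y
    exact Subgroup.mem_normalizer_iff.1 (hU₁n (show (x : G) ∈ U from hx)) y
  · refine ⟨⟨fun a b => Subtype.ext (Subtype.ext ?_)⟩⟩
    exact comm_of_mem hU₁c a.2 b.2
  · rintro y ⟨hy, hyc⟩
    refine hU₁x x ((hmem x).1 hx) (fun h => hx1 (Subtype.ext h)) ⟨hy, ?_⟩
    exact Subgroup.mem_centralizer_singleton_iff.2
      (congrArg Subtype.val (Subgroup.mem_centralizer_singleton_iff.1 hyc))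
  · rw [hexpeq (hU₀.trans hUN), hexpeq hUN, hexp]
  · exact Subtype.ext (hreg u hu (fun h => hu1 (Subtype.ext h)) x ((hmem x).1 hx)
      (congrArg Subtype.val hux))

theorem exists_kappa (hKU : Cfsg.IsSigmaDecomposition M K U) (hK1 : K ≠ ⊥) :
    (Cfsg.kappa M).Nonempty := by
  obtain ⟨q, hq, hqd⟩ := Nat.exists_prime_and_dvd (fun h => hK1 (Subgroup.card_eq_one.1 h))
  exact ⟨q, hKU.hall.2.1 q hq hqd⟩

theorem U_ne_bot_of_K_eq_bot (hG : Cfsg.IsMinSimpleOddOrder G) (B : Base G) (hM : IsCoatom M)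
    (hKU : Cfsg.IsSigmaDecomposition M K U) (hK : K = ⊥) : U ≠ ⊥ := fun h =>
  K_ne_bot_of_U_eq_bot hG B.h1350 B.h1426 hM hKU h hK

theorem fittingHallOf_eq_of_not_both (hG : Cfsg.IsMinSimpleOddOrder G) (B : Base G) (hM : IsCoatom M)
    (hKU : Cfsg.IsSigmaDecomposition M K U) (hU : U ≠ ⊥) :
    Cfsg.fittingHallOf M = Cfsg.sigmaCore M := by
  by_contra hne
  exact hU (U_eq_bot_of_ne hG B.h1350 B.h1429 hM hKU hne)

/-- A non-TI `M_F` gives two Fitting subgroups meeting nontrivially. -/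
theorem inter_of_not_TI (hG : Cfsg.IsMinSimpleOddOrder G) (B : Base G) (hM : IsCoatom M)
    (h : ¬ Cfsg.IsTISubset (Cfsg.fittingHallOf M : Set G)) :
    ∃ g : G, g ∉ M ∧
      Cfsg.fittingOf M ⊓ (Cfsg.fittingOf M).map (MulAut.conj g).toMonoidHom ≠ ⊥ := by
  unfold Cfsg.IsTISubset at h
  push Not at h
  obtain ⟨g, hg, x, hx, hgx, hx1⟩ := h
  refine ⟨g, fun hgM => hg (le_normalizer_fittingHallOf M hgM), fun hb => hx1 ?_⟩
  have h1 : g * x * g⁻¹ ∈ Cfsg.fittingOf M ⊓ (Cfsg.fittingOf M).map (MulAut.conj g).toMonoidHom :=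
    ⟨fittingHallOf_le_fittingOf M hgx, conj_mem_map_conj (fittingHallOf_le_fittingOf M hx)⟩
  rw [hb, Subgroup.mem_bot, conj_eq_one_iff] at h1
  exact h1

/-- The type of a maximal subgroup with `K = 1`. -/
theorem typeI_of_K_eq_bot (hG : Cfsg.IsMinSimpleOddOrder G) (B : S16Base G) (hM : IsCoatom M)
    (hKU : Cfsg.IsSigmaDecomposition M K U) (hK : K = ⊥) : IsTypeICore M := by
  have hU := U_ne_bot_of_K_eq_bot hG B.toBase hM hKU hK
  have hF := fittingHallOf_eq_of_not_both hG B.toBase hM hKU hU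
  obtain ⟨⟨A₀, hA₀, hA₀n, hA₀c, hA₀x⟩, U₀, hU₀, hexp, hreg⟩ :=
    U_of_K_eq_bot B.h1350 B.h1421 B.h1432 hM hKU hK
  have hc : Cfsg.IsComplIn U (Cfsg.fittingHallOf M) M := by
    have h := hKU.compl
    rwa [hK, bot_sup_eq, ← hF] at h
  refine ⟨isOfTypeF_of (maximal_solvable hG hM) (hG.1.of_dvd_nat M.card_subgroup_dvd_card) hc
    (fittingHallOf_ne_bot hG B.toBase hM) hU hA₀ hA₀n hA₀c (by rw [hF]; exact hA₀x) hU₀ hexp
    fun u hu hu1 x hx hux => ?_, ?_⟩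
  · have : x ∈ Cfsg.sigmaCore M ⊓ Subgroup.centralizer ({u} : Set G) :=
      ⟨hF ▸ hx, Subgroup.mem_centralizer_singleton_iff.2 hux.symm⟩
    rwa [hreg u hu hu1, Subgroup.mem_bot] at this
  by_cases hTI : Cfsg.IsTISubset (Cfsg.fittingHallOf M : Set G)
  · exact Or.inl hTI
  obtain ⟨g, hg, hX⟩ := inter_of_not_TI hG B.toBase hM hTI
  rcases inter_cases hG B.toNTBase hM hKU hg hX with
    ⟨-, h⟩ | ⟨p, hp, hcard, hσ, -, -, hcyc, hexp'⟩ | ⟨p, -, -, -, -, -, -, -, hK', -⟩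
  · exact Or.inr (Or.inl h)
  · refine Or.inr (Or.inr ⟨hexp', p, hp, ?_, hcyc⟩)
    rw [hF]
    refine ((dvd_of_eq hcard.symm).trans (Subgroup.card_dvd_of_le
      ((inter_le_sigmaCore hG B.toBase hM hg).trans inf_le_left)))
  · exact absurd hK hK'

/-- A subgroup of Frobenius type has `K = 1`. -/
theorem K_eq_bot_of_typeF (hG : Cfsg.IsMinSimpleOddOrder G) (B : Base G) (hM : IsCoatom M)
    (hKU : Cfsg.IsSigmaDecomposition M K U) (hF : Cfsg.IsOfTypeF M) : K = ⊥ := by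
  by_contra hK1
  obtain ⟨-, hKs1, hKsF, -⟩ := kappa_type_fittingHall hG B hM hKU hK1
  obtain ⟨-, -, -, -, V, -, hV, -, V₀, -, hexp, hreg⟩ := hF
  obtain ⟨p, hp, hpd⟩ := Nat.exists_prime_and_dvd (fun h => hK1 (Subgroup.card_eq_one.1 h))
  haveI := Fact.mk hp
  have hpκ := hKU.hall.2.1 p hp hpd
  have hpH : ¬ p ∣ Nat.card (Cfsg.fittingHall M) := fun h => hpκ.2.2.1
    ((B.h1350 M hM).1.2.1 p hp ((card_fittingHallOf M ▸ h : p ∣ Nat.card (Cfsg.fittingHallOf M)).trans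
      (Subgroup.card_dvd_of_le (fittingHallOf_le_sigmaCore B.h1350 hM hG))))
  have hpV : p ∣ Nat.card V := by
    have h1 : p ∣ Nat.card (Cfsg.fittingHall M) * Nat.card V := by
      rw [Subgroup.IsComplement'.card_mul hV]
      exact hpκ.2.1
    exact (hp.dvd_mul.1 h1).resolve_left hpH
  have hpV₀ : p ∣ Nat.card V₀ := by
    obtain ⟨v, hv⟩ := exists_prime_orderOf_dvd_card' p hpV
    have h1 : p ∣ Monoid.exponent V₀ := hexp ▸ hv ▸ Monoid.order_dvd_exponent v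
    exact h1.trans Group.exponent_dvd_nat_card
  obtain ⟨⟨⟨v, hvM⟩, hv0⟩, hvo⟩ := exists_prime_orderOf_dvd_card' p hpV₀
  rw [← Subgroup.orderOf_coe, ← Subgroup.orderOf_coe] at hvo
  change orderOf v = p at hvo
  obtain ⟨m, hm, hmK⟩ := exists_conj_mem_K hG hM hKU hvM (fun q hq hd => by
    rw [hvo] at hd
    exact (Nat.prime_dvd_prime_iff_eq hq hp).1 hd ▸ hpκ)
  obtain ⟨y, hy, hy1⟩ := (Subgroup.bot_or_exists_ne_one _).resolve_left hKs1
  have hy' : m⁻¹ * y * m ∈ Cfsg.fittingHallOf M := by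
    simpa using (Subgroup.mem_normalizer_iff.1
      (inv_mem (le_normalizer_fittingHallOf M hm)) y).1 (hKsF hy)
  obtain ⟨z, hz, hze⟩ := hy'
  change (z : G) = _ at hze
  have hcomm : (⟨v, hvM⟩ : M) * z = z * ⟨v, hvM⟩ := by
    refine Subtype.ext ?_
    show v * (z : G) = (z : G) * v
    rw [hze]
    have h1 : m * v * m⁻¹ * y = y * (m * v * m⁻¹) := Subgroup.mem_centralizer_iff.1 hy.2 _ hmK
    calc v * (m⁻¹ * y * m) = m⁻¹ * (m * v * m⁻¹ * y) * m := by group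
      _ = m⁻¹ * y * m * v := by rw [h1]; group
  have h2 := hreg ⟨v, hvM⟩ hv0 (fun h => hp.ne_one (by
    rw [← hvo, show v = 1 from congrArg Subtype.val h, orderOf_one])) z hz hcomm
  rw [h2, OneMemClass.coe_one] at hze
  exact hy1 (by simpa [mul_assoc] using congrArg (fun a => m * a * m⁻¹) hze.symm)

/-- A subgroup of type P has `K ≠ 1`. -/
theorem K_ne_bot_of_typeP (hG : Cfsg.IsMinSimpleOddOrder G) (B : Base G) (hM : IsCoatom M)
    (hKU : Cfsg.IsSigmaDecomposition M K U) {W₁ V W₂ : Subgroup G}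
    (hP : Cfsg.IsTypePWith M W₁ V W₂) : K ≠ ⊥ := by
  obtain ⟨p, hp, hpd⟩ := Nat.exists_prime_and_dvd (fun h => hP.W₁_ne (Subgroup.card_eq_one.1 h))
  haveI := Fact.mk hp
  obtain ⟨⟨a, haW⟩, hao⟩ := exists_prime_orderOf_dvd_card' p hpd
  rw [← Subgroup.orderOf_coe] at hao
  change orderOf a = p at hao
  have ha1 : a ≠ 1 := fun h => hp.ne_one (by rw [← hao, h, orderOf_one])
  obtain ⟨e1, e2⟩ := relIndex_of_isComplIn hP.W₁_compl
  have hWM : W₁ ≤ M := hP.W₁_compl.2.1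
  have hpσ : p ∉ Cfsg.sigma M := fun hσ => by
    have h1 : p ∣ Nat.card ↥⁅M, M⁆ := by
      refine dvd_trans ?_ (Subgroup.card_dvd_of_le (sigmaCore_le_derived B.h1350 B.h1426 hM hKU))
      obtain ⟨S, hS⟩ : ∃ S : Subgroup G, S ≤ Cfsg.sigmaCore M ∧ Nat.card S = p := by
        have hle : Subgroup.zpowers a ≤ Cfsg.sigmaCore M := le_sigmaCore B.h1350 hM
          (Subgroup.zpowers_le.2 (hWM haW)) (fun q hq hd => by
            rw [Nat.card_zpowers, hao] at hd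
            exact (Nat.prime_dvd_prime_iff_eq hq hp).1 hd ▸ hσ)
        exact ⟨_, hle, by rw [Nat.card_zpowers, hao]⟩
      exact hS.2 ▸ Subgroup.card_dvd_of_le hS.1
    exact Nat.not_coprime_of_dvd_of_dvd hp.one_lt hpd (e1.symm ▸ h1) hP.W₁_hall
  obtain ⟨y, hy, hy1⟩ := (Subgroup.bot_or_exists_ne_one W₂).resolve_left hP.selfNormalizing.2.1
  have hya : a * y = y * a := hP.selfNormalizing.2.2.2.1 a haW y hy
  have hyσ : y ∈ Cfsg.sigmaCore M :=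
    fittingHallOf_le_sigmaCore B.h1350 hM hG ((hP.W₂_le.trans inf_le_left) hy)
  rcases B.h1432 M hM y hyσ hy1 a ⟨hWM haW, Subgroup.mem_centralizer_singleton_iff.2 hya⟩ ha1
      (fun q hq hd => by rw [hao] at hd; exact (Nat.prime_dvd_prime_iff_eq hq hp).1 hd ▸ hpσ) with
    ⟨hκ, -⟩ | ⟨hτ, -⟩
  · exact K_ne_bot_of_mem_kappa hKU (hκ p hp (dvd_of_eq hao.symm))
  · exfalso
    have hτp := hτ p hp (dvd_of_eq hao.symm)
    haveI := hP.W₁_cyclic
    obtain ⟨S⟩ : Nonempty (Sylow p W₁) := inferInstance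
    have hSW : (S : Subgroup W₁).map W₁.subtype ≤ W₁ := Subgroup.map_subtype_le _
    refine hτp.2.2.2 (pRankLE_one_of_cyclic (hSW.trans hWM) (S.2.map _) (fun h => ?_)
      (Subgroup.isCyclic_of_le hSW))
    rw [← Subgroup.relIndex_mul_relIndex _ _ M hSW hWM, hp.dvd_mul] at h
    rcases h with h | h
    · exact relIndex_sylow_map S h
    · exact Nat.not_coprime_of_dvd_of_dvd hp.one_lt hpd h hP.W₁_hall

/-- The forms of the complement in type-P data. -/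
theorem typeP_forms (hG : Cfsg.IsMinSimpleOddOrder G) (B : S16Base G) (hM : IsCoatom M)
    (hKU : Cfsg.IsSigmaDecomposition M K U) {W₁ V W₂ : Subgroup G}
    (hP : Cfsg.IsTypePWith M W₁ V W₂) :
    K ≠ ⊥ ∧
    (U ≠ ⊥ → V ≠ ⊥ ∧ ¬ Subgroup.normalizer (V : Set G) ≤ M) ∧
    (U = ⊥ → Cfsg.fittingHallOf M ≠ Cfsg.sigmaCore M → V ≠ ⊥ ∧ Subgroup.normalizer (V : Set G) ≤ M) ∧
    (U = ⊥ → Cfsg.fittingHallOf M = Cfsg.sigmaCore M → V = ⊥) := by
  have hK1 := K_ne_bot_of_typeP hG B.toBase hM hKU hP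
  refine ⟨hK1, fun hU => ?_, fun _ hne => ?_, fun hU hF => ?_⟩
  · have hc := hP.U_compl
    rw [fittingHallOf_eq_of_not_both hG B.toBase hM hKU hU] at hc
    obtain ⟨m, hm, he⟩ := compl_conj_U hG B.toBase hM hKU hK1 hc
    refine ⟨fun h => hU (by rw [← he, h, Subgroup.map_bot]), fun hle =>
      normalizer_U_not_le hG B.h1366 B.h1435 hM hKU hK1 ?_⟩
    rw [← he, normalizer_map_conj]
    exact (Subgroup.map_mono hle).trans (map_conj_of_mem hm).le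
  · obtain ⟨h1, -, h3⟩ := compl_fcore hG B.toBase hM hKU hne hP.U_compl
    exact ⟨h1, h3⟩
  · have h := card_of_isComplIn hP.U_compl
    rw [derived_eq B.h1350 B.h1352 B.h1353 B.h1426 hM hKU hK1, hU, bot_sup_eq, hF] at h
    exact Subgroup.card_eq_one.1 (Nat.eq_of_mul_eq_mul_left Nat.card_pos
      (show Nat.card (Cfsg.sigmaCore M) * Nat.card V = Nat.card (Cfsg.sigmaCore M) * 1 by omega))

theorem typeII_of (hG : Cfsg.IsMinSimpleOddOrder G) (B : S16Base G) (hM : IsCoatom M)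
    (hKU : Cfsg.IsSigmaDecomposition M K U) (hK1 : K ≠ ⊥) (hU : U ≠ ⊥) : Cfsg.IsOfTypeII M := by
  obtain ⟨U', hP, he⟩ := typeP_data hG B hM hKU hK1
  have hF := fittingHallOf_eq_of_not_both hG B.toBase hM hKU hU
  obtain rfl := he hF
  obtain ⟨hp, hTI, -⟩ := B.h1372 M hM K U' hKU hK1 hU
  have hUc := U_commutative hG B.h1350 B.h1430 hM hKU hK1
  have hd := fittingHallOf_derived hG B.toBase hM hKU hK1
  refine ⟨K, U', _, hP, hU, hp, hTI, hUc, normalizer_U_not_le hG B.h1366 B.h1435 hM hKU hK1, ?_, hd⟩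
  obtain ⟨U₀, hU₀, hexp, hreg⟩ := exists_regular_subgroup hG B.h1350 B.h1405 B.h1417 B.h1418 B.h1421
    B.h1429 B.h1430 B.h1432 hM hKU
  refine isOfTypeF_of (CfsgLib.Solvable.isSolvable_of_le (maximal_solvable hG hM) (derived_le M))
    (hG.1.of_dvd_nat (Subgroup.card_subgroup_dvd_card _)) (hd.symm ▸ isComplIn_symm hP.U_compl)
    (hd.symm ▸ fittingHallOf_ne_bot hG B.toBase hM) hU le_rfl Subgroup.le_normalizer hUc
    (fun x _ _ => inf_le_left) hU₀ hexp fun u hu hu1 x hx hux => ?_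
  have : x ∈ Cfsg.sigmaCore M ⊓ Subgroup.centralizer ({u} : Set G) :=
    ⟨hF ▸ hd ▸ hx, Subgroup.mem_centralizer_singleton_iff.2 hux.symm⟩
  rwa [hreg u hu hu1, Subgroup.mem_bot] at this

theorem typeIII_or_IV_of (hG : Cfsg.IsMinSimpleOddOrder G) (B : S16Base G) (hM : IsCoatom M)
    (hKU : Cfsg.IsSigmaDecomposition M K U)
    (hne : Cfsg.fittingHallOf M ≠ Cfsg.sigmaCore M) :
    Cfsg.IsOfTypeIII M ∨ Cfsg.IsOfTypeIV M := by
  obtain ⟨-, hK1, -, hp, -⟩ := fcore_structure hG B.h1445 B.h1446 B.h1350 B.h1351 B.h1352 B.h1354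
    B.h1366 B.h1369 B.h1372 B.h1414 B.h1426 B.h1429 B.h1430 hM hKU hne
  obtain ⟨U', hP, -⟩ := typeP_data hG B hM hKU hK1
  obtain ⟨h1, -, h3⟩ := compl_fcore hG B.toBase hM hKU hne hP.U_compl
  have hTI := fittingOf_TI_of_ne hG B.toNTBase hM hne
  by_cases hc : IsMulCommutative U'
  · exact Or.inl ⟨K, U', _, hP, h1, hp, hTI, hc, h3⟩
  · exact Or.inr ⟨K, U', _, hP, h1, hp, hTI, hc, h3⟩

theorem typeV_of (hG : Cfsg.IsMinSimpleOddOrder G) (B : S16Base G) (hM : IsCoatom M)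
    (hKU : Cfsg.IsSigmaDecomposition M K U) (hK1 : K ≠ ⊥) (hU : U = ⊥)
    (hF : Cfsg.fittingHallOf M = Cfsg.sigmaCore M) : Cfsg.IsOfTypeV M := by
  obtain ⟨U', hP, he⟩ := typeP_data hG B hM hKU hK1
  refine ⟨K, U', _, hP, (he hF).trans hU, ?_⟩
  by_cases hTI : Cfsg.IsTISubset (Cfsg.fittingHallOf M : Set G)
  · exact Or.inl hTI
  obtain ⟨g, hg, hX⟩ := inter_of_not_TI hG B.toBase hM hTI
  have hdvd : ∀ {p : ℕ}, Nat.card ↥(Cfsg.fittingOf M ⊓
      (Cfsg.fittingOf M).map (MulAut.conj g).toMonoidHom) = p →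
      p ∣ Nat.card (Cfsg.fittingHallOf M) := fun hc => by
    rw [hF, ← hc]
    exact Subgroup.card_dvd_of_le ((inter_le_sigmaCore hG B.toBase hM hg).trans inf_le_left)
  rcases inter_cases hG B.toNTBase hM hKU hg hX with
    ⟨hK, -⟩ | ⟨p, hp, hcard, -, -, -, hcyc, hexp⟩ | ⟨p, hp, hcard, -, -, hcyc, hc3, -, -, -, hidx⟩
  · exact absurd hK hK1
  · refine Or.inr (Or.inl ⟨p, hp, hdvd hcard, dvd_trans ?_ (hexp p hp (hdvd hcard)), hcyc⟩)
    haveI := hKU.cyclic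
    obtain ⟨⟨k, hk⟩, hgen⟩ := IsCyclic.exists_generator (α := K)
    have hko : orderOf k = Nat.card K := by
      have := orderOf_eq_card_of_forall_mem_zpowers hgen
      rwa [← Subgroup.orderOf_coe] at this
    rw [← hko]
    refine orderOf_dvd_of_pow_eq_one ?_
    set e := Monoid.exponent (↥M ⧸ Cfsg.fittingHall ↥M)
    have h1 : (⟨k, K_le B.h1350 hM hKU hk⟩ : M) ^ e ∈ Cfsg.fittingHall ↥M := by
      rw [← QuotientGroup.eq_one_iff, QuotientGroup.mk_pow]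
      exact Monoid.pow_exponent_eq_one _
    have h2 : k ^ e ∈ Cfsg.sigmaCore M ⊓ K := ⟨hF ▸ ⟨_, h1, rfl⟩, K.pow_mem hk e⟩
    rwa [sigmaCore_inf_K B.h1350 hM hKU, Subgroup.mem_bot] at h2
  · refine Or.inr (Or.inr ⟨p, hp, hdvd hcard, hc3, dvd_trans (dvd_of_eq ?_) hidx, hcyc⟩)
    rw [hF]
    have h1 := card_M B.h1350 hM hKU
    rw [hU, Subgroup.card_bot, one_mul] at h1
    have h2 : Nat.card (Cfsg.sigmaCore M) * (Cfsg.sigmaCore M).relIndex M = Nat.card M := by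
      rw [← Subgroup.relIndex_bot_left, ← Subgroup.relIndex_bot_left,
        Subgroup.relIndex_mul_relIndex ⊥ _ M bot_le (sigmaCore_le M)]
    rw [h1, mul_comm (Nat.card K)] at h2
    exact (Nat.eq_of_mul_eq_mul_left Nat.card_pos h2).symm

/-- Type II. -/
theorem typeII_iff (hG : Cfsg.IsMinSimpleOddOrder G) (B : S16Base G) (hM : IsCoatom M)
    (hKU : Cfsg.IsSigmaDecomposition M K U) : Cfsg.IsOfTypeII M ↔ (K ≠ ⊥ ∧ U ≠ ⊥) := by
  refine ⟨?_, fun h => typeII_of hG B hM hKU h.1 h.2⟩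
  rintro ⟨W₁, V, W₂, hP, hV, -, -, -, hN, -, -⟩
  obtain ⟨hK, -, h2, h3⟩ := typeP_forms hG B hM hKU hP
  refine ⟨hK, fun hU => ?_⟩
  by_cases hF : Cfsg.fittingHallOf M = Cfsg.sigmaCore M
  · exact hV (h3 hU hF)
  · exact hN (h2 hU hF).2

/-- Types III and IV. -/
theorem typeIII_IV_iff (hG : Cfsg.IsMinSimpleOddOrder G) (B : S16Base G) (hM : IsCoatom M)
    (hKU : Cfsg.IsSigmaDecomposition M K U) :
    (Cfsg.IsOfTypeIII M ∨ Cfsg.IsOfTypeIV M) ↔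
      (K ≠ ⊥ ∧ U = ⊥ ∧ Cfsg.fittingHallOf M ≠ Cfsg.sigmaCore M) := by
  refine ⟨fun h => ?_, fun h => typeIII_or_IV_of hG B hM hKU h.2.2⟩
  have key : ∀ {W₁ V W₂ : Subgroup G}, Cfsg.IsTypePWith M W₁ V W₂ → V ≠ ⊥ →
      Subgroup.normalizer (V : Set G) ≤ M →
      (K ≠ ⊥ ∧ U = ⊥ ∧ Cfsg.fittingHallOf M ≠ Cfsg.sigmaCore M) := by
    intro W₁ V W₂ hP hV hN
    obtain ⟨hK, h1, -, h3⟩ := typeP_forms hG B hM hKU hP
    have hU : U = ⊥ := by
      by_contra hU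
      exact (h1 hU).2 hN
    exact ⟨hK, hU, fun hF => hV (h3 hU hF)⟩
  rcases h with ⟨W₁, V, W₂, hP, hV, -, -, -, hN⟩ | ⟨W₁, V, W₂, hP, hV, -, -, -, hN⟩ <;>
    exact key hP hV hN

/-- Type V. -/
theorem typeV_iff (hG : Cfsg.IsMinSimpleOddOrder G) (B : S16Base G) (hM : IsCoatom M)
    (hKU : Cfsg.IsSigmaDecomposition M K U) :
    Cfsg.IsOfTypeV M ↔ (K ≠ ⊥ ∧ U = ⊥ ∧ Cfsg.fittingHallOf M = Cfsg.sigmaCore M) := by
  refine ⟨?_, fun h => typeV_of hG B hM hKU h.1 h.2.1 h.2.2⟩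
  rintro ⟨W₁, V, W₂, hP, hV, -⟩
  obtain ⟨hK, h1, h2, -⟩ := typeP_forms hG B hM hKU hP
  have hU : U = ⊥ := by
    by_contra hU
    exact (h1 hU).1 hV
  refine ⟨hK, hU, ?_⟩
  by_contra hne
  exact (h2 hU hne).1 hV

/-- Type I forces `K = 1` and `U ≠ 1`. -/
theorem typeI_imp (hG : Cfsg.IsMinSimpleOddOrder G) (B : S16Base G) (hM : IsCoatom M)
    (hKU : Cfsg.IsSigmaDecomposition M K U) (h : Cfsg.IsOfTypeI M) : K = ⊥ ∧ U ≠ ⊥ :=
  have hK := K_eq_bot_of_typeF hG B.toBase hM hKU h.1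
  ⟨hK, U_ne_bot_of_K_eq_bot hG B.toBase hM hKU hK⟩

/-- `M_s = M_σ`. -/
theorem typeCore_eq (hG : Cfsg.IsMinSimpleOddOrder G) (B : S16Base G) (hM : IsCoatom M) :
    Cfsg.typeCore M = Cfsg.sigmaCore M := by
  obtain ⟨K, U, hKU⟩ := exists_decomposition B.h1350 hM B.h1351 B.h1352
  unfold Cfsg.typeCore
  split_ifs with h
  · obtain ⟨hK, hU, -⟩ := (typeIII_IV_iff hG B hM hKU).1 h
    rw [derived_eq B.h1350 B.h1352 B.h1353 B.h1426 hM hKU hK, hU, bot_sup_eq]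
  · by_contra hne
    exact h (typeIII_or_IV_of hG B hM hKU hne)

end CfsgLib.OddLocal.S15
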