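import Cfsg.Agent.Lib.OddLocal.Sec12FrobLine
import Cfsg.Agent.Lib.OddLocal.BGPre
import Cfsg.Agent.Lib.OddLocal.BG12Stmts

/-!
BG Corollary 12.9 (S1421): if the `τ₁ ∪ τ₃`-elements of `E` act without fixed points on `M_σ`, the
elements of `E` with fixed points lie in an abelian normal subgroup, and `E` has a subgroup of full
exponent acting without fixed points.
-/

set_option autoImplicit false
set_option linter.unusedSectionVars false

open scoped Pointwise

namespace CfsgLib.OddLocal.Sec13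

open Cfsg Subgroup
open scoped commutatorElement
open CfsgLib.Solvable (conj_smul_le_iff mem_conj_smul_iff card_conj_smul conj_smul_conj_smul
  conj_smul_mono conj_smul_self_of_mem_normalizer conj_smul_eq_map)

universe u
variable {G : Type u} [Group G] [Finite G]

/-- An element of prime order `p` of a `p`-group with exponent `p ^ a` and a generator `y`. -/
theorem mem_zpowers_top_of_pow_eq_one {p a : ℕ} [hp : Fact p.Prime] {y z : G} (ha : 0 < a)
    (hy : orderOf y = p ^ a) (hz : z ∈ zpowers y) (hzp : z ^ p = 1) :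
    z ∈ zpowers (y ^ p ^ (a - 1)) := by
  rcases eq_or_ne z 1 with rfl | hz1
  · exact one_mem _
  have ho : orderOf (y ^ p ^ (a - 1)) = p := by
    rw [orderOf_pow, hy, Nat.gcd_eq_right (Nat.pow_dvd_pow p (Nat.sub_le a 1)),
      Nat.pow_div (Nat.sub_le a 1) hp.out.pos, Nat.sub_sub_self ha, pow_one]
  have hcyc : IsCyclic ↥(zpowers y) := inferInstance
  rw [← eq_of_cyclic_card hcyc (zpowers_le.2 hz) (zpowers_le.2 (pow_mem (mem_zpowers y) _))
    (by rw [Nat.card_zpowers, Nat.card_zpowers, ho, orderOf_eq_prime hzp hz1])]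
  exact mem_zpowers z

/-- The exponent of a nontrivial abelian `p`-group is attained. -/
theorem exists_exponent_element {p : ℕ} [hp : Fact p.Prime] {P : Subgroup G} [IsMulCommutative P]
    (hP : IsPGroup p P) (h1 : P ≠ ⊥) :
    ∃ (a : ℕ) (y : G), 0 < a ∧ y ∈ P ∧ orderOf y = p ^ a ∧ ∀ x ∈ P, x ^ (p ^ a) = 1 := by
  letI : CommGroup P := { (inferInstance : Group P) with mul_comm := fun x y => IsMulCommutative.is_comm.comm x y }
  obtain ⟨y, hy⟩ := Monoid.exists_orderOf_eq_exponent (G := P) Monoid.ExponentExists.of_finite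
  obtain ⟨a, ha⟩ := IsPGroup.iff_orderOf.1 hP y
  refine ⟨a, y, Nat.pos_of_ne_zero fun h0 => h1 (eq_bot_iff.2 fun x hx => ?_), y.2,
    by rw [Subgroup.orderOf_coe, ha], fun x hx => ?_⟩
  · rw [h0, pow_zero, hy] at ha
    have := Monoid.pow_exponent_eq_one (⟨x, hx⟩ : P)
    rw [ha, pow_one] at this
    exact mem_bot.2 (congrArg Subtype.val this)
  · have := Monoid.pow_exponent_eq_one (⟨x, hx⟩ : P)
    rw [← hy, ha] at this
    exact congrArg Subtype.val this

/-- Lifting an invariant line of top `p ^ (a-1)`-th powers to an invariant cyclic subgroup. -/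
theorem exists_cyclic_over_line {p a : ℕ} [hp : Fact p.Prime] {P H : Subgroup G} [IsMulCommutative P]
    (ha : 0 < a) (hexp : ∀ x ∈ P, x ^ (p ^ a) = 1) (hHP : H ≤ normalizer (P : Set G))
    (hpH : ¬ p ∣ Nat.card H) {y₀ : G} (hy : y₀ ∈ P) (hy1 : y₀ ^ p ^ (a - 1) ≠ 1)
    (hinv : H ≤ normalizer ((zpowers (y₀ ^ p ^ (a - 1)) : Subgroup G) : Set G)) :
    ∃ y ∈ P, orderOf y = p ^ a ∧ H ≤ normalizer ((zpowers y : Subgroup G) : Set G) ∧
      zpowers (y ^ p ^ (a - 1)) = zpowers (y₀ ^ p ^ (a - 1)) := by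
  set q := p ^ (a - 1) with hq
  have hpq : p * q = p ^ a := by rw [hq, ← pow_succ', Nat.sub_add_cancel ha]
  have hcomm : ∀ x ∈ P, ∀ z ∈ P, Commute x z := fun x hx z hz =>
    congrArg Subtype.val (IsMulCommutative.is_comm.comm (⟨x, hx⟩ : P) ⟨z, hz⟩)
  let K : Subgroup G :=
    { carrier := {x | x ∈ P ∧ x ^ q = 1}
      one_mem' := ⟨P.one_mem, one_pow _⟩
      mul_mem' := fun {x z} hx hz => ⟨P.mul_mem hx.1 hz.1, by
        rw [(hcomm x hx.1 z hz.1).mul_pow, hx.2, hz.2, one_mul]⟩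
      inv_mem' := fun {x} hx => ⟨P.inv_mem hx.1, by rw [inv_pow, hx.2, inv_one]⟩ }
  have hxo : orderOf (y₀ ^ q) = p := orderOf_eq_prime (by rw [← pow_mul, mul_comm, hpq, hexp _ hy]) hy1
  obtain ⟨y, hyP, -, hyn, hyK⟩ := exists_invariant_cyclic (H := H) (K := K) hexp ha hHP hpH
    (fun x hx => hx.1) hy (fun hK => hy1 hK.2)
    ⟨pow_mem hy p, by rw [← pow_mul, hpq]; exact hexp _ hy⟩
    (fun g hg => CfsgLib.Solvable.mem_normalizer_of_conj_mem fun x hx =>
      ⟨(mem_normalizer_iff.1 (hHP hg) x).1 hx.1, by rw [conj_pow, hx.2, mul_one, mul_inv_cancel]⟩)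
    (fun g hg => by
      obtain ⟨i, hi⟩ := mem_zpowers_iff.1 ((mem_normalizer_iff.1 (hinv hg) _).1 (mem_zpowers (y₀ ^ q)))
      have hgy : g * y₀ * g⁻¹ ∈ P := (mem_normalizer_iff.1 (hHP hg) y₀).1 hy
      refine ⟨i, mul_mem hgy (inv_mem (zpow_mem hy i)), ?_⟩
      rw [(hcomm _ hgy _ (inv_mem (zpow_mem hy i))).mul_pow, conj_pow, ← hi, inv_pow, ← zpow_natCast (y₀ ^ i) q,
        ← zpow_mul, mul_comm i, zpow_mul, zpow_natCast, mul_inv_cancel])
  have hyq : y ^ q = (y₀ ^ q) ^ Nat.card H := by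
    have h1 := hyK.2
    rw [(hcomm y hyP _ (inv_mem (pow_mem hy _))).mul_pow, inv_pow, mul_inv_eq_one] at h1
    rw [h1, ← pow_mul, ← pow_mul, mul_comm]
  have hyq1 : y ^ q ≠ 1 := by
    rw [hyq]
    intro e
    exact hpH (hxo ▸ orderOf_dvd_of_pow_eq_one e)
  refine ⟨y, hyP, ?_, hyn, ?_⟩
  · obtain ⟨k, hk, hko⟩ := (Nat.dvd_prime_pow hp.out).1 (orderOf_dvd_of_pow_eq_one (hexp y hyP))
    rcases hk.lt_or_eq with hlt | rfl
    · refine absurd ?_ hyq1
      exact orderOf_dvd_iff_pow_eq_one.1 (hko ▸ Nat.pow_dvd_pow p (by omega))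
    · exact hko
  · refine eq_of_le_of_card_ge (zpowers_le.2 (by rw [hyq]; exact pow_mem (mem_zpowers _) _)) ?_
    rw [Nat.card_zpowers, Nat.card_zpowers, hxo,
      orderOf_eq_prime (by rw [← pow_mul, mul_comm, hpq, hexp y hyP]) hyq1]

/-- A `p'`-index subgroup with a cyclic Sylow `p`-subgroup `⟨y⟩`. -/
theorem isPiHallOf_zpowers_sup {p : ℕ} [hp : Fact p.Prime] {P H : Subgroup G} {y : G}
    (hy : y ∈ P) (hPp : IsPGroup p P) (hpH : ¬ p ∣ Nat.card H)
    (hn : H ≤ normalizer ((zpowers y : Subgroup G) : Set G)) :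
    IsPiHallOf {p} (zpowers y) (zpowers y ⊔ H) := by
  refine ⟨le_sup_left, isPi_singleton_of_isPGroup (hPp.to_le (zpowers_le.2 hy)), fun s _ hsp hd => ?_⟩
  rw [Set.mem_singleton_iff.1 hsp, CfsgLib.PGroup.relIndex_normalized_sup hn] at hd
  exact hpH (hd.trans (relIndex_dvd_card _ _))

variable (h : Pre G)
include h

/-- An element of `E` with a fixed point on `M_σ`: its powers of prime order have fixed points and belong to
`τ₂(M)`. -/
theorem Pre.fixed_prime_power {M E : Subgroup G} (hM : IsCoatom M) (hE : IsComplIn E (sigmaCore M) M)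
    (hfpf : Tau13FPF M E) {e : G} (he : e ∈ E) (hfix : sigmaCore M ⊓ centralizer ({e} : Set G) ≠ ⊥)
    {r : ℕ} (hr : r.Prime) (hd : r ∣ orderOf e) :
    r ∈ tau2 M ∧ ∃ z ∈ zpowers e, orderOf z = r ∧ sigmaCore M ⊓ centralizer ({z} : Set G) ≠ ⊥ := by
  set z := e ^ (orderOf e / r)
  have hzo : orderOf z = r := orderOf_pow_orderOf_div (orderOf_pos e).ne' hd
  have hfz : sigmaCore M ⊓ centralizer ({z} : Set G) ≠ ⊥ := fun h0 => hfix (le_bot_iff.1 (h0 ▸
    inf_le_inf_left _ (fun x hx => mem_centralizer_singleton_iff.2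
      ((show Commute x e from mem_centralizer_singleton_iff.1 hx).pow_right _).eq)))
  refine ⟨?_, z, pow_mem (mem_zpowers e) _, hzo, hfz⟩
  have hrE : r ∣ Nat.card E := hd.trans (E.orderOf_dvd_natCard he)
  have hz1 : z ≠ 1 := fun h1 => hr.ne_one (by rw [← hzo, h1, orderOf_one])
  have h13 : r ∈ tau1 M ∪ tau3 M → False := fun h13 => hfz (hfpf z (pow_mem he _) hz1 fun x hx hd' => by
    rw [hzo, Nat.prime_dvd_prime_iff_eq hx hr] at hd'
    exact hd' ▸ h13)
  rcases h.tau_cases hM hr (hrE.trans (card_dvd_of_le hE.1)) (h.compl_isPi hM hE r hr hrE) with h1 | h1 | h1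
  · exact (h13 (Or.inl h1)).elim
  · exact h1
  · exact (h13 (Or.inr h1)).elim

variable (h50 : CfsgLib.OddLocal.Ten.RankTwoHyp.{u})
include h50

/-- The replacement cyclic group in a Sylow `p`-subgroup, `p ∈ τ₂(M)`, abelian case. -/
theorem Pre.exists_cyclic_fpf {M E P : Subgroup G} (hM : IsCoatom M) (hE : IsComplIn E (sigmaCore M) M)
    (hfpf : Tau13FPF M E) {p : ℕ} [hp : Fact p.Prime] (hp2 : p ∈ tau2 M)
    (hab : ∀ r ∈ tau2 M, ∀ S : Sylow r G, IsMulCommutative (S : Subgroup G))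
    (hP : IsPiHallOf {p} P E) {H : Subgroup G} (hHE : H ≤ E) (hpH : ¬ p ∣ Nat.card H) :
    ∃ y ∈ P, H ≤ normalizer ((zpowers y : Subgroup G) : Set G) ∧ (∀ x ∈ P, orderOf x ∣ orderOf y) ∧
      ∀ z ∈ zpowers y, z ^ p = 1 → z ≠ 1 → sigmaCore M ⊓ centralizer ({z} : Set G) = ⊥ := by
  obtain ⟨A, hAE, hA, hAc⟩ := h.exists_plane_compl hM hE hp2
  obtain ⟨hAP, hPA, hPc⟩ := h.plane_le_sylow hM hE hp2 hAE hA hAc hP
  obtain ⟨hCE, -, -, hEA⟩ := h.centralizer_plane_le hM hE hp2 hAE hA hAc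
  have hPn : E ≤ normalizer (P : Set G) := h.sylow_tau2_normal h50 hM hE hp2 hAE hA hAc hab hP
  haveI := hPc
  have hPp : IsPGroup p P := isPGroup_of_isPi_singleton hP.2.1
  have hP1 : P ≠ ⊥ := fun e => by
    have hA1 : A = ⊥ := le_bot_iff.1 (e ▸ hAP)
    rw [hA1, Subgroup.card_bot] at hAc
    exact (Nat.one_lt_pow two_ne_zero hp.out.one_lt).ne hAc
  obtain ⟨a, y₁, ha, hy₁, hy₁o, hexp⟩ := exists_exponent_element hPp hP1
  set q := p ^ (a - 1) with hq
  have hpq : q * p = p ^ a := by rw [hq, ← pow_succ, Nat.sub_add_cancel ha]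
  have hcomm : ∀ x ∈ P, ∀ z ∈ P, Commute x z := fun x hx z hz =>
    congrArg Subtype.val (hPc.is_comm.comm (⟨x, hx⟩ : P) ⟨z, hz⟩)
  let U : Subgroup G :=
    { carrier := {z | ∃ x ∈ P, x ^ q = z}
      one_mem' := ⟨1, P.one_mem, one_pow _⟩
      mul_mem' := by
        rintro _ _ ⟨x, hx, rfl⟩ ⟨z, hz, rfl⟩
        exact ⟨x * z, P.mul_mem hx hz, (hcomm x hx z hz).mul_pow q⟩
      inv_mem' := by
        rintro _ ⟨x, hx, rfl⟩
        exact ⟨x⁻¹, P.inv_mem hx, inv_pow x q⟩ }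
  have hUA : U ≤ A := by
    rintro _ ⟨x, hx, rfl⟩
    exact h.mem_plane hM hE hp2 hAE hA hAc (pow_mem (hP.1 hx) _) (by rw [← pow_mul, hpq, hexp x hx])
  -- the chosen line, without fixed points, made of `q`-th powers
  obtain ⟨y₀, hy₀, hy₀1, hinv, hfix⟩ : ∃ y₀ ∈ P, y₀ ^ q ≠ 1 ∧
      H ≤ normalizer ((zpowers (y₀ ^ q) : Subgroup G) : Set G) ∧
      sigmaCore M ⊓ centralizer ((zpowers (y₀ ^ q) : Subgroup G) : Set G) = ⊥ := by
    obtain ⟨k, hk, hkc⟩ := (Nat.dvd_prime_pow hp.out).1 (hAc ▸ card_dvd_of_le hUA)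
    have hy₁q : y₁ ^ q ≠ 1 := fun e => by
      have := orderOf_dvd_of_pow_eq_one e
      rw [hy₁o, Nat.pow_dvd_pow_iff_le_right hp.out.one_lt] at this
      omega
    have hline : ∀ {L : Subgroup G}, L ≤ U → Nat.card L = p →
        ∃ y₀ ∈ P, y₀ ^ q ≠ 1 ∧ zpowers (y₀ ^ q) = L := by
      intro L hLU hL
      obtain ⟨x, hx1, -, rfl⟩ := exists_zpowers_of_card hp.out hL
      obtain ⟨y₀, hy₀, e⟩ := hLU (mem_zpowers x)
      exact ⟨y₀, hy₀, e ▸ hx1, by rw [e]⟩
    interval_cases k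
    · rw [pow_zero] at hkc
      have : y₁ ^ q ∈ U := ⟨y₁, hy₁, rfl⟩
      rw [eq_bot_of_card_eq U hkc, mem_bot] at this
      exact absurd this hy₁q
    · rw [pow_one] at hkc
      have hNU : normalizer (A : Set G) ≤ normalizer (U : Set G) := by
        intro g hg
        have hgP : ∀ x ∈ P, g * x * g⁻¹ ∈ P := fun x hx => by
          have h1 : g * x * g⁻¹ ∈ centralizer (A : Set G) :=
            (mem_normalizer_iff.1 (CfsgLib.Solvable.normalizer_le_normalizer_centralizer A hg) x).1 (hPA hx)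
          refine le_of_normal_hallOf hP hPn (zpowers_le.2 (hCE h1)) ?_ (mem_zpowers _)
          refine isPi_singleton_of_isPGroup (IsPGroup.to_le
            ((isPGroup_of_isPi_singleton (IsPi.conj hP.2.1 g))) (zpowers_le.2 ?_))
          exact mem_conj_smul_iff.2 (by simpa [mul_assoc] using hx)
        refine CfsgLib.Solvable.mem_normalizer_of_conj_mem ?_
        rintro _ ⟨x, hx, rfl⟩
        exact ⟨g * x * g⁻¹, hgP x hx, conj_pow⟩
      obtain ⟨y₀, h1, h2, h3⟩ := hline le_rfl hkc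
      exact ⟨y₀, h1, h2, h3 ▸ (hHE.trans hEA).trans hNU,
        h3 ▸ h.fpf_of_invariant_line hM hE hp2 hAE hA hAc hUA hkc hNU⟩
    · obtain ⟨L, hLA, hL, hEL, hLf⟩ := h.exists_invariant_line h50 hM hE hfpf hp2 hAE hA hAc hab
      obtain ⟨y₀, h1, h2, h3⟩ := hline (hLA.trans (eq_of_le_of_card_ge hUA (by rw [hkc, hAc])).ge) hL
      exact ⟨y₀, h1, h2, h3 ▸ hHE.trans hEL, h3 ▸ hLf⟩
  obtain ⟨y, hyP, hyo, hyn, hyq⟩ :=
    exists_cyclic_over_line ha hexp (hHE.trans hPn) hpH hy₀ hy₀1 hinv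
  refine ⟨y, hyP, hyn, fun x hx => hyo ▸ orderOf_dvd_of_pow_eq_one (hexp x hx), fun z hz hzp hz1 => ?_⟩
  have h1 := mem_zpowers_top_of_pow_eq_one ha hyo hz hzp
  rw [hyq] at h1
  rw [← centralizer_zpowers, show zpowers z = zpowers (y₀ ^ q) from eq_of_le_of_card_ge (zpowers_le.2 h1)
    (by rw [Nat.card_zpowers, Nat.card_zpowers, orderOf_eq_prime hzp hz1, orderOf_eq_prime
      (by rw [← pow_mul, hpq, hexp _ hy₀]) hy₀1])]
  exact hfix

/-- BG 12.9 when all Sylow subgroups for `τ₂(M)` are abelian. -/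
theorem Pre.frobenius_type_abelian {M E : Subgroup G} (hM : IsCoatom M)
    (hE : IsComplIn E (sigmaCore M) M) (hfpf : Tau13FPF M E)
    (hab : ∀ r ∈ tau2 M, ∀ S : Sylow r G, IsMulCommutative (S : Subgroup G)) :
    (∃ A₀ : Subgroup G, A₀ ≤ E ∧ E ≤ normalizer (A₀ : Set G) ∧ IsMulCommutative A₀ ∧
        ∀ x ∈ sigmaCore M, x ≠ 1 → E ⊓ centralizer ({x} : Set G) ≤ A₀) ∧
      ∃ E₀ : Subgroup G, E₀ ≤ E ∧ Monoid.exponent E₀ = Monoid.exponent E ∧
        ∀ e ∈ E₀, e ≠ 1 → sigmaCore M ⊓ centralizer ({e} : Set G) = ⊥ := by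
  classical
  have hEsol := h.isSolvable_le hM hE.1
  have hnormal : ∀ {r : ℕ} [Fact r.Prime] {R : Subgroup G}, r ∈ tau2 M → IsPiHallOf {r} R E →
      E ≤ normalizer (R : Set G) ∧ IsMulCommutative R := by
    intro r _ R hr hR
    obtain ⟨A, hAE, hA, hAc⟩ := h.exists_plane_compl hM hE hr
    exact ⟨h.sylow_tau2_normal h50 hM hE hr hAE hA hAc hab hR,
      (h.plane_le_sylow hM hE hr hAE hA hAc hR).2.2⟩
  constructor
  · obtain ⟨E₂, hE₂⟩ := CfsgLib.PGroup.exists_isPiHallOf (tau2 M) E hEsol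
    have hsyl : ∀ {r : ℕ} [Fact r.Prime] {R : Subgroup G}, r ∈ tau2 M → IsPiHallOf {r} R E → R ≤ E₂ := by
      intro r _ R hr hR
      obtain ⟨m, hm, hle⟩ := exists_conj_le_hallOf hEsol hE₂ hR.1 (IsPi.mono hR.2.1 (by rintro x rfl; exact hr))
      rwa [conj_smul_self_of_mem_normalizer ((hnormal hr hR).1 hm)] at hle
    refine ⟨E₂, hE₂.1, fun g hg => CfsgLib.Solvable.mem_normalizer_of_conj_mem (conj_smul_le_iff.1 ?_),
      ⟨⟨fun x z => Subtype.ext ?_⟩⟩, fun x hx hx1 => ?_⟩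
    · refine le_of_pSubgroups fun r hr hd R hR hRr => ?_
      have : Fact r.Prime := ⟨hr⟩
      have hr2 : r ∈ tau2 M := hE₂.2.1 r hr (by rwa [card_conj_smul] at hd)
      obtain ⟨S, hS⟩ := exists_sylowOf E r
      exact ((le_of_normal_hallOf hS (hnormal hr2 hS).1 (hR.trans ((conj_smul_mono g hE₂.1).trans
        (conj_smul_self_of_mem_normalizer (le_normalizer hg)).le))
        (isPi_singleton_of_isPGroup hRr))).trans (hsyl hr2 hS)
    · suffices hc : E₂ ≤ centralizer (E₂ : Set G) from (mem_centralizer_iff.1 (hc z.2) x x.2)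
      refine le_of_pSubgroups fun r hr hd R hR hRr => le_centralizer_iff.1 ?_
      refine le_of_pSubgroups fun s hs hd' Q hQ hQs => ?_
      have : Fact r.Prime := ⟨hr⟩
      have : Fact s.Prime := ⟨hs⟩
      obtain ⟨S, hS⟩ := exists_sylowOf E r
      obtain ⟨T, hT⟩ := exists_sylowOf E s
      obtain ⟨hSn, hSc⟩ := hnormal (hE₂.2.1 r hr hd) hS
      obtain ⟨hTn, -⟩ := hnormal (hE₂.2.1 s hs hd') hT
      have hRS := le_of_normal_hallOf hS hSn (hR.trans hE₂.1) (isPi_singleton_of_isPGroup hRr)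
      have hQT := le_of_normal_hallOf hT hTn (hQ.trans hE₂.1) (isPi_singleton_of_isPGroup hQs)
      by_cases hsr : s = r
      · subst hsr
        have hQS := le_of_normal_hallOf hS hSn (hQ.trans hE₂.1) (isPi_singleton_of_isPGroup hQs)
        intro u hu
        rw [mem_centralizer_iff]
        intro v hv
        exact congrArg Subtype.val (hSc.is_comm.comm (⟨v, hRS hv⟩ : S) ⟨u, hQS hu⟩)
      · refine hQT.trans (le_trans ?_ (centralizer_anti hRS))
        refine commutator_eq_bot_iff_le_centralizer.1 (le_bot_iff.1 ?_)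
        rw [← inf_eq_bot_of_isPi hT.2.1 hS.2.1 fun x _ h1 h2 => hsr (h1.symm.trans h2)]
        refine le_inf (CfsgLib.Solvable.commutator_le_of_le_normalizer (hS.1.trans hTn)) ?_
        rw [commutator_comm]
        exact CfsgLib.Solvable.commutator_le_of_le_normalizer (hT.1.trans hSn)
    · refine le_of_pSubgroups fun r hr hd R hR hRr => ?_
      have : Fact r.Prime := ⟨hr⟩
      rcases eq_or_ne R ⊥ with rfl | hR1
      · exact bot_le
      obtain ⟨Y, hY, hYc⟩ := exists_order_prime_le (dvd_card_of_isPGroup hRr hR1)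
      obtain ⟨z, hz1, hzo, rfl⟩ := exists_zpowers_of_card hr hYc
      have hz := hR (hY (mem_zpowers z))
      have hr2 := (h.fixed_prime_power hM hE hfpf hz.1 (fun h0 => hx1 (mem_bot.1 (h0.le ⟨hx,
        mem_centralizer_singleton_iff.2 (mem_centralizer_singleton_iff.1 hz.2).symm⟩))) hr
        (dvd_of_eq hzo.symm)).1
      obtain ⟨S, hS⟩ := exists_sylowOf E r
      exact (le_of_normal_hallOf hS (hnormal hr2 hS).1 (hR.trans inf_le_left)
        (isPi_singleton_of_isPGroup hRr)).trans (hsyl hr2 hS)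
  · -- the subgroup of full exponent
    have key : ∀ s : Finset ℕ, (∀ p ∈ s, p ∈ tau2 M) → ∃ F : Subgroup G, F ≤ E ∧
        Monoid.exponent F = Monoid.exponent E ∧
        (∀ p ∈ s, ∀ x ∈ F, x ^ p = 1 → x ≠ 1 → sigmaCore M ⊓ centralizer ({x} : Set G) = ⊥) ∧
        ∀ p ∈ tau2 M, p ∉ s → ∀ P : Subgroup G, IsPiHallOf {p} P E → P ≤ F := by
      intro s
      induction s using Finset.induction_on with
      | empty => exact fun _ => ⟨E, le_rfl, rfl, by simp, fun p _ _ P hP => hP.1⟩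
      | insert p s hps ih =>
        intro hs
        obtain ⟨F, hFE, hFe, hFf, hFP⟩ := ih fun q hq => hs q (Finset.mem_insert_of_mem hq)
        have hp2 : p ∈ tau2 M := hs p (Finset.mem_insert_self _ _)
        have : Fact p.Prime := ⟨hp2.1⟩
        obtain ⟨P, hP⟩ := exists_sylowOf E p
        have hPF := hFP p hp2 hps P hP
        have hFsol := CfsgLib.Solvable.isSolvable_of_le hEsol hFE
        obtain ⟨H, hH⟩ := CfsgLib.PGroup.exists_isPiHallOf {x | x ≠ p} F hFsol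
        have hpH : ¬ p ∣ Nat.card H := fun hd => hH.2.1 p hp2.1 hd rfl
        obtain ⟨y, hy, hHy, hymax, hyf⟩ :=
          h.exists_cyclic_fpf h50 hM hE hfpf hp2 hab hP (hH.1.trans hFE) hpH
        have hF' : zpowers y ⊔ H ≤ F := sup_le (zpowers_le.2 (hPF hy)) hH.1
        refine ⟨zpowers y ⊔ H, hF'.trans hFE, ?_, ?_, ?_⟩
        · refine (exponent_eq_of_step hFsol hF' (fun r hr hrp hd => ?_) (hallOf_of_le hP hPF hFE)
            (mem_sup_left (mem_zpowers y)) hymax).trans hFe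
          exact hH.2.2 r hr hrp (hd.trans (relIndex_dvd_of_le_left _ le_sup_right))
        · intro q hq x hx hxq hx1
          rcases Finset.mem_insert.1 hq with rfl | hq'
          · refine hyf x ?_ hxq hx1
            refine le_of_normal_hallOf (isPiHallOf_zpowers_sup hy (isPGroup_of_isPi_singleton hP.2.1) hpH hHy)
              (sup_le le_normalizer hHy) (zpowers_le.2 hx) ?_ (mem_zpowers x)
            exact isPi_singleton_of_isPGroup (isPGroup_of_card (by
              rw [Nat.card_zpowers, orderOf_eq_prime hxq hx1]))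
          · exact hFf q hq' x (hF' hx) hxq hx1
        · intro q hq2 hqs Q hQ
          have : Fact q.Prime := ⟨hq2.1⟩
          have hqp : q ≠ p := fun e => hqs (Finset.mem_insert.2 (Or.inl e))
          have hQF := hFP q hq2 (fun e => hqs (Finset.mem_insert_of_mem e)) Q hQ
          obtain ⟨m, hm, hle⟩ := exists_conj_le_hallOf hFsol hH hQF (IsPi.mono hQ.2.1 (by
            rintro x rfl; exact hqp))
          rw [conj_smul_self_of_mem_normalizer ((hnormal hq2 hQ).1 (hFE hm))] at hle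
          exact hle.trans le_sup_right
    obtain ⟨F, hFE, hFe, hFf, -⟩ := key ((Nat.card E).primeFactors.filter fun p => p ∈ tau2 M)
      (fun p hp => (Finset.mem_filter.1 hp).2)
    refine ⟨F, hFE, hFe, fun e he he1 => ?_⟩
    by_contra hfix
    obtain ⟨r, hr, hd⟩ := Nat.exists_prime_and_dvd (fun h0 => he1 (orderOf_eq_one_iff.1 h0))
    obtain ⟨hr2, z, hz, hzo, hzf⟩ := h.fixed_prime_power hM hE hfpf (hFE he) hfix hr hd
    refine hzf (hFf r (Finset.mem_filter.2 ⟨(Nat.mem_primeFactors_of_ne_zero Nat.card_pos.ne').2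
      ⟨hr, hd.trans (E.orderOf_dvd_natCard (hFE he))⟩, hr2⟩) z (zpowers_le.2 he hz)
      (by rw [← hzo, pow_orderOf_eq_one]) fun h1 => hr.ne_one (by rw [← hzo, h1, orderOf_one]))

end CfsgLib.OddLocal.Sec13
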