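import Cfsg.Agent.Lib.OddLocal.Sec12FrobSylow

/-!
BG Corollary 12.9, the fixed-point-free lines: if every `τ₁ ∪ τ₃`-element of `E` is fixed point free on
`M_σ`, each plane `A` has an `E`-invariant line without fixed points on `M_σ`.
-/

set_option autoImplicit false
set_option linter.unusedSectionVars false

open scoped Pointwise

namespace CfsgLib.OddLocal.Sec13

open Cfsg Subgroup
open scoped commutatorElement
open CfsgLib.Solvable (conj_smul_le_iff mem_conj_smul_iff card_conj_smul conj_smul_conj_smul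
  conj_smul_mono conj_smul_self_of_mem_normalizer conj_smul_eq_map)

universe u
variable {G : Type u} [Group G] [Finite G]

/-- The hypothesis of the corollary: the `τ₁ ∪ τ₃`-elements of `E` have no fixed points on `M_σ`. -/
def Tau13FPF (M E : Subgroup G) : Prop :=
  ∀ e ∈ E, e ≠ 1 → (∀ p : ℕ, p.Prime → p ∣ orderOf e → p ∈ Cfsg.tau1 M ∪ Cfsg.tau3 M) →
    Cfsg.sigmaCore M ⊓ Subgroup.centralizer ({e} : Set G) = ⊥

variable (h : Pre G)
include h

/-- A line of `A` invariant under `N(A)` has no fixed points on `M_σ`. -/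
theorem Pre.fpf_of_invariant_line {M E A L : Subgroup G} (hM : IsCoatom M)
    (hE : IsComplIn E (sigmaCore M) M) {p : ℕ} [hp : Fact p.Prime] (hp2 : p ∈ tau2 M) (hAE : A ≤ E)
    (hA : IsElementaryAbelian p A) (hAc : Nat.card A = p ^ 2) (hLA : L ≤ A) (hL : Nat.card L = p)
    (hinv : normalizer (A : Set G) ≤ normalizer (L : Set G)) :
    sigmaCore M ⊓ centralizer (L : Set G) = ⊥ := by
  by_contra hne
  obtain ⟨-, hu⟩ := (h.s1418 M hM E hE p hp2 A ⟨hAE, hA, hAc⟩).2.2 L hLA hL hne
  exact (h.centralizer_plane_le hM hE hp2 hAE hA hAc).2.1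
    (hinv.trans (h.normalizer_le_of_unique hM ((hLA.trans hAE).trans hE.1) (ne_bot_of_card hp.out hL) hu))

omit h in
/-- In an abelian quotient of `N`, fixed point sets are invariant. -/
theorem fixed_invariant {A N : Subgroup G} (hN : N ≤ normalizer (A : Set G))
    (hd : ⁅N, N⁆ ≤ centralizer (A : Set G)) {g : G} (hg : g ∈ N) :
    N ≤ normalizer ((A ⊓ centralizer ({g} : Set G) : Subgroup G) : Set G) := by
  intro k hk
  refine CfsgLib.Solvable.mem_normalizer_of_conj_mem fun x hx => ?_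
  have hxA : k * x * k⁻¹ ∈ A := (mem_normalizer_iff.1 (hN hk) x).1 hx.1
  refine ⟨hxA, mem_centralizer_singleton_iff.2 ?_⟩
  have hxg : x * g = g * x := mem_centralizer_singleton_iff.1 hx.2
  have hc : ⁅k, g⁆ * (k * x * k⁻¹) = (k * x * k⁻¹) * ⁅k, g⁆ :=
    (mem_centralizer_iff.1 (hd (commutator_mem_commutator hk hg)) _ hxA).symm
  have h1 : (k * g * k⁻¹) * (k * x * k⁻¹) = (k * x * k⁻¹) * (k * g * k⁻¹) := by
    calc (k * g * k⁻¹) * (k * x * k⁻¹) = k * (g * x) * k⁻¹ := by group
      _ = k * (x * g) * k⁻¹ := by rw [hxg]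
      _ = _ := by group
  have e : g = ⁅k, g⁆⁻¹ * (k * g * k⁻¹) := by rw [commutatorElement_def]; group
  have h2 : Commute (k * x * k⁻¹) g := by
    rw [e]
    exact (show Commute (k * x * k⁻¹) ⁅k, g⁆ from hc.symm).inv_right.mul_right h1.symm
  exact h2.eq

variable (h50 : CfsgLib.OddLocal.Ten.RankTwoHyp.{u})
include h50

/-- An `E`-invariant line of the plane without fixed points on `M_σ`. -/
theorem Pre.exists_invariant_line {M E A : Subgroup G} (hM : IsCoatom M)
    (hE : IsComplIn E (sigmaCore M) M) (hfpf : Tau13FPF M E) {p : ℕ} [hp : Fact p.Prime]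
    (hp2 : p ∈ tau2 M) (hAE : A ≤ E) (hA : IsElementaryAbelian p A) (hAc : Nat.card A = p ^ 2)
    (hab : ∀ r ∈ tau2 M, ∀ S : Sylow r G, IsMulCommutative (S : Subgroup G)) :
    ∃ L ≤ A, Nat.card L = p ∧ E ≤ normalizer (L : Set G) ∧
      sigmaCore M ⊓ centralizer (L : Set G) = ⊥ := by
  set N := normalizer (A : Set G) with hNdef
  obtain ⟨hCE, hNM, hME, hEA⟩ := h.centralizer_plane_le hM hE hp2 hAE hA hAc
  have hAM : A ≤ M := hAE.trans hE.1
  by_cases hinv : ∃ L ≤ A, Nat.card L = p ∧ N ≤ normalizer (L : Set G)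
  · obtain ⟨L, hLA, hL, hn⟩ := hinv
    exact ⟨L, hLA, hL, hEA.trans hn, h.fpf_of_invariant_line hM hE hp2 hAE hA hAc hLA hL hn⟩
  push Not at hinv
  have hd : ⁅N, N⁆ ≤ centralizer (A : Set G) := h.derived_normalizer_plane h50 hM hE hp2 hAE hA hAc (hab p hp2)
  -- elements outside `C(A)` act without fixed points
  have hfree : ∀ g ∈ N, g ∉ centralizer (A : Set G) → ∀ a ∈ A, g * a = a * g → a = 1 := by
    intro g hg hgA a ha hga
    by_contra ha1
    have hle : A ⊓ centralizer ({g} : Set G) ≤ A := inf_le_left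
    obtain ⟨k, hk, e⟩ := (Nat.dvd_prime_pow hp.out).1 (hAc ▸ card_dvd_of_le hle)
    interval_cases k
    · rw [pow_zero] at e
      have h1 : a ∈ A ⊓ centralizer ({g} : Set G) := ⟨ha, mem_centralizer_singleton_iff.2 hga.symm⟩
      rw [eq_bot_of_card_eq _ e, mem_bot] at h1
      exact ha1 h1
    · exact hinv _ hle (e.trans (pow_one p)) (fixed_invariant le_rfl hd hg)
    · refine hgA (mem_centralizer_iff.2 fun x hx => ?_)
      have h1 : x ∈ A ⊓ centralizer ({g} : Set G) := by
        rw [eq_of_le_of_card_ge hle (by rw [e, hAc])]; exact hx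
      exact (mem_centralizer_singleton_iff.1 h1.2)
  obtain ⟨-, -, -, hσA, -, A₁, hA₁, hA₁c, hA₁f⟩ := h.s1417 M hM p hp2 A ⟨hAM, hA, hAc⟩
  by_cases hEA₁ : E ≤ normalizer (A₁ : Set G)
  · exact ⟨A₁, hA₁, hA₁c, hEA₁, hA₁f⟩
  exfalso
  have hA1 : A ≠ ⊥ := fun e => by
    rw [e, Subgroup.card_bot] at hAc
    exact (Nat.one_lt_pow two_ne_zero hp.out.one_lt).ne hAc
  -- a prime power element of `E` moving `A₁`
  obtain ⟨r, hr, R, hRE, hRr, hRn⟩ : ∃ r : ℕ, r.Prime ∧ ∃ R : Subgroup G, R ≤ E ∧ IsPGroup r R ∧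
      ¬ R ≤ normalizer (A₁ : Set G) := by
    by_contra hno
    push Not at hno
    exact hEA₁ (le_of_pSubgroups fun r hr _ R hR hRr => hno r hr R hR hRr)
  have : Fact r.Prime := ⟨hr⟩
  obtain ⟨e, heR, he⟩ := SetLike.not_le_iff_exists.1 hRn
  have heE : e ∈ E := hRE heR
  have heC : e ∉ centralizer (A : Set G) := fun hc => he (centralizer_le_normalizer _ (centralizer_anti hA₁ hc))
  have heR' : zpowers e ≤ R := zpowers_le.2 heR
  have hepr : IsPGroup r (zpowers e) := hRr.to_le heR'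
  have hR1 : R ≠ ⊥ := fun h0 => heC (by rw [h0, mem_bot] at heR; rw [heR]; exact one_mem _)
  have hrd : r ∣ Nat.card E := (dvd_card_of_isPGroup hRr hR1).trans (card_dvd_of_le hRE)
  have hrσ : r ∉ sigma M := h.compl_isPi hM hE r hr hrd
  have hrp : r ≠ p := by
    rintro rfl
    obtain ⟨P, hP⟩ := exists_sylowOf E r
    obtain ⟨-, hPA, -⟩ := h.plane_le_sylow hM hE hp2 hAE hA hAc hP
    exact heC (hPA (le_of_normal_hallOf hP (h.sylow_tau2_normal h50 hM hE hp2 hAE hA hAc hab hP) hRE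
      (isPi_singleton_of_isPGroup hRr) heR))
  have hr1 : r ∈ tau1 M := by
    rcases h.tau_cases hM hr (hrd.trans (card_dvd_of_le hE.1)) hrσ with h1 | h1 | h1
    · exact h1
    · exfalso
      obtain ⟨P, hP⟩ := exists_sylowOf E r
      obtain ⟨B, hBE, hB, hBc⟩ := h.exists_plane_compl hM hE h1
      have hn := h.sylow_tau2_normal h50 hM hE h1 hBE hB hBc hab hP
      have hbot : ⁅P, A⁆ = ⊥ := eq_bot_of_isPi (π := {r})
        ((isPi_singleton_of_isPGroup (isPGroup_of_isPi_singleton hP.2.1)).of_le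
          (CfsgLib.Solvable.commutator_le_of_le_normalizer (hAE.trans hn))) fun x hx hxr hd' => hrp (by
          have h2 : ⁅P, A⁆ ≤ A := by
            rw [commutator_comm]; exact CfsgLib.Solvable.commutator_le_of_le_normalizer (hP.1.trans hEA)
          exact (Set.mem_singleton_iff.1 hxr).symm.trans (Set.mem_singleton_iff.1
            ((isPi_singleton_of_isPGroup (CfsgLib.PGroup.elemAb_isPGroup hA)) x hx (hd'.trans (card_dvd_of_le h2)))))
      exact heC (commutator_eq_bot_iff_le_centralizer.1 hbot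
        (le_of_normal_hallOf hP hn hRE (isPi_singleton_of_isPGroup hRr) heR))
    · exfalso
      obtain ⟨E₃, hE₃, hle⟩ := exists_hallOf_ge (h.isSolvable_le hM hE.1) hRE
        ((isPi_singleton_of_isPGroup hRr).mono (π' := tau3 M) (by rintro x rfl; exact h1))
      exact heC (hd (commutator_mono hEA hEA (((h.s1415 M hM E hE).2.2 E₃ hE₃).2.1 (hle heR))))
  -- an element of order `r` of `⟨e⟩`
  obtain ⟨R₁, hR₁, hR₁c⟩ := exists_order_prime_le (X := zpowers e) (dvd_card_of_isPGroup hepr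
    (fun h0 => heC (by rw [zpowers_eq_bot] at h0; rw [h0]; exact one_mem _)))
  obtain ⟨z, hz1, hzo, rfl⟩ := exists_zpowers_of_card hr hR₁c
  have hzE : z ∈ E := zpowers_le.1 (hR₁.trans (zpowers_le.2 heE))
  have hfix : sigmaCore M ⊓ centralizer ({z} : Set G) = ⊥ := hfpf z hzE hz1 fun x hx hd' => by
    rw [hzo, Nat.prime_dvd_prime_iff_eq hx hr] at hd'
    exact Or.inl (hd' ▸ hr1)
  by_cases hzA : z ∈ centralizer (A : Set G)
  swap
  · -- a Frobenius group on `M_σ`
    refine h.sigmaCore_ne_bot hM ?_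
    have hz' : z ∈ normalizer (A : Set G) := hEA hzE
    have hle : A ≤ centralizer (sigmaCore M : Set G) := by
      refine h.centralizes_of_fixed (a := z) (h.isSolvable_le hM (piCoreOf_le _ _)) (by rw [hzo]; exact hr)
        hz' ((sup_le hAM ((zpowers_le.2 hzE).trans hE.1)).trans (le_normalizer_piCoreOf _ _)) ?_ ?_ ?_
      · refine coprime_of_isPi (π := {x | x ∉ sigma M}) ((h.compl_isPi hM hE).of_le (sup_le hAE
          (zpowers_le.2 hzE))) (isPi_piCoreOf (sigma M) M) fun x _ h1 h2 => h1 h2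
      · exact le_bot_iff.1 fun a ha => mem_bot.2 (hfree z hz' hzA a ha.1
          (mem_centralizer_singleton_iff.1 ha.2).symm)
      · intro x hx hxp hzx u hu
        have h1 : x ∈ sigmaCore M ⊓ centralizer ({z} : Set G) :=
          ⟨hx, mem_centralizer_singleton_iff.2 hzx.symm⟩
        rw [hfix, mem_bot] at h1
        rw [h1]; simp
    exact eq_bot_iff.2 (hσA ▸ le_inf le_rfl (le_centralizer_iff.1 hle))
  -- `z` centralises `A`: look at `H ≥ N(⟨z⟩)`
  have hRM : zpowers z ≤ M := (zpowers_le.2 hzE).trans hE.1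
  obtain ⟨H, hH, hNH⟩ := h.exists_maximal_normalizer hM hRM (ne_bot_of_card hr hR₁c)
  obtain ⟨-, hor⟩ := h.tau13_maximal hM (Or.inl hr1) (isPGroup_of_card hR₁c)
    (ne_bot_of_card hr hR₁c) hH hNH
  have hCH : centralizer ((zpowers z : Subgroup G) : Set G) ≤ H := (centralizer_le_normalizer _).trans hNH
  have hAH : A ≤ H := le_trans (fun a ha => by
    rw [centralizer_zpowers, mem_centralizer_singleton_iff]
    exact (mem_centralizer_iff.1 hzA a ha)) hCH
  have heH : e ∈ H := hCH (by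
    obtain ⟨i, hi⟩ := mem_zpowers_iff.1 (zpowers_le.1 hR₁)
    rw [centralizer_zpowers, mem_centralizer_singleton_iff, ← hi]
    exact ((Commute.refl e).zpow_right i).eq)
  have hpideal : ¬ IsIdealPrime p G := (h.s1408 M hM p hp2.2.1 hp2.2.2.1 hp2.2.2.2).1
  rcases hor with hσ | h2
  · refine heC ((h.centralizes_of_le_derived hH hrp ?_ hAH hepr (CfsgLib.PGroup.elemAb_isPGroup hA)
      (zpowers_le.2 (hEA heE)) (fun hb => hpideal hb.2)) (mem_zpowers e))
    exact (h.le_sigmaCore hH (zpowers_le.2 heH)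
      ((isPi_singleton_of_isPGroup hepr).mono (by rintro x rfl; exact hσ))).trans
      (h.sigmaCore_le_commutator hH)
  -- `r ∈ τ₂(H)`
  have hBM : ∀ B : Subgroup G, IsElementaryAbelian r B → Nat.card B = r ^ 2 → ¬ B ≤ M :=
    fun B hB hBc hBM => h.not_rank_one_of_plane hBM hB hBc hr1.2.2.2.2
  have hrank : ¬ PRankLE p 1 H := h.not_rank_one_of_plane hAH hA hAc
  by_cases hpH : p ∈ sigma H
  swap
  · have hp2H : p ∈ tau2 H := by
      rcases h.tau_cases hH hp.out
        (((dvd_pow_self p two_ne_zero).trans (dvd_of_eq hAc.symm)).trans (card_dvd_of_le hAH)) hpH with h1 | h1 | h1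
      · exact absurd h1.2.2.2.2 hrank
      · exact h1
      · exact absurd h1.2.2.2 hrank
    obtain ⟨F, hF, hAF⟩ := h.exists_compl_ge hH hAH
      ((isPi_singleton_of_isPGroup (CfsgLib.PGroup.elemAb_isPGroup hA)).mono (by rintro x rfl; exact hpH))
    obtain ⟨B, hBF, hB, hBc⟩ := h.exists_plane_compl hH hF h2
    have hFA := (h.centralizer_plane_le hH hF hp2H hAF hA hAc).2.2.2
    have hFB := (h.centralizer_plane_le hH hF h2 hBF hB hBc).2.2.2
    have hbot : A ⊓ B = ⊥ := inf_eq_bot_of_isPi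
      (isPi_singleton_of_isPGroup (CfsgLib.PGroup.elemAb_isPGroup hA))
      (isPi_singleton_of_isPGroup (CfsgLib.PGroup.elemAb_isPGroup hB))
      fun x _ h1 h2 => hrp (h2.symm.trans h1)
    refine hBM B hB hBc (le_trans (le_trans ?_ hCE) hE.1)
    refine commutator_eq_bot_iff_le_centralizer.1 (le_bot_iff.1 (hbot ▸ le_inf ?_ ?_))
    · rw [commutator_comm]
      exact CfsgLib.Solvable.commutator_le_of_le_normalizer (hBF.trans hFA)
    · exact CfsgLib.Solvable.commutator_le_of_le_normalizer (hAF.trans hFB)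
  -- `p ∈ σ(H)`: then `H ≤ N(A)`
  obtain ⟨P', hP', hAP'⟩ := exists_sylow_ge hAH (CfsgLib.PGroup.elemAb_isPGroup hA)
  have hP'p : IsPGroup p P' := isPGroup_of_isPi_singleton hP'.2.1
  have hP'C : P' ≤ centralizer (A : Set G) := by
    obtain ⟨S, hS⟩ := hP'p.exists_le_sylow
    haveI := hab p hp2 S
    intro x hx
    rw [mem_centralizer_iff]
    intro a ha
    exact congrArg Subtype.val
      (IsMulCommutative.is_comm.comm (⟨a, hS (hAP' ha)⟩ : (S : Subgroup G)) ⟨x, hS hx⟩)
  have hP'σ : P' ≤ sigmaCore H := h.le_sigmaCore hH hP'.1 (IsPi.mono hP'.2.1 (by rintro x rfl; exact hpH))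
  have hHN : H ≤ normalizer (A : Set G) := by
    intro g hg
    have hgP := CfsgLib.OddLocal.BG.sylIn_normal_of_nilpotent (h.sigmaCore_nilpotent_of_tau2 hH h2)
      (piCoreOf_le _ _) (le_normalizer_piCoreOf _ _)
      ⟨hP'σ, hP'p, (hallOf_of_le hP' hP'σ (piCoreOf_le _ _)).2.2 p hp.out rfl⟩ hg
    refine CfsgLib.Solvable.mem_normalizer_of_conj_mem fun a ha => ?_
    exact h.mem_plane hM hE hp2 hAE hA hAc (hCE (hP'C ((mem_normalizer_iff.1 hgP a).1 (hAP' ha))))
      (by rw [conj_pow, hA.2 a ha, mul_one, mul_inv_cancel])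
  obtain ⟨T, hT⟩ := exists_sylowOf H r
  obtain ⟨B, hBT, hB, hBc⟩ := h.exists_elementary_tau2 hH h2 hT
  obtain ⟨b, hbB, hbM⟩ := SetLike.not_le_iff_exists.1 (hBM B hB hBc)
  have hbN : b ∈ N := hHN (hT.1 (hBT hbB))
  -- an element of order `r` modulo `C(A)` in `⟨e⟩`
  obtain ⟨k, hk, hk'⟩ : ∃ k : ℕ, e ^ (r ^ k) ∉ centralizer (A : Set G) ∧
      (e ^ (r ^ k)) ^ r ∈ centralizer (A : Set G) := by
    obtain ⟨n, hn⟩ := IsPGroup.iff_card.1 hepr
    by_contra hno
    push Not at hno
    have hall : ∀ k, e ^ (r ^ k) ∉ centralizer (A : Set G) := by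
      intro k
      induction k with
      | zero => simpa using heC
      | succ k ih =>
        rw [pow_succ, pow_mul]
        exact hno k ih
    exact hall n (by rw [← hn, Nat.card_zpowers, pow_orderOf_eq_one]; exact one_mem _)
  set e₁ := e ^ (r ^ k) with he₁
  have he₁E : e₁ ∈ E := pow_mem heE _
  haveI := hA.1
  letI : CommGroup A := { (inferInstance : Group A) with mul_comm := fun x y => IsMulCommutative.is_comm.comm x y }
  let Θ := conjOn A
  have hker : ∀ g : ↥(normalizer (A : Set G)), Θ g = 1 ↔ (g : G) ∈ centralizer (A : Set G) := by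
    intro g
    constructor
    · intro hg
      refine mem_centralizer_iff.2 fun a ha => ?_
      have h1 := congrArg Subtype.val (DFunLike.congr_fun hg (⟨a, ha⟩ : A))
      rw [conjOn_apply, MulAut.one_apply] at h1
      exact (mul_inv_eq_iff_eq_mul.1 h1).symm
    · intro hg
      refine MulEquiv.ext fun a => Subtype.ext ?_
      rw [conjOn_apply, MulAut.one_apply, ← mem_centralizer_iff.1 hg a a.2, mul_inv_cancel_right]
  let eN : ↥(normalizer (A : Set G)) := ⟨e₁, hEA he₁E⟩
  let bN : ↥(normalizer (A : Set G)) := ⟨b, hbN⟩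
  have hbr : b ^ r = 1 := hB.2 b hbB
  have hcomm : Commute (Θ eN) (Θ bN) := by
    show Θ eN * Θ bN = Θ bN * Θ eN
    rw [← commutatorElement_eq_one_iff_mul_comm, ← map_commutatorElement, hker]
    exact hd (commutator_mem_commutator eN.2 bN.2)
  refine hrp ?_
  obtain ⟨a, ha, ha1⟩ : ∃ a ∈ A, a ≠ 1 := by
    by_contra hno
    push Not at hno
    exact hA1 (eq_bot_iff.2 fun x hx => mem_bot.2 (hno x hx))
  have hpow := pow_eq_one_of_commuting_fpf (V := A) hr hcomm
    (by rw [← map_pow]; exact (hker _).2 (by simpa [eN] using hk'))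
    (by rw [← map_pow]; exact (hker _).2 (by simp [bN, hbr]))
    (fun hb => hbM ((hCE.trans hE.1) ((hker bN).1 hb)))
    (fun j hj => by
      rw [← map_pow, ← map_mul, hker] at hj
      have h1 : e₁ * b ^ j ∈ centralizer (A : Set G) := by simpa [eN, bN] using hj
      by_cases hdj : r ∣ j
      · obtain ⟨i, rfl⟩ := hdj
        rw [pow_mul, hbr, one_pow, mul_one] at h1
        exact hk h1
      · have hbjM : b ^ j ∈ M := by
          have h2 := mul_mem (Subgroup.inv_mem _ (hE.1 he₁E)) ((hCE.trans hE.1) h1)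
          rwa [inv_mul_cancel_left] at h2
        obtain ⟨i, hi⟩ := exists_pow_eq_self_of_coprime (x := b) (n := j)
          (Nat.Coprime.coprime_dvd_right (orderOf_dvd_of_pow_eq_one hbr)
            ((hr.coprime_iff_not_dvd.2 hdj).symm))
        exact hbM (hi ▸ pow_mem hbjM i))
    (fun i j hij v hv => by
      rw [← map_pow, ← map_pow, ← map_mul] at hij hv
      have h1 := congrArg Subtype.val hv
      rw [conjOn_apply] at h1
      exact Subtype.ext (hfree _ (Subtype.property _) (fun hc => hij ((hker _).2 hc)) v v.2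
        (mul_inv_eq_iff_eq_mul.1 h1)))
    ⟨a, ha⟩
  have h1 : a ^ r = 1 := congrArg Subtype.val hpow
  have h2 : orderOf a = p := orderOf_eq_prime (hA.2 a ha) ha1
  exact ((Nat.prime_dvd_prime_iff_eq hp.out hr).1 (h2 ▸ orderOf_dvd_of_pow_eq_one h1)).symm

end CfsgLib.OddLocal.Sec13
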