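import Cfsg.Agent.Lib.OddLocal.Sec12FrobTools
import Cfsg.Agent.Lib.OddLocal.BG12d
import Cfsg.Agent.Lib.Transfer.Frobenius

/-!
BG Corollary 12.9, the Sylow subgroups for `τ₂(M)` in a complement `E`: planes, abelian Sylow subgroups of
`G`, normality.
-/

set_option autoImplicit false
set_option linter.unusedSectionVars false

open scoped Pointwise

namespace CfsgLib.OddLocal.Sec13

open Cfsg Subgroup
open scoped commutatorElement
open CfsgLib.Solvable (conj_smul_le_iff mem_conj_smul_iff card_conj_smul conj_smul_conj_smul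
  conj_smul_mono conj_smul_self_of_mem_normalizer conj_smul_eq_map)

universe u
variable {G : Type u} [Group G] [Finite G]

/-- The conjugation action of `N(D)` on `D` is trivial on the elements centralising `D`. -/
theorem commutator_eq_of_centralizes {c n a : G} (hca : a * c = c * a) (hn : ⁅a, n⁆ * c = c * ⁅a, n⁆) :
    ⁅a, c * n⁆ = ⁅a, n⁆ := by
  calc ⁅a, c * n⁆ = (a * c) * (n * a⁻¹ * n⁻¹) * c⁻¹ := by rw [commutatorElement_def]; group
    _ = c * ⁅a, n⁆ * c⁻¹ := by rw [hca, commutatorElement_def]; group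
    _ = ⁅a, n⁆ := by rw [← hn]; group

variable (h : Pre G)
include h

/-- An element of order dividing `p` of a complement lies in its plane. -/
theorem Pre.mem_plane {M E A : Subgroup G} (hM : IsCoatom M) (hE : IsComplIn E (sigmaCore M) M) {p : ℕ}
    [hp : Fact p.Prime] (hp2 : p ∈ tau2 M) (hAE : A ≤ E) (hA : IsElementaryAbelian p A)
    (hAc : Nat.card A = p ^ 2) {x : G} (hxE : x ∈ E) (hx : x ^ p = 1) : x ∈ A := by
  rcases eq_or_ne x 1 with rfl | hx1
  · exact one_mem A
  exact (h.s1418 M hM E hE p hp2 A ⟨hAE, hA, hAc⟩).1.2 (zpowers x) (zpowers_le.2 hxE)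
    (by rw [Nat.card_zpowers, orderOf_eq_prime hx hx1]) (mem_zpowers x)

theorem Pre.centralizer_plane_le {M E A : Subgroup G} (hM : IsCoatom M)
    (hE : IsComplIn E (sigmaCore M) M) {p : ℕ} [Fact p.Prime] (hp2 : p ∈ tau2 M) (hAE : A ≤ E)
    (hA : IsElementaryAbelian p A) (hAc : Nat.card A = p ^ 2) :
    centralizer (A : Set G) ≤ E ∧ ¬ normalizer (A : Set G) ≤ M ∧ M ⊓ normalizer (A : Set G) = E ∧
      E ≤ normalizer (A : Set G) := by
  obtain ⟨⟨h1, -⟩, ⟨h2, h3, h4⟩, -⟩ := h.s1418 M hM E hE p hp2 A ⟨hAE, hA, hAc⟩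
  exact ⟨h2.trans h3.le, h4, h3, h1⟩

/-- A Sylow subgroup of the complement contains the plane and centralises it. -/
theorem Pre.plane_le_sylow {M E A P : Subgroup G} (hM : IsCoatom M) (hE : IsComplIn E (sigmaCore M) M)
    {p : ℕ} [hp : Fact p.Prime] (hp2 : p ∈ tau2 M) (hAE : A ≤ E) (hA : IsElementaryAbelian p A)
    (hAc : Nat.card A = p ^ 2) (hP : IsPiHallOf {p} P E) :
    A ≤ P ∧ P ≤ centralizer (A : Set G) ∧ IsMulCommutative P := by
  obtain ⟨-, -, -, hEA⟩ := h.centralizer_plane_le hM hE hp2 hAE hA hAc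
  obtain ⟨m, hm, hle⟩ := exists_conj_le_hallOf (h.isSolvable_le hM hE.1) hP hAE
    (isPi_singleton_of_isPGroup (CfsgLib.PGroup.elemAb_isPGroup hA))
  rw [conj_smul_self_of_mem_normalizer (hEA hm)] at hle
  have hab := h.sylow_abelian_of_tau2 hM hp2 (h.compl_sylow hM hE hp2.2.1 hP)
  refine ⟨hle, fun x hx => mem_centralizer_iff.2 fun a ha => ?_, hab⟩
  exact congrArg Subtype.val (hab.is_comm.comm (⟨a, hle ha⟩ : P) ⟨x, hx⟩)

/-- If all Sylow `p`-subgroups of `G` are abelian, the complement contains one. -/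
theorem Pre.sylow_global_abelian {M E A P : Subgroup G} (hM : IsCoatom M)
    (hE : IsComplIn E (sigmaCore M) M) {p : ℕ} [hp : Fact p.Prime] (hp2 : p ∈ tau2 M) (hAE : A ≤ E)
    (hA : IsElementaryAbelian p A) (hAc : Nat.card A = p ^ 2)
    (hab : ∀ S : Sylow p G, IsMulCommutative (S : Subgroup G)) (hP : IsPiHallOf {p} P E) :
    ∃ S : Sylow p G, (S : Subgroup G) = P := by
  obtain ⟨hAP, -, -⟩ := h.plane_le_sylow hM hE hp2 hAE hA hAc hP
  obtain ⟨S, hS⟩ := (isPGroup_of_isPi_singleton hP.2.1).exists_le_sylow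
  refine ⟨S, ?_⟩
  haveI := hab S
  refine hallOf_eq_of_le hP hS (le_trans ?_ (h.centralizer_plane_le hM hE hp2 hAE hA hAc).1)
    (isPi_singleton_of_isPGroup S.2)
  intro x hx
  rw [mem_centralizer_iff]
  intro a ha
  exact congrArg Subtype.val (IsMulCommutative.is_comm.comm (⟨a, hS (hAP ha)⟩ : (S : Subgroup G)) ⟨x, hx⟩)

/-- With abelian Sylow subgroups, `p ∈ τ₂(M)` has rank at most two in every subgroup. -/
theorem Pre.rank_le_two_of_abelian {M E A : Subgroup G} (hM : IsCoatom M)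
    (hE : IsComplIn E (sigmaCore M) M) {p : ℕ} [hp : Fact p.Prime] (hp2 : p ∈ tau2 M) (hAE : A ≤ E)
    (hA : IsElementaryAbelian p A) (hAc : Nat.card A = p ^ 2)
    (hab : ∀ S : Sylow p G, IsMulCommutative (S : Subgroup G)) (L : Subgroup G) : PRankLE p 2 L := by
  rw [CfsgLib.PGroup.pRankLE_subgroup_iff]
  intro X _ hX
  obtain ⟨P, hP⟩ := exists_sylowOf E p
  obtain ⟨S, hS⟩ := h.sylow_global_abelian hM hE hp2 hAE hA hAc hab hP
  obtain ⟨S', hS'⟩ := (CfsgLib.PGroup.elemAb_isPGroup hX).exists_le_sylow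
  obtain ⟨g, hg⟩ := MulAction.exists_smul_eq G S' S
  have hle : MulAut.conj g • X ≤ P := by
    rw [← hS, ← hg, Sylow.coe_subgroup_smul]
    exact conj_smul_mono g hS'
  rw [← card_conj_smul g, ← hAc]
  exact Nat.le_of_dvd Nat.card_pos (card_dvd_of_le fun x hx => h.mem_plane hM hE hp2 hAE hA hAc
    (hP.1 (hle hx)) ((isElementaryAbelian_conj hX g).2 x hx))

/-- With abelian Sylow subgroups: `N(P) ≤ N(A)` and no nonidentity element of `A` is fixed by `N(P)`. -/
theorem Pre.normalizer_sylow_plane {M E A P : Subgroup G} (hM : IsCoatom M)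
    (hE : IsComplIn E (sigmaCore M) M) {p : ℕ} [hp : Fact p.Prime] (hp2 : p ∈ tau2 M) (hAE : A ≤ E)
    (hA : IsElementaryAbelian p A) (hAc : Nat.card A = p ^ 2)
    (hab : ∀ S : Sylow p G, IsMulCommutative (S : Subgroup G)) (hP : IsPiHallOf {p} P E) :
    normalizer (P : Set G) ≤ normalizer (A : Set G) ∧
      (∀ a ∈ A, (∀ g ∈ normalizer (A : Set G), g * a = a * g) → a = 1) ∧
      A ≤ ⁅A, normalizer (A : Set G)⁆ := by
  obtain ⟨hAP, -, hPc⟩ := h.plane_le_sylow hM hE hp2 hAE hA hAc hP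
  obtain ⟨S, hS⟩ := h.sylow_global_abelian hM hE hp2 hAE hA hAc hab hP
  have hN : normalizer (P : Set G) ≤ normalizer (A : Set G) := fun g hg =>
    CfsgLib.Solvable.mem_normalizer_of_conj_mem fun x hx => h.mem_plane hM hE hp2 hAE hA hAc
      (hP.1 ((mem_normalizer_iff.1 hg x).1 (hAP hx)))
      (by rw [conj_pow, hA.2 x hx, mul_one, mul_inv_cancel])
  have hP1 : P ≠ ⊥ := fun e => by
    have hA1 : A = ⊥ := le_bot_iff.1 (e ▸ hAP)
    rw [hA1, Subgroup.card_bot] at hAc
    exact (Nat.one_lt_pow two_ne_zero hp.out.one_lt).ne hAc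
  obtain ⟨V, hV⟩ := CfsgLib.PGroup.exists_isPiHallOf {x | x ≠ p} (normalizer (P : Set G))
    (h.isSolvable (h.normalizer_ne_top hM (hP.1.trans hE.1) hP1))
  have hPN : IsPiHallOf {p} P (normalizer (P : Set G)) := by
    refine ⟨le_normalizer, hP.2.1, fun s hs hsp hd => ?_⟩
    rw [Set.mem_singleton_iff.1 hsp, ← hS] at hd
    exact S.not_dvd_index (hd.trans (Dvd.intro _ (relIndex_mul_index (by rw [hS]; exact le_normalizer))))
  have hc : IsComplIn V P (normalizer (P : Set G)) :=
    isComplIn_of_hallOf hPN hV le_rfl (fun x _ hx hx' => hx' hx) (fun x _ _ => (eq_or_ne x p).imp id id)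
  have hc' : IsComplIn (S : Subgroup G) V (normalizer ((S : Subgroup G) : Set G)) := by
    rw [hS]
    refine ⟨hc.2.1, hc.1, inf_comm V P ▸ hc.2.2.1, fun x hx => ?_⟩
    obtain ⟨a, ha, b, hb, rfl⟩ := hc.2.2.2 x hx
    exact ⟨a * b * a⁻¹, (mem_normalizer_iff.1 (hc.1 ha) b).1 hb, a, ha, by group⟩
  have hPV : P = ⁅P, V⁆ := by
    have := (h.s1411 p S V hc').1
    rwa [hS] at this
  have hcop : (Nat.card V).Coprime (Nat.card P) := coprime_of_isPi hV.2.1 hP.2.1 fun x _ h1 h2 => h1 h2
  have h0 : P ⊓ centralizer (V : Set G) = ⊥ := by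
    refine le_bot_iff.1 fun x hx => ?_
    have := CfsgLib.Solvable.inf_centralizer_inf_commutator V P hV.1 hcop
    rw [← hPV] at this
    exact this.le ⟨hx, hx.1⟩
  refine ⟨hN, fun a ha hall => mem_bot.1 (h0.le ⟨hAP ha, mem_centralizer_iff.2 fun v hv =>
    hall v (hN (hV.1 hv))⟩), ?_⟩
  have hVA : V ≤ normalizer (A : Set G) := hV.1.trans hN
  have h2 := CfsgLib.Solvable.commutator_sup_centralizer hVA
    (hcop.coprime_dvd_right (card_dvd_of_le hAP)) (Or.inr (h.isSolvable_le hM (hAE.trans hE.1)))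
  rw [show A ⊓ centralizer (V : Set G) = ⊥ from le_bot_iff.1 (h0 ▸ inf_le_inf_right _ hAP), sup_bot_eq] at h2
  exact h2.ge.trans (commutator_mono le_rfl hVA)

/-- A `p'`-element normalising the abelian `p`-group `P` and centralising all its elements of order `p`
centralises it. -/
theorem Pre.centralizes_of_omega {P : Subgroup G} [IsMulCommutative P] {p : ℕ} [hp : Fact p.Prime]
    (hPp : IsPGroup p P) {g : G} (hg : g ∈ normalizer (P : Set G)) (hgp : (orderOf g).Coprime p)
    (hfix : ∀ x ∈ P, x ^ p = 1 → g * x = x * g) : g ∈ centralizer (P : Set G) := by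
  have hcop : (Nat.card (zpowers g)).Coprime (Nat.card P) := by
    obtain ⟨n, hn⟩ := IsPGroup.iff_card.1 hPp
    rw [Nat.card_zpowers, hn]
    exact hgp.pow_right n
  have hn : zpowers g ≤ normalizer (P : Set G) := zpowers_le.2 hg
  have hbot : ⁅P, zpowers g⁆ = ⊥ := by
    by_contra hne
    have hle := CfsgLib.Solvable.commutator_le_of_le_normalizer hn
    obtain ⟨Y, hY, hYc⟩ := exists_order_prime_le (dvd_card_of_isPGroup (hPp.to_le hle) hne)
    refine ne_bot_of_card hp.out hYc (le_bot_iff.1 fun y hy => ?_)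
    refine (CfsgLib.Solvable.inf_centralizer_inf_commutator (zpowers g) P hn hcop).le
      ⟨⟨hle (hY hy), ?_⟩, hY hy⟩
    show y ∈ centralizer ((zpowers g : Subgroup G) : Set G)
    rw [centralizer_zpowers, mem_centralizer_singleton_iff]
    exact (hfix y (hle (hY hy)) (by
      have := Y.orderOf_dvd_natCard hy
      rw [hYc] at this
      exact orderOf_dvd_iff_pow_eq_one.1 this)).symm
  exact le_centralizer_iff.1 (commutator_eq_bot_iff_le_centralizer.1 hbot) (mem_zpowers g)

/-- `C(A)` has a normal `p`-complement, normalised by `E`. -/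
theorem Pre.centralizer_plane_complement {M E A P : Subgroup G} (hM : IsCoatom M)
    (hE : IsComplIn E (sigmaCore M) M) {p : ℕ} [hp : Fact p.Prime] (hp2 : p ∈ tau2 M) (hAE : A ≤ E)
    (hA : IsElementaryAbelian p A) (hAc : Nat.card A = p ^ 2) (hP : IsPiHallOf {p} P E) :
    ∃ K : Subgroup G, K ≤ centralizer (A : Set G) ∧
      centralizer (A : Set G) ≤ normalizer (K : Set G) ∧ ¬ p ∣ Nat.card K ∧
      IsPiHallOf {x | x ≠ p} K (centralizer (A : Set G)) ∧ E ≤ normalizer (K : Set G) := by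
  set C := centralizer (A : Set G) with hC
  obtain ⟨hAP, hPC, hPc⟩ := h.plane_le_sylow hM hE hp2 hAE hA hAc hP
  obtain ⟨hCE, -, hME, hEA⟩ := h.centralizer_plane_le hM hE hp2 hAE hA hAc
  have hPp : IsPGroup p P := isPGroup_of_isPi_singleton hP.2.1
  have hPC' : IsPiHallOf {p} P C := hallOf_of_le hP hPC hCE
  obtain ⟨P', hP'⟩ := exists_sylow_of_hallOf hPC'
  subst hP'
  have hP'c : IsMulCommutative (P' : Subgroup C) := ⟨⟨fun a b => Subtype.ext (Subtype.ext (by
    have := congrArg Subtype.val (hPc.is_comm.comm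
      (⟨_, mem_map_of_mem C.subtype a.2⟩ : ((P' : Subgroup C).map C.subtype : Subgroup G))
      ⟨_, mem_map_of_mem C.subtype b.2⟩)
    simpa using this))⟩⟩
  haveI := hPc
  obtain ⟨Q', N, hNn, hcompl⟩ := CfsgLib.Transfer.hasNormalPComplement_of_abelian_sylow P' hP'c
    (fun g hg hgp => by
      refine mem_centralizer_iff.2 fun x hx => Subtype.ext ?_
      refine mem_centralizer_iff.1 (h.centralizes_of_omega hPp (g := (g : G)) ?_
        (by rwa [Subgroup.orderOf_coe]) ?_) _ (mem_map_of_mem C.subtype hx)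
      · exact CfsgLib.Solvable.mem_normalizer_of_conj_mem fun y hy => by
          obtain ⟨z, hz, rfl⟩ := hy
          exact ⟨_, (mem_normalizer_iff.1 hg z).1 hz, rfl⟩
      · intro y hy hyp
        exact (mem_centralizer_iff.1 g.2 y
          (h.mem_plane hM hE hp2 hAE hA hAc (hP.1 hy) hyp)).symm)
  set P := (P' : Subgroup C).map C.subtype with hPdef
  set K := N.map C.subtype with hK
  have hKC : K ≤ C := map_subtype_le _
  have hCK : C ≤ normalizer (K : Set G) := by
    intro g hg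
    refine CfsgLib.Solvable.mem_normalizer_of_conj_mem fun y hy => ?_
    obtain ⟨z, hz, rfl⟩ := hy
    exact ⟨_, hNn.conj_mem z hz ⟨g, hg⟩, rfl⟩
  have hCsol : Group.IsSolvable C := h.isSolvable_le hM (hCE.trans hE.1)
  have hpK : ¬ p ∣ Nat.card K := fun hd => Q'.not_dvd_index (by
    rw [hcompl.index_eq_card]; rwa [hK, card_map_of_injective C.subtype_injective] at hd)
  have hKhall : IsPiHallOf {x | x ≠ p} K C := by
    refine ⟨hKC, fun x _ hd hxp => hpK (hxp ▸ hd), fun x hx hxp hd => hxp ?_⟩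
    rw [relIndex, hK, show (N.map C.subtype).subgroupOf C = N from
      comap_map_eq_self_of_injective C.subtype_injective N, hcompl.symm.index_eq_card] at hd
    exact isPi_singleton_of_isPGroup (Q'.2.map C.subtype) x hx
      (by rwa [card_map_of_injective C.subtype_injective])
  refine ⟨K, hKC, hCK, hpK, hKhall, fun g hg => CfsgLib.Solvable.mem_normalizer_of_conj_mem ?_⟩
  refine conj_smul_le_iff.1 (le_of_normal_hallOf hKhall hCK ?_ (IsPi.conj hKhall.2.1 g))
  exact (conj_smul_mono g hKC).trans (conj_smul_self_of_mem_normalizer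
    (CfsgLib.Solvable.normalizer_le_normalizer_centralizer A (hEA hg))).le

variable (h50 : CfsgLib.OddLocal.Ten.RankTwoHyp.{u})
include h50

/-- The commutators of `N(A)` centralise `A`. -/
theorem Pre.derived_normalizer_plane {M E A : Subgroup G} (hM : IsCoatom M)
    (hE : IsComplIn E (sigmaCore M) M) {p : ℕ} [hp : Fact p.Prime] (hp2 : p ∈ tau2 M) (hAE : A ≤ E)
    (hA : IsElementaryAbelian p A) (hAc : Nat.card A = p ^ 2)
    (hab : ∀ S : Sylow p G, IsMulCommutative (S : Subgroup G)) :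
    ⁅normalizer (A : Set G), normalizer (A : Set G)⁆ ≤ centralizer (A : Set G) := by
  have hA1 : A ≠ ⊥ := by
    rintro rfl
    rw [Subgroup.card_bot] at hAc
    exact (Nat.one_lt_pow two_ne_zero hp.out.one_lt).ne hAc
  have hNtop := h.normalizer_ne_top hM (hAE.trans hE.1) hA1
  obtain ⟨P, hP⟩ := exists_sylowOf E p
  obtain ⟨S, hS⟩ := h.sylow_global_abelian hM hE hp2 hAE hA hAc hab hP
  obtain ⟨-, hPA, -⟩ := h.plane_le_sylow hM hE hp2 hAE hA hAc hP
  obtain ⟨-, -, -, hEA⟩ := h.centralizer_plane_le hM hE hp2 hAE hA hAc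
  refine le_of_pSubgroups fun q hq _ Q hQ hQq => ?_
  have : Fact q.Prime := ⟨hq⟩
  by_cases hqp : q = p
  · subst hqp
    have hPN : IsPiHallOf {q} P (normalizer (A : Set G)) := by
      refine ⟨hP.1.trans hEA, hP.2.1, fun s hs hsp hd => ?_⟩
      rw [Set.mem_singleton_iff.1 hsp, ← hS] at hd
      exact S.not_dvd_index (hd.trans (Dvd.intro _ (relIndex_mul_index (by rw [hS]; exact hP.1.trans hEA))))
    obtain ⟨m, hm, hle⟩ := exists_conj_le_hallOf (h.isSolvable hNtop) hPN
      (hQ.trans (commutator_le_self _)) (isPi_singleton_of_isPGroup hQq)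
    intro x hx
    have h1 := hPA (conj_smul_le_iff.1 hle x hx)
    have h2 := (mem_normalizer_iff.1 (CfsgLib.Solvable.normalizer_le_normalizer_centralizer A
      (Subgroup.inv_mem _ hm)) _).1 h1
    simpa [mul_assoc] using h2
  · exact h.derived_centralizes h50 hNtop hqp (h.rank_le_two_of_abelian hM hE hp2 hAE hA hAc hab _)
      le_normalizer le_rfl (CfsgLib.PGroup.elemAb_isPGroup hA) hQ hQq

/-- The Sylow subgroups for `τ₂(M)` are normal in `E`, all Sylow subgroups of `G` for `τ₂(M)` being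
abelian. -/
theorem Pre.sylow_tau2_normal {M E A P : Subgroup G} (hM : IsCoatom M)
    (hE : IsComplIn E (sigmaCore M) M) {p : ℕ} [hp : Fact p.Prime] (hp2 : p ∈ tau2 M) (hAE : A ≤ E)
    (hA : IsElementaryAbelian p A) (hAc : Nat.card A = p ^ 2)
    (hab : ∀ r ∈ tau2 M, ∀ S : Sylow r G, IsMulCommutative (S : Subgroup G))
    (hP : IsPiHallOf {p} P E) : E ≤ normalizer (P : Set G) := by
  set C := centralizer (A : Set G) with hC
  obtain ⟨hAP, hPC, hPc⟩ := h.plane_le_sylow hM hE hp2 hAE hA hAc hP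
  obtain ⟨hCE, -, hME, hEA⟩ := h.centralizer_plane_le hM hE hp2 hAE hA hAc
  obtain ⟨hNPA, -, hAN⟩ := h.normalizer_sylow_plane hM hE hp2 hAE hA hAc (hab p hp2) hP
  have hPp : IsPGroup p P := isPGroup_of_isPi_singleton hP.2.1
  have hPC' : IsPiHallOf {p} P C := hallOf_of_le hP hPC hCE
  obtain ⟨K, hKC, hCK, hpK, hKhall, -⟩ := h.centralizer_plane_complement hM hE hp2 hAE hA hAc hP
  have hCsol : Group.IsSolvable C := h.isSolvable_le hM (hCE.trans hE.1)
  haveI := hPc
  have hPK : P ≤ centralizer (K : Set G) := by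
    refine le_centralizer_of_sylows fun r hr => ?_
    have : Fact r.Prime := ⟨hr⟩
    obtain ⟨R, hR, hPR, -⟩ := exists_invariant_sylowOf (A := P) (q := r) (hPC.trans hCK)
      (coprime_of_isPi (isPi_singleton_of_isPGroup hPp) hKhall.2.1 fun x _ h1 h2 => h2 h1)
      (CfsgLib.Solvable.isSolvable_of_le hCsol hKC) bot_le
      (by intro y _; rw [normalizer_eq_top]; trivial) IsPGroup.of_bot
    refine ⟨R, hR, ?_⟩
    rcases eq_or_ne R ⊥ with rfl | hR1
    · exact fun y _ => mem_centralizer_iff.2 fun w hw => by rw [mem_bot.1 hw]; simp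
    have hRr : IsPGroup r R := isPGroup_of_isPi_singleton hR.2.1
    have hrR : r ∣ Nat.card R := dvd_card_of_isPGroup hRr hR1
    have hrp : r ≠ p := hKhall.2.1 r hr (hrR.trans (card_dvd_of_le hR.1))
    have hRC : IsPiHallOf {r} R C := CfsgLib.PGroup.isPiHallOf_trans hR hKC fun s hs hsr hd => by
      rw [Set.mem_singleton_iff.1 hsr] at hd
      exact hKhall.2.2 r hr hrp hd
    set N₂ := normalizer (A : Set G) ⊓ normalizer (R : Set G) with hN₂
    have hPN₂ : P ≤ N₂ := le_inf ((hPC.trans (centralizer_le_normalizer _))) hPR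
    -- `A ≤ N₂'`
    have hAd : A ≤ ⁅N₂, N₂⁆ := by
      refine hAN.trans ?_
      rw [commutator_le]
      intro a ha g hg
      obtain ⟨c, hc, n, hn, rfl⟩ := frattini_hallOf hCsol (centralizer_le_normalizer _)
        (CfsgLib.Solvable.normalizer_le_normalizer_centralizer A) hRC hg
      have h1 : ⁅a, n⁆ ∈ A := by
        rw [commutatorElement_def, mul_assoc a, mul_assoc]
        exact mul_mem ha ((mem_normalizer_iff.1 hn.1 _).1 (inv_mem ha))
      rw [commutator_eq_of_centralizes (mem_centralizer_iff.1 hc a ha)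
        (mem_centralizer_iff.1 hc _ h1)]
      exact commutator_mem_commutator (hPN₂ (hAP ha)) hn
    have hPd : P ≤ ⁅N₂, N₂⁆ := by
      obtain ⟨S, hS⟩ := h.sylow_global_abelian hM hE hp2 hAE hA hAc (hab p hp2) hP
      refine CfsgLib.OddLocal.BG.sylIn_le_commutator_of_omega ⟨hPN₂, hPp, fun hd => ?_⟩
        (fun x hx y hy => congrArg Subtype.val (hPc.is_comm.comm (⟨x, hx⟩ : P) ⟨y, hy⟩))
        (fun x hx hxp => hAd (h.mem_plane hM hE hp2 hAE hA hAc (hP.1 hx) hxp))
      rw [← hS] at hd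
      exact S.not_dvd_index (hd.trans (Dvd.intro _ (relIndex_mul_index (by rw [hS]; exact hPN₂))))
    have hRM : R ≤ M := (hRC.1.trans hCE).trans hE.1
    have hrσ : r ∉ sigma M :=
      h.compl_isPi hM hE r hr (hrR.trans (card_dvd_of_le (hRC.1.trans hCE)))
    have cyc : PRankLE r 1 M → P ≤ centralizer (R : Set G) := fun h1 =>
      hPd.trans ((commutator_mono inf_le_right inf_le_right).trans
        (commutator_normalizer_cyclic_le (h.isCyclic_of_rank_one h1 hRM hRr)))
    rcases h.tau_cases hM hr (hrR.trans (card_dvd_of_le hRM)) hrσ with h1 | h1 | h1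
    · exact cyc h1.2.2.2.2
    · obtain ⟨B, hBE, hB, hBc⟩ := h.exists_plane_compl hM hE h1
      refine h.derived_centralizes h50 ?_ (Ne.symm hrp)
        (h.rank_le_two_of_abelian hM hE h1 hBE hB hBc (hab r h1) N₂)
        (le_inf (hRC.1.trans (centralizer_le_normalizer _)) le_normalizer) inf_le_right hRr hPd hPp
      exact fun e => h.normalizer_ne_top hM hRM hR1 (top_le_iff.1 (e ▸ inf_le_right))
    · exact cyc h1.2.2.2
  -- `P` is normal in `C`, hence in `E`
  have hCP : C ≤ normalizer (P : Set G) := by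
    intro g hg
    have hsup : K ⊔ P = C := by
      refine le_antisymm (sup_le hKC hPC) (relIndex_eq_one.1 ?_)
      by_contra hne
      obtain ⟨x, hx, hd⟩ := Nat.exists_prime_and_dvd hne
      by_cases hxp : x = p
      · exact hPC'.2.2 x hx hxp (hd.trans (relIndex_dvd_of_le_left _ le_sup_right))
      · exact hKhall.2.2 x hx hxp (hd.trans (relIndex_dvd_of_le_left _ le_sup_left))
    rw [← hsup] at hg
    exact (sup_le ((le_centralizer_iff.1 hPK).trans (centralizer_le_normalizer _)) le_normalizer) hg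
  intro g hg
  have hgC : MulAut.conj g • P ≤ C := (conj_smul_mono g hPC).trans
    (conj_smul_self_of_mem_normalizer (CfsgLib.Solvable.normalizer_le_normalizer_centralizer A (hEA hg))).le
  obtain ⟨m, hm, hle⟩ := exists_conj_le_hallOf hCsol hPC' hgC
    ((isPi_singleton_of_isPGroup hPp).conj g)
  have h1 : MulAut.conj g • P ≤ P := by
    have h2 := conj_smul_mono m⁻¹ hle
    rwa [conj_smul_inv_self, conj_smul_self_of_mem_normalizer (Subgroup.inv_mem _ (hCP hm))] at h2
  exact CfsgLib.Solvable.mem_normalizer_of_conj_mem (conj_smul_le_iff.1 h1)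

end CfsgLib.OddLocal.Sec13
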