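import Cfsg.Agent.Lib.OddLocal.Sec13FixedTools
import Cfsg.Agent.Lib.OddLocal.Ten.Hyp

/-!
Tools for BG Corollary 12.9: automorphisms of prime order without fixed points, invariant cyclic
subgroups from coprime averaging, exponents, and the derived subgroup of a rank two group.
-/

set_option autoImplicit false
set_option linter.unusedSectionVars false

open scoped Pointwise

namespace CfsgLib.OddLocal.Sec13

open Cfsg Subgroup
open scoped commutatorElement
open CfsgLib.Solvable (conj_smul_le_iff mem_conj_smul_iff card_conj_smul conj_smul_conj_smul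
  conj_smul_mono conj_smul_self_of_mem_normalizer conj_smul_eq_map)

universe u

/-- Two commuting automorphisms of prime order `r` of a commutative group generating a group of
fixed-point-free automorphisms of order `r²` force exponent `r`. -/
theorem pow_eq_one_of_commuting_fpf {V : Type*} [CommGroup V] {r : ℕ} (hr : r.Prime) {φ ψ : MulAut V}
    (hc : Commute φ ψ) (hφ : φ ^ r = 1) (hψ : ψ ^ r = 1) (hψ1 : ψ ≠ 1) (hne : ∀ k : ℕ, φ * ψ ^ k ≠ 1)
    (hfpf : ∀ i j : ℕ, φ ^ i * ψ ^ j ≠ 1 → ∀ v : V, (φ ^ i * ψ ^ j) v = v → v = 1) (v : V) :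
    v ^ r = 1 := by
  have norm : ∀ g : MulAut V, g ^ r = 1 → (∀ w : V, g w = w → w = 1) →
      ∏ j ∈ Finset.range r, (g ^ j) v = 1 := by
    intro g hg hgf
    refine hgf _ ?_
    obtain ⟨k, hk⟩ : ∃ k, r = k + 1 := ⟨r - 1, by have := hr.pos; omega⟩
    rw [map_prod]
    have e : ∀ i, g ((g ^ i) v) = (g ^ (i + 1)) v := fun i => by rw [pow_succ', MulAut.mul_apply]
    simp only [e]
    rw [hk, Finset.prod_range_succ _ k, Finset.prod_range_succ' _ k, ← hk, hg, pow_zero]
  have h1 : ∏ k ∈ Finset.range r, ∏ j ∈ Finset.range r, ((φ * ψ ^ k) ^ j) v = 1 :=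
    Finset.prod_eq_one fun k _ => norm _
      (by rw [(hc.pow_right k).mul_pow, hφ, ← pow_mul, mul_comm k, pow_mul, hψ, one_pow, one_mul])
      (fun w hw => hfpf 1 k (by rw [pow_one]; exact hne k) w (by rw [pow_one]; exact hw))
  rw [Finset.prod_comm] at h1
  obtain ⟨k, hk⟩ : ∃ k, r = k + 1 := ⟨r - 1, by have := hr.pos; omega⟩
  rw [hk, Finset.prod_range_succ' _ k] at h1
  rw [Finset.prod_eq_one, one_mul] at h1
  · rw [hk]
    simpa using h1
  intro j hj
  have hj' : ψ ^ (j + 1) ≠ 1 := by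
    intro e
    have hd : orderOf ψ ∣ j + 1 := orderOf_dvd_of_pow_eq_one e
    have : Fact r.Prime := ⟨hr⟩
    rw [orderOf_eq_prime hψ hψ1] at hd
    have := Nat.le_of_dvd (Nat.succ_pos j) hd
    have := Finset.mem_range.1 hj
    omega
  have h2 : ∀ i, ((φ * ψ ^ i) ^ (j + 1)) v = (φ ^ (j + 1)) (((ψ ^ (j + 1)) ^ i) v) := fun i => by
    rw [(hc.pow_right i).mul_pow, MulAut.mul_apply, ← pow_mul, ← pow_mul, mul_comm i]
  simp only [h2]
  rw [← map_prod, ← hk, norm _ (by rw [← pow_mul, mul_comm (j + 1), pow_mul, hψ, one_pow])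
    (fun w hw => hfpf 0 (j + 1) (by rw [pow_zero, one_mul]; exact hj') w
      (by rw [pow_zero, one_mul]; exact hw)), map_one]

variable {G : Type u} [Group G] [Finite G]

/-- Elements normalising a cyclic subgroup have commutators centralising it. -/
theorem commutator_normalizer_cyclic_le {C : Subgroup G} (hC : IsCyclic C) :
    ⁅normalizer (C : Set G), normalizer (C : Set G)⁆ ≤ centralizer (C : Set G) := by
  obtain ⟨c, hc⟩ := (Subgroup.isCyclic_iff_exists_zpowers_eq_top C).1 hC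
  subst hc
  have key : ∀ g ∈ normalizer ((zpowers c : Subgroup G) : Set G),
      ∀ k ∈ normalizer ((zpowers c : Subgroup G) : Set G), Commute ((k * g)⁻¹ * (g * k)) c := by
    intro g hg k hk
    obtain ⟨i, hi⟩ := mem_zpowers_iff.1 ((mem_normalizer_iff.1 hg c).1 (mem_zpowers c))
    obtain ⟨j, hj⟩ := mem_zpowers_iff.1 ((mem_normalizer_iff.1 hk c).1 (mem_zpowers c))
    have h1 : (g * k) * c * (g * k)⁻¹ = c ^ (i * j) := by
      calc (g * k) * c * (g * k)⁻¹ = g * (k * c * k⁻¹) * g⁻¹ := by group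
        _ = g * c ^ j * g⁻¹ := by rw [← hj]
        _ = (g * c * g⁻¹) ^ j := by rw [conj_zpow]
        _ = c ^ (i * j) := by rw [← hi, ← zpow_mul]
    have h2 : (k * g) * c * (k * g)⁻¹ = c ^ (i * j) := by
      calc (k * g) * c * (k * g)⁻¹ = k * (g * c * g⁻¹) * k⁻¹ := by group
        _ = k * c ^ i * k⁻¹ := by rw [← hi]
        _ = (k * c * k⁻¹) ^ i := by rw [conj_zpow]
        _ = c ^ (i * j) := by rw [← hj, ← zpow_mul, mul_comm]
    calc (k * g)⁻¹ * (g * k) * c = (k * g)⁻¹ * ((g * k) * c * (g * k)⁻¹) * (g * k) := by group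
      _ = (k * g)⁻¹ * ((k * g) * c * (k * g)⁻¹) * (g * k) := by rw [h1, h2]
      _ = c * ((k * g)⁻¹ * (g * k)) := by group
  rw [commutator_le]
  intro g hg k hk
  rw [centralizer_zpowers, mem_centralizer_singleton_iff]
  have := (key g⁻¹ (Subgroup.inv_mem _ hg) k⁻¹ (Subgroup.inv_mem _ hk)).eq
  simpa [commutatorElement_def, mul_assoc] using this

/-- Coprime averaging: a line of `P / K` invariant under the `p'`-group `H` is covered by an
`H`-invariant cyclic subgroup of the abelian `p`-group `P`. -/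
theorem exists_invariant_cyclic {p a : ℕ} [hp : Fact p.Prime] {P H K : Subgroup G} [IsMulCommutative P]
    (hexp : ∀ x ∈ P, x ^ (p ^ a) = 1) (ha : 0 < a) (hHP : H ≤ normalizer (P : Set G))
    (hpH : ¬ p ∣ Nat.card H) (hKP : K ≤ P) {y₀ : G} (hy : y₀ ∈ P)
    (hyK : y₀ ∉ K) (hypK : y₀ ^ p ∈ K) (hHK : H ≤ normalizer (K : Set G))
    (hinv : ∀ g ∈ H, ∃ i : ℤ, g * y₀ * g⁻¹ * (y₀ ^ i)⁻¹ ∈ K) :
    ∃ y ∈ P, y ∉ K ∧ H ≤ normalizer ((zpowers y : Subgroup G) : Set G) ∧
      y * (y₀ ^ Nat.card H)⁻¹ ∈ K := by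
  classical
  letI : CommGroup P := { (inferInstance : Group P) with mul_comm := fun x y => IsMulCommutative.is_comm.comm x y }
  haveI : Fintype H := Fintype.ofFinite _
  let K' : Subgroup P := K.subgroupOf P
  let t : P := ⟨y₀, hy⟩
  let act : H → P → P := fun g x => ⟨(g : G) * x * (g : G)⁻¹, (mem_normalizer_iff.1 (hHP g.2) x).1 x.2⟩
  have act_mul : ∀ g x y, act g (x * y) = act g x * act g y := fun g x y => by ext; simp [act, mul_assoc]
  have act_comp : ∀ g k x, act g (act k x) = act (g * k) x := fun g k x => by ext; simp [act, mul_assoc]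
  let actHom : H → P →* P := fun g => MonoidHom.mk' (act g) (act_mul g)
  have hdvd : ∀ n : ℤ, t ^ n ∈ K' → (p : ℤ) ∣ n := by
    intro n hn
    by_contra hd
    obtain ⟨u, v, huv⟩ := (Int.isCoprime_iff_gcd_eq_one.2 (by
      show n.natAbs.gcd (p : ℤ).natAbs = 1
      rw [Int.natAbs_natCast]
      exact Nat.Coprime.symm ((Nat.Prime.coprime_iff_not_dvd hp.out).2 fun h =>
        hd (Int.natCast_dvd.2 h))) : IsCoprime n (p : ℤ))
    refine hyK ?_
    have h1 : t ∈ K' := by
      rw [← zpow_one t, ← huv, zpow_add, mul_comm u, mul_comm v, zpow_mul, zpow_mul, zpow_natCast]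
      exact mul_mem (zpow_mem hn u) (zpow_mem (show t ^ p ∈ K' from mem_subgroupOf.2 hypK) v)
    exact h1
  choose i hi using fun g : H => hinv g g.2
  have hi' : ∀ g : H, act g t * (t ^ i g)⁻¹ ∈ K' := fun g => mem_subgroupOf.2 (by
    simpa [act, t] using hi g)
  have hKact : ∀ (g : H) (x : P), x ∈ K' → act g x ∈ K' := fun g x hx =>
    mem_subgroupOf.2 ((mem_normalizer_iff.1 (hHK g.2) x).1 (mem_subgroupOf.1 hx))
  have hhom : ∀ g k : H, (p : ℤ) ∣ i (g * k) - i g * i k := by
    intro g k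
    refine hdvd _ ?_
    have h1 : actHom g (act k t * (t ^ i k)⁻¹) ∈ K' := hKact g _ (hi' k)
    rw [map_mul, map_inv, map_zpow] at h1
    have e : actHom g (act k t) = act (g * k) t := act_comp g k t
    rw [e] at h1
    have h2 := zpow_mem (hi' g) (i k)
    have h3 := mul_mem (mul_mem h1 h2) (inv_mem (hi' (g * k)))
    convert h3 using 1
    show t ^ (i (g * k) - i g * i k) = _
    change _ = act (g * k) t * (actHom g t ^ i k)⁻¹ * (actHom g t * (t ^ i g)⁻¹) ^ i k * _
    rw [mul_zpow, mul_inv_rev, inv_inv, ← inv_zpow, zpow_sub, zpow_mul, inv_zpow]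
    simp [mul_comm, mul_left_comm]
  let ι : H → ℤ := fun g => i g ^ (p ^ (a - 1))
  have hι : ∀ g k : H, (p ^ a : ℤ) ∣ ι (g * k) - ι g * ι k := by
    intro g k
    have := dvd_sub_pow_of_dvd_sub (R := ℤ) (hhom g k) (a - 1)
    rw [Nat.sub_add_cancel ha, mul_pow] at this
    exact this
  have hιp : ∀ g : H, (p : ℤ) ∣ ι g - i g := by
    intro g
    rw [← ZMod.intCast_zmod_eq_zero_iff_dvd, Int.cast_sub, sub_eq_zero]
    simp [ι, ZMod.pow_card_pow]
  have hpow : ∀ (x : P) (m n : ℤ), (p ^ a : ℤ) ∣ m - n → x ^ m = x ^ n := by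
    intro x m n hd
    obtain ⟨c, hc⟩ := hd
    have hx : x ^ (p ^ a) = 1 := Subtype.ext (by simpa using hexp x x.2)
    rw [show m = n + (p : ℤ) ^ a * c by rw [← hc]; ring, zpow_add, zpow_mul,
      show ((p : ℤ) ^ a) = ((p ^ a : ℕ) : ℤ) by push_cast; rfl, zpow_natCast, hx, one_zpow, mul_one]
  set y : P := ∏ g : H, act g t ^ ι g⁻¹ with hydef
  -- eigenvector
  have heig : ∀ g : H, act g y = y ^ ι g := by
    intro g
    show actHom g y = _
    rw [hydef, map_prod, ← Finset.prod_zpow]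
    refine Fintype.prod_equiv (Equiv.mulLeft g) _ _ fun k => ?_
    rw [map_zpow, Equiv.coe_mulLeft]
    show act g (act k t) ^ ι k⁻¹ = (act (g * k) t ^ ι (g * k)⁻¹) ^ ι g
    rw [act_comp, ← zpow_mul]
    refine hpow _ _ _ ?_
    have := hι (g * k)⁻¹ g
    rw [show (g * k)⁻¹ * g = k⁻¹ by group] at this
    exact this
  have hyK' : y * (t ^ Nat.card H)⁻¹ ∈ K' := by
    rw [hydef, Nat.card_eq_fintype_card, ← Finset.card_univ, ← Finset.prod_const, ← Finset.prod_inv_distrib,
      ← Finset.prod_mul_distrib]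
    refine prod_mem fun g _ => ?_
    have h1 : i g * ι g⁻¹ - 1 = i g * (ι g⁻¹ - i g⁻¹) + (i g * i g⁻¹ - i (g * g⁻¹)) + (i (g * g⁻¹) - 1) := by
      ring
    have h1' : (p : ℤ) ∣ i (g * g⁻¹) - 1 := by
      rw [mul_inv_cancel]
      refine hdvd _ ?_
      have := hi' 1
      have e : act 1 t = t := Subtype.ext (by simp [act])
      rw [e] at this
      rw [zpow_sub, zpow_one]
      simpa [mul_comm] using inv_mem this
    obtain ⟨c, hc⟩ : (p : ℤ) ∣ i g * ι g⁻¹ - 1 := by
      rw [h1]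
      refine dvd_add (dvd_add (dvd_mul_of_dvd_right (hιp _) _) ?_) h1'
      rw [← dvd_neg, neg_sub]
      exact hhom g g⁻¹
    have h2 := mul_mem (zpow_mem (hi' g) (ι g⁻¹))
      (zpow_mem (show t ^ p ∈ K' from mem_subgroupOf.2 hypK) c)
    rw [← zpow_natCast, ← zpow_mul, ← hc, mul_zpow, inv_zpow, ← zpow_mul, zpow_sub, zpow_one] at h2
    convert h2 using 1
    group
  refine ⟨y, y.2, fun hy' => ?_, fun g hg => ?_, mem_subgroupOf.1 hyK'⟩
  · have h1 : t ^ (Nat.card H : ℤ) ∈ K' := by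
      rw [zpow_natCast]
      have := mul_mem (inv_mem hyK') (show y ∈ K' from mem_subgroupOf.2 hy')
      simpa [mul_comm] using this
    exact hpH (Int.natCast_dvd_natCast.1 (hdvd _ h1))
  · refine CfsgLib.Solvable.mem_normalizer_of_conj_mem ?_
    rintro x hx
    obtain ⟨n, rfl⟩ := mem_zpowers_iff.1 hx
    have := congrArg Subtype.val (heig ⟨g, hg⟩)
    push_cast [act] at this
    rw [← conj_zpow, this, ← zpow_mul]
    exact zpow_mem (mem_zpowers _) _

/-- The exponent survives when the `p'`-index vanishes and an element of maximal `p`-power order is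
kept. -/
theorem exponent_eq_of_step {E F P : Subgroup G} (hE : Group.IsSolvable E) (hFE : F ≤ E) {p : ℕ}
    [hp : Fact p.Prime] (hi : ∀ r : ℕ, r.Prime → r ≠ p → ¬ r ∣ F.relIndex E) (hP : IsPiHallOf {p} P E)
    {y : G} (hy : y ∈ F) (hmax : ∀ x ∈ P, orderOf x ∣ orderOf y) :
    Monoid.exponent F = Monoid.exponent E := by
  refine Nat.dvd_antisymm (Monoid.exponent_dvd_of_monoidHom (Subgroup.inclusion hFE)
    (Subgroup.inclusion_injective hFE)) ?_
  rw [Monoid.exponent_dvd]
  intro g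
  rw [Nat.dvd_iff_prime_pow_dvd_dvd]
  intro r k hr hd
  have : Fact r.Prime := ⟨hr⟩
  set x : G := (g : G) ^ (orderOf (g : G) / r ^ k) with hx
  have hxo : orderOf x = r ^ k :=
    orderOf_pow_orderOf_div (orderOf_pos _).ne' (by rwa [Subgroup.orderOf_coe])
  have hxp : IsPGroup r (zpowers x) := IsPGroup.of_card (n := k) (by rw [Nat.card_zpowers, hxo])
  have hxE : zpowers x ≤ E := zpowers_le.2 (pow_mem g.2 _)
  rw [← hxo]
  have fin : ∀ (m : G) {S : Subgroup G}, MulAut.conj m • zpowers x ≤ S →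
      m * x * m⁻¹ ∈ S ∧ orderOf (m * x * m⁻¹) = orderOf x := fun m S hle =>
    ⟨conj_smul_le_iff.1 hle x (mem_zpowers x), (MulAut.conj m).orderOf_eq x⟩
  by_cases hrp : r = p
  · subst hrp
    obtain ⟨m, -, hle⟩ := exists_conj_le_hallOf hE hP hxE (isPi_singleton_of_isPGroup hxp)
    rw [← (fin m hle).2]
    refine (hmax _ (fin m hle).1).trans ?_
    have := Monoid.order_dvd_exponent (⟨y, hy⟩ : F)
    rwa [Subgroup.orderOf_mk] at this
  · obtain ⟨S, hS⟩ := exists_sylowOf F r
    have hSE : IsPiHallOf {r} S E := CfsgLib.PGroup.isPiHallOf_trans hS hFE fun s hs hsr hd' => by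
      rw [Set.mem_singleton_iff.1 hsr] at hd'
      exact hi r hr hrp hd'
    obtain ⟨m, -, hle⟩ := exists_conj_le_hallOf hE hSE hxE (isPi_singleton_of_isPGroup hxp)
    rw [← (fin m hle).2]
    have := Monoid.order_dvd_exponent (⟨_, hS.1 (fin m hle).1⟩ : F)
    rwa [Subgroup.orderOf_mk] at this

variable (h : Pre G) (h50 : CfsgLib.OddLocal.Ten.RankTwoHyp.{u})
include h h50

/-- In a proper subgroup `L` of `r`-rank at most two, the `q`-subgroups of `L'` centralise every normal
`r`-subgroup, `q ≠ r`. -/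
theorem Pre.derived_centralizes {L R Q : Subgroup G} (hL : L ≠ ⊤) {r q : ℕ} [hr : Fact r.Prime]
    [hq : Fact q.Prime] (hqr : q ≠ r) (hrk : PRankLE r 2 L) (hRL : R ≤ L) (hRn : L ≤ normalizer (R : Set G))
    (hRr : IsPGroup r R) (hQ : Q ≤ ⁅L, L⁆) (hQq : IsPGroup q Q) : Q ≤ centralizer (R : Set G) := by
  rcases eq_or_ne R ⊥ with rfl | hR1
  · intro x _
    rw [mem_centralizer_iff]
    intro y hy
    rw [mem_bot.1 hy]; simp
  haveI := h.isSolvable hL
  have hodd : Odd (Nat.card L) := h.min.1.of_dvd_nat (Subgroup.card_subgroup_dvd_card L)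
  obtain ⟨-, ⟨S, N, hNn, hcompl⟩, -⟩ :=
    h50 L hodd r ((dvd_card_of_isPGroup hRr hR1).trans (card_dvd_of_le hRL)) hrk
  set L' := ⁅L, L⁆
  have hL' : (commutator ↥L).map L.subtype = L' := by
    rw [_root_.commutator_def, map_commutator, ← MonoidHom.range_eq_map, range_subtype]
  set f : ↥(commutator ↥L) →* G := L.subtype.comp (commutator ↥L).subtype
  have hf : Function.Injective f := L.subtype_injective.comp (commutator ↥L).subtype_injective
  have hrange : (⊤ : Subgroup ↥(commutator ↥L)).map f = L' := by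
    rw [← hL', ← MonoidHom.range_eq_map, MonoidHom.range_comp, range_subtype]
  set N' := N.map f
  have hN'L : N' ≤ L' := hrange ▸ map_mono le_top
  have hn : L' ≤ normalizer (N' : Set G) := by
    rw [← hrange]
    refine le_trans (map_mono (le_of_eq ?_)) (le_normalizer_map f)
    rw [normalizer_eq_top_iff.2 hNn]
  have hrN : ¬ r ∣ Nat.card N' := by
    intro hd
    rw [card_map_of_injective hf] at hd
    exact S.not_dvd_index (by rw [hcompl.index_eq_card]; exact hd)
  have hall : IsPiHallOf {x | x ≠ r} N' L' := by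
    refine ⟨hN'L, fun x _ hd hxr => hrN (hxr ▸ hd), fun x hx hxr hd => hxr ?_⟩
    have e : N'.relIndex L' = N.index := by
      rw [← hrange, relIndex_map_map_of_injective _ _ hf, relIndex_top_right]
    rw [e, hcompl.symm.index_eq_card] at hd
    exact (isPi_singleton_of_isPGroup (S.2.map f)) x hx
      (by rwa [card_map_of_injective hf])
  have hQN : Q ≤ N' := le_of_normal_hallOf hall hn hQ
    ((isPi_singleton_of_isPGroup hQq).mono (by rintro x rfl; exact hqr))
  have hQn : Q ≤ normalizer (R : Set G) := (hQ.trans (commutator_le_self L)).trans hRn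
  have hcop : (Nat.card Q).Coprime (Nat.card R) := coprime_of_pGroups hQq hRr hqr
  suffices hbot : ⁅R, Q⁆ = ⊥ from le_centralizer_iff.1 (commutator_eq_bot_iff_le_centralizer.1 hbot)
  have h1 : ⁅R, Q⁆ ≤ R ⊓ L' := le_inf (CfsgLib.Solvable.commutator_le_of_le_normalizer hQn)
    (commutator_mono hRL (hQ.trans (commutator_le_self L)))
  rw [← CfsgLib.Solvable.commutator_commutator_self hQn hcop
    (Or.inl (CfsgLib.Solvable.isSolvable_of_le (h.isSolvable hL) (hQ.trans (commutator_le_self L))))]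
  refine eq_bot_of_isPi (π := {r}) ((isPi_singleton_of_isPGroup hRr).of_le
    ((commutator_mono (h1.trans inf_le_left) le_rfl).trans (CfsgLib.Solvable.commutator_le_of_le_normalizer hQn)))
    fun x hx hxr hd => hrN (hxr ▸ hd.trans (card_dvd_of_le ?_))
  refine (commutator_mono (h1.trans inf_le_right) hQN).trans ?_
  rw [commutator_comm]
  exact CfsgLib.Solvable.commutator_le_of_le_normalizer hn

end CfsgLib.OddLocal.Sec13
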