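import Cfsg.Agent.Lib.OddLocal.MaximalSigma
import Cfsg.Agent.Lib.Solvable.FrobeniusComplement

/-!
Complements of `M_σ`, conjugation invariance, and the two-maximal-subgroup lemma (BG 12.17):
if `q ∈ σ(M)`, `X ≠ 1` is a `q`-subgroup of `M` and `N(X) ≤ L ≠ M`, then `q ∈ σ(L) ∪ τ₂(L)` and `L`
is a product of a normal subgroup and `M ∩ L`.
-/

set_option autoImplicit false
set_option linter.unusedSectionVars false

open scoped Pointwise

namespace CfsgLib.OddLocal.Sec13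

open Cfsg Subgroup
open CfsgLib.Solvable (conj_smul_le_iff mem_conj_smul_iff card_conj_smul conj_smul_conj_smul
  conj_smul_mono conj_smul_self_of_mem_normalizer conj_smul_eq_map)

universe u
variable {G : Type u} [Group G] [Finite G]

/-! ### Conjugation -/

theorem conj_smul_inv_self (g : G) (X : Subgroup G) : MulAut.conj g⁻¹ • MulAut.conj g • X = X := by
  rw [conj_smul_conj_smul, inv_mul_cancel, map_one, one_smul]

theorem conj_smul_self_inv (g : G) (X : Subgroup G) : MulAut.conj g • MulAut.conj g⁻¹ • X = X := by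
  rw [conj_smul_conj_smul, mul_inv_cancel, map_one, one_smul]

theorem conj_smul_normalizer (g : G) (X : Subgroup G) :
    normalizer ((MulAut.conj g • X : Subgroup G) : Set G) = MulAut.conj g • normalizer (X : Set G) := by
  ext y
  rw [mem_conj_smul_iff, CfsgLib.Solvable.mem_normalizer_iff_conj_smul,
    CfsgLib.Solvable.mem_normalizer_iff_conj_smul, conj_smul_conj_smul, mul_assoc,
    ← conj_smul_conj_smul g⁻¹]
  refine ⟨fun h => ?_, fun h => ?_⟩
  · rw [h, conj_smul_inv_self]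
  · have := congrArg (fun Z => MulAut.conj g • Z) h
    simpa only [conj_smul_self_inv] using this

theorem isElementaryAbelian_conj {p : ℕ} {A : Subgroup G} (hA : IsElementaryAbelian p A) (g : G) :
    IsElementaryAbelian p (MulAut.conj g • A : Subgroup G) := by
  rw [conj_smul_eq_map]; exact CfsgLib.PGroup.elemAb_map hA _

theorem pRankLE_conj {p k : ℕ} {M : Subgroup G} (hM : PRankLE p k M) (g : G) :
    PRankLE p k (MulAut.conj g • M : Subgroup G) := by
  rw [CfsgLib.PGroup.pRankLE_subgroup_iff] at hM ⊢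
  intro A hA hAe
  rw [← card_conj_smul g⁻¹ A]
  exact hM _ ((conj_smul_mono g⁻¹ hA).trans (conj_smul_inv_self g M).le) (isElementaryAbelian_conj hAe g⁻¹)

theorem mem_sigma_iff {M : Subgroup G} {p : ℕ} :
    p ∈ sigma M ↔ p.Prime ∧ p ∣ Nat.card M ∧
      ∃ S : Subgroup G, IsPiHallOf {p} S M ∧ normalizer (S : Set G) ≤ M := by
  constructor
  · rintro ⟨hp, hd, P, hP⟩
    have : Fact p.Prime := ⟨hp⟩
    exact ⟨hp, hd, _, hallOf_of_sylow P, hP⟩
  · rintro ⟨hp, hd, S, hS, hN⟩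
    have : Fact p.Prime := ⟨hp⟩
    exact mem_sigma_of_normalizer_le hd hS hN

theorem sigma_conj (g : G) (M : Subgroup G) : sigma (MulAut.conj g • M) = sigma M := by
  have key : ∀ (g : G) (M : Subgroup G), sigma M ⊆ sigma (MulAut.conj g • M) := by
    intro g M p hp
    obtain ⟨hp', hd, S, hS, hN⟩ := mem_sigma_iff.1 hp
    refine mem_sigma_iff.2 ⟨hp', by rwa [card_conj_smul], _, hallOf_conj hS g, ?_⟩
    rw [conj_smul_normalizer]
    exact conj_smul_mono g hN
  refine Set.Subset.antisymm ?_ (key g M)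
  have := key g⁻¹ (MulAut.conj g • M)
  rwa [conj_smul_inv_self] at this

theorem alpha_conj (g : G) (M : Subgroup G) : alpha (MulAut.conj g • M) = alpha M := by
  ext p
  refine and_congr_right fun _ => not_congr ⟨fun h => ?_, fun h => pRankLE_conj h g⟩
  have := pRankLE_conj h g⁻¹
  rwa [conj_smul_inv_self] at this

theorem beta_conj (g : G) (M : Subgroup G) : beta (MulAut.conj g • M) = beta M := by
  ext p
  show p ∈ alpha _ ∧ _ ↔ p ∈ alpha M ∧ _
  rw [alpha_conj]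

theorem piCoreOf_conj (π : Set ℕ) (g : G) (M : Subgroup G) :
    piCoreOf π (MulAut.conj g • M) = MulAut.conj g • piCoreOf π M := by
  have key : ∀ (g : G) (M : Subgroup G),
      MulAut.conj g • piCoreOf π M ≤ piCoreOf π (MulAut.conj g • M) := by
    intro g M
    refine le_piCoreOf (conj_smul_mono g (piCoreOf_le π M)) ?_ (IsPi.conj (isPi_piCoreOf π M) g)
    rw [conj_smul_normalizer]
    exact conj_smul_mono g (le_normalizer_piCoreOf π M)
  refine le_antisymm ?_ (key g M)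
  have := conj_smul_mono g (key g⁻¹ (MulAut.conj g • M))
  rwa [conj_smul_inv_self, conj_smul_self_inv] at this

theorem sigmaCore_conj (g : G) (M : Subgroup G) :
    sigmaCore (MulAut.conj g • M) = MulAut.conj g • sigmaCore M := by
  rw [sigmaCore_def, sigmaCore_def, sigma_conj, piCoreOf_conj]

/-! ### Elements of prime order -/

/-- The `p`-torsion of an abelian subgroup. -/
theorem exists_omega_abelian {p : ℕ} {S : Subgroup G} (hc : IsMulCommutative S) :
    ∃ A : Subgroup G, IsElementaryAbelian p A ∧ A ≤ S ∧ ∀ x, x ∈ A ↔ x ∈ S ∧ x ^ p = 1 := by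
  have hcomm : ∀ a ∈ S, ∀ b ∈ S, a * b = b * a := fun a ha b hb =>
    congrArg Subtype.val (hc.is_comm.comm (⟨a, ha⟩ : S) ⟨b, hb⟩)
  refine ⟨{ carrier := {x | x ∈ S ∧ x ^ p = 1}
            one_mem' := ⟨S.one_mem, one_pow _⟩
            mul_mem' := fun {a b} ha hb => ⟨S.mul_mem ha.1 hb.1, by
              rw [(show Commute a b from hcomm a ha.1 b hb.1).mul_pow, ha.2, hb.2, one_mul]⟩
            inv_mem' := fun {a} ha => ⟨S.inv_mem ha.1, by rw [inv_pow, ha.2, inv_one]⟩ },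
    ?_, fun x hx => hx.1, fun x => Iff.rfl⟩
  exact CfsgLib.PGroup.isElementaryAbelian_mk (fun a ha b hb => hcomm a ha.1 b hb.1) fun a ha => ha.2

/-- Subgroups of equal order of a cyclic subgroup are equal. -/
theorem eq_of_cyclic_card {C A B : Subgroup G} (hC : IsCyclic C) (hA : A ≤ C) (hB : B ≤ C)
    (hc : Nat.card A = Nat.card B) : A = B := by
  refine eq_of_le_of_card_ge (fun a ha => ?_) hc.ge
  obtain ⟨b, hb⟩ := IsCyclic.exists_ofOrder_eq_natCard (α := B.subgroupOf C)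
  have hcB : Nat.card (B.subgroupOf C) = Nat.card B := Nat.card_congr (subgroupOfEquivOfLe hB).toEquiv
  rw [hcB] at hb
  have hd : orderOf (⟨a, hA ha⟩ : C) ∣ orderOf (b : C) := by
    rw [Subgroup.orderOf_coe, hb, ← hc, Subgroup.orderOf_mk]
    exact A.orderOf_dvd_natCard ha
  obtain ⟨k, hk⟩ := hd
  have hb0 : 0 < orderOf (b : C) := orderOf_pos _
  have h1 : orderOf ((b : C) ^ k) = orderOf (⟨a, hA ha⟩ : C) := by
    have hk0 : k ≠ 0 := fun h0 => by rw [h0, mul_zero] at hk; omega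
    rw [orderOf_pow_of_dvd hk0 (hk ▸ dvd_mul_left k _), hk, Nat.mul_div_cancel _ (Nat.pos_of_ne_zero hk0)]
  obtain ⟨i, hi⟩ := mem_zpowers_iff.1
    (CfsgLib.Solvable.mem_zpowers_of_isCyclic (x := (⟨a, hA ha⟩ : C)) (y := (b : C) ^ k) h1.symm)
  have h2 := congrArg Subtype.val hi
  push_cast at h2
  rw [← h2]
  exact zpow_mem (pow_mem b.2 k) i

variable (h : Pre G)
include h

/-! ### Complements of `M_σ` -/

theorem Pre.exists_compl_ge {M U : Subgroup G} (hM : IsCoatom M) (hUM : U ≤ M)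
    (hU : IsPi {p | p ∉ sigma M} U) :
    ∃ E : Subgroup G, IsComplIn E (sigmaCore M) M ∧ U ≤ E := by
  obtain ⟨E, hE, hle⟩ := exists_hallOf_ge (h.isSolvable hM.1) hUM hU
  exact ⟨E, isComplIn_of_hallOf (h.sigmaCore_hall hM) hE (le_normalizer_piCoreOf _ _)
    (fun p _ hp hp' => hp' hp) (fun p _ _ => em _), hle⟩

theorem Pre.compl_hall {M E : Subgroup G} (hM : IsCoatom M) (hE : IsComplIn E (sigmaCore M) M) :
    IsPiHallOf {p | p ∉ sigma M} E M := by
  refine ⟨hE.1, fun p hp hd hσ => ?_, fun p hp hσ hd => ?_⟩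
  · haveI : ((sigmaCore M).subgroupOf M).Normal :=
      (normal_subgroupOf_iff_le_normalizer hE.2.1).2 (le_normalizer_piCoreOf _ _)
    exact (h.sigmaCore_hall hM).2.2 p hp hσ
      (hd.trans (CfsgLib.OddLocal.card_dvd_relIndex_of_inf_eq_bot hE.1 (inf_comm E _ ▸ hE.2.2.1)))
  · refine hσ (isPi_piCoreOf (sigma M) M p hp (hd.trans ?_))
    have e : E.relIndex M = E.relIndex (sigmaCore M) := by
      conv_lhs => rw [show M = sigmaCore M ⊔ E from le_antisymm (fun m hm => by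
        obtain ⟨a, ha, b, hb, rfl⟩ := hE.2.2.2 m hm
        exact mul_mem (mem_sup_right ha) (mem_sup_left hb)) (sup_le hE.2.1 hE.1)]
      exact CfsgLib.PGroup.relIndex_normalizing_sup (hE.1.trans (le_normalizer_piCoreOf _ _))
    rw [e]
    exact relIndex_dvd_card _ _

theorem Pre.compl_isPi {M E : Subgroup G} (hM : IsCoatom M) (hE : IsComplIn E (sigmaCore M) M) :
    IsPi {p | p ∉ sigma M} E := (h.compl_hall hM hE).2.1

theorem Pre.exists_compl {M : Subgroup G} (hM : IsCoatom M) :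
    ∃ E : Subgroup G, IsComplIn E (sigmaCore M) M := by
  obtain ⟨E, hE, -⟩ := h.exists_compl_ge hM (U := ⊥) bot_le (isPi_bot _)
  exact ⟨E, hE⟩

/-- A Sylow subgroup for `τ₃` lies in `M'`. -/
theorem Pre.tau3_le_commutator {M S : Subgroup G} (hM : IsCoatom M) {p : ℕ} [Fact p.Prime]
    (hp : p ∈ tau3 M) (hSM : S ≤ M) (hS : IsPGroup p S) : S ≤ ⁅M, M⁆ := by
  have hSi : IsPi {p} S := isPi_singleton_of_isPGroup hS
  obtain ⟨E, hE, hSE⟩ := h.exists_compl_ge hM hSM (hSi.mono (by rintro r rfl; exact hp.2.1))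
  obtain ⟨E₃, hE₃, hle⟩ := exists_hallOf_ge (h.isSolvable_le hM hE.1) hSE
    (π := tau3 M) (hSi.mono (by rintro r rfl; exact hp))
  exact hle.trans (((h.s1415 M hM E hE).2.2 E₃ hE₃).2.1.trans (commutator_mono hE.1 hE.1))

/-- Sylow subgroups for `τ₁ ∪ τ₃` are cyclic. -/
theorem Pre.isCyclic_of_rank_one {M S : Subgroup G} {p : ℕ} [hp : Fact p.Prime]
    (hr : PRankLE p 1 M) (hSM : S ≤ M) (hS : IsPGroup p S) : IsCyclic S := by
  rcases eq_or_ne S ⊥ with rfl | hne
  · infer_instance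
  refine isCyclic_of_pRankLE_one (h.ne_two ?_ (X := S)) hS ?_
  · obtain ⟨n, hn⟩ := IsPGroup.iff_card.1 hS
    rw [hn]
    exact dvd_pow_self p fun h0 => hne (eq_bot_of_card_eq S (by rw [hn, h0, pow_zero]))
  · rw [CfsgLib.PGroup.pRankLE_subgroup_iff] at hr ⊢
    exact fun A hA => hr A (hA.trans hSM)

/-- For `p ∈ τ₂(M)` a Sylow subgroup contains an elementary abelian subgroup of order `p²`. -/
theorem Pre.exists_elementary_tau2 {M S : Subgroup G} (hM : IsCoatom M) {p : ℕ} [hp' : Fact p.Prime]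
    (hp : p ∈ tau2 M) (hS : IsPiHallOf {p} S M) :
    ∃ A : Subgroup G, A ≤ S ∧ IsElementaryAbelian p A ∧ Nat.card A = p ^ 2 := by
  obtain ⟨A, hAM, hA, hc⟩ := exists_elementary_of_not_pRankLE hp.2.2.2
  obtain ⟨B, hBA, hB, hBc⟩ := exists_elementary_of_card_le (k := 2) hA (by
    obtain ⟨n, hn⟩ := IsPGroup.iff_card.1 (CfsgLib.PGroup.elemAb_isPGroup hA)
    rw [hn] at hc ⊢
    exact Nat.pow_le_pow_right hp'.out.pos ((Nat.pow_lt_pow_iff_right hp'.out.one_lt).1 hc))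
  obtain ⟨m, hm, hle⟩ := exists_conj_le_hallOf (h.isSolvable hM.1) hS (hBA.trans hAM)
    (isPi_singleton_of_isPGroup (CfsgLib.PGroup.elemAb_isPGroup hB))
  exact ⟨_, hle, isElementaryAbelian_conj hB m, by rw [card_conj_smul, hBc]⟩

theorem Pre.sylow_abelian_of_tau2 {M S : Subgroup G} (hM : IsCoatom M) {p : ℕ} [hp' : Fact p.Prime]
    (hp : p ∈ tau2 M) (hS : IsPiHallOf {p} S M) : IsMulCommutative S := by
  obtain ⟨A, hAS, hA, hAc⟩ := h.exists_elementary_tau2 hM hp hS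
  obtain ⟨P, rfl⟩ := exists_sylow_of_hallOf hS
  have := ((h.s1417 M hM p hp A ⟨hAS.trans (map_subtype_le _), hA, hAc⟩).2.1 P).1
  exact Subgroup.map_isMulCommutative _ _

/-! ### Two maximal subgroups -/

/-- The output of the two-maximal-subgroup lemma. -/
theorem Pre.two_maximal {M L X : Subgroup G} (hM : IsCoatom M) (hL : IsCoatom L) {q : ℕ}
    [hq' : Fact q.Prime] (hq : q ∈ sigma M) (hXq : IsPGroup q X) (hX1 : X ≠ ⊥) (hXM : X ≤ M)
    (hNX : normalizer (X : Set G) ≤ L) (hne : L ≠ M) :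
    (∀ g : G, L ≠ MulAut.conj g • M) ∧ (q ∈ sigma L ∨ q ∈ tau2 L) ∧
      ∃ S : Subgroup G, IsPiHallOf {q} S L ∧ X ≤ S ∧ S ≤ M ∧ normalizer (S : Set G) ≤ M := by
  have hXI : X ≤ M ⊓ L := le_inf hXM (le_normalizer.trans hNX)
  obtain ⟨S₀, hS₀, hXS₀⟩ := exists_sylow_ge hXI hXq
  obtain ⟨P, rfl⟩ := exists_sylow_of_hallOf hS₀
  obtain ⟨hnc, hNS, hidx⟩ := h.s1424 M hM q hq X hXq hX1 hXM L hL hne hNX P hXS₀
  set S := (P : Subgroup ↥(M ⊓ L)).map (M ⊓ L).subtype with hSdef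
  have hSI : S ≤ M ⊓ L := map_subtype_le _
  have hS : IsPiHallOf {q} S L := ⟨hSI.trans inf_le_right, hS₀.2.1,
    fun r hr hrq => by rw [Set.mem_singleton_iff.1 hrq]; exact hidx⟩
  refine ⟨fun g => hnc g, ?_, S, hS, hXS₀, hSI.trans inf_le_left, hNS⟩
  by_cases hσ : q ∈ sigma L
  · exact Or.inl hσ
  refine Or.inr ⟨hq'.out, hσ, ?_, ?_⟩
  · by_contra hr
    exact hσ (h.alpha_subset_sigma hL ⟨hq'.out, hr⟩)
  · intro hr
    have hSp : IsPGroup q S := isPGroup_of_isPi_singleton hS.2.1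
    have hcyc : IsCyclic S := h.isCyclic_of_rank_one hr hS.1 hSp
    have hNSX : normalizer (S : Set G) ≤ normalizer (X : Set G) := by
      intro g hg
      refine CfsgLib.Solvable.mem_normalizer_iff_conj_smul.2 ?_
      have hgX : MulAut.conj g • X ≤ S :=
        (conj_smul_mono g hXS₀).trans (conj_smul_self_of_mem_normalizer hg).le
      exact eq_of_cyclic_card hcyc hgX hXS₀ (card_conj_smul g X)
    refine hσ (mem_sigma_of_normalizer_le ?_ hS (hNSX.trans hNX))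
    exact ((isPGroup_of_isPi_singleton (isPi_singleton_of_isPGroup hXq)).card_eq_or_dvd.resolve_left
      fun e => hX1 (eq_bot_of_card_eq X e)).trans (card_dvd_of_le (le_normalizer.trans hNX))

/-- Case `q ∈ τ₂(L)`: `M ∩ L` is a complement of `L_σ` in `L`. -/
theorem Pre.two_maximal_tau2 {M L S : Subgroup G} (hM : IsCoatom M) (hL : IsCoatom L) (hne : L ≠ M)
    {q : ℕ} [hq' : Fact q.Prime] (hq : q ∈ tau2 L) (hS : IsPiHallOf {q} S L) (hSM : S ≤ M)
    (hNS : normalizer (S : Set G) ≤ M) :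
    sigmaCore L ⊓ M = ⊥ ∧ IsComplIn (M ⊓ L) (sigmaCore L) L ∧
      ∃ A : Subgroup G, A ≤ S ∧ IsElementaryAbelian q A ∧ Nat.card A = q ^ 2 := by
  obtain ⟨A, hAS, hA, hAc⟩ := h.exists_elementary_tau2 hL hq hS
  have hAL : A ≤ L := hAS.trans hS.1
  have hAM : A ≤ M := hAS.trans hSM
  obtain ⟨-, -, -, -, he, -⟩ := h.s1417 L hL q hq A ⟨hAL, hA, hAc⟩
  have hbot : sigmaCore L ⊓ M = ⊥ := he M hM hne.symm hAM
  obtain ⟨E, hE, hAE⟩ := h.exists_compl_ge hL hAL
    ((isPi_singleton_of_isPGroup (CfsgLib.PGroup.elemAb_isPGroup hA)).mono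
      (by rintro r rfl; exact hq.2.1))
  obtain ⟨⟨hEA, -⟩, ⟨hCA, -, -⟩, -⟩ := h.s1418 L hL E hE q hq A ⟨hAE, hA, hAc⟩
  -- a Sylow subgroup of `E` containing `A`
  obtain ⟨T, hT, hAT⟩ := exists_sylow_ge hAE (CfsgLib.PGroup.elemAb_isPGroup hA)
  have hTL : IsPiHallOf {q} T L := CfsgLib.PGroup.isPiHallOf_trans hT hE.1 fun r hr hrq hd => by
    rw [Set.mem_singleton_iff.1 hrq] at hd
    exact (h.compl_hall hL hE).2.2 q hq'.out hq.2.1 hd
  have hCM : centralizer (A : Set G) ≤ M := (h.s1416 M hM q A ⟨hAM, hA, hAc⟩).1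
  have hTC : T ≤ centralizer (A : Set G) := fun t ht => mem_centralizer_iff.2 fun a ha =>
    congrArg Subtype.val ((h.sylow_abelian_of_tau2 hL hq hTL).is_comm.comm (⟨a, hAT ha⟩ : T) ⟨t, ht⟩)
  have hTM : T ≤ M := hTC.trans hCM
  have hNT : normalizer (T : Set G) ≤ M := by
    obtain ⟨m, hm, e⟩ := exists_conj_sylowOf (hallOf_of_le hS (le_inf hSM hS.1) inf_le_right)
      (hallOf_of_le hTL (le_inf hTM hTL.1) (inf_le_right : M ⊓ L ≤ L))
    rw [← e, conj_smul_normalizer]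
    exact (conj_smul_mono m hNS).trans (conj_smul_self_of_mem_normalizer (le_normalizer hm.1)).le
  have hEM : E ≤ M := by
    intro x hx
    have hn : E ≤ normalizer ((E ⊓ centralizer (A : Set G) : Subgroup G) : Set G) :=
      CfsgLib.Solvable.le_normalizer_inf le_normalizer
        (hEA.trans (CfsgLib.Solvable.normalizer_le_normalizer_centralizer A))
    obtain ⟨a, ha, b, hb, rfl⟩ := frattini_hallOf (h.isSolvable_le hL (inf_le_left.trans hE.1))
      inf_le_left hn (hallOf_of_le hT (le_inf hT.1 hTC) inf_le_left) hx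
    exact mul_mem (hCM ha.2) (hNT hb.2)
  refine ⟨hbot, ⟨inf_le_right, hE.2.1, ?_, fun x hx => ?_⟩, A, hAS, hA, hAc⟩
  · rw [eq_bot_iff, ← hbot]
    exact fun y hy => ⟨hy.2, hy.1.1⟩
  · obtain ⟨a, ha, b, hb, rfl⟩ := hE.2.2.2 x hx
    exact ⟨a, ⟨hEM ha, hE.1 ha⟩, b, hb, rfl⟩

theorem Pre.not_dvd_inter {M L S : Subgroup G} (hM : IsCoatom M) (hL : IsCoatom L) (hne : L ≠ M)
    {q : ℕ} [Fact q.Prime] (hq : q ∈ tau2 L) (hS : IsPiHallOf {q} S L) (hSM : S ≤ M)
    (hNS : normalizer (S : Set G) ≤ M) {p : ℕ} (hp : p.Prime) (hpσ : p ∈ sigma L) :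
    ¬ p ∣ Nat.card ↥(M ⊓ L) := fun hd =>
  h.compl_isPi hL (h.two_maximal_tau2 hM hL hne hq hS hSM hNS).2.1 p hp hd hpσ

/-- Case `q ∈ σ(L)`: `L = L_β (L ⊓ N(S))`. -/
theorem Pre.two_maximal_sigma {L S : Subgroup G} (hL : IsCoatom L) {q : ℕ} [Fact q.Prime]
    (hq : q ∈ sigma L) (hS : IsPiHallOf {q} S L) {g : G} (hg : g ∈ L) :
    ∃ a ∈ betaCore L, ∃ b ∈ L ⊓ normalizer (S : Set G), g = a * b :=
  h.exists_betaCore_mul_normalizer hL hq hS hg

end CfsgLib.OddLocal.Sec13
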