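import Cfsg.Agent.Lib.OddLocal.Sec13FixedTools

/-!
BG Lemma 13.4 from the statements of sections 9-12: if `p ∈ τ₁(M)`, `P ≤ M` has order `p` and `R` is a
subgroup of prime order outside `σ(M)` of `C_M(P)`, then `C_{M_σ}(P) ≤ C_{M_σ}(R)`.
-/

set_option autoImplicit false
set_option linter.unusedSectionVars false

open scoped Pointwise

namespace CfsgLib.OddLocal.Sec13

open Cfsg Subgroup
open scoped commutatorElement
open CfsgLib.Solvable (conj_smul_le_iff mem_conj_smul_iff card_conj_smul conj_smul_conj_smul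
  conj_smul_mono conj_smul_self_of_mem_normalizer conj_smul_eq_map)

universe u
variable {G : Type u} [Group G] [Finite G] (h : Pre G)
include h

/-- The case `p ∈ τ₂(H)`. -/
theorem Pre.fixed_case_tau2 {M H P R Z : Subgroup G} (hM : IsCoatom M) (hH : IsCoatom H)
    (hne : ∀ g : G, H ≠ MulAut.conj g • M) {p q r : ℕ} [hp' : Fact p.Prime] [hq' : Fact q.Prime]
    [hr' : Fact r.Prime] (hp : p ∈ tau1 M) (hp2 : p ∈ tau2 H) (hq : q ∈ sigma M) (hqp : q ≠ p)
    (hr : r ∈ tau1 H) (hPM : P ≤ M) (hP : Nat.card P = p)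
    (hZq : IsPGroup q Z) (hZ1 : Z ≠ ⊥) (hZM : Z ≤ M) (hZH : Z ≤ H) (hZP : Z ≤ centralizer (P : Set G))
    (hRH : R ≤ H) (hRr : IsPGroup r R) (hRZ : R ≤ normalizer (Z : Set G)) (hZR : Z = ⁅Z, R⁆) : False := by
  have hnil := h.sigmaCore_nilpotent_of_tau2 hH hp2
  have hqH : q ∉ sigma H := h.not_sigma_of_nilpotent hM hH hne hnil hq
  obtain ⟨F, hF, hUF⟩ := h.exists_compl_ge hH (U := Z ⊔ R) (sup_le hZH hRH)
    (IsPi.sup ((isPi_singleton_of_isPGroup hZq).mono (by rintro x rfl; exact hqH))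
      ((isPi_singleton_of_isPGroup hRr).mono (by rintro x rfl; exact hr.2.1)) hRZ)
  obtain ⟨A, hAF, hA, hAc⟩ := h.exists_plane_compl hH hF hp2
  have hAZ : A ≤ centralizer (Z : Set G) := by
    refine le_centralizer_iff.1 fun z hz => h.commute_tau2_derived hH hF hp2 hAF hA hAc ?_ ?_
    · rw [hZR] at hz
      exact commutator_mono (le_sup_left.trans hUF) (le_sup_right.trans hUF) hz
    · exact (coprime_orderOf_of_isPi (isPi_singleton_of_isPGroup (isPGroup_of_card hP))
        (a := z) fun s hs hd hsp => hqp (by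
          have := (isPi_singleton_of_isPGroup hZq) s hs (hd.trans (Z.orderOf_dvd_natCard hz))
          rw [Set.mem_singleton_iff.1 this] at hsp
          exact Set.mem_singleton_iff.1 hsp)) |> fun hc => by
          rwa [Nat.card_zpowers, hP] at hc
  obtain ⟨L, hL, hNL⟩ := h.exists_maximal_normalizer hM hZM hZ1
  have hCL : centralizer (Z : Set G) ≤ L := (centralizer_le_normalizer _).trans hNL
  have hne' : L ≠ M := fun e => h.not_rank_one_of_plane (e ▸ hAZ.trans hCL) hA hAc hp.2.2.2.2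
  have hb := h.beta_of_plane hM hL hq hZq hZ1 hZM hNL hne' hp.2.2.2.2
    (le_inf hPM ((le_centralizer_iff.1 hZP).trans hCL)) (dvd_of_eq hP.symm) (hAZ.trans hCL) hA hAc
  exact (h.s1408 H hH p hp2.2.1 hp2.2.2.1 hp2.2.2.2).1 hb.2

/-- The case `p ∈ σ(H) ∖ β(H)`. -/
theorem Pre.fixed_case_sigma {M H P Z : Subgroup G} (hM : IsCoatom M) (hH : IsCoatom H)
    (hne : ∀ g : G, H ≠ MulAut.conj g • M) {p q : ℕ} [hp' : Fact p.Prime] [hq' : Fact q.Prime]
    (hp : p ∈ tau1 M) (hpH : p ∈ sigma H) (hpb : p ∉ beta H) (hq : q ∈ sigma M) (hqp : q ≠ p)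
    (hPM : P ≤ M) (hP : Nat.card P = p) (hPH : centralizer (P : Set G) ≤ H)
    (hZq : IsPGroup q Z) (hZ1 : Z ≠ ⊥) (hZM : Z ≤ M) (hZd : Z ≤ ⁅H, H⁆)
    (hZP : Z ≤ centralizer (P : Set G)) : False := by
  have hPp : IsPGroup p P := isPGroup_of_card hP
  have hP1 : P ≠ ⊥ := ne_bot_of_card hp'.out hP
  have hPH' : P ≤ H := fun x hx => hPH (mem_centralizer_iff.2 fun y hy => by
    obtain ⟨a, -, -, rfl⟩ := exists_zpowers_of_card hp'.out hP
    obtain ⟨i, rfl⟩ := mem_zpowers_iff.1 hx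
    obtain ⟨j, rfl⟩ := mem_zpowers_iff.1 hy
    rw [← zpow_add, ← zpow_add, add_comm])
  have hPd : P ≤ ⁅H, H⁆ := (h.le_sigmaCore hH hPH' ((isPi_singleton_of_isPGroup hPp).mono
    (by rintro x rfl; exact hpH))).trans (h.sigmaCore_le_commutator hH)
  have hqb : q ∉ beta H := h.not_beta_of_sigma hM hH hne hq
  -- a Sylow `p`-subgroup of `H` containing `P` and centralising `Z`
  set π : Set ℕ := {x | x.Prime ∧ x ∉ beta H} with hπ
  obtain ⟨N, hN, hUN⟩ := exists_hallOf_ge (π := π) (h.isSolvable_le hH (commutator_le_self H))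
    (U := Z ⊔ P) (sup_le hZd hPd)
    (IsPi.sup ((isPi_singleton_of_isPGroup hZq).mono (by rintro x rfl; exact ⟨hq'.out, hqb⟩))
      ((isPi_singleton_of_isPGroup hPp).mono (by rintro x rfl; exact ⟨hp'.out, hpb⟩))
      ((le_centralizer_iff.1 hZP).trans (centralizer_le_normalizer _)))
  have hnilN := h.isNilpotent_of_le_derived hH hN.1 hN.2.1
  obtain ⟨W, hW, hPW⟩ := exists_sylow_ge (le_sup_right.trans hUN) hPp
  have hWp : IsPGroup p W := isPGroup_of_isPi_singleton hW.2.1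
  have hWH' : IsPiHallOf {p} W ⁅H, H⁆ := CfsgLib.PGroup.isPiHallOf_trans hW hN.1 fun s hs hsp hd => by
    rw [Set.mem_singleton_iff.1 hsp] at hd
    exact hN.2.2 p hp'.out ⟨hp'.out, hpb⟩ hd
  have hWH : IsPiHallOf {p} W H := CfsgLib.PGroup.isPiHallOf_trans hWH' (commutator_le_self H)
    fun s hs hsp hd => by
      rw [Set.mem_singleton_iff.1 hsp] at hd
      obtain ⟨S, hS⟩ := exists_sylowOf H p
      exact hS.2.2 p hp'.out rfl (hd.trans (relIndex_dvd_of_le_left H (h.sylow_le_commutator hH hpH hS)))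
  have hZW : Z ≤ centralizer (W : Set G) := commutator_eq_of_nilpotent hnilN (le_sup_left.trans hUN)
    hW.1 (coprime_of_isPi (isPi_singleton_of_isPGroup hZq) hW.2.1
      fun x _ h1 h2 => hqp (h1.symm.trans h2))
  obtain ⟨L, hL, hNL⟩ := h.exists_maximal_normalizer hM hZM hZ1
  by_cases hcyc : IsCyclic W
  swap
  · obtain ⟨A, hAW, hA, hAc⟩ := h.exists_plane_of_not_cyclic hWp hcyc
    have hAL : A ≤ L := (hAW.trans (le_centralizer_iff.1 hZW)).trans ((centralizer_le_normalizer _).trans hNL)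
    have hne' : L ≠ M := fun e => h.not_rank_one_of_plane (e ▸ hAL) hA hAc hp.2.2.2.2
    have hb := h.beta_of_plane hM hL hq hZq hZ1 hZM hNL hne' hp.2.2.2.2
      (le_inf hPM ((le_centralizer_iff.1 hZP).trans ((centralizer_le_normalizer _).trans hNL)))
      (dvd_of_eq hP.symm) hAL hA hAc
    by_cases hc : ∃ g : G, L = MulAut.conj g • H
    · obtain ⟨g, rfl⟩ := hc
      rw [beta_conj] at hb
      exact hpb hb
    · push Not at hc
      exact h.not_alpha_of_sigma hH hL hc hpH hb.1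
  -- `W` cyclic: `p` has rank one in every subgroup
  obtain ⟨P₀, hP₀⟩ := hWp.exists_le_sylow
  have hP₀W : (P₀ : Subgroup G) = W := h.sylow_global hH hpH hWH hP₀ P₀.2
  have hpβ : ∀ K : Subgroup G, p ∉ beta K := by
    intro K hK
    obtain ⟨A, hAK, hA, hc⟩ := exists_elementary_of_not_pRankLE hK.1.2
    obtain ⟨g, hg⟩ := h.exists_conj_le_sylow hH hpH hWH (CfsgLib.PGroup.elemAb_isPGroup hA)
    have hr : PRankLE p 1 W := by
      rw [CfsgLib.PGroup.pRankLE_subgroup_iff]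
      intro B hB hBe
      by_contra hc'
      obtain ⟨C, hCB, hC, hCc⟩ := exists_elementary_of_card_le (k := 2) hBe (by
        obtain ⟨n, hn⟩ := IsPGroup.iff_card.1 (CfsgLib.PGroup.elemAb_isPGroup hBe)
        rw [hn] at hc' ⊢
        exact Nat.pow_le_pow_right hp'.out.pos
          ((Nat.pow_lt_pow_iff_right hp'.out.one_lt).1 (not_le.1 hc')))
      have : IsCyclic C := isCyclic_of_injective (Subgroup.inclusion (hCB.trans hB))
        (Subgroup.inclusion_injective _)
      obtain ⟨x, hx⟩ := IsCyclic.exists_ofOrder_eq_natCard (α := C)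
      have h1 : orderOf x ∣ p := orderOf_dvd_of_pow_eq_one (Subtype.ext (by
        simpa using hC.2 _ x.2))
      rw [hx, hCc] at h1
      have := Nat.le_of_dvd hp'.out.pos h1
      nlinarith [hp'.out.two_le]
    have := CfsgLib.PGroup.pRankLE_subgroup_iff W |>.1 hr _ hg (isElementaryAbelian_conj hA g)
    rw [card_conj_smul] at this
    exact absurd (hc.trans_le this) (not_lt.2 (Nat.pow_le_pow_right hp'.out.pos (by norm_num)))
  -- focal subgroup
  set N₁ := normalizer (W : Set G) with hN₁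
  have hW1 : W ≠ ⊥ := fun e => hP1 (le_bot_iff.1 (e ▸ hPW))
  have hN₁sol : Group.IsSolvable N₁ :=
    h.isSolvable (h.normalizer_ne_top hH hWH.1 hW1)
  obtain ⟨V, hV⟩ := CfsgLib.PGroup.exists_isPiHallOf {x | x ≠ p} N₁ hN₁sol
  have hWN : IsPiHallOf {p} W N₁ := by
    refine ⟨le_normalizer, hW.2.1, fun s hs hsp hd => ?_⟩
    rw [Set.mem_singleton_iff.1 hsp, ← hP₀W] at hd
    exact P₀.not_dvd_index (hd.trans (Dvd.intro _ (relIndex_mul_index (by rw [hP₀W]; exact le_normalizer))))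
  have hc : IsComplIn V W N₁ :=
    isComplIn_of_hallOf hWN hV le_rfl (fun x _ hx hx' => hx' hx) (fun x _ _ => (eq_or_ne x p).imp id id)
  have hc' : IsComplIn (P₀ : Subgroup G) V (normalizer ((P₀ : Subgroup G) : Set G)) := by
    rw [hP₀W]
    refine ⟨hc.2.1, hc.1, inf_comm V W ▸ hc.2.2.1, fun x hx => ?_⟩
    obtain ⟨a, ha, b, hb, rfl⟩ := hc.2.2.2 x hx
    exact ⟨a * b * a⁻¹, (mem_normalizer_iff.1 (hc.1 ha) b).1 hb, a, ha, by group⟩
  have hWV : W = ⁅W, V⁆ := by
    have := (h.s1411 p P₀ V hc').1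
    rwa [hP₀W] at this
  -- a Sylow `q`-subgroup of `C(W)`
  set CW := centralizer (W : Set G) with hCW
  have hCWP : CW ≤ centralizer (P : Set G) := centralizer_anti hPW
  obtain ⟨Sc, hSc, hZS⟩ := exists_sylow_ge hZW hZq
  have hScq : IsPGroup q Sc := isPGroup_of_isPi_singleton hSc.2.1
  have hd : q ∣ Nat.card ↥(M ⊓ centralizer (P : Set G)) :=
    (dvd_card_of_isPGroup hZq hZ1).trans (card_dvd_of_le (le_inf hZM hZP))
  obtain ⟨c, hc, hcM⟩ := h.exists_conj_le_of_centralizes hM hq hPM hP hpβ hd (hSc.1.trans hCWP) hScq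
  set S' := MulAut.conj c • Sc with hS'
  have hS'1 : S' ≠ ⊥ := fun e => hZ1 (le_bot_iff.1 (hZS.trans (le_of_eq (eq_bot_of_card_eq _ (by
    rw [← card_conj_smul c Sc, ← hS', e, Subgroup.card_bot])))))
  obtain ⟨L₃, hL₃, hNL₃⟩ := h.exists_maximal_normalizer hM hcM hS'1
  -- `p` divides the derived subgroup of `N(W) ⊓ N(S_c)`
  set B := N₁ ⊓ normalizer (Sc : Set G) with hB
  have hWB : W ≤ B := le_inf le_normalizer
    ((le_centralizer_iff.1 hSc.1).trans (centralizer_le_normalizer _))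
  have hWc : IsMulCommutative W := hcyc.commutative
  have hWd : W ≤ ⁅B, B⁆ := by
    rw [hWV, commutator_le]
    intro w hw v hv
    have hv' : v ∈ N₁ := hV.1 hv
    obtain ⟨a, ha, b, hb, rfl⟩ := frattini_hallOf (N := CW) (M := N₁)
      (h.isSolvable_le hH (hCWP.trans hPH)) (centralizer_le_normalizer _)
      (CfsgLib.Solvable.normalizer_le_normalizer_centralizer W) hSc hv'
    have hwb : ⁅w, b⁆ ∈ W := by
      rw [commutatorElement_def, mul_assoc w, mul_assoc]
      exact mul_mem hw ((mem_normalizer_iff.1 hb.1 _).1 (inv_mem hw))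
    have e : ⁅w, a * b⁆ = ⁅w, b⁆ := by
      have h1 : w * a = a * w := mem_centralizer_iff.1 ha w hw
      have h2 : ⁅w, b⁆ * a = a * ⁅w, b⁆ := mem_centralizer_iff.1 ha _ hwb
      calc ⁅w, a * b⁆ = (w * a) * (b * w⁻¹ * b⁻¹) * a⁻¹ := by rw [commutatorElement_def]; group
        _ = a * ⁅w, b⁆ * a⁻¹ := by rw [h1, commutatorElement_def]; group
        _ = ⁅w, b⁆ := by rw [← h2]; group
    rw [e]
    exact commutator_mem_commutator (hWB hw) hb
  have hpB : p ∣ Nat.card ↥⁅B, B⁆ :=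
    ((dvd_of_eq hP.symm).trans (card_dvd_of_le hPW)).trans (card_dvd_of_le hWd)
  have hBL : MulAut.conj c • B ≤ L₃ := by
    refine le_trans ?_ hNL₃
    rw [hS', conj_smul_normalizer]
    exact conj_smul_mono c inf_le_right
  have hpL : p ∣ Nat.card ↥⁅L₃, L₃⁆ := by
    refine hpB.trans ?_
    rw [← card_conj_smul c ⁅B, B⁆, CfsgLib.Solvable.conj_smul_commutator]
    exact card_dvd_of_le (commutator_mono hBL hBL)
  by_cases hne3 : L₃ = M
  · exact hp.2.2.2.1 (hne3 ▸ hpL)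
  have hPS : P ≤ centralizer (S' : Set G) := by
    rw [le_centralizer_iff]
    intro x hx
    have h1 := mem_conj_smul_iff.1 hx
    have h2 : c⁻¹ * x * c ∈ centralizer (P : Set G) := hCWP (hSc.1 h1)
    have := mul_mem (mul_mem hc h2) (inv_mem hc)
    simpa [mul_assoc] using this
  exact hpβ L₃ (h.beta_of_dvd_derived hM hL₃ hq (isPGroup_of_isPi_singleton
    (IsPi.conj hSc.2.1 c)) hS'1 hcM hNL₃ hne3 hp
    (le_inf hPM (hPS.trans ((centralizer_le_normalizer _).trans hNL₃))) (dvd_of_eq hP.symm) hpL)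

end CfsgLib.OddLocal.Sec13
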