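import Cfsg.Agent.Lib.OddLocal.Sec13Regular

/-!
Tools for BG Lemma 13.4 from the statements of sections 9-12: rank one centralisers in `L_α`, the
splitting of a second maximal subgroup over the first, conjugation of `q`-subgroups of `C(P)` into `M`,
and the Frobenius fixed point contradiction.
-/

set_option autoImplicit false
set_option linter.unusedSectionVars false

open scoped Pointwise

namespace CfsgLib.OddLocal.Sec13

open Cfsg Subgroup
open scoped commutatorElement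
open CfsgLib.Solvable (conj_smul_le_iff mem_conj_smul_iff card_conj_smul conj_smul_conj_smul
  conj_smul_mono conj_smul_self_of_mem_normalizer conj_smul_eq_map)

universe u
variable {G : Type u} [Group G] [Finite G]

/-- A proper subgroup of a `p`-group is properly contained in its normaliser there. -/
theorem lt_inf_normalizer_of_isPGroup {p : ℕ} [Fact p.Prime] {Q P : Subgroup G} (hP : IsPGroup p P)
    (hQP : Q < P) : Q < P ⊓ normalizer (Q : Set G) := by
  have : Group.IsNilpotent P := hP.isNilpotent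
  have hlt : Q.subgroupOf P < ⊤ := lt_top_iff_ne_top.mpr fun h => hQP.not_ge (subgroupOf_eq_top.mp h)
  obtain ⟨y, hyN, hyQ⟩ := SetLike.exists_of_lt
    ((Group.normalizerCondition_of_isNilpotent (G := P)) _ hlt)
  refine lt_of_le_of_ne (le_inf hQP.le le_normalizer) fun h => hyQ (mem_subgroupOf.mpr ?_)
  rw [h]
  refine ⟨y.2, CfsgLib.Solvable.mem_normalizer_of_conj_mem fun z hz => ?_⟩
  rw [mem_normalizer_iff] at hyN
  exact mem_subgroupOf.mp ((hyN ⟨z, hQP.le hz⟩).mp (mem_subgroupOf.mpr hz))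

variable (h : Pre G)
include h

/-- A noncyclic `p`-subgroup contains an elementary abelian subgroup of order `p²`. -/
theorem Pre.exists_plane_of_not_cyclic {W : Subgroup G} {p : ℕ} [hp : Fact p.Prime] (hW : IsPGroup p W)
    (hc : ¬ IsCyclic W) : ∃ A : Subgroup G, A ≤ W ∧ IsElementaryAbelian p A ∧ Nat.card A = p ^ 2 := by
  have hW1 : W ≠ ⊥ := by
    rintro rfl
    exact hc inferInstance
  have hr : ¬ PRankLE p 1 W := fun hr => hc (isCyclic_of_pRankLE_one
    (h.ne_two (dvd_card_of_isPGroup hW hW1)) hW hr)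
  obtain ⟨A, hAW, hA, hcard⟩ := exists_elementary_of_not_pRankLE hr
  obtain ⟨B, hBA, hB, hBc⟩ := exists_elementary_of_card_le (k := 2) hA (by
    obtain ⟨n, hn⟩ := IsPGroup.iff_card.1 (CfsgLib.PGroup.elemAb_isPGroup hA)
    rw [hn] at hcard ⊢
    exact Nat.pow_le_pow_right hp.out.pos ((Nat.pow_lt_pow_iff_right hp.out.one_lt).1 hcard))
  exact ⟨B, hBA.trans hAW, hB, hBc⟩

/-- If `N(X) ≰ L` for a nontrivial `α(L)'`-subgroup `X` of `L`, then `C_{L_α}(X)` has cyclic Sylow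
subgroups. -/
theorem Pre.isCyclic_fixed_alpha {L X U : Subgroup G} (hL : IsCoatom L) (hXL : X ≤ L) (hX1 : X ≠ ⊥)
    (hXα : ∀ s : ℕ, s.Prime → s ∣ Nat.card X → s ∉ alpha L)
    (hn : ¬ normalizer (X : Set G) ≤ L) {s : ℕ} [hs : Fact s.Prime]
    (hU : U ≤ alphaCore L ⊓ centralizer (X : Set G)) (hUs : IsPGroup s U) : IsCyclic U := by
  by_contra hc
  obtain ⟨A, hAU, hA, hAc⟩ := h.exists_plane_of_not_cyclic hUs hc
  have hr : ¬ RankLE 1 ↥(alphaCore L ⊓ centralizer (X : Set G)) :=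
    not_rankLE_of_elementary hs.out (hAU.trans hU) hA (by rw [hAc])
  have hu := h.s1406 L hL X hXL hXα hr
  refine hn (h.normalizer_le_of_unique hL hXL hX1 fun L' hL' hC => ?_)
  exact (inUniqueMaximal_eq hu hL hL' inf_le_left (inf_le_right.trans hC)).symm

/-- A `p`-subgroup of `L`, `p ∈ α(L)`, lies in `L_α`. -/
theorem Pre.le_alphaCore {L U : Subgroup G} (hL : IsCoatom L) (hUL : U ≤ L) (hU : IsPi (alpha L) U) :
    U ≤ alphaCore L :=
  le_of_normal_hallOf (h.s1405 L hL).1 (le_normalizer_piCoreOf _ _) hUL hU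

/-- A subgroup of rank at least three of a Sylow subgroup for `α(L)` lies in no other maximal subgroup. -/
theorem Pre.sylow_alpha_unique {L M U : Subgroup G} (hL : IsCoatom L) (hM : IsCoatom M) {u : ℕ}
    [hu : Fact u.Prime] (hα : u ∈ alpha L) (hU : IsPiHallOf {u} U L) (hUM : U ≤ M) : M = L := by
  obtain ⟨A, hAL, hA, hc⟩ := exists_elementary_of_not_pRankLE hα.2
  obtain ⟨B, hBA, hB, hBc⟩ := exists_elementary_of_card_le (k := 3) hA (by
    obtain ⟨n, hn⟩ := IsPGroup.iff_card.1 (CfsgLib.PGroup.elemAb_isPGroup hA)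
    rw [hn] at hc ⊢
    exact Nat.pow_le_pow_right hu.out.pos ((Nat.pow_lt_pow_iff_right hu.out.one_lt).1 hc))
  obtain ⟨m, hm, hle⟩ := exists_conj_le_hallOf (h.isSolvable hL.1) hU (hBA.trans hAL)
    (isPi_singleton_of_isPGroup (CfsgLib.PGroup.elemAb_isPGroup hB))
  exact h.eq_of_rank_three hM hL (isElementaryAbelian_conj hB m) (by rw [card_conj_smul, hBc])
    (hle.trans hUM) (hle.trans hU.1)

/-- The second maximal subgroup over `N(Z)` is `K (M ⊓ L)` with `K` normal, and `K` shares no prime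
outside `β(L)` with `M ⊓ L`. -/
theorem Pre.exists_split {M L Z : Subgroup G} (hM : IsCoatom M) (hL : IsCoatom L) {q : ℕ}
    [Fact q.Prime] (hq : q ∈ sigma M) (hZq : IsPGroup q Z) (hZ1 : Z ≠ ⊥) (hZM : Z ≤ M)
    (hNZ : normalizer (Z : Set G) ≤ L) (hne : L ≠ M) :
    ∃ K : Subgroup G, K ≤ L ∧ L ≤ normalizer (K : Set G) ∧
      (∀ g ∈ L, ∃ a ∈ K, ∃ b ∈ M ⊓ L, g = a * b) ∧
      ¬ q ∣ Nat.card K ∧
      ∀ s : ℕ, s.Prime → s ∣ Nat.card K → s ∣ Nat.card ↥(M ⊓ L) → s ∈ beta L := by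
  obtain ⟨hnc, hor, S, hS, -, hSM, hNS⟩ := h.two_maximal hM hL hq hZq hZ1 hZM hNZ hne
  rcases hor with hσ | hτ
  · refine ⟨betaCore L, piCoreOf_le _ _, le_normalizer_piCoreOf _ _, fun g hg => ?_, fun hd => ?_,
      fun s hs hd _ => isPi_piCoreOf _ _ s hs hd⟩
    · obtain ⟨a, ha, b, hb, rfl⟩ := h.two_maximal_sigma hL hσ hS hg
      exact ⟨a, ha, b, ⟨hNS hb.2, hb.1⟩, rfl⟩
    · exact h.not_beta_of_sigma hM hL hnc hq (isPi_piCoreOf _ _ q Fact.out hd)
  · have hcompl := (h.two_maximal_tau2 hM hL hne hτ hS hSM hNS).2.1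
    refine ⟨sigmaCore L, piCoreOf_le _ _, le_normalizer_piCoreOf _ _, fun g hg => ?_, fun hd => ?_,
      fun s hs hd hd' => ?_⟩
    · obtain ⟨b, hb, a, ha, rfl⟩ := hcompl.2.2.2 g hg
      exact ⟨b * a * b⁻¹, (mem_normalizer_iff.1 (le_normalizer_piCoreOf _ _ hb.2) a).1 ha, b, hb, by group⟩
    · exact hτ.2.1 (isPi_piCoreOf _ _ q Fact.out hd)
    · exact absurd (isPi_piCoreOf (sigma L) L s hs hd) (h.compl_isPi hL hcompl s hs hd')

/-- Consequences of the splitting for a prime of rank one in `M`. -/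
theorem Pre.beta_of_plane {M L Z A P : Subgroup G} (hM : IsCoatom M) (hL : IsCoatom L) {q p : ℕ}
    [Fact q.Prime] [hp : Fact p.Prime] (hq : q ∈ sigma M) (hZq : IsPGroup q Z) (hZ1 : Z ≠ ⊥) (hZM : Z ≤ M)
    (hNZ : normalizer (Z : Set G) ≤ L) (hne : L ≠ M) (hr : PRankLE p 1 M)
    (hPM : P ≤ M ⊓ L) (hPd : p ∣ Nat.card P)
    (hAL : A ≤ L) (hA : IsElementaryAbelian p A) (hAc : Nat.card A = p ^ 2) : p ∈ beta L := by
  obtain ⟨K, hKL, hKn, hgen, -, hK⟩ := h.exists_split hM hL hq hZq hZ1 hZM hNZ hne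
  by_contra hb
  have hpK : ¬ p ∣ Nat.card K := fun hd => hb (hK p hp.out hd (hPd.trans (card_dvd_of_le hPM)))
  obtain ⟨T, hT⟩ := exists_sylowOf (M ⊓ L) p
  have e : (M ⊓ L).relIndex L = (M ⊓ L).relIndex K := by
    conv_lhs => arg 2; rw [show L = K ⊔ (M ⊓ L) from le_antisymm (fun g hg => by
      obtain ⟨a, ha, b, hb, rfl⟩ := hgen g hg
      exact mul_mem (mem_sup_left ha) (mem_sup_right hb)) (sup_le hKL inf_le_right)]
    exact CfsgLib.PGroup.relIndex_normalizing_sup (inf_le_right.trans hKn)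
  have hTL : IsPiHallOf {p} T L := CfsgLib.PGroup.isPiHallOf_trans hT inf_le_right fun s hs hsp hd => by
    rw [Set.mem_singleton_iff.1 hsp] at hd
    exact hpK ((e ▸ hd).trans (relIndex_dvd_card _ _))
  obtain ⟨m, hm, hle⟩ := exists_conj_le_hallOf (h.isSolvable hL.1) hTL hAL
    (isPi_singleton_of_isPGroup (CfsgLib.PGroup.elemAb_isPGroup hA))
  exact h.not_rank_one_of_plane (hle.trans (hT.1.trans inf_le_left)) (isElementaryAbelian_conj hA m)
    (by rw [card_conj_smul, hAc]) hr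

/-- `p ∈ τ₁(M)` divides `|L'|` only if `p ∈ β(L)`. -/
theorem Pre.beta_of_dvd_derived {M L Z P : Subgroup G} (hM : IsCoatom M) (hL : IsCoatom L) {q p : ℕ}
    [Fact q.Prime] [hp : Fact p.Prime] (hq : q ∈ sigma M) (hZq : IsPGroup q Z) (hZ1 : Z ≠ ⊥) (hZM : Z ≤ M)
    (hNZ : normalizer (Z : Set G) ≤ L) (hne : L ≠ M) (hp1 : p ∈ tau1 M)
    (hPM : P ≤ M ⊓ L) (hPd : p ∣ Nat.card P) (hd : p ∣ Nat.card ↥⁅L, L⁆) : p ∈ beta L := by
  obtain ⟨K, hKL, hKn, hgen, -, hK⟩ := h.exists_split hM hL hq hZq hZ1 hZM hNZ hne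
  by_contra hb
  have hpK : ¬ p ∣ Nat.card K := fun hd => hb (hK p hp.out hd (hPd.trans (card_dvd_of_le hPM)))
  exact hp1.2.2.2.1 ((dvd_commutator_of_mul hp.out hKL inf_le_right hKn hgen hpK hd).trans
    (card_dvd_of_le (commutator_mono inf_le_left inf_le_left)))

/-- For `q ∈ σ(M)` and `P ≤ M` of order `p` with `p ∉ β(L)` for every `L`, the `q`-subgroups of
`C(P)` are conjugate into `M` by elements of `C(P)`, as soon as `C_M(P)` has order divisible by `q`. -/
theorem Pre.exists_conj_le_of_centralizes {M P U : Subgroup G} (hM : IsCoatom M) {q p : ℕ}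
    [hq' : Fact q.Prime] [hp : Fact p.Prime] (hq : q ∈ sigma M) (hPM : P ≤ M) (hP : Nat.card P = p)
    (hpb : ∀ L : Subgroup G, p ∉ beta L)
    (hd : q ∣ Nat.card ↥(M ⊓ centralizer (P : Set G)))
    (hU : U ≤ centralizer (P : Set G)) (hUq : IsPGroup q U) :
    ∃ c ∈ centralizer (P : Set G), MulAut.conj c • U ≤ M := by
  set C := centralizer (P : Set G) with hC
  obtain ⟨Q, hQ⟩ := exists_sylowOf (M ⊓ C) q
  have hQq : IsPGroup q Q := isPGroup_of_isPi_singleton hQ.2.1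
  have hQ1 : Q ≠ ⊥ := sylowOf_ne_bot hQ hd
  obtain ⟨T, hT, hQT⟩ := exists_sylow_ge (hQ.1.trans inf_le_right) hQq
  obtain ⟨T', hT', hUT⟩ := exists_sylow_ge hU hUq
  obtain ⟨c, hc, hce⟩ := exists_conj_sylowOf hT' hT
  refine ⟨c, hc, (conj_smul_mono c hUT).trans (hce.le.trans ?_)⟩
  suffices hTQ : T ≤ Q from hTQ.trans (hQ.1.trans inf_le_left)
  by_contra hTQ
  have hlt : Q < T := lt_of_le_not_ge hQT hTQ
  have hTq : IsPGroup q T := isPGroup_of_isPi_singleton hT.2.1
  have hgt := lt_inf_normalizer_of_isPGroup hTq hlt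
  set T₁ := T ⊓ normalizer (Q : Set G)
  have hT₁C : T₁ ≤ C := inf_le_left.trans hT.1
  have hT₁q : IsPGroup q T₁ := hTq.to_le inf_le_left
  have hQM : Q ≤ M := hQ.1.trans inf_le_left
  obtain ⟨L, hL, hNQ⟩ := h.exists_maximal_normalizer hM hQM hQ1
  have hT₁L : T₁ ≤ L := inf_le_right.trans hNQ
  by_cases hne : L = M
  · subst hne
    exact hgt.not_ge (hallOf_eq_of_le hQ hgt.le (le_inf hT₁L hT₁C)
      (isPi_singleton_of_isPGroup hT₁q)).le
  obtain ⟨K, hKL, hKn, hgen, hqK, hK⟩ := h.exists_split hM hL hq hQq hQ1 hQM hNQ hne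
  have hPL : P ≤ L := (le_centralizer_iff.1 (hQ.1.trans inf_le_right)).trans
    ((centralizer_le_normalizer _).trans hNQ)
  have hpK : ¬ p ∣ Nat.card K := fun hd' => hpb L (hK p hp.out hd'
    ((dvd_of_eq hP.symm).trans (card_dvd_of_le (le_inf hPM hPL))))
  -- `C_L(P) = C_K(P) C_{M ⊓ L}(P)`
  set B := M ⊓ L ⊓ C
  have hgenC : L ⊓ C = K ⊓ C ⊔ B := by
    refine le_antisymm (fun g hg => ?_) (sup_le (inf_le_inf_right _ hKL) (inf_le_inf_right _ inf_le_right))
    obtain ⟨a, ha, b, hb, rfl⟩ := hgen g hg.1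
    obtain ⟨a', ha', b', hb', e⟩ := exists_centralizer_mul (A := P) (K := K) (B := M ⊓ L)
      (hPL.trans hKn) ((le_inf hPM hPL).trans le_normalizer)
      (by rw [hP]; exact hp.out.coprime_iff_not_dvd.2 hpK)
      (Or.inr (h.isSolvable_le hL hKL)) ha hb hg.2
    rw [e]
    exact mul_mem (mem_sup_left ha') (mem_sup_right hb')
  have hBn : B ≤ normalizer ((K ⊓ C : Subgroup G) : Set G) :=
    CfsgLib.Solvable.le_normalizer_inf (inf_le_left.trans (inf_le_right.trans hKn))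
      (inf_le_right.trans le_normalizer)
  obtain ⟨S, hS⟩ := exists_sylowOf B q
  have hSL : IsPiHallOf {q} S (L ⊓ C) := CfsgLib.PGroup.isPiHallOf_trans hS
    (inf_le_inf_right _ inf_le_right) fun s hs hsq hd' => by
      rw [Set.mem_singleton_iff.1 hsq, hgenC, CfsgLib.PGroup.relIndex_normalizing_sup hBn] at hd'
      exact hqK (hd'.trans ((relIndex_dvd_card _ _).trans (card_dvd_of_le inf_le_left)))
  obtain ⟨g, -, hle⟩ := exists_conj_le_hallOf (h.isSolvable_le hL inf_le_left) hSL (le_inf hT₁L hT₁C)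
    (isPi_singleton_of_isPGroup hT₁q)
  have hB : B ≤ M ⊓ C := inf_le_inf_right _ inf_le_left
  obtain ⟨g', -, hle'⟩ := exists_conj_le_hallOf (h.isSolvable_le hM (inf_le_left : M ⊓ C ≤ M)) hQ
    ((hle.trans hS.1).trans hB) ((isPi_singleton_of_isPGroup hT₁q).conj g)
  have hc1 : Nat.card T₁ ≤ Nat.card Q := by
    have := card_le_of_le hle'
    rwa [card_conj_smul, card_conj_smul] at this
  exact hgt.not_ge (eq_of_le_of_card_ge hgt.le hc1).ge

/-- The Frobenius group `Y ⋊ P` acting on a Sylow subgroup for `u ∈ α(L)`, where `Y ≤ M ≠ L` has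
`C(Y) ≤ M`: not every element of order `u` fixed by `P` commutes with `Y`. -/
theorem Pre.exists_moved_of_frobenius {M L U Y P : Subgroup G} (hM : IsCoatom M) (hL : IsCoatom L)
    (hne : M ≠ L) {p u : ℕ} [hp : Fact p.Prime] [hu : Fact u.Prime] (hU : IsPiHallOf {u} U L)
    (hα : u ∈ alpha L) (hP : Nat.card P = p) (hpu : p ≠ u) (hYu : ¬ u ∣ Nat.card Y)
    (hY : Y ≤ normalizer (U : Set G)) (hPU : P ≤ normalizer (U : Set G))
    (hPY : P ≤ normalizer (Y : Set G)) (hfree : Y ⊓ centralizer (P : Set G) = ⊥)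
    (hCY : centralizer (Y : Set G) ≤ M) :
    ∃ z ∈ U ⊓ centralizer (P : Set G), z ^ u = 1 ∧ z ∉ centralizer (Y : Set G) := by
  by_contra hno
  push Not at hno
  obtain ⟨a, ha1, hao, rfl⟩ := exists_zpowers_of_card hp.out hP
  refine hne (h.sylow_alpha_unique hL hM hα hU (le_trans (le_centralizer_iff.1 ?_) hCY))
  refine commute_of_frobenius_fixed (s := u) (a := a)
    (h.ne_two (dvd_card_sylowOf hU (dvd_card_of_not_pRankLE hα.2))) (isPGroup_of_isPi_singleton hU.2.1)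
    (by rw [hao]; exact hp.out) (by rw [hao]; exact hpu) hY (hPU (mem_zpowers a)) (hPY (mem_zpowers a))
    (fun y hy hya => ?_) (hu.out.coprime_iff_not_dvd.2 hYu).symm (fun x hx hxu hax y hy => ?_)
  · have : y ∈ Y ⊓ centralizer ((zpowers a : Subgroup G) : Set G) :=
      ⟨hy, by rw [centralizer_zpowers]; exact mem_centralizer_singleton_iff.2 hya⟩
    rwa [hfree, mem_bot] at this
  · exact mem_centralizer_iff.1
      (hno x ⟨hx, by rw [centralizer_zpowers]; exact mem_centralizer_singleton_iff.2 hax.symm⟩ hxu) y hy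

end CfsgLib.OddLocal.Sec13
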