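import Cfsg.Agent.Lib.OddLocal.Sec13Hyp

/-!
`Pre'`: the predecessors of BG sections 13-14 together with BG Lemma 13.4 (S1428).
-/

set_option autoImplicit false
set_option linter.unusedVariables false

namespace CfsgLib.OddLocal.Sec13

universe u

/-- `Pre` and S1428. -/
structure Pre' (G : Type u) [Group G] [Finite G] : Prop extends Pre G where
  /-- S1428. -/
  s1428 : ∀ (M : Subgroup G) (hM : IsCoatom M) (E : Subgroup G) (hE : Cfsg.IsComplIn E (Cfsg.sigmaCore M) M) (p : ℕ) (hp : p ∈ Cfsg.tau1 M) (P : Subgroup G) (hPE : P ≤ E) (hP : Nat.card P = p)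
    (R : Subgroup G) (hRE : R ≤ E ⊓ Subgroup.centralizer (P : Set G)) (hR : (Nat.card R).Prime),
    Cfsg.sigmaCore M ⊓ Subgroup.centralizer (P : Set G) ≤ Cfsg.sigmaCore M ⊓ Subgroup.centralizer (R : Set G)

end CfsgLib.OddLocal.Sec13
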