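import Cfsg.Agent.Lib.OddLocal.Sec13Prime

/-!
BG Theorem 13.9: `σ(M)` and `σ(H)` are disjoint unless `M` and `H` are conjugate.
-/

set_option autoImplicit false
set_option linter.unusedSectionVars false

open scoped Pointwise

namespace CfsgLib.OddLocal.Sec13

open Cfsg Subgroup
open scoped commutatorElement
open CfsgLib.Solvable (conj_smul_le_iff mem_conj_smul_iff card_conj_smul conj_smul_conj_smul
  conj_smul_mono conj_smul_self_of_mem_normalizer conj_smul_eq_map)

universe u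
variable {G : Type u} [Group G] [Finite G]

theorem ne_conj_symm {M H : Subgroup G} (hne : ∀ g : G, H ≠ MulAut.conj g • M) :
    ∀ g : G, M ≠ MulAut.conj g • H := fun g e => hne g⁻¹ (by rw [e, conj_smul_inv_self])

/-- `(k b) ^ n ∈ K b ^ n` when `b` normalises `K`. -/
theorem mul_pow_mem {K : Subgroup G} {k b : G} (hk : k ∈ K) (hb : b ∈ normalizer (K : Set G)) (n : ℕ) :
    ∃ k' ∈ K, (k * b) ^ n = k' * b ^ n := by
  induction n with
  | zero => exact ⟨1, K.one_mem, by simp⟩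
  | succ n ih =>
    obtain ⟨k', hk', e⟩ := ih
    refine ⟨k * (b * k' * b⁻¹), K.mul_mem hk ((mem_normalizer_iff.1 hb k').1 hk'), ?_⟩
    rw [pow_succ', e, pow_succ']
    group

/-- If an element of prime order `t` is `k b` with `k` in a `t'`-group `K` normalised by `b`, then `t`
divides the order of `b`. -/
theorem dvd_orderOf_of_mul {K : Subgroup G} {k b : G} {t : ℕ} (ht : t.Prime) (hk : k ∈ K)
    (hb : b ∈ normalizer (K : Set G)) (hord : orderOf (k * b) = t) (htK : ¬ t ∣ Nat.card K) :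
    t ∣ orderOf b := by
  obtain ⟨k', hk', e⟩ := mul_pow_mem hk hb (orderOf b)
  rw [pow_orderOf_eq_one, mul_one] at e
  have h1 : orderOf ((k * b) ^ orderOf b) ∣ Nat.card K := e ▸ K.orderOf_dvd_natCard hk'
  by_contra hd
  rw [(Nat.Coprime.orderOf_pow (by rw [hord]; exact ht.coprime_iff_not_dvd.2 hd)), hord] at h1
  exact htK h1

section Pre
variable (h : Pre G)
include h

/-- Two subgroups of prime order for primes in `τ₁ ∪ τ₃` of `L` in a subgroup `C` of `L`: after
conjugation in `C` one normalises the other. -/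
theorem Pre.exists_conj_normalizes {L C Y Z : Subgroup G} (hL : IsCoatom L) (hC : C ≤ L) {s t : ℕ}
    [hs' : Fact s.Prime] [ht' : Fact t.Prime] (hs : IsTau13 L s) (ht : IsTau13 L t)
    (hY : Nat.card Y = s) (hZ : Nat.card Z = t) (hYC : Y ≤ C) (hZC : Z ≤ C) :
    ∃ c ∈ C, MulAut.conj c • Z ≤ normalizer (Y : Set G) ∨
      Y ≤ normalizer ((MulAut.conj c • Z : Subgroup G) : Set G) := by
  have hsolC : Group.IsSolvable C := h.isSolvable_le hL hC
  have hYi : IsPi ({s, t} : Set ℕ) Y := (isPi_singleton_of_isPGroup (isPGroup_of_card hY)).mono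
    (by rintro r rfl; exact Or.inl rfl)
  have hZi : IsPi ({s, t} : Set ℕ) Z := (isPi_singleton_of_isPGroup (isPGroup_of_card hZ)).mono
    (by rintro r rfl; exact Or.inr rfl)
  obtain ⟨W, hW, hYW⟩ := exists_hallOf_ge hsolC hYC hYi
  obtain ⟨c, hc, hZW⟩ := exists_conj_le_hallOf hsolC hW hZC hZi
  refine ⟨c, hc, ?_⟩
  obtain ⟨E, hE, hWE⟩ := h.exists_compl_ge hL (hW.1.trans hC) (IsPi.mono hW.2.1 (by
    rintro r (rfl | rfl)
    exacts [hs.not_sigma, ht.not_sigma]))
  have key : ∀ {A B : Subgroup G} {r : ℕ} [Fact r.Prime], r ∈ tau3 L → Nat.card A = r → A ≤ W →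
      B ≤ W → B ≤ normalizer (A : Set G) := by
    intro A B r _ hr hA hAW hBW
    obtain ⟨E₃, hE₃, hle⟩ := exists_hallOf_ge (h.isSolvable_le hL hE.1) (hAW.trans hWE)
      ((isPi_singleton_of_isPGroup (isPGroup_of_card hA)).mono (π' := tau3 L) (by rintro x rfl; exact hr))
    obtain ⟨hcyc, -, hn⟩ := (h.s1415 L hL E hE).2.2 E₃ hE₃
    exact fun b hb => CfsgLib.Solvable.mem_normalizer_iff_conj_smul.2 (eq_of_cyclic_card hcyc
      ((conj_smul_mono b hle).trans (conj_smul_self_of_mem_normalizer (hn (hWE (hBW hb)))).le) hle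
      (card_conj_smul b A))
  rcases hs with hs1 | hs3
  · rcases ht with ht1 | ht3
    · obtain ⟨F, hF, hle⟩ := exists_hallOf_ge (h.isSolvable_le hL hE.1) hWE (π := tau1 L)
        (IsPi.mono hW.2.1 (by rintro r (rfl | rfl); exacts [hs1, ht1]))
      refine Or.inl (le_trans ?_ (centralizer_le_normalizer _))
      intro z hz
      rw [mem_centralizer_iff]
      intro y hy
      exact congrArg Subtype.val (((h.s1415 L hL E hE).2.1 F hF).commutative.is_comm.comm
        (⟨y, hle (hYW hy)⟩ : F) ⟨z, hle (hZW hz)⟩)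
    · exact Or.inr (key ht3 ((card_conj_smul c Z).trans hZ) hZW hYW)
  · exact Or.inl (key hs3 hY hYW hZW)

/-- A prime of `β(M)` dividing a maximal subgroup not conjugate to `M` is in its `τ₁ ∪ τ₃`. -/
theorem Pre.tau13_of_beta {M L : Subgroup G} (hM : IsCoatom M) (hL : IsCoatom L)
    (hne : ∀ g : G, L ≠ MulAut.conj g • M) {s : ℕ} (hs : s ∈ beta M) (hd : s ∣ Nat.card L) :
    IsTau13 L s := by
  have hsp : s.Prime := hs.1.1
  have : Fact s.Prime := ⟨hsp⟩
  have hσ : s ∉ sigma L := fun h1 => h.not_alpha_of_sigma hL hM (ne_conj_symm hne) h1 hs.1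
  rcases h.tau_cases hL hsp hd hσ with h1 | h1 | h1
  · exact Or.inl h1
  · exact absurd hs.2 (h.s1408 L hL s hσ h1.2.2.1 h1.2.2.2).1
  · exact Or.inr h1

/-- `N(Y) ≤ M` for `Y` of prime order in `β(M)`. -/
theorem Pre.normalizer_le_of_beta {M Y : Subgroup G} (hM : IsCoatom M) {s : ℕ} [hs' : Fact s.Prime]
    (hs : s ∈ beta M) (hY : Nat.card Y = s) (hYM : Y ≤ M) : normalizer (Y : Set G) ≤ M :=
  h.normalizer_le_of_unique hM hYM (ne_bot_of_card hs'.out hY)
    (h.s1423 M hM s (h.beta_subset_sigma hM hs) Y hYM hY default (Or.inl hs)).1.2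

end Pre

variable (h : Pre' G)
include h

/-- With `C_S(R₀) = 1`, not every element of prime order of `C_{M_β}(R₀)` centralizes `S`. -/
theorem Pre'.partition_centralizes {M H S R₀ : Subgroup G} (hM : IsCoatom M) (hH : IsCoatom H)
    (hne : ∀ g : G, H ≠ MulAut.conj g • M) {q r : ℕ} [hq' : Fact q.Prime] [hr' : Fact r.Prime]
    (hqM : q ∈ sigma M) (hqH : q ∈ sigma H) (hS : IsPiHallOf {q} S M) (hSH : IsPiHallOf {q} S H)
    (hr : r ∈ tau1 M) (hR₀ : Nat.card R₀ = r) (hR₀N : R₀ ≤ normalizer (S : Set G))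
    (hfree : S ⊓ centralizer (R₀ : Set G) = ⊥)
    (hfix : ∀ x ∈ betaCore M, (orderOf x).Prime → x ∈ centralizer (R₀ : Set G) →
      ∀ u ∈ S, u * x = x * u) : False := by
  have hqβ : q ∉ beta M := h.toPre.not_beta_of_sigma hH hM (ne_conj_symm hne) hqH
  have hR₀M : R₀ ≤ M := hR₀N.trans (h.toPre.normalizer_sylow_le hM hqM hS)
  obtain ⟨a, ha1, hao, rfl⟩ := exists_zpowers_of_card hr'.out hR₀
  have hA : IsPi {x | x = q ∨ x = r} (S ⊔ zpowers a) :=
    IsPi.sup (IsPi.mono hS.2.1 (by rintro x rfl; exact Or.inl rfl))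
      ((isPi_singleton_of_isPGroup (isPGroup_of_card hR₀)).mono (by rintro x rfl; exact Or.inr rfl)) hR₀N
  have hcopA : (Nat.card ↥(S ⊔ zpowers a)).Coprime (Nat.card (betaCore M)) :=
    coprime_of_isPi hA (isPi_piCoreOf (beta M) M) (by
      rintro x - (rfl | rfl) hx
      exacts [hqβ hx, hr.2.1 (h.toPre.beta_subset_sigma hM hx)])
  have hSC : S ≤ centralizer (betaCore M : Set G) := by
    refine le_centralizer_of_sylows fun s hs => ?_
    have : Fact s.Prime := ⟨hs⟩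
    obtain ⟨T, hT, hTn, -⟩ := exists_invariant_sylowOf (A := S ⊔ zpowers a) (q := s)
      ((sup_le hS.1 hR₀M).trans (le_normalizer_piCoreOf (beta M) M)) hcopA
      (h.toPre.isSolvable_le hM (piCoreOf_le _ _)) bot_le
      (by intro x _; rw [normalizer_eq_top]; trivial) IsPGroup.of_bot
    refine ⟨T, hT, ?_⟩
    rcases eq_or_ne T ⊥ with rfl | hT1
    · intro x _
      rw [mem_centralizer_iff]
      rintro y hy
      rw [mem_bot.1 hy]; simp
    have hTs : IsPGroup s T := isPGroup_of_isPi_singleton hT.2.1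
    have hsd : s ∣ Nat.card (betaCore M) :=
      (dvd_card_of_isPGroup hTs hT1).trans (card_dvd_of_le hT.1)
    have hsβ : s ∈ beta M := isPi_piCoreOf (beta M) M s hs hsd
    refine commute_of_frobenius_fixed (s := s) (a := a) (h.toPre.ne_two hsd) hTs
      (hao.symm ▸ hr'.out) (fun e => hr.2.1 ?_) (le_sup_left.trans hTn)
      (hTn (mem_sup_right (mem_zpowers a))) (hR₀N (mem_zpowers a)) (fun u hu hua => ?_) ?_ ?_
    · rw [← hao, e]; exact h.toPre.beta_subset_sigma hM hsβ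
    · have : u ∈ S ⊓ centralizer ((zpowers a : Subgroup G) : Set G) :=
        ⟨hu, by rw [centralizer_zpowers]; exact mem_centralizer_singleton_iff.2 hua⟩
      rwa [hfree, mem_bot] at this
    · refine Nat.coprime_of_dvd fun x hx h1 h2 => ?_
      obtain rfl := (Nat.prime_dvd_prime_iff_eq hx hs).1 h2
      exact hqβ (Set.mem_singleton_iff.1 (hS.2.1 x hx h1) ▸ hsβ)
    · intro x hx hxs hax u hu
      rcases eq_or_ne x 1 with rfl | hx1
      · simp
      refine hfix x (hT.1 hx) (by rw [orderOf_eq_prime hxs hx1]; exact hs) ?_ u hu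
      rw [centralizer_zpowers]; exact mem_centralizer_singleton_iff.2 hax.symm
  have hMN : M ≤ normalizer (S : Set G) := by
    intro g hg
    obtain ⟨k, hk, b, hb, rfl⟩ := h.toPre.two_maximal_sigma hM hqM hS hg
    exact mul_mem (centralizer_le_normalizer _ ((le_centralizer_iff.1 hSC) hk)) hb.2
  rcases hM.le_iff.1 (hMN.trans (h.toPre.normalizer_sylow_le hH hqH hSH)) with e | e
  · exact hH.1 e
  · exact hne 1 (by rw [map_one, one_smul]; exact e)

/-- An element of order `t ∈ β(H)` of `M` centralizing `R₀` leads to a contradiction. -/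
theorem Pre'.partition_aux {M H S R₀ : Subgroup G} (hM : IsCoatom M) (hH : IsCoatom H)
    (hne : ∀ g : G, H ≠ MulAut.conj g • M) {q r t : ℕ} [hq' : Fact q.Prime] [hr' : Fact r.Prime]
    [ht' : Fact t.Prime]
    (hqM : q ∈ sigma M) (hqH : q ∈ sigma H) (hS : IsPiHallOf {q} S M) (hSH : IsPiHallOf {q} S H)
    (hr : r ∈ tau1 M) (hR₀ : Nat.card R₀ = r) (hR₀N : R₀ ≤ normalizer (S : Set G))
    (hfree : S ⊓ centralizer (R₀ : Set G) = ⊥) {z : G} (hzM : z ∈ M) (hzt : orderOf z = t)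
    (hzC : z ∈ centralizer (R₀ : Set G)) (htH : t ∈ beta H) : False := by
  refine h.partition_centralizes hM hH hne hqM hqH hS hSH hr hR₀ hR₀N hfree fun x hx hxp hxC u hu => ?_
  have hR₀p : IsPGroup r R₀ := isPGroup_of_card hR₀
  have hR₀M : R₀ ≤ M := hR₀N.trans (h.toPre.normalizer_sylow_le hM hqM hS)
  have htσ : t ∉ sigma M := fun h1 => h.toPre.not_alpha_of_sigma hM hH hne h1 htH.1
  have hNS : normalizer (S : Set G) ≤ H := h.toPre.normalizer_sylow_le hH hqH hSH
  obtain ⟨k, hk, b, hb, rfl⟩ := h.toPre.two_maximal_sigma hM hqM hS hzM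
  obtain ⟨k', hk', b', hb', e⟩ := exists_centralizer_mul (A := R₀)
    (hR₀M.trans (le_normalizer_piCoreOf (beta M) M))
    (CfsgLib.Solvable.le_normalizer_inf (hR₀M.trans le_normalizer) (hR₀N.trans le_normalizer))
    (coprime_of_isPi (isPi_singleton_of_isPGroup hR₀p) (isPi_piCoreOf (beta M) M)
      fun x _ hx hx' => hr.2.1 (h.toPre.beta_subset_sigma hM (hx ▸ hx')))
    (Or.inr (h.toPre.isSolvable_le hM (piCoreOf_le _ _))) hk hb hzC
  have hb'M : b' ∈ M := hb'.1.1
  have hb'N : b' ∈ normalizer (S : Set G) := hb'.1.2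
  have hb'C : b' ∈ centralizer (R₀ : Set G) := hb'.2
  rw [e] at hzt
  have hdvd : t ∣ orderOf b' := dvd_orderOf_of_mul ht'.out hk'.1
    (le_normalizer_piCoreOf (beta M) M hb'M) hzt fun hd =>
      htσ (h.toPre.beta_subset_sigma hM (isPi_piCoreOf (beta M) M t ht'.out hd))
  set z₁ := b' ^ (orderOf b' / t) with hz₁
  have hz₁o : Nat.card (zpowers z₁) = t := by
    rw [Nat.card_zpowers, hz₁, orderOf_pow_orderOf_div (orderOf_pos b').ne' hdvd]
  set Z₁ := zpowers z₁
  have hZN : Z₁ ≤ normalizer (S : Set G) := zpowers_le.2 (pow_mem hb'N _)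
  have hZH : Z₁ ≤ H := hZN.trans hNS
  have hZC : Z₁ ≤ centralizer (R₀ : Set G) := zpowers_le.2 (pow_mem hb'C _)
  -- `C_{M_σ}(R₀) ≤ C(Z₁) ≤ H`
  obtain ⟨E, hE, hUE⟩ := h.toPre.exists_compl_ge hM (U := R₀ ⊔ Z₁)
    (sup_le hR₀M (zpowers_le.2 (pow_mem hb'M _)))
    (IsPi.sup ((isPi_singleton_of_isPGroup hR₀p).mono (by rintro x rfl; exact hr.2.1))
      ((isPi_singleton_of_isPGroup (isPGroup_of_card hz₁o)).mono (by rintro x rfl; exact htσ))
      (hZC.trans (centralizer_le_normalizer _)))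
  have h28 := h.s1428 M hM E hE r hr R₀ (le_sup_left.trans hUE) hR₀ Z₁
    (le_inf (le_sup_right.trans hUE) hZC) (hz₁o.symm ▸ ht'.out)
  have hCZ : centralizer (Z₁ : Set G) ≤ H :=
    (h.s1423 H hH t (h.toPre.beta_subset_sigma hH htH) Z₁ hZH hz₁o default (Or.inl htH)).1.1
  have hxσ : x ∈ sigmaCore M := h.toPre.le_sigmaCore hM (piCoreOf_le (beta M) M)
    ((isPi_piCoreOf (beta M) M).mono (h.toPre.beta_subset_sigma hM)) hx
  have hxH : x ∈ H := hCZ (h28 ⟨hxσ, hxC⟩).2
  have : Fact (orderOf x).Prime := ⟨hxp⟩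
  have hsβ : orderOf x ∈ beta M :=
    isPi_piCoreOf (beta M) M _ hxp ((betaCore M).orderOf_dvd_natCard hx)
  have hXM : zpowers x ≤ M := zpowers_le.2 (piCoreOf_le _ _ hx)
  have h13 := h.toPre.tau13_of_beta hM hH hne hsβ (H.orderOf_dvd_natCard hxH)
  have hc := h.toPre.tau13_centralizes hH h13 (P := zpowers x) (P₁ := zpowers x)
    (isPGroup_of_card (Nat.card_zpowers x))
    (ne_bot_of_card hxp (Nat.card_zpowers x)) hM
    (h.toPre.normalizer_le_of_beta hM hsβ (Nat.card_zpowers x) hXM)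
    (le_inf (zpowers_le.2 hxH) hXM) (isPGroup_of_card (Nat.card_zpowers x))
  exact mem_centralizer_iff.1 (hc (mem_zpowers x)) u
    ⟨h.toPre.le_sigmaCore hH hSH.1 (IsPi.mono hSH.2.1 (by rintro y rfl; exact hqH)) hu, hS.1 hu⟩

/-- The core of 13.9: `M` and `H` share no Sylow subgroup for a prime in both `σ`'s. -/
theorem Pre'.partition_core {M H S : Subgroup G} (hM : IsCoatom M) (hH : IsCoatom H)
    (hne : ∀ g : G, H ≠ MulAut.conj g • M) {q : ℕ} [hq' : Fact q.Prime] (hqM : q ∈ sigma M)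
    (hqH : q ∈ sigma H) (hS : IsPiHallOf {q} S M) (hSH : IsPiHallOf {q} S H) : False := by
  have hne' := ne_conj_symm hne
  have hMH : M ≠ H := fun e => hne 1 (by rw [map_one, one_smul, e])
  have hSp : IsPGroup q S := isPGroup_of_isPi_singleton hS.2.1
  haveI : IsMulCommutative S := h.toPre.isMulCommutative_of_le hM hH hMH hSp hS.1 hSH.1
  set N := normalizer (S : Set G) with hNdef
  have hNM : N ≤ M := h.toPre.normalizer_sylow_le hM hqM hS
  have hNH : N ≤ H := h.toPre.normalizer_sylow_le hH hqH hSH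
  obtain ⟨V, hV⟩ := CfsgLib.PGroup.exists_isPiHallOf {x | x ≠ q} N (h.toPre.isSolvable_le hM hNM)
  obtain ⟨P, hP⟩ := hSp.exists_le_sylow
  have hPS : (P : Subgroup G) = S := h.toPre.sylow_global hM hqM hS hP P.2
  have hc : IsComplIn V S N :=
    isComplIn_of_hallOf (hallOf_of_le hS le_normalizer hNM) hV le_rfl (fun x _ hx hx' => hx' hx)
      (fun x _ _ => (eq_or_ne x q).imp id id)
  have hc' : IsComplIn (P : Subgroup G) V (normalizer ((P : Subgroup G) : Set G)) := by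
    rw [hPS]
    refine ⟨hc.2.1, hc.1, inf_comm V S ▸ hc.2.2.1, fun x hx => ?_⟩
    obtain ⟨a, ha, b, hb, rfl⟩ := hc.2.2.2 x hx
    exact ⟨a * b * a⁻¹, (mem_normalizer_iff.1 (hc.1 ha) b).1 hb, a, ha, by group⟩
  have hSV : S = ⁅S, V⁆ := by
    have := (h.s1411 q P V hc').1
    rwa [hPS] at this
  have hcopVS : (Nat.card V).Coprime (Nat.card S) :=
    coprime_of_isPi hV.2.1 hS.2.1 fun x _ hx hx' => hx hx'
  set π₁ : Set ℕ := {x | x ∈ tau1 M ∧ x ∈ tau1 H} with hπ₁
  obtain ⟨V₁, hV₁⟩ := CfsgLib.PGroup.exists_isPiHallOf π₁ V (h.toPre.isSolvable_le hM (hV.1.trans hNM))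
  set C := V ⊓ centralizer (S : Set G) with hC
  have hqβ : ∀ {L : Subgroup G}, IsCoatom L → L = M ∨ L = H → q ∉ beta L := fun {L} hL e => by
    rcases e with rfl | rfl
    · exact h.toPre.not_beta_of_sigma hH hM hne' hqH
    · exact h.toPre.not_beta_of_sigma hM hH hne hqM
  have hVgen : V ≤ V₁ ⊔ C := by
    refine relIndex_eq_one.1 ?_
    by_contra hne1
    obtain ⟨x, hx, hd⟩ := Nat.exists_prime_and_dvd hne1
    have : Fact x.Prime := ⟨hx⟩
    by_cases hxπ : x ∈ π₁
    · exact hV₁.2.2 x hx hxπ (hd.trans (relIndex_dvd_of_le_left V le_sup_left))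
    obtain ⟨R, hR⟩ := exists_sylowOf V x
    refine hR.2.2 x hx rfl (hd.trans (relIndex_dvd_of_le_left V
      (le_trans (le_inf hR.1 ?_) le_sup_right)))
    have hxV : x ∣ Nat.card V := hd.trans (relIndex_dvd_card _ _)
    have hxq : x ≠ q := hV.2.1 x hx hxV
    have hRp : IsPGroup x R := isPGroup_of_isPi_singleton hR.2.1
    have hRN : R ≤ N := hR.1.trans hV.1
    -- `R` lies in the derived subgroup of `M` or of `H`
    have cases : ∀ L : Subgroup G, IsCoatom L → (L = M ∨ L = H) → N ≤ L → IsPiHallOf {q} S L →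
        q ∈ sigma L → (∀ K : Subgroup G, IsCoatom K → (K = M ∨ K = H) → K ≠ L → N ≤ K →
          S ≤ sigmaCore L ⊓ K) → x ∈ tau1 L ∨ R ≤ centralizer (S : Set G) := by
      intro L hL hLe hNL hSL hqL hother
      by_cases hσ : x ∈ sigma L
      · exact Or.inr (h.toPre.centralizes_of_le_derived hL hxq
          ((h.toPre.le_sigmaCore hL (hRN.trans hNL) ((isPi_singleton_of_isPGroup hRp).mono
            (by rintro y rfl; exact hσ))).trans (h.toPre.sigmaCore_le_commutator hL))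
          hSL.1 hRp hSp hRN (hqβ hL hLe))
      rcases h.toPre.tau_cases hL hx ((hxV.trans (card_dvd_of_le (hV.1.trans hNL)))) hσ with h1 | h1 | h1
      · exact Or.inl h1
      · exfalso
        obtain ⟨T, hT⟩ := exists_sylowOf (L ⊓ N) x
        have hTL : IsPiHallOf {x} T L := by
          refine CfsgLib.PGroup.isPiHallOf_trans hT inf_le_left fun y hy hyx hd => ?_
          rw [Set.mem_singleton_iff.1 hyx] at hd
          refine hσ (h.toPre.beta_subset_sigma hL (isPi_piCoreOf (beta L) L x hx ?_))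
          have e : (L ⊓ N).relIndex L = (L ⊓ N).relIndex (betaCore L) := by
            conv_lhs => arg 2; rw [show L = betaCore L ⊔ (L ⊓ N) from le_antisymm (fun g hg => by
              obtain ⟨a, ha, b, hb, rfl⟩ := h.toPre.two_maximal_sigma hL hqL hSL hg
              exact mul_mem (mem_sup_left ha) (mem_sup_right hb))
              (sup_le (piCoreOf_le _ _) inf_le_left)]
            exact CfsgLib.PGroup.relIndex_normalizing_sup (inf_le_left.trans (le_normalizer_piCoreOf _ _))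
          rw [e] at hd
          exact hd.trans (relIndex_dvd_card _ _)
        obtain ⟨A, hAT, hA, hAc⟩ := h.toPre.exists_elementary_tau2 hL h1 hTL
        have hAN : A ≤ N := hAT.trans (hT.1.trans inf_le_right)
        obtain ⟨K, hK, hKe, hKL, hNK⟩ : ∃ K : Subgroup G, IsCoatom K ∧ (K = M ∨ K = H) ∧ K ≠ L ∧ N ≤ K := by
          rcases hLe with rfl | rfl
          exacts [⟨H, hH, Or.inr rfl, hMH.symm, hNH⟩, ⟨M, hM, Or.inl rfl, hMH, hNM⟩]
        obtain ⟨-, -, -, -, he, -⟩ := h.s1417 L hL x h1 A ⟨hAN.trans hNL, hA, hAc⟩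
        have h0 := hother K hK hKe hKL hNK
        rw [he K hK hKL (hAN.trans hNK)] at h0
        exact sylowOf_ne_bot hS hqM.2.1 (le_bot_iff.1 h0)
      · exact Or.inr (h.toPre.centralizes_of_le_derived hL hxq
          (h.toPre.tau3_le_commutator hL h1 (hRN.trans hNL) hRp) hSL.1 hRp hSp hRN (hqβ hL hLe))
    rcases cases M hM (Or.inl rfl) hNM hS hqM (fun K _ _ _ hNK => le_inf
        (h.toPre.le_sigmaCore hM hS.1 (IsPi.mono hS.2.1 (by rintro y rfl; exact hqM)))
        (le_normalizer.trans hNK)) with h1 | h1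
    · rcases cases H hH (Or.inr rfl) hNH hSH hqH (fun K _ _ _ hNK => le_inf
          (h.toPre.le_sigmaCore hH hSH.1 (IsPi.mono hSH.2.1 (by rintro y rfl; exact hqH)))
          (le_normalizer.trans hNK)) with h2 | h2
      · exact absurd ⟨h1, h2⟩ hxπ
      · exact h2
    · exact h1
  have hfreeV : S ⊓ centralizer (V₁ : Set G) = ⊥ := by
    refine le_bot_iff.1 fun x hx => ?_
    have hxS : x ∈ S := hx.1
    have hxV : x ∈ centralizer (V : Set G) := by
      refine le_centralizer_iff.1 (hVgen.trans (sup_le ?_ ?_)) (mem_zpowers x)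
      · exact le_centralizer_iff.1 (zpowers_le.2 hx.2)
      · exact le_centralizer_iff.1 ((zpowers_le.2 hxS).trans (le_centralizer_iff.1 inf_le_right))
    have h0 := CfsgLib.Solvable.inf_centralizer_inf_commutator V S hV.1 hcopVS
    rw [← hSV] at h0
    exact h0.le ⟨⟨hxS, hxV⟩, hxS⟩
  have hV₁ne : V₁ ≠ ⊥ := by
    rintro e
    refine sylowOf_ne_bot hS hqM.2.1 (le_bot_iff.1 (le_trans (le_inf le_rfl ?_) hfreeV.le))
    rw [e]
    intro x _
    rw [mem_centralizer_iff]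
    rintro y hy
    rw [mem_bot.1 hy]; simp
  obtain ⟨r, R₀, hrp, hR₀V, hR₀⟩ := exists_prime_subgroup hV₁ne
  have : Fact r.Prime := ⟨hrp⟩
  have hrπ : r ∈ π₁ := hV₁.2.1 r hrp ((dvd_of_eq hR₀.symm).trans (card_dvd_of_le hR₀V))
  have hR₀N : R₀ ≤ N := hR₀V.trans (hV₁.1.trans hV.1)
  have hfree : S ⊓ centralizer (R₀ : Set G) = ⊥ := by
    obtain ⟨E, hE, hVE⟩ := h.toPre.exists_compl_ge hM (hV₁.1.trans (hV.1.trans hNM))
      (IsPi.mono hV₁.2.1 fun x hx => hx.1.2.1)
    obtain ⟨a, ha1, -, ha⟩ := exists_zpowers_of_card hrp hR₀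
    refine le_bot_iff.1 fun x hx => hfreeV.le ⟨hx.1, ?_⟩
    refine h.tau1_prime_action hM hE hVE (IsPi.mono hV₁.2.1 fun x hx => hx.1)
      (hR₀V (ha ▸ mem_zpowers a)) ha1 ⟨?_, ?_⟩
    · exact h.toPre.le_sigmaCore hM hS.1 (IsPi.mono hS.2.1 (by rintro y rfl; exact hqM)) hx.1
    · exact centralizer_singleton_of_mem (ha ▸ mem_zpowers a) hx.2
  obtain ⟨L, hL, hNL⟩ := h.toPre.exists_maximal_normalizer hM (hR₀N.trans hNM) (ne_bot_of_card hrp hR₀)
  have hLM := (h.toPre.tau13_maximal hM (Or.inl hrπ.1) (isPGroup_of_card hR₀) (ne_bot_of_card hrp hR₀) hL hNL).1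
  have hLH := (h.toPre.tau13_maximal hH (Or.inl hrπ.2) (isPGroup_of_card hR₀) (ne_bot_of_card hrp hR₀) hL hNL).1
  have hCL : centralizer (R₀ : Set G) ≤ L := (centralizer_le_normalizer _).trans hNL
  -- elements of prime order in `C_{M_β}(R₀)` and `C_{H_β}(R₀)`
  obtain ⟨y, hy, hys, hyC⟩ : ∃ y ∈ betaCore M, (orderOf y).Prime ∧ y ∈ centralizer (R₀ : Set G) := by
    by_contra hno
    push Not at hno
    exact h.partition_centralizes hM hH hne hqM hqH hS hSH hrπ.1 hR₀ hR₀N hfree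
      fun x hx hxp hxC => absurd hxC (hno x hx hxp)
  obtain ⟨z, hz, hzt, hzC⟩ : ∃ z ∈ betaCore H, (orderOf z).Prime ∧ z ∈ centralizer (R₀ : Set G) := by
    by_contra hno
    push Not at hno
    exact h.partition_centralizes hH hM hne' hqH hqM hSH hS hrπ.2 hR₀ hR₀N hfree
      fun x hx hxp hxC => absurd hxC (hno x hx hxp)
  have : Fact (orderOf y).Prime := ⟨hys⟩
  have : Fact (orderOf z).Prime := ⟨hzt⟩
  have hsβ : orderOf y ∈ beta M := isPi_piCoreOf (beta M) M _ hys ((betaCore M).orderOf_dvd_natCard hy)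
  have htβ : orderOf z ∈ beta H := isPi_piCoreOf (beta H) H _ hzt ((betaCore H).orderOf_dvd_natCard hz)
  obtain ⟨c, hc, hcases⟩ := h.toPre.exists_conj_normalizes hL hCL
    (h.toPre.tau13_of_beta hM hL hLM hsβ (L.orderOf_dvd_natCard (hCL hyC)))
    (h.toPre.tau13_of_beta hH hL hLH htβ (L.orderOf_dvd_natCard (hCL hzC)))
    (Nat.card_zpowers y) (Nat.card_zpowers z) (zpowers_le.2 hyC) (zpowers_le.2 hzC)
  have hNY := h.toPre.normalizer_le_of_beta hM hsβ (Nat.card_zpowers y) (zpowers_le.2 (piCoreOf_le _ _ hy))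
  have hNZ := h.toPre.normalizer_le_of_beta hH htβ (Nat.card_zpowers z) (zpowers_le.2 (piCoreOf_le _ _ hz))
  rcases hcases with h1 | h1
  · have hmem : c * z * c⁻¹ ∈ MulAut.conj c • zpowers z :=
      conj_smul_le_iff.1 le_rfl z (mem_zpowers z)
    refine h.partition_aux hM hH hne hqM hqH hS hSH hrπ.1 hR₀ hR₀N hfree (hNY (h1 hmem))
      (t := orderOf z) ?_ (mul_mem (mul_mem hc hzC) (inv_mem hc)) htβ
    exact (MulAut.conj c).orderOf_eq z
  · have hmem : c⁻¹ * y * c ∈ normalizer ((zpowers z : Subgroup G) : Set G) := by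
      have := h1 (mem_zpowers y)
      rw [conj_smul_normalizer, mem_conj_smul_iff] at this
      exact this
    refine h.partition_aux hH hM hne' hqH hqM hSH hS hrπ.2 hR₀ hR₀N hfree (hNZ hmem)
      (t := orderOf y) ?_ (mul_mem (mul_mem (inv_mem hc) hyC) hc) hsβ
    have := (MulAut.conj c⁻¹).orderOf_eq y
    rwa [MulAut.conj_apply, inv_inv] at this

/-- 13.9: for non-conjugate maximal subgroups `σ(M) ∩ σ(H) = ∅`. -/
theorem Pre'.not_sigma_inter {M H : Subgroup G} (hM : IsCoatom M) (hH : IsCoatom H)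
    (hne : ∀ g : G, H ≠ MulAut.conj g • M) {q : ℕ} (hq : q ∈ sigma M) : q ∉ sigma H := by
  intro hqH
  have : Fact q.Prime := ⟨hq.1⟩
  obtain ⟨S, hS⟩ := exists_sylowOf M q
  obtain ⟨T, hT⟩ := exists_sylowOf H q
  obtain ⟨g, hg⟩ := h.toPre.exists_conj_le_sylow hM hq hS (isPGroup_of_isPi_singleton hT.2.1)
  obtain ⟨k, hk⟩ := h.toPre.exists_conj_le_sylow hH hqH hT (isPGroup_of_isPi_singleton hS.2.1)
  have hgT : MulAut.conj g • T = S := CfsgLib.Solvable.conj_smul_eq_of_le hg (by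
    rw [← card_conj_smul k S]
    exact card_le_of_le hk)
  refine h.partition_core hM (isCoatom_conj hH g) (fun g' e => hne (g⁻¹ * g') ?_) hq
    ((sigma_conj g H).symm ▸ hqH) hS (hgT ▸ hallOf_conj hT g)
  rw [← conj_smul_conj_smul, ← e, conj_smul_inv_self]

/-- `q ∈ σ(L₁) ∩ σ(L₂)` and `X ≤ L₂` a nontrivial `q`-subgroup of `L₁` with `C(X) ≤ L₁`: `L₂ = L₁`. -/
theorem Pre'.eq_of_mem_sigma {L₁ L₂ X : Subgroup G} (hL₁ : IsCoatom L₁) (hL₂ : IsCoatom L₂) {q : ℕ}
    [Fact q.Prime] (h₁ : q ∈ sigma L₁) (h₂ : q ∈ sigma L₂) (hXq : IsPGroup q X) (hX1 : X ≠ ⊥)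
    (hX₁ : X ≤ L₁) (hX₂ : X ≤ L₂) (hC : centralizer (X : Set G) ≤ L₁) : L₂ = L₁ := by
  by_cases hne : ∀ g : G, L₂ ≠ MulAut.conj g • L₁
  · exact absurd h₂ (h.not_sigma_inter hL₁ hL₂ hne h₁)
  · push Not at hne
    obtain ⟨g, hg⟩ := hne
    exact h.toPre.eq_of_conj hL₁ h₁ hXq hX1 hX₁ hX₂ hC hg

end CfsgLib.OddLocal.Sec13
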