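import Cfsg.Agent.Lib.OddLocal.Sec13Basic
import Cfsg.Agent.Lib.Solvable.CoprimeAction
import Cfsg.Agent.Lib.OddLocal.Sec13Action

/-!
Small general tools for BG sections 13-14.
-/

set_option autoImplicit false
set_option linter.unusedSectionVars false

open scoped Pointwise

namespace CfsgLib.OddLocal.Sec13

open Cfsg Subgroup
open scoped commutatorElement
open CfsgLib.Solvable (conj_smul_le_iff mem_conj_smul_iff card_conj_smul conj_smul_conj_smul
  conj_smul_mono conj_smul_self_of_mem_normalizer conj_smul_eq_map)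

universe u
variable {G : Type u} [Group G] [Finite G]

theorem centralizer_zpowers (x : G) :
    centralizer ((zpowers x : Subgroup G) : Set G) = centralizer ({x} : Set G) := by
  rw [zpowers_eq_closure, centralizer_closure]

theorem centralizer_anti {X Y : Subgroup G} (hXY : X ≤ Y) :
    centralizer (Y : Set G) ≤ centralizer (X : Set G) := fun _ hg =>
  mem_centralizer_iff.2 fun x hx => mem_centralizer_iff.1 hg x (hXY hx)

theorem centralizer_singleton_of_mem {X : Subgroup G} {x : G} (hx : x ∈ X) :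
    centralizer (X : Set G) ≤ centralizer ({x} : Set G) := by
  rw [← centralizer_zpowers]
  exact centralizer_anti (zpowers_le.2 hx)

theorem isPGroup_of_card {p : ℕ} {X : Subgroup G} (hX : Nat.card X = p) : IsPGroup p X :=
  IsPGroup.of_card (n := 1) (by rw [hX, pow_one])

theorem ne_bot_of_card {p : ℕ} (hp : p.Prime) {X : Subgroup G} (hX : Nat.card X = p) : X ≠ ⊥ :=
  fun e => hp.ne_one (by rw [← hX, e, Subgroup.card_bot])

theorem exists_zpowers_of_card {p : ℕ} (hp : p.Prime) {X : Subgroup G} (hX : Nat.card X = p) :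
    ∃ x : G, x ≠ 1 ∧ orderOf x = p ∧ zpowers x = X := by
  obtain ⟨x, hx, hx1⟩ : ∃ x ∈ X, x ≠ 1 := by
    by_contra h
    push Not at h
    exact ne_bot_of_card hp hX (eq_bot_iff.2 fun x hx => mem_bot.2 (h x hx))
  refine ⟨x, hx1, ?_, zpowers_card hp hX hx hx1⟩
  rw [← hX, ← zpowers_card hp hX hx hx1, Nat.card_zpowers]

/-- A nontrivial element has a power of prime order. -/
theorem exists_pow_prime_order {x : G} (hx : x ≠ 1) :
    ∃ p n : ℕ, p.Prime ∧ p ∣ orderOf x ∧ orderOf (x ^ n) = p := by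
  obtain ⟨p, hp, hd⟩ := Nat.exists_prime_and_dvd (fun e => hx (orderOf_eq_one_iff.1 e))
  exact ⟨p, orderOf x / p, hp, hd, orderOf_pow_orderOf_div (orderOf_pos x).ne' hd⟩

/-- A nontrivial subgroup has a subgroup of prime order. -/
theorem exists_prime_subgroup {X : Subgroup G} (hX : X ≠ ⊥) :
    ∃ (p : ℕ) (Y : Subgroup G), p.Prime ∧ Y ≤ X ∧ Nat.card Y = p := by
  obtain ⟨p, hp, hd⟩ := Nat.exists_prime_and_dvd (fun e => hX (eq_bot_of_card_eq X e))
  have : Fact p.Prime := ⟨hp⟩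
  obtain ⟨Y, hY, hc⟩ := exists_order_prime_le hd
  exact ⟨p, Y, hp, hY, hc⟩

/-- A subgroup lies in `C` once all its subgroups of prime power order do. -/
theorem le_of_pSubgroups {U C : Subgroup G}
    (h : ∀ r : ℕ, r.Prime → r ∣ Nat.card U → ∀ R : Subgroup G, R ≤ U → IsPGroup r R → R ≤ C) : U ≤ C := by
  refine relIndex_eq_one.1 ?_
  by_contra hne
  obtain ⟨r, hr, hd⟩ := Nat.exists_prime_and_dvd hne
  have : Fact r.Prime := ⟨hr⟩
  obtain ⟨R, hR⟩ := exists_sylowOf U r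
  have hdU : r ∣ Nat.card U := hd.trans (relIndex_dvd_card _ _)
  exact hR.2.2 r hr rfl (hd.trans (relIndex_dvd_of_le_left _
    (h r hr hdU R hR.1 (isPGroup_of_isPi_singleton hR.2.1))))

/-- If `A` normalises `K` and `B`, an element of `KB` centralised by `A` is a product of elements of
`C_K(A)` and `C_B(A)`. -/
theorem exists_centralizer_mul {A K B : Subgroup G} (hAK : A ≤ normalizer (K : Set G))
    (hAB : A ≤ normalizer (B : Set G)) (hcop : (Nat.card A).Coprime (Nat.card K))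
    (hs : Group.IsSolvable A ∨ Group.IsSolvable K) {k b : G} (hk : k ∈ K) (hb : b ∈ B)
    (hg : k * b ∈ centralizer (A : Set G)) :
    ∃ k' ∈ K ⊓ centralizer (A : Set G), ∃ b' ∈ B ⊓ centralizer (A : Set G), k * b = k' * b' := by
  have hu : ∀ a ∈ A, ⁅a, b⁆ ∈ K ⊓ B := by
    intro a ha
    have hka : a * k * a⁻¹ ∈ K := (mem_normalizer_iff.1 (hAK ha) k).1 hk
    have hba : a * b * a⁻¹ ∈ B := (mem_normalizer_iff.1 (hAB ha) b).1 hb
    have e : (a * k * a⁻¹) * (a * b * a⁻¹) = k * b := by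
      rw [show (a * k * a⁻¹) * (a * b * a⁻¹) = a * (k * b) * a⁻¹ by group,
        mem_centralizer_iff.1 hg a ha]
      group
    refine ⟨?_, ?_⟩
    swap
    · show ⁅a, b⁆ ∈ B
      rw [commutatorElement_def]; exact mul_mem hba (inv_mem hb)
    show ⁅a, b⁆ ∈ K
    have h1 : ⁅a, b⁆ = (a * k * a⁻¹)⁻¹ * k := by
      rw [commutatorElement_def, eq_inv_mul_iff_mul_eq]
      calc a * k * a⁻¹ * (a * b * a⁻¹ * b⁻¹) = (a * k * a⁻¹) * (a * b * a⁻¹) * b⁻¹ := by group
        _ = k := by rw [e]; group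
    rw [h1]
    exact mul_mem (inv_mem hka) hk
  obtain ⟨n, hn, hnb⟩ := CfsgLib.Solvable.exists_mul_mem_centralizer A (K ⊓ B)
    (CfsgLib.Solvable.le_normalizer_inf hAK hAB) (hcop.coprime_dvd_right (card_dvd_of_le inf_le_left))
    (hs.imp id fun hK => CfsgLib.Solvable.isSolvable_of_le hK inf_le_left) b hu
  have hn1 : n ∈ K := hn.1
  have hn2 : n ∈ B := hn.2
  refine ⟨k * n⁻¹, ⟨K.mul_mem hk (K.inv_mem hn1), ?_⟩, n * b, ⟨B.mul_mem hn2 hb, hnb⟩, by group⟩
  show k * n⁻¹ ∈ centralizer (A : Set G)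
  have hnb' : n * b ∈ centralizer (A : Set G) := hnb
  have h2 := mul_mem hg (inv_mem hnb')
  simpa [mul_assoc] using h2

/-- For abelian `K` and `F` of coprime order with `K ≤ [KF, KF]`, `F` fixes only the identity of
`K`. -/
theorem inf_centralizer_eq_bot_of_le_derived {K F : Subgroup G} [hK : IsMulCommutative K]
    [hF : IsMulCommutative F] (hn : F ≤ normalizer (K : Set G))
    (hcop : (Nat.card F).Coprime (Nat.card K)) (hd : K ≤ ⁅K ⊔ F, K ⊔ F⁆) :
    K ⊓ centralizer (F : Set G) = ⊥ := by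
  have hle : ⁅K ⊔ F, K ⊔ F⁆ ≤ ⁅K, F⁆ := by
    rw [commutator_le]
    intro a ha b hb
    obtain ⟨k₁, hk₁, f₁, hf₁, rfl⟩ := CfsgLib.Solvable.exists_mul_of_mem_sup hn ha
    obtain ⟨k₂, hk₂, f₂, hf₂, rfl⟩ := CfsgLib.Solvable.exists_mul_of_mem_sup hn hb
    have hcf : Commute f₂ f₁⁻¹ :=
      (congrArg Subtype.val (hF.is_comm.comm (⟨f₂, hf₂⟩ : F) ⟨f₁⁻¹, F.inv_mem hf₁⟩) : _)
    have hx : f₂ * k₁⁻¹ * f₂⁻¹ ∈ K := (mem_normalizer_iff.1 (hn hf₂) _).1 (K.inv_mem hk₁)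
    have hy : f₁ * k₂ * f₁⁻¹ ∈ K := (mem_normalizer_iff.1 (hn hf₁) _).1 hk₂
    have hc1 : Commute k₂⁻¹ (f₂ * k₁⁻¹ * f₂⁻¹ * k₁) :=
      (congrArg Subtype.val (hK.is_comm.comm (⟨_, K.inv_mem hk₂⟩ : K) ⟨_, K.mul_mem hx hk₁⟩) : _)
    have hc2 : Commute k₁ ((f₁ * k₂ * f₁⁻¹) * (f₂ * k₁⁻¹ * f₂⁻¹)) :=
      (congrArg Subtype.val (hK.is_comm.comm (⟨_, hk₁⟩ : K) ⟨_, K.mul_mem hy hx⟩) : _)
    have key : ⁅k₁ * f₁, k₂ * f₂⁆ = ⁅f₁, k₂⁆ * ⁅f₂, k₁⁻¹⁆ := by
      simp only [commutatorElement_def, inv_inv]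
      calc k₁ * f₁ * (k₂ * f₂) * (k₁ * f₁)⁻¹ * (k₂ * f₂)⁻¹
          = k₁ * f₁ * k₂ * (f₂ * f₁⁻¹) * k₁⁻¹ * f₂⁻¹ * k₂⁻¹ := by group
        _ = k₁ * ((f₁ * k₂ * f₁⁻¹) * (f₂ * k₁⁻¹ * f₂⁻¹)) * k₂⁻¹ := by rw [hcf.eq]; group
        _ = (f₁ * k₂ * f₁⁻¹) * ((f₂ * k₁⁻¹ * f₂⁻¹ * k₁) * k₂⁻¹) := by rw [hc2.eq]; group
        _ = f₁ * k₂ * f₁⁻¹ * k₂⁻¹ * (f₂ * k₁⁻¹ * f₂⁻¹ * k₁) := by rw [← hc1.eq]; group
    rw [key]
    refine mul_mem ?_ ?_
    · rw [commutator_comm]; exact commutator_mem_commutator hf₁ hk₂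
    · rw [commutator_comm]; exact commutator_mem_commutator hf₂ (K.inv_mem hk₁)
  refine le_bot_iff.1 fun x hx => ?_
  exact (CfsgLib.Solvable.inf_centralizer_inf_commutator F K hn hcop).le ⟨hx, hle (hd hx.1)⟩

theorem coprime_orderOf_of_isPi {π : Set ℕ} {X : Subgroup G} (hX : IsPi π X) {a : G}
    (ha : ∀ p : ℕ, p.Prime → p ∣ orderOf a → p ∉ π) : (Nat.card (zpowers a)).Coprime (Nat.card X) := by
  rw [Nat.card_zpowers]
  exact Nat.coprime_of_dvd fun p hp h1 h2 => ha p hp h1 (hX p hp h2)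

theorem inUniqueMaximal_eq {X L L' : Subgroup G} (h : InUniqueMaximal X) (hL : IsCoatom L)
    (hL' : IsCoatom L') (hX : X ≤ L) (hX' : X ≤ L') : L = L' := by
  obtain ⟨M, -, hM⟩ := h
  exact (hM L ⟨hL, hX⟩).trans (hM L' ⟨hL', hX'⟩).symm

variable (h : Pre G)
include h

/-- If `C(X) ≤ M` is the only maximal subgroup over it, then `N(X) ≤ M` and `M` is the only one. -/
theorem Pre.normalizer_le_of_unique {M X : Subgroup G} (hM : IsCoatom M) (hXM : X ≤ M) (hX1 : X ≠ ⊥)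
    (hu : ∀ L : Subgroup G, IsCoatom L → centralizer (X : Set G) ≤ L → L = M) :
    normalizer (X : Set G) ≤ M := by
  obtain ⟨L, hL, hN⟩ := h.exists_maximal_normalizer hM hXM hX1
  rwa [← hu L hL ((centralizer_le_normalizer _).trans hN)]

/-- `q ∈ σ(L₁) ∩ σ(L₂)`, `L₂` conjugate to `L₁`, `X ≤ L₁ ∩ L₂` a nontrivial `q`-subgroup with
`C(X) ≤ L₁`: then `L₂ = L₁`. -/
theorem Pre.eq_of_conj {L₁ L₂ X : Subgroup G} (hL₁ : IsCoatom L₁) {q : ℕ} [Fact q.Prime]
    (hq : q ∈ sigma L₁) (hXq : IsPGroup q X) (hX1 : X ≠ ⊥) (hX₁ : X ≤ L₁) (hX₂ : X ≤ L₂)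
    (hC : centralizer (X : Set G) ≤ L₁) {g : G} (hg : L₂ = MulAut.conj g • L₁) : L₂ = L₁ := by
  subst hg
  have hle : X.map (MulAut.conj g⁻¹).toMonoidHom ≤ L₁ := by
    rw [← conj_smul_eq_map]
    exact (conj_smul_mono g⁻¹ hX₂).trans (conj_smul_inv_self g L₁).le
  obtain ⟨m, hm, c, hc, e⟩ := (h.s1404 L₁ hL₁ q hq X hXq hX1 hX₁).1 g⁻¹ hle
  have hgL : g ∈ L₁ := by
    have h1 : g⁻¹ ∈ L₁ := e ▸ mul_mem hm (hC hc)
    simpa using inv_mem h1
  exact conj_smul_self_of_mem_normalizer (le_normalizer hgL)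

/-- If `a` of prime order acts on `S` without fixed points and every fixed point of prime order of
`a` on the subgroup `K` is centralised by `S`, then `S` centralises `K` (coprime action). -/
theorem Pre.centralizes_of_fixed {K S : Subgroup G} {a : G} (hK : Group.IsSolvable K)
    (ha : (orderOf a).Prime) (haS : a ∈ normalizer (S : Set G))
    (hn : S ⊔ zpowers a ≤ normalizer (K : Set G))
    (hcop : (Nat.card ↥(S ⊔ zpowers a)).Coprime (Nat.card K))
    (hfree : S ⊓ centralizer ({a} : Set G) = ⊥)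
    (hfix : ∀ x ∈ K, (orderOf x).Prime → a * x = x * a → ∀ u ∈ S, u * x = x * u) :
    S ≤ centralizer (K : Set G) := by
  refine le_centralizer_of_sylows fun s hs => ?_
  have : Fact s.Prime := ⟨hs⟩
  obtain ⟨T, hT, hTn, -⟩ := CfsgLib.PGroup.exists_invariant_hall_ge (A := S ⊔ zpowers a) hn hcop hK {s}
    (U := ⊥) bot_le (by intro x _; rw [normalizer_eq_top]; trivial)
    (isPi_singleton_of_isPGroup (p := s) IsPGroup.of_bot)
  refine ⟨T, hT, ?_⟩
  rcases eq_or_ne T ⊥ with rfl | hT1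
  · intro x _
    rw [mem_centralizer_iff]
    rintro y hy
    rw [mem_bot.1 hy]; simp
  have hTs : IsPGroup s T := isPGroup_of_isPi_singleton hT.2.1
  have hsT : s ∣ Nat.card T := hTs.card_eq_or_dvd.resolve_left fun e => hT1 (eq_bot_of_card_eq T e)
  have hsK : s ∣ Nat.card K := hsT.trans (card_dvd_of_le hT.1)
  refine commute_of_frobenius_fixed (s := s) (a := a) (h.ne_two hsK) hTs ha (fun e => ?_)
    (le_sup_left.trans hTn) (hTn (mem_sup_right (mem_zpowers a))) haS (fun u hu hua => ?_) ?_ ?_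
  · have h1 : s ∣ Nat.card ↥(S ⊔ zpowers a) :=
      ((dvd_of_eq e.symm).trans (dvd_of_eq (Nat.card_zpowers a).symm)).trans (card_dvd_of_le le_sup_right)
    exact hs.ne_one (Nat.eq_one_of_dvd_coprimes hcop h1 hsK)
  · have : u ∈ S ⊓ centralizer ({a} : Set G) := ⟨hu, mem_centralizer_singleton_iff.2 hua⟩
    rwa [hfree, mem_bot] at this
  · exact ((hcop.coprime_dvd_left (card_dvd_of_le le_sup_left)).coprime_dvd_right hsK)
  · intro x hx hxs hax u hu
    rcases eq_or_ne x 1 with rfl | hx1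
    · simp
    exact hfix x (hT.1 hx) (by rw [orderOf_eq_prime hxs hx1]; exact hs) hax u hu

/-- A complement of `M_σ` inside `N(S)` containing a given `σ'`-subgroup of it. -/
theorem Pre.exists_compl_normalizer {M S U : Subgroup G} (hM : IsCoatom M) {q : ℕ} [Fact q.Prime]
    (hS : IsPiHallOf {q} S (sigmaCore M)) (hU : U ≤ M ⊓ normalizer (S : Set G))
    (hUπ : IsPi {p | p ∉ sigma M} U) :
    ∃ E : Subgroup G, IsComplIn E (sigmaCore M) M ∧ U ≤ E ∧ E ≤ M ⊓ normalizer (S : Set G) := by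
  set B := M ⊓ normalizer (S : Set G) with hB
  obtain ⟨E, hE, hUE⟩ := exists_hallOf_ge (h.isSolvable_le hM (inf_le_left : B ≤ M)) hU hUπ
  refine ⟨E, isComplIn_of_hallOf (h.sigmaCore_hall hM) ?_ (le_normalizer_piCoreOf _ _)
    (π' := {p | p ∉ sigma M}) (fun p _ hp hp' => hp' hp) (fun p _ _ => em _), hUE, hE.1⟩
  refine CfsgLib.PGroup.isPiHallOf_trans hE inf_le_left fun r hr hrσ hd => hrσ ?_
  refine isPi_piCoreOf (sigma M) M r hr (hd.trans ?_)
  have hgen : M = sigmaCore M ⊔ B := le_antisymm (fun g hg => by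
    obtain ⟨a, ha, b, hb, rfl⟩ := frattini_hallOf (h.isSolvable_le hM (piCoreOf_le _ _))
      (piCoreOf_le _ _) (le_normalizer_piCoreOf _ _) hS hg
    exact mul_mem (mem_sup_left ha) (mem_sup_right hb)) (sup_le (piCoreOf_le _ _) inf_le_left)
  have e : B.relIndex M = B.relIndex (sigmaCore M) := by
    conv_lhs => arg 2; rw [hgen]
    exact CfsgLib.PGroup.relIndex_normalizing_sup (inf_le_left.trans (le_normalizer_piCoreOf _ _))
  rw [e]
  exact relIndex_dvd_card _ _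

/-- A Sylow subgroup of `E` for a prime outside `σ(M)` is one of `M`. -/
theorem Pre.compl_sylow {M E R : Subgroup G} (hM : IsCoatom M) (hE : IsComplIn E (sigmaCore M) M)
    {r : ℕ} [hr : Fact r.Prime] (hrσ : r ∉ sigma M) (hR : IsPiHallOf {r} R E) :
    IsPiHallOf {r} R M :=
  CfsgLib.PGroup.isPiHallOf_trans hR hE.1 fun s _ hs hd => by
    rw [Set.mem_singleton_iff.1 hs] at hd
    exact (h.compl_hall hM hE).2.2 r hr.out hrσ hd

/-- If `p ∈ τ₁(M)`, then every element of `E` is the product of one of `E'` and one centralising the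
`p`-subgroup `P` of `E`. -/
theorem Pre.exists_derived_mul {M E P : Subgroup G} (hM : IsCoatom M) (hEM : E ≤ M) {p : ℕ}
    [hp' : Fact p.Prime] (hp : ¬ p ∣ Nat.card ↥⁅M, M⁆) (hPE : P ≤ E) (hPp : IsPGroup p P) {e : G}
    (he : e ∈ E) : ∃ n ∈ ⁅E, E⁆, n * e ∈ centralizer (P : Set G) := by
  refine CfsgLib.Solvable.exists_mul_mem_centralizer P ⁅E, E⁆
    ((hPE.trans le_normalizer).trans ((le_inf le_rfl le_rfl).trans
      (CfsgLib.Solvable.normalizer_le_normalizer_commutator E E))) ?_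
    (Or.inr (h.isSolvable_le hM ((commutator_le_self E).trans hEM))) e
    fun a ha => commutator_mem_commutator (hPE ha) he
  obtain ⟨n, hn⟩ := IsPGroup.iff_card.1 hPp
  rw [hn]
  exact (hp'.out.coprime_iff_not_dvd.2 fun hd => hp (hd.trans
    (card_dvd_of_le (commutator_mono hEM hEM)))).pow_left n

end CfsgLib.OddLocal.Sec13
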