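import Cfsg.Agent.Lib.OddLocal.Sec13Action
import Cfsg.Agent.Lib.OddLocal.Sec13Tools
import Cfsg.Agent.Lib.OddLocal.Sec13Hyp2

/-!
BG Lemmas 13.5 and 13.6: the action of `τ₁`-subgroups on `M_σ` and the uniqueness of the maximal
subgroup over the centralizer of one of their fixed points.
-/

set_option autoImplicit false
set_option linter.unusedSectionVars false

open scoped Pointwise

namespace CfsgLib.OddLocal.Sec13

open Cfsg Subgroup
open scoped commutatorElement
open CfsgLib.Solvable (conj_smul_le_iff mem_conj_smul_iff card_conj_smul conj_smul_conj_smul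
  conj_smul_mono conj_smul_self_of_mem_normalizer conj_smul_eq_map)

universe u
variable {G : Type u} [Group G] [Finite G] (h : Pre' G)
include h

/-- An `r`-subgroup, `r ∈ τ₁ ∪ τ₃`, of `C_E(P)`, `P` of prime order for a prime in `τ₁`, centralizes
`C_{M_σ}(P)`. -/
theorem Pre'.tau13_le_centralizer_fixed {M E P R : Subgroup G} (hM : IsCoatom M)
    (hE : IsComplIn E (sigmaCore M) M) {p r : ℕ} [Fact r.Prime] (hp : p ∈ tau1 M) (hPE : P ≤ E)
    (hP : Nat.card P = p) (hr : IsTau13 M r) (hRE : R ≤ E) (hRP : R ≤ centralizer (P : Set G))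
    (hRr : IsPGroup r R) :
    R ≤ centralizer ((sigmaCore M ⊓ centralizer (P : Set G) : Subgroup G) : Set G) := by
  rcases eq_or_ne R ⊥ with rfl | hR1
  · exact bot_le
  obtain ⟨Y, hY, hYc⟩ := exists_order_prime_le (dvd_card_of_isPGroup hRr hR1)
  have hle := (h.s1428 M hM E hE p hp P hPE hP Y (le_inf (hY.trans hRE) (hY.trans hRP))
    (hYc.symm ▸ (Fact.out : r.Prime))).trans inf_le_right
  obtain ⟨y, hy1, -, rfl⟩ := exists_zpowers_of_card Fact.out hYc
  rw [le_centralizer_iff]
  intro x hx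
  exact h.toPre.prime_action hM hr (hRE.trans hE.1) hRr (hY (mem_zpowers y)) hy1
    ⟨hx.1, centralizer_zpowers y ▸ hle hx⟩

/-- 13.5: all nonidentity elements of a `τ₁`-subgroup of `E` have the same fixed points in `M_σ`. -/
theorem Pre'.tau1_prime_action {M E E₁ : Subgroup G} (hM : IsCoatom M)
    (hE : IsComplIn E (sigmaCore M) M) (hE₁ : E₁ ≤ E) (hπ : IsPi (tau1 M) E₁) {e : G} (he : e ∈ E₁)
    (he1 : e ≠ 1) :
    sigmaCore M ⊓ centralizer ({e} : Set G) ≤ centralizer (E₁ : Set G) := by
  obtain ⟨p, n, hp, hpd, hpo⟩ := exists_pow_prime_order he1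
  have : Fact p.Prime := ⟨hp⟩
  obtain ⟨F, hF, hle⟩ := exists_hallOf_ge (h.toPre.isSolvable_le hM hE.1) hE₁ hπ
  have hcyc : IsCyclic F := (h.s1415 M hM E hE).2.1 F hF
  have hpτ : p ∈ tau1 M := hπ p hp (hpd.trans (E₁.orderOf_dvd_natCard he))
  have hPc : Nat.card (zpowers (e ^ n)) = p := by rw [Nat.card_zpowers, hpo]
  intro x hx
  have hxP : x ∈ sigmaCore M ⊓ centralizer ((zpowers (e ^ n) : Subgroup G) : Set G) := by
    refine ⟨hx.1, ?_⟩
    show x ∈ centralizer ((zpowers (e ^ n) : Subgroup G) : Set G)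
    rw [centralizer_zpowers, mem_centralizer_singleton_iff]
    exact ((show Commute x e from mem_centralizer_singleton_iff.1 hx.2).pow_right n).eq
  suffices hle' : E₁ ≤ centralizer ((sigmaCore M ⊓ centralizer ((zpowers (e ^ n) : Subgroup G) : Set G)
      : Subgroup G) : Set G) from le_centralizer_iff.1 hle' hxP
  refine le_of_pSubgroups fun r hr hrd R hR hRr => ?_
  have : Fact r.Prime := ⟨hr⟩
  refine h.tau13_le_centralizer_fixed hM hE hpτ (zpowers_le.2 (hE₁ (pow_mem he n))) hPc
    (Or.inl (hπ r hr hrd)) (hR.trans hE₁) ?_ hRr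
  intro x hx
  rw [mem_centralizer_iff]
  intro y hy
  exact congrArg Subtype.val
    (hcyc.commutative.is_comm.comm (⟨y, hle (zpowers_le.2 (pow_mem he n) hy)⟩ : F) ⟨x, hle (hR hx)⟩)

/-- An element of prime order of `M_σ` centralised by a `τ₁`-element of prime order lies in `M_σ'`
unless its order is in `β(M)`. -/
theorem Pre'.fixed_le_derived {M P X : Subgroup G} (hM : IsCoatom M) {p q : ℕ} [hq' : Fact q.Prime]
    (hp : p ∈ tau1 M) (hPM : P ≤ M) (hP : Nat.card P = p) (hX : Nat.card X = q)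
    (hXle : X ≤ sigmaCore M ⊓ centralizer (P : Set G)) (hqβ : q ∉ beta M) :
    X ≤ ⁅sigmaCore M, sigmaCore M⁆ := by
  have : Fact p.Prime := ⟨hp.1⟩
  have hPp : IsPGroup p P := isPGroup_of_card hP
  have hXσ : X ≤ sigmaCore M := hXle.trans inf_le_left
  have hqσ : q ∈ sigma M := isPi_piCoreOf (sigma M) M q hq'.out
    ((dvd_of_eq hX.symm).trans (card_dvd_of_le hXσ))
  obtain ⟨S, hS, hPS, hXS⟩ := exists_invariant_sylowOf (A := P) (q := q)
    (hPM.trans (le_normalizer_piCoreOf (sigma M) M))
    (coprime_of_isPi (isPi_singleton_of_isPGroup hPp) (isPi_piCoreOf (sigma M) M)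
      fun r _ hr hr' => hp.2.1 (hr ▸ hr'))
    (h.toPre.isSolvable_le hM (piCoreOf_le _ _)) hXσ
    ((le_centralizer_iff.1 (hXle.trans inf_le_right)).trans (centralizer_le_normalizer _))
    (isPGroup_of_card hX)
  obtain ⟨E, hE, hPE, hEN⟩ := h.toPre.exists_compl_normalizer hM hS (le_inf hPM hPS)
    ((isPi_singleton_of_isPGroup hPp).mono (by rintro r rfl; exact hp.2.1))
  have hSM : S ≤ M := hS.1.trans (piCoreOf_le _ _)
  -- `E'` centralizes `S`
  have hE'S : ∀ r : ℕ, r.Prime → ∀ R : Subgroup G, R ≤ ⁅E, E⁆ → IsPGroup r R →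
      R ≤ centralizer (X : Set G) := by
    intro r hr R hR hRr
    have : Fact r.Prime := ⟨hr⟩
    rcases eq_or_ne R ⊥ with rfl | hR1
    · exact bot_le
    have hRE : R ≤ E := hR.trans (commutator_le_self E)
    have hrσ : r ∉ sigma M :=
      h.toPre.compl_isPi hM hE r hr ((dvd_card_of_isPGroup hRr hR1).trans (card_dvd_of_le hRE))
    refine (h.toPre.centralizes_of_le_derived hM (fun e => hrσ (by rw [e]; exact hqσ))
      (hR.trans (commutator_mono hE.1 hE.1)) hSM hRr (isPGroup_of_isPi_singleton hS.2.1)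
      ((hRE.trans hEN).trans inf_le_right) hqβ).trans (centralizer_anti hXS)
  have hXD : X ≤ sigmaCore M ⊓ centralizer (P : Set G) := hXle
  have hEX : E ≤ centralizer (X : Set G) := by
    intro e he
    obtain ⟨n, hn, hne⟩ := h.toPre.exists_derived_mul hM hE.1 hp.2.2.2.1 hPE hPp he
    have hn' : n ∈ centralizer (X : Set G) := le_of_pSubgroups (fun r hr _ R hR hRr => hE'S r hr R hR hRr) hn
    have hne' : n * e ∈ E ⊓ centralizer (P : Set G) :=
      ⟨E.mul_mem (commutator_le_self E hn) he, hne⟩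
    have hC : E ⊓ centralizer (P : Set G) ≤ centralizer (X : Set G) := by
      refine le_of_pSubgroups fun r hr hrd R hR hRr => ?_
      have : Fact r.Prime := ⟨hr⟩
      have hrE : r ∣ Nat.card E := hrd.trans (card_dvd_of_le inf_le_left)
      have hrσ : r ∉ sigma M := h.toPre.compl_isPi hM hE r hr hrE
      have h13 : IsTau13 M r := by
        rcases h.toPre.tau_cases hM hr (hrE.trans (card_dvd_of_le hE.1)) hrσ with h1 | h1 | h1
        · exact Or.inl h1
        · exfalso
          obtain ⟨T, hT⟩ := exists_sylowOf E r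
          obtain ⟨A, hAT, hA, hAc⟩ := h.toPre.exists_elementary_tau2 hM h1 (h.toPre.compl_sylow hM hE hrσ hT)
          have hAE : A ≤ E := hAT.trans hT.1
          obtain ⟨⟨hEA, -⟩, -, -⟩ := h.s1418 M hM E hE r h1 A ⟨hAE, hA, hAc⟩
          obtain ⟨-, -, -, hbot, -, -⟩ := h.s1417 M hM r h1 A ⟨hAE.trans hE.1, hA, hAc⟩
          refine ne_bot_of_card hq'.out hX (le_bot_iff.1 (hbot ▸ le_inf hXσ (le_centralizer_iff.1 ?_)))
          intro a ha
          have hpr : p ≠ r := fun e => h1.2.2.2 (e ▸ hp.2.2.2.2)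
          obtain ⟨m, hm, hma⟩ := CfsgLib.Solvable.exists_mul_mem_centralizer P (A ⊓ ⁅E, E⁆)
            (CfsgLib.Solvable.le_normalizer_inf (hPE.trans hEA) (hPE.trans (commutator_normal (M := E))))
            ((coprime_of_pGroups hPp (CfsgLib.PGroup.elemAb_isPGroup hA) hpr).coprime_dvd_right
              (card_dvd_of_le inf_le_left))
            (Or.inr (h.toPre.isSolvable_le hM ((inf_le_left.trans hAE).trans hE.1))) a fun x hx =>
            ⟨(by rw [commutatorElement_def]
                 exact A.mul_mem ((mem_normalizer_iff.1 (hEA (hPE hx)) a).1 ha) (A.inv_mem ha) : ⁅x, a⁆ ∈ A),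
              commutator_mem_commutator (hPE hx) (hAE ha)⟩
          have hm1 : m ∈ A := hm.1
          have hm2 : m ∈ centralizer (X : Set G) :=
            hE'S r hr (A ⊓ ⁅E, E⁆) inf_le_right ((CfsgLib.PGroup.elemAb_isPGroup hA).to_le inf_le_left) hm
          have hc : m * a ∈ centralizer (X : Set G) := by
            by_cases hc1 : m * a = 1
            · rw [hc1]; exact one_mem _
            have hord : Nat.card (zpowers (m * a)) = r := by
              rw [Nat.card_zpowers]
              exact orderOf_eq_prime (hA.2 _ (A.mul_mem hm1 ha)) hc1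
            have := (h.s1428 M hM E hE p hp P hPE hP (zpowers (m * a))
              (zpowers_le.2 ⟨hAE (A.mul_mem hm1 ha), hma⟩) (hord.symm ▸ hr))
            exact le_centralizer_iff.1 ((hXD.trans this).trans inf_le_right) (mem_zpowers _)
          simpa using mul_mem (inv_mem hm2) hc
        · exact Or.inr h1
      exact (h.tau13_le_centralizer_fixed hM hE hp hPE hP h13 (hR.trans inf_le_left)
        (hR.trans inf_le_right) hRr).trans (centralizer_anti hXD)
    simpa using mul_mem (inv_mem hn') (hC hne')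
  exact (le_inf hXσ (le_centralizer_iff.1 hEX)).trans (h.s1426 M hM E hE).1

/-- 13.6: if `X` of prime order is centralised in `M_σ` by a `τ₁`-element of prime order, then `M` is
the only maximal subgroup over `C(X)` and over each Sylow subgroup of `M_σ` for that prime. -/
theorem Pre'.unique_of_tau1_fixed {M P X : Subgroup G} (hM : IsCoatom M) {p q : ℕ} [hq' : Fact q.Prime]
    (hp : p ∈ tau1 M) (hPM : P ≤ M) (hP : Nat.card P = p) (hX : Nat.card X = q)
    (hXle : X ≤ sigmaCore M ⊓ centralizer (P : Set G)) :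
    (centralizer (X : Set G) ≤ M ∧
        ∀ L : Subgroup G, IsCoatom L → centralizer (X : Set G) ≤ L → L = M) ∧
      ∀ S : Subgroup G, IsPiHallOf {q} S (sigmaCore M) → InUniqueMaximal S := by
  have hXσ : X ≤ sigmaCore M := hXle.trans inf_le_left
  have hqσ : q ∈ sigma M := isPi_piCoreOf (sigma M) M q hq'.out
    ((dvd_of_eq hX.symm).trans (card_dvd_of_le hXσ))
  have hor : q ∈ beta M ∨ X ≤ ⁅sigmaCore M, sigmaCore M⁆ := by
    by_cases hb : q ∈ beta M
    · exact Or.inl hb
    · exact Or.inr (h.fixed_le_derived hM hp hPM hP hX hXle hb)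
  have key := fun T => h.s1423 M hM q hqσ X (hXσ.trans (piCoreOf_le _ _)) hX T hor
  refine ⟨(key default).1, fun S hS => ?_⟩
  obtain ⟨T, rfl⟩ := exists_sylow_of_hallOf hS
  exact (key T).2.1

end CfsgLib.OddLocal.Sec13
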