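import Cfsg.Agent.Lib.OddLocal.Sec13Partition

/-!
BG Theorem 13.10 (first part), Lemmas 13.12 and 13.13: the primes of `τ₂` never fuse with fixed points of
`τ₁ ∪ τ₃`.
-/

set_option autoImplicit false
set_option linter.unusedSectionVars false

open scoped Pointwise

namespace CfsgLib.OddLocal.Sec13

open Cfsg Subgroup
open scoped commutatorElement
open CfsgLib.Solvable (conj_smul_le_iff mem_conj_smul_iff card_conj_smul conj_smul_conj_smul
  conj_smul_mono conj_smul_self_of_mem_normalizer conj_smul_eq_map)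

universe u
variable {G : Type u} [Group G] [Finite G]

section Pre
variable (h : Pre G)
include h

/-- A plane inside a given complement, for a prime in `τ₂`. -/
theorem Pre.exists_plane_compl {M E : Subgroup G} (hM : IsCoatom M) (hE : IsComplIn E (sigmaCore M) M)
    {r : ℕ} [Fact r.Prime] (hr : r ∈ tau2 M) :
    ∃ A : Subgroup G, A ≤ E ∧ IsElementaryAbelian r A ∧ Nat.card A = r ^ 2 := by
  obtain ⟨T, hT⟩ := exists_sylowOf E r
  obtain ⟨A, hAT, hA, hAc⟩ := h.exists_elementary_tau2 hM hr (h.compl_sylow hM hE hr.2.1 hT)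
  exact ⟨A, hAT.trans hT.1, hA, hAc⟩

theorem Pre.not_rank_one_of_plane {M A : Subgroup G} {p : ℕ} [hp : Fact p.Prime] (hAM : A ≤ M)
    (hA : IsElementaryAbelian p A) (hAc : Nat.card A = p ^ 2) : ¬ PRankLE p 1 M := by
  intro hr
  have := CfsgLib.PGroup.pRankLE_subgroup_iff M |>.1 hr A hAM hA
  rw [hAc] at this
  exact absurd this (not_le.2 (Nat.pow_lt_pow_right hp.out.one_lt (by norm_num)))

end Pre

variable (h : Pre' G)
include h

/-- 13.13: if a `τ₁ ∪ τ₃`-element `P` of prime order `p` of `M` fixes a point of `M_σ`, then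
`p ∈ σ(H)` for every maximal `H ⊇ N(P)`. -/
theorem Pre'.tau13_mem_sigma {M P H : Subgroup G} (hM : IsCoatom M) {p : ℕ} [hp' : Fact p.Prime]
    (hp : IsTau13 M p) (hPM : P ≤ M) (hP : Nat.card P = p)
    (hD : sigmaCore M ⊓ centralizer (P : Set G) ≠ ⊥)
    (hH : IsCoatom H) (hNP : normalizer (P : Set G) ≤ H) : p ∈ sigma H := by
  have hPp : IsPGroup p P := isPGroup_of_card hP
  have hP1 : P ≠ ⊥ := ne_bot_of_card hp'.out hP
  obtain ⟨hne, hσ2⟩ := h.toPre.tau13_maximal hM hp hPp hP1 hH hNP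
  rcases hσ2 with hσ | hp2
  · exact hσ
  exfalso
  obtain ⟨q, Y, hq, hYD, hYc⟩ := exists_prime_subgroup hD
  have : Fact q.Prime := ⟨hq⟩
  have hYσ : Y ≤ sigmaCore M := hYD.trans inf_le_left
  have hqM : q ∈ sigma M :=
    isPi_piCoreOf (sigma M) M q hq ((dvd_of_eq hYc.symm).trans (card_dvd_of_le hYσ))
  have hYM : Y ≤ M := hYσ.trans (piCoreOf_le _ _)
  have hY1 : Y ≠ ⊥ := ne_bot_of_card hq hYc
  have hYq : IsPGroup q Y := isPGroup_of_card hYc
  have hYP : Y ≤ centralizer (P : Set G) := hYD.trans inf_le_right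
  have hPH : P ≤ H := le_normalizer.trans hNP
  have hYH : Y ≤ H := hYP.trans ((centralizer_le_normalizer _).trans hNP)
  have hqH : q ∉ sigma H := h.not_sigma_inter hM hH hne hqM
  have hpq : p ≠ q := fun e => hp.not_sigma (e ▸ hqM)
  obtain ⟨E, hE, hUE⟩ := h.toPre.exists_compl_ge hH (U := P ⊔ Y) (sup_le hPH hYH)
    (IsPi.sup (IsPi.mono (isPi_singleton_of_isPGroup hPp) (by rintro x rfl; exact hp2.2.1))
      (IsPi.mono (isPi_singleton_of_isPGroup hYq) (by rintro x rfl; exact hqH))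
      (hYP.trans (centralizer_le_normalizer _)))
  obtain ⟨A, hAE, hA, hAc⟩ := h.toPre.exists_plane_compl hH hE hp2
  obtain ⟨⟨hEA, hline⟩, ⟨-, -, hNA⟩, -⟩ := h.s1418 H hH E hE p hp2 A ⟨hAE, hA, hAc⟩
  have hPA : P ≤ A := hline P (le_sup_left.trans hUE) hP
  have hAH : A ≤ H := hAE.trans hE.1
  have hAM : ¬ A ≤ M := fun hle => h.toPre.not_rank_one_of_plane hle hA hAc hp.rank
  -- `Y` does not centralise `A`
  have hYA : ¬ A ≤ centralizer (Y : Set G) := by
    intro hAY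
    obtain ⟨L, hL, hNY⟩ := h.toPre.exists_maximal_normalizer hM hYM hY1
    have hAL : A ≤ L := hAY.trans ((centralizer_le_normalizer _).trans hNY)
    have hLM : L ≠ M := fun e => hAM (e ▸ hAL)
    obtain ⟨hnc, hcase, S, hS, -, hSM, hNS⟩ := h.toPre.two_maximal hM hL hqM hYq hY1 hYM hNY hLM
    rcases hcase with hqL | hqL
    · exact h.not_sigma_inter hM hL hnc hqM hqL
    by_cases hpσ : p ∈ sigma L
    · exact h.toPre.not_dvd_inter hM hL hLM hqL hS hSM hNS hp'.out hpσ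
        ((dvd_of_eq hP.symm).trans (card_dvd_of_le (le_inf hPM (hPA.trans hAL))))
    · obtain ⟨-, hE₀, -⟩ := h.toPre.two_maximal_tau2 hM hL hLM hqL hS hSM hNS
      obtain ⟨m, hm, hle⟩ := exists_conj_le_hallOf (h.toPre.isSolvable hL.1) (h.toPre.compl_hall hL hE₀) hAL
        (IsPi.mono (isPi_singleton_of_isPGroup (CfsgLib.PGroup.elemAb_isPGroup hA))
          (by rintro r rfl; exact hpσ))
      exact h.toPre.not_rank_one_of_plane (hle.trans inf_le_left) (isElementaryAbelian_conj hA m)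
        (by rw [card_conj_smul, hAc]) hp.rank
  -- `L = M(N(A))`
  obtain ⟨L, hL, hNL⟩ := h.toPre.exists_maximal_normalizer hH hAH
    (fun e => hP1 (le_bot_iff.1 (e ▸ hPA)))
  have hAL : A ≤ L := le_normalizer.trans hNL
  have hYL : Y ≤ L := ((le_sup_right.trans hUE).trans hEA).trans hNL
  have hpL : p ∈ sigma L := by
    by_contra hσ
    have hpd : p ∣ Nat.card L := (dvd_of_eq hP.symm).trans (card_dvd_of_le (hPA.trans hAL))
    rcases h.toPre.tau_cases hL hp'.out hpd hσ with h1 | h1 | h1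
    · exact h.toPre.not_rank_one_of_plane hAL hA hAc h1.2.2.2.2
    · obtain ⟨E₀, hE₀, hAE₀⟩ := h.toPre.exists_compl_ge hL hAL
        (IsPi.mono (isPi_singleton_of_isPGroup (CfsgLib.PGroup.elemAb_isPGroup hA))
          (by rintro r rfl; exact hσ))
      exact (h.s1418 L hL E₀ hE₀ p h1 A ⟨hAE₀, hA, hAc⟩).2.1.2.2 hNL
    · exact h.toPre.not_rank_one_of_plane hAL hA hAc h1.2.2.2
  have hLH : L ≠ H := fun e => hNA (e ▸ hNL)
  have hncM : ∀ g : G, L ≠ MulAut.conj g • M := fun g e => hp.not_sigma (by rwa [e, sigma_conj] at hpL)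
  have hqL : q ∉ sigma L := h.not_sigma_inter hM hL hncM hqM
  have hPLσ : P ≤ sigmaCore L ⊓ centralizer (Y : Set G) :=
    le_inf (h.toPre.le_sigmaCore hL (hPA.trans hAL)
      (IsPi.mono (isPi_singleton_of_isPGroup hPp) (by rintro r rfl; exact hpL)))
      (le_centralizer_iff.1 hYP)
  rcases h.toPre.tau_cases hL hq ((dvd_of_eq hYc.symm).trans (card_dvd_of_le hYL)) hqL with h1 | h1 | h1
  · -- `q ∈ τ₁(L)`
    have hu := (h.unique_of_tau1_fixed hL h1 hYL hYc hP hPLσ).1.2 H hH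
      ((centralizer_le_normalizer _).trans hNP)
    exact hLH hu.symm
  · -- `q ∈ τ₂(L)`
    obtain ⟨E₀, hE₀, hYE₀⟩ := h.toPre.exists_compl_ge hL hYL
      (IsPi.mono (isPi_singleton_of_isPGroup hYq) (by rintro r rfl; exact hqL))
    obtain ⟨A', hA'E, hA', hA'c⟩ := h.toPre.exists_plane_compl hL hE₀ h1
    obtain ⟨⟨-, hline'⟩, -, huni⟩ := h.s1418 L hL E₀ hE₀ q h1 A' ⟨hA'E, hA', hA'c⟩
    have hCY := huni Y (hline' Y hYE₀ hYc) hYc (fun e => hP1 (le_bot_iff.1 (e ▸ hPLσ)))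
    have hNY := h.toPre.normalizer_le_of_unique hL hYL hY1 hCY.2
    have hLM : L ≠ M := fun e => hncM 1 (by rw [map_one, one_smul, e])
    obtain ⟨-, -, S, hS, -, hSM, hNS⟩ := h.toPre.two_maximal hM hL hqM hYq hY1 hYM hNY hLM
    obtain ⟨hbot, -, -⟩ := h.toPre.two_maximal_tau2 hM hL hLM h1 hS hSM hNS
    exact hP1 (le_bot_iff.1 (hbot ▸ le_inf (hPLσ.trans inf_le_left) hPM))
  · -- `q ∈ τ₃(L)`
    refine hYA (le_centralizer_iff.1 (h.toPre.centralizes_of_le_derived hL hpq.symm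
      (h.toPre.tau3_le_commutator hL h1 hYL hYq) hAL hYq (CfsgLib.PGroup.elemAb_isPGroup hA)
      ((le_sup_right.trans hUE).trans hEA) fun hb => ?_))
    exact (h.s1408 H hH p hp2.2.1 hp2.2.2.1 hp2.2.2.2).1 hb.2

/-- 13.12: if `q ∈ τ₁(H)`, `p ∈ τ₂(H)` and `Y`, `P` of these orders commute, then `C_{H_σ}(Y) = 1`. -/
theorem Pre'.tau1_tau2_fixed {H Y P : Subgroup G} (hH : IsCoatom H) {q p : ℕ} [hq' : Fact q.Prime]
    [hp' : Fact p.Prime] (hq : q ∈ tau1 H) (hp : p ∈ tau2 H) (hYH : Y ≤ H) (hY : Nat.card Y = q)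
    (hPH : P ≤ H) (hP : Nat.card P = p) (hYP : Y ≤ centralizer (P : Set G)) :
    sigmaCore H ⊓ centralizer (Y : Set G) = ⊥ := by
  by_contra hD
  have hYq : IsPGroup q Y := isPGroup_of_card hY
  have hPp : IsPGroup p P := isPGroup_of_card hP
  have hY1 : Y ≠ ⊥ := ne_bot_of_card hq'.out hY
  have hP1 : P ≠ ⊥ := ne_bot_of_card hp'.out hP
  have hPY : P ≤ centralizer (Y : Set G) := le_centralizer_iff.1 hYP
  obtain ⟨E, hE, hUE⟩ := h.toPre.exists_compl_ge hH (U := Y ⊔ P) (sup_le hYH hPH)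
    (IsPi.sup (IsPi.mono (isPi_singleton_of_isPGroup hYq) (by rintro x rfl; exact hq.2.1))
      (IsPi.mono (isPi_singleton_of_isPGroup hPp) (by rintro x rfl; exact hp.2.1))
      (hPY.trans (centralizer_le_normalizer _)))
  have hDP : sigmaCore H ⊓ centralizer (Y : Set G) ≤ sigmaCore H ⊓ centralizer (P : Set G) :=
    h.s1428 H hH E hE q hq Y (le_sup_left.trans hUE) hY P (le_inf (le_sup_right.trans hUE) hPY)
      (hP.symm ▸ hp'.out)
  obtain ⟨A, hAE, hA, hAc⟩ := h.toPre.exists_plane_compl hH hE hp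
  obtain ⟨⟨-, hline⟩, -, huni⟩ := h.s1418 H hH E hE p hp A ⟨hAE, hA, hAc⟩
  have hCP := huni P (hline P (le_sup_right.trans hUE) hP) hP (fun e => hD (le_bot_iff.1 (e ▸ hDP)))
  have hNP := h.toPre.normalizer_le_of_unique hH hPH hP1 hCP.2
  obtain ⟨L, hL, hNY⟩ := h.toPre.exists_maximal_normalizer hH hYH hY1
  have hqL := h.tau13_mem_sigma hH (Or.inl hq) hYH hY hD hL hNY
  have hne := (h.toPre.tau13_maximal hH (Or.inl hq) hYq hY1 hL hNY).1
  have hLH : L ≠ H := fun e => hne 1 (by rw [map_one, one_smul, e])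
  have hPL : P ≤ L := hPY.trans ((centralizer_le_normalizer _).trans hNY)
  have hDL : sigmaCore H ⊓ centralizer (Y : Set G) ≤ sigmaCore H ⊓ L :=
    le_inf inf_le_left (inf_le_right.trans ((centralizer_le_normalizer _).trans hNY))
  by_cases hpσ : p ∈ sigma L
  · obtain ⟨-, -, S, hS, -, hSM, hNS⟩ := h.toPre.two_maximal hL hH hpσ hPp hP1 hPL hNP hLH.symm
    obtain ⟨hbot, -, -⟩ := h.toPre.two_maximal_tau2 hL hH hLH.symm hp hS hSM hNS
    exact hD (le_bot_iff.1 (hbot ▸ hDL))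
  rcases h.toPre.tau_cases hL hp'.out ((dvd_of_eq hP.symm).trans (card_dvd_of_le hPL)) hpσ with h1 | h1 | h1
  · refine hp.2.1 (h.tau13_mem_sigma hL (Or.inl h1) hPL hP ?_ hH hNP)
    intro e
    exact hY1 (le_bot_iff.1 (e ▸ le_inf (h.toPre.le_sigmaCore hL (le_normalizer.trans hNY)
      (IsPi.mono (isPi_singleton_of_isPGroup hYq) (by rintro x rfl; exact hqL))) hYP))
  · obtain ⟨E₀, hE₀, hPE₀⟩ := h.toPre.exists_compl_ge hL hPL
      (IsPi.mono (isPi_singleton_of_isPGroup hPp) (by rintro r rfl; exact hpσ))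
    obtain ⟨A', hA'E, hA', hA'c⟩ := h.toPre.exists_plane_compl hL hE₀ h1
    obtain ⟨⟨-, hline'⟩, -, -⟩ := h.s1418 L hL E₀ hE₀ p h1 A' ⟨hA'E, hA', hA'c⟩
    have hPA' := hline' P hPE₀ hP
    have hA'H : A' ≤ H := by
      refine le_trans ?_ hCP.1
      intro a ha
      exact mem_centralizer_iff.2 fun x hx => congrArg Subtype.val (hA'.1.is_comm.comm (⟨x, hPA' hx⟩ : A') ⟨a, ha⟩)
    obtain ⟨-, -, -, -, he, -⟩ := h.s1417 H hH p hp A' ⟨hA'H, hA', hA'c⟩
    exact hD (le_bot_iff.1 (he L hL hLH (hA'E.trans hE₀.1) ▸ hDL))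
  · refine hp.2.1 (h.tau13_mem_sigma hL (Or.inr h1) hPL hP ?_ hH hNP)
    intro e
    exact hY1 (le_bot_iff.1 (e ▸ le_inf (h.toPre.le_sigmaCore hL (le_normalizer.trans hNY)
      (IsPi.mono (isPi_singleton_of_isPGroup hYq) (by rintro x rfl; exact hqL))) hYP))

/-- A `τ₃`-element `P` of prime order fixing a point of `M_σ`: `E ≤ N(P)`, `τ₂(M) = ∅`, and every
`τ₃`-subgroup of `E` centralizes `C_{M_σ}(P)`. -/
theorem Pre'.tau3_fixed {M E P H : Subgroup G} (hM : IsCoatom M) (hE : IsComplIn E (sigmaCore M) M)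
    {p : ℕ} [hp' : Fact p.Prime] (hp : p ∈ tau3 M) (hPE : P ≤ E) (hP : Nat.card P = p)
    (hD : sigmaCore M ⊓ centralizer (P : Set G) ≠ ⊥) (hH : IsCoatom H)
    (hNP : normalizer (P : Set G) ≤ H) :
    E ≤ H ∧ (∀ r, r ∉ tau2 M) ∧
      ∀ U : Subgroup G, U ≤ E → IsPi (tau3 M) U →
        U ≤ centralizer ((sigmaCore M ⊓ centralizer (P : Set G) : Subgroup G) : Set G) := by
  have hPp : IsPGroup p P := isPGroup_of_card hP
  have hP1 : P ≠ ⊥ := ne_bot_of_card hp'.out hP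
  obtain ⟨hne, -⟩ := h.toPre.tau13_maximal hM (Or.inr hp) hPp hP1 hH hNP
  have hDeq := h.toPre.tau13_inter_eq hM (Or.inr hp) hPp hP1 (hPE.trans hE.1) hH hNP
  obtain ⟨E₃, hE₃, hPE₃⟩ := exists_hallOf_ge (h.toPre.isSolvable_le hM hE.1) hPE
    (IsPi.mono (isPi_singleton_of_isPGroup hPp) (π' := tau3 M) (by rintro x rfl; exact hp))
  obtain ⟨hcyc, hE₃d, hE₃n⟩ := (h.s1415 M hM E hE).2.2 E₃ hE₃
  have hEH : E ≤ H := le_trans (fun e he => CfsgLib.Solvable.mem_normalizer_iff_conj_smul.2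
    (eq_of_cyclic_card hcyc ((conj_smul_mono e hPE₃).trans
      (conj_smul_self_of_mem_normalizer (hE₃n he)).le) hPE₃ (card_conj_smul e P))) hNP
  refine ⟨hEH, fun r hr => ?_, fun U hUE hU => ?_⟩
  · have : Fact r.Prime := ⟨hr.1⟩
    obtain ⟨A, hAE, hA, hAc⟩ := h.toPre.exists_plane_compl hM hE hr
    obtain ⟨-, -, -, -, he, -⟩ := h.s1417 M hM r hr A ⟨hAE.trans hE.1, hA, hAc⟩
    exact hD (hDeq ▸ he H hH (fun e => hne 1 (by rw [map_one, one_smul, e])) (hAE.trans hEH))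
  · rw [← hDeq]
    refine le_of_pSubgroups fun r hr hrd R hR hRr => ?_
    have : Fact r.Prime := ⟨hr⟩
    have hr3 : r ∈ tau3 M := hU r hr hrd
    rcases eq_or_ne R ⊥ with rfl | hR1
    · exact bot_le
    refine h.toPre.centralizes_inter hM hH hne hr3.2.1 (fun h1 => h1.2.2.2.1 ?_)
      (le_inf ((hR.trans hUE).trans hE.1) ((hR.trans hUE).trans hEH)) hRr
    have hRE₃ : R ≤ E₃ := le_of_normal_hallOf hE₃ hE₃n (hR.trans hUE)
      (IsPi.mono (isPi_singleton_of_isPGroup hRr) (by rintro x rfl; exact hr3))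
    exact (dvd_card_of_isPGroup hRr hR1).trans (card_dvd_of_le (hRE₃.trans (hE₃d.trans (commutator_mono hEH hEH))))

end CfsgLib.OddLocal.Sec13
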