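import Cfsg.Agent.Lib.OddLocal.Sec13Regular

/-!
BG Theorem 13.10 (second part): when a `τ₃`-element of prime order fixes a point of `M_σ`, all
nonidentity elements of `E` have the same fixed points there.
-/

set_option autoImplicit false
set_option linter.unusedSectionVars false

open scoped Pointwise

namespace CfsgLib.OddLocal.Sec13

open Cfsg Subgroup
open scoped commutatorElement
open CfsgLib.Solvable (conj_smul_le_iff mem_conj_smul_iff card_conj_smul conj_smul_conj_smul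
  conj_smul_mono conj_smul_self_of_mem_normalizer conj_smul_eq_map)

universe u
variable {G : Type u} [Group G] [Finite G]

theorem dvd_card_of_hallOf {π : Set ℕ} {M H : Subgroup G} {p : ℕ} (hH : IsPiHallOf π H M) (hp : p.Prime)
    (hpπ : p ∈ π) (hd : p ∣ Nat.card M) : p ∣ Nat.card H := by
  have e : Nat.card H * H.relIndex M = Nat.card M := by
    rw [← relIndex_bot_left, ← relIndex_bot_left M, relIndex_mul_relIndex ⊥ _ M bot_le hH.1]
  rw [← e] at hd
  exact (hp.dvd_mul.1 hd).resolve_right (hH.2.2 p hp hpπ)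

section Pre
variable (h : Pre G)
include h

/-- The structure of `E` when `τ₂(M) = ∅`. -/
theorem Pre.compl_structure {M E : Subgroup G} (hM : IsCoatom M) (hE : IsComplIn E (sigmaCore M) M)
    (h2 : ∀ r, r ∉ tau2 M) :
    ∃ E₃ E₁ : Subgroup G, IsPiHallOf (tau3 M) E₃ E ∧ IsPiHallOf (tau1 M) E₁ E ∧ IsCyclic E₃ ∧
      IsCyclic E₁ ∧ E ≤ normalizer (E₃ : Set G) ∧ E ≤ E₃ ⊔ E₁ ∧ E₃ ⊓ centralizer (E₁ : Set G) = ⊥ := by
  have hsol := h.isSolvable_le hM hE.1
  obtain ⟨E₃, hE₃⟩ := CfsgLib.PGroup.exists_isPiHallOf (tau3 M) E hsol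
  obtain ⟨E₁, hE₁⟩ := CfsgLib.PGroup.exists_isPiHallOf (tau1 M) E hsol
  obtain ⟨-, hc1, h3⟩ := h.s1415 M hM E hE
  obtain ⟨hc3, hd, hn⟩ := h3 E₃ hE₃
  have hgen : E ≤ E₃ ⊔ E₁ := by
    refine relIndex_eq_one.1 ?_
    by_contra hne
    obtain ⟨r, hr, hdr⟩ := Nat.exists_prime_and_dvd hne
    have hrE : r ∣ Nat.card E := hdr.trans (relIndex_dvd_card _ _)
    rcases h.tau_cases hM hr (hrE.trans (card_dvd_of_le hE.1)) (h.compl_isPi hM hE r hr hrE) with h1 | h1 | h1
    · exact hE₁.2.2 r hr h1 (hdr.trans (relIndex_dvd_of_le_left E le_sup_right))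
    · exact h2 r h1
    · exact hE₃.2.2 r hr h1 (hdr.trans (relIndex_dvd_of_le_left E le_sup_left))
  refine ⟨E₃, E₁, hE₃, hE₁, hc3, hc1 E₁ hE₁, hn, hgen, ?_⟩
  haveI := hc3.isMulCommutative
  haveI := (hc1 E₁ hE₁).isMulCommutative
  refine inf_centralizer_eq_bot_of_le_derived (hE₁.1.trans hn)
    (coprime_of_isPi hE₁.2.1 hE₃.2.1 fun r _ h1 h3' => h1.2.2.2.1 h3'.2.2.1) ?_
  rw [le_antisymm (sup_le hE₃.1 hE₁.1) hgen]
  exact hd

/-- An element of prime order outside `σ(M)` of `C_M(A)`, `A ≤ E`, gives one of `C_E(A)`. -/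
theorem Pre.exists_compl_element {M E A : Subgroup G} (hM : IsCoatom M)
    (hE : IsComplIn E (sigmaCore M) M) (hAE : A ≤ E) {t : ℕ} (ht : t.Prime) (htσ : t ∉ sigma M)
    {z : G} (hzM : z ∈ M) (hzt : orderOf z = t) (hzA : z ∈ centralizer (A : Set G)) :
    ∃ z' ∈ E, orderOf z' = t ∧ z' ∈ centralizer (A : Set G) := by
  obtain ⟨e, he, s, hs, rfl⟩ := hE.2.2.2 z hzM
  have hn : E ≤ normalizer (sigmaCore M : Set G) := hE.1.trans (le_normalizer_piCoreOf _ _)
  have hse : e * s = (e * s * e⁻¹) * e := by group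
  rw [hse] at hzA hzt
  obtain ⟨k', hk', b', hb', e'⟩ := exists_centralizer_mul (A := A) (hAE.trans hn)
    (hAE.trans le_normalizer)
    (coprime_of_isPi (IsPi.of_le (h.compl_isPi hM hE) hAE) (isPi_piCoreOf (sigma M) M)
      fun r _ h1 h2 => h1 h2)
    (Or.inr (h.isSolvable_le hM (piCoreOf_le _ _))) ((mem_normalizer_iff.1 (hn he) s).1 hs) he hzA
  rw [e'] at hzt
  have hb'E : b' ∈ E := hb'.1
  have hdvd : t ∣ orderOf b' := dvd_orderOf_of_mul ht hk'.1 (hn hb'E) hzt fun hd =>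
    htσ (isPi_piCoreOf (sigma M) M t ht hd)
  exact ⟨b' ^ (orderOf b' / t), pow_mem hb'E _,
    orderOf_pow_orderOf_div (orderOf_pos b').ne' hdvd, pow_mem hb'.2 _⟩

end Pre

variable (h : Pre' G)
include h

/-- A fixed point `X` of a `τ₁`-element `R` of `M`, seen in `L ⊇ N(R)`. -/
theorem Pre'.fixed_point_tau13 {M L R X : Subgroup G} (hM : IsCoatom M) {r ℓ : ℕ} [hr' : Fact r.Prime]
    [hℓ' : Fact ℓ.Prime] (hr : r ∈ tau1 M) (hRM : R ≤ M) (hR : Nat.card R = r) (hX : Nat.card X = ℓ)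
    (hXle : X ≤ sigmaCore M ⊓ centralizer (R : Set G)) (hL : IsCoatom L)
    (hNR : normalizer (R : Set G) ≤ L) :
    IsTau13 L ℓ ∧ normalizer (X : Set G) ≤ M := by
  have hR1 : R ≠ ⊥ := ne_bot_of_card hr'.out hR
  have hX1 : X ≠ ⊥ := ne_bot_of_card hℓ'.out hX
  have hXM : X ≤ M := (hXle.trans inf_le_left).trans (piCoreOf_le _ _)
  have hu := (h.unique_of_tau1_fixed hM hr hRM hR hX hXle).1
  refine ⟨?_, h.toPre.normalizer_le_of_unique hM hXM hX1 hu.2⟩
  have hne := (h.toPre.tau13_maximal hM (Or.inl hr) (isPGroup_of_card hR) hR1 hL hNR).1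
  have hrL := h.tau13_mem_sigma hM (Or.inl hr) hRM hR
    (fun e => hX1 (le_bot_iff.1 (e ▸ hXle))) hL hNR
  have hℓM : ℓ ∈ sigma M := isPi_piCoreOf (sigma M) M ℓ hℓ'.out
    ((dvd_of_eq hX.symm).trans (card_dvd_of_le (hXle.trans inf_le_left)))
  have hℓL : ℓ ∉ sigma L := h.not_sigma_inter hM hL hne hℓM
  have hXR : X ≤ centralizer (R : Set G) := hXle.trans inf_le_right
  have hXL : X ≤ L := hXR.trans ((centralizer_le_normalizer _).trans hNR)
  rcases h.toPre.tau_cases hL hℓ'.out ((dvd_of_eq hX.symm).trans (card_dvd_of_le hXL)) hℓL with h1 | h1 | h1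
  · exact Or.inl h1
  · exfalso
    obtain ⟨E₀, hE₀, hXE₀⟩ := h.toPre.exists_compl_ge hL hXL
      (IsPi.mono (isPi_singleton_of_isPGroup (isPGroup_of_card hX)) (by rintro x rfl; exact hℓL))
    obtain ⟨A, hAE, hA, hAc⟩ := h.toPre.exists_plane_compl hL hE₀ h1
    obtain ⟨⟨-, hline⟩, -, huni⟩ := h.s1418 L hL E₀ hE₀ ℓ h1 A ⟨hAE, hA, hAc⟩
    have hCX := huni X (hline X hXE₀ hX) hX fun e => hR1 (le_bot_iff.1 (e ▸ le_inf
      (h.toPre.le_sigmaCore hL (le_normalizer.trans hNR)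
        (IsPi.mono (isPi_singleton_of_isPGroup (isPGroup_of_card hR)) (by rintro x rfl; exact hrL)))
      (le_centralizer_iff.1 hXR)))
    exact hne 1 (by rw [map_one, one_smul]; exact hu.2 L hL hCX.1)
  · exact Or.inr h1

/-- 13.10, the key step: `E₁` centralizes `D = C_{M_σ}(P)` and has a prime in `σ(H)`. -/
theorem Pre'.tau3_key {M E P H E₃ E₁ : Subgroup G} (hM : IsCoatom M)
    (hE : IsComplIn E (sigmaCore M) M) {p : ℕ} [hp' : Fact p.Prime] (hp : p ∈ tau3 M) (hPE : P ≤ E)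
    (hP : Nat.card P = p) (hD : sigmaCore M ⊓ centralizer (P : Set G) ≠ ⊥) (hH : IsCoatom H)
    (hNP : normalizer (P : Set G) ≤ H) (hE₃ : IsPiHallOf (tau3 M) E₃ E)
    (hE₁ : IsPiHallOf (tau1 M) E₁ E) (hE₃c : IsCyclic E₃) (hE₃n : E ≤ normalizer (E₃ : Set G))
    (hgen : E ≤ E₃ ⊔ E₁) (hfree : E₃ ⊓ centralizer (E₁ : Set G) = ⊥) :
    E₁ ≤ centralizer ((sigmaCore M ⊓ centralizer (P : Set G) : Subgroup G) : Set G) ∧
      ∃ r : ℕ, r.Prime ∧ r ∣ Nat.card E₁ ∧ r ∈ sigma H := by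
  set D := sigmaCore M ⊓ centralizer (P : Set G) with hDdef
  have hPp : IsPGroup p P := isPGroup_of_card hP
  have hP1 : P ≠ ⊥ := ne_bot_of_card hp'.out hP
  obtain ⟨hne, -⟩ := h.toPre.tau13_maximal hM (Or.inr hp) hPp hP1 hH hNP
  have hpH : p ∈ sigma H := h.tau13_mem_sigma hM (Or.inr hp) (hPE.trans hE.1) hP hD hH hNP
  have hDeq : sigmaCore M ⊓ H = D := h.toPre.tau13_inter_eq hM (Or.inr hp) hPp hP1 (hPE.trans hE.1) hH hNP
  obtain ⟨hEH, -, hE₃D⟩ := h.tau3_fixed hM hE hp hPE hP hD hH hNP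
  have hE₁E : E₁ ≤ E := hE₁.1
  have hE₁M : E₁ ≤ M := hE₁E.trans hE.1
  have hE₁H : E₁ ≤ H := hE₁E.trans hEH
  have hPH : P ≤ H := le_normalizer.trans hNP
  have hPE₃ : P ≤ E₃ := le_of_normal_hallOf hE₃ hE₃n hPE
    (IsPi.mono (isPi_singleton_of_isPGroup hPp) (by rintro x rfl; exact hp))
  -- a prime of `E₁` outside `τ₁(H)` forces `E₁` to centralize `D`
  have hcent : ∀ r : ℕ, r.Prime → r ∣ Nat.card E₁ → r ∉ tau1 H → E₁ ≤ centralizer (D : Set G) := by
    intro r hr hrd hrH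
    have : Fact r.Prime := ⟨hr⟩
    have hr1 : r ∈ tau1 M := hE₁.2.1 r hr hrd
    obtain ⟨R, hR, hRc⟩ := exists_order_prime_le hrd
    have hRD : R ≤ centralizer (D : Set G) := by
      rw [← hDeq]
      exact h.toPre.centralizes_inter hM hH hne hr1.2.1 hrH (le_inf (hR.trans hE₁M) (hR.trans hE₁H))
        (isPGroup_of_card hRc)
    obtain ⟨x, hx1, -, rfl⟩ := exists_zpowers_of_card hr hRc
    rw [le_centralizer_iff]
    intro y hy
    exact h.tau1_prime_action hM hE hE₁E hE₁.2.1 (hR (mem_zpowers x)) hx1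
      ⟨hy.1, mem_centralizer_singleton_iff.2 (mem_centralizer_iff.1 (hRD (mem_zpowers x)) y hy)⟩
  by_cases hA : ∃ r : ℕ, r.Prime ∧ r ∣ Nat.card E₁ ∧ r ∈ sigma H
  · obtain ⟨r, hr, hrd, hrσ⟩ := hA
    exact ⟨hcent r hr hrd fun h1 => h1.2.1 hrσ, r, hr, hrd, hrσ⟩
  exfalso
  push Not at hA
  have hE₁σ : IsPi {x | x ∉ sigma H} E₁ := fun r hr hd => hA r hr hd
  have hqH : ∀ q : ℕ, q.Prime → q ∣ Nat.card D → q ∉ sigma H := fun q hq hd =>
    h.not_sigma_inter hM hH hne (isPi_piCoreOf (sigma M) M q hq (hd.trans (card_dvd_of_le inf_le_left)))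
  have hDH : D ≤ H := hDeq ▸ inf_le_right
  have hE₁D : E₁ ≤ normalizer (D : Set G) := hDeq ▸ h.toPre.inter_le_normalizer (le_inf hE₁M hE₁H)
  have hPσH : P ≤ sigmaCore H := h.toPre.le_sigmaCore hH hPH
    (IsPi.mono (isPi_singleton_of_isPGroup hPp) (by rintro x rfl; exact hpH))
  have hfix : ∀ Y : Subgroup G, Y ≤ D → P ≤ sigmaCore H ⊓ centralizer (Y : Set G) := fun Y hY =>
    le_inf hPσH (le_centralizer_iff.1 (hY.trans inf_le_right))
  -- the primes of `D` are in `τ₃(H)`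
  have hDτ : IsPi (tau3 H) D := by
    intro q hq hqd
    have : Fact q.Prime := ⟨hq⟩
    obtain ⟨Y, hY, hYc⟩ := exists_order_prime_le hqd
    have hYH : Y ≤ H := hY.trans hDH
    rcases h.toPre.tau_cases hH hq (hqd.trans (card_dvd_of_le hDH)) (hqH q hq hqd) with h1 | h1 | h1
    · exfalso
      obtain ⟨Dq, hDq, hE₁q, -⟩ := exists_invariant_sylowOf (A := E₁) (q := q) hE₁D
        (coprime_of_isPi hE₁.2.1 (IsPi.of_le (isPi_piCoreOf (sigma M) M) (inf_le_left : D ≤ sigmaCore M))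
          fun r _ h1 h2 => h1.2.1 h2)
        (h.toPre.isSolvable_le hH hDH) bot_le (by intro x _; rw [normalizer_eq_top]; trivial) IsPGroup.of_bot
      have hc : ⁅Dq, E₁⁆ = ⊥ := by
        refine eq_bot_of_isPi (IsPi.of_le hDq.2.1 (CfsgLib.Solvable.commutator_le_of_le_normalizer hE₁q))
          fun x hx hxq hd => h1.2.2.2.1 ?_
        rw [Set.mem_singleton_iff.1 hxq] at hd
        exact hd.trans (card_dvd_of_le (commutator_mono (hDq.1.trans hDH) hE₁H))
      obtain ⟨Y', hY', hY'c⟩ := exists_order_prime_le (dvd_card_sylowOf hDq hqd)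
      have hY'C : E₁ ≤ centralizer (Y' : Set G) :=
        (le_centralizer_iff.1 (commutator_eq_bot_iff_le_centralizer.1 hc)).trans (centralizer_anti hY')
      obtain ⟨F, hF, hUF⟩ := h.toPre.exists_compl_ge hH (U := Y' ⊔ E₁)
        (sup_le (hY'.trans (hDq.1.trans hDH)) hE₁H)
        (IsPi.sup (IsPi.mono (isPi_singleton_of_isPGroup (isPGroup_of_card hY'c))
          (by rintro x rfl; exact hqH x hq hqd)) hE₁σ (hY'C.trans (centralizer_le_normalizer _)))
      refine hP1 (le_bot_iff.1 (hfree ▸ le_inf hPE₃ (le_centralizer_iff.1 ?_)))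
      refine le_of_pSubgroups fun r hr hrd R hR hRr => ?_
      have : Fact r.Prime := ⟨hr⟩
      rcases eq_or_ne R ⊥ with rfl | hR1
      · exact bot_le
      have hRH : R ≤ H := hR.trans hE₁H
      rcases h.toPre.tau_cases hH hr (hrd.trans (card_dvd_of_le hE₁H)) (hA r hr hrd) with h2 | h2 | h2
      · exact (h.tau13_le_centralizer_fixed hH hF h1 (le_sup_left.trans hUF) hY'c (Or.inl h2)
          (hR.trans (le_sup_right.trans hUF)) (hR.trans hY'C) hRr).trans
          (centralizer_anti (hfix Y' (hY'.trans hDq.1)))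
      · exfalso
        obtain ⟨R₁, hR₁, hR₁c⟩ := exists_order_prime_le (dvd_card_of_isPGroup hRr hR1)
        refine hP1 (le_bot_iff.1 ((hfix Y' (hY'.trans hDq.1)).trans (le_of_eq ?_)))
        exact h.tau1_tau2_fixed hH h1 h2 (hY'.trans (hDq.1.trans hDH)) hY'c (hR₁.trans hRH) hR₁c
          (le_centralizer_iff.1 ((hR₁.trans hR).trans hY'C))
      · exact (h.tau13_le_centralizer_fixed hH hF h1 (le_sup_left.trans hUF) hY'c (Or.inr h2)
          (hR.trans (le_sup_right.trans hUF)) (hR.trans hY'C) hRr).trans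
          (centralizer_anti (hfix Y' (hY'.trans hDq.1)))
    · exfalso
      obtain ⟨F, hF, hYF⟩ := h.toPre.exists_compl_ge hH hYH
        (IsPi.mono (isPi_singleton_of_isPGroup (isPGroup_of_card hYc)) (by rintro x rfl; exact hqH x hq hqd))
      obtain ⟨A, hAF, hA', hAc⟩ := h.toPre.exists_plane_compl hH hF h1
      obtain ⟨⟨-, hline⟩, -, huni⟩ := h.s1418 H hH F hF q h1 A ⟨hAF, hA', hAc⟩
      have hCY := huni Y (hline Y hYF hYc) hYc fun e => hP1 (le_bot_iff.1 (e ▸ hfix Y hY))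
      have hY1 : Y ≠ ⊥ := ne_bot_of_card hq hYc
      have hNY := h.toPre.normalizer_le_of_unique hH hYH hY1 hCY.2
      have hqM : q ∈ sigma M := isPi_piCoreOf (sigma M) M q hq (hqd.trans (card_dvd_of_le inf_le_left))
      have hHM : H ≠ M := fun e => hne 1 (by rw [map_one, one_smul, e])
      obtain ⟨-, -, S, hS, -, hSM, hNS⟩ := h.toPre.two_maximal hM hH hqM (isPGroup_of_card hYc) hY1
        ((hY.trans inf_le_left).trans (piCoreOf_le _ _)) hNY hHM
      obtain ⟨hbot, -, -⟩ := h.toPre.two_maximal_tau2 hM hH hHM h1 hS hSM hNS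
      exact hP1 (le_bot_iff.1 (hbot ▸ le_inf hPσH (hPE.trans hE.1)))
    · exact h1
  -- a complement of `H_σ`
  obtain ⟨F, hF, hUF⟩ := h.toPre.exists_compl_ge hH (U := D ⊔ E₁) (sup_le hDH hE₁H)
    (IsPi.sup (fun q hq hd => hqH q hq hd) hE₁σ hE₁D)
  obtain ⟨q, Y, hq, hY, hYc⟩ := exists_prime_subgroup hD
  have : Fact q.Prime := ⟨hq⟩
  have hY1 : Y ≠ ⊥ := ne_bot_of_card hq hYc
  have hqd : q ∣ Nat.card D := (dvd_of_eq hYc.symm).trans (card_dvd_of_le hY)
  have hqM : q ∈ sigma M := isPi_piCoreOf (sigma M) M q hq (hqd.trans (card_dvd_of_le inf_le_left))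
  have hYF : Y ≤ F := hY.trans (le_sup_left.trans hUF)
  have hYM : Y ≤ M := (hY.trans inf_le_left).trans (piCoreOf_le _ _)
  obtain ⟨L, hL, hNY⟩ := h.toPre.exists_maximal_normalizer hM hYM hY1
  have hDY : sigmaCore H ⊓ centralizer (Y : Set G) ≠ ⊥ := fun e => hP1 (le_bot_iff.1 (e ▸ hfix Y hY))
  have hqL := h.tau13_mem_sigma hH (Or.inr (hDτ q hq hqd)) (hY.trans hDH) hYc hDY hL hNY
  obtain ⟨hFL, hF2, -⟩ := h.tau3_fixed hH hF (hDτ q hq hqd) hYF hYc hDY hL hNY
  have hLM : M = L := h.eq_of_mem_sigma hL hM hqL hqM (isPGroup_of_card hYc) hY1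
    (le_normalizer.trans hNY) hYM ((centralizer_le_normalizer _).trans hNY)
  have hFM : F ≤ M := hLM ▸ hFL
  have hCYM : centralizer (Y : Set G) ≤ M := hLM ▸ (centralizer_le_normalizer _).trans hNY
  obtain ⟨F₃, F₁, hF₃, hF₁, hF₃c, -, hF₃n, -, hFfree⟩ := h.toPre.compl_structure hH hF hF2
  have hDF₃ : D ≤ F₃ := le_of_normal_hallOf hF₃ hF₃n (le_sup_left.trans hUF) hDτ
  haveI := hF₃c.isMulCommutative
  have hDfree : D ⊓ centralizer (E₁ : Set G) = ⊥ := by
    refine le_bot_iff.1 fun x hx => hFfree.le ⟨hDF₃ hx.1, ?_⟩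
    show x ∈ centralizer _
    rw [mem_centralizer_iff]
    intro g hg
    obtain ⟨e, he, s, hs, rfl⟩ := hE.2.2.2 g (hFM (hF₁.1 hg))
    have hsD : s ∈ D := by
      rw [← hDeq]
      refine ⟨hs, ?_⟩
      have := H.mul_mem (H.inv_mem (hEH he)) (hF.1 (hF₁.1 hg))
      simpa using this
    have hex : e ∈ centralizer ({x} : Set G) := by
      refine (hgen.trans (sup_le ?_ ?_)) he
      · exact (hE₃D E₃ hE₃.1 hE₃.2.1).trans (centralizer_singleton_of_mem hx.1)
      · exact (le_centralizer_iff.1 (zpowers_le.2 hx.2)).trans (centralizer_singleton_of_mem (mem_zpowers x))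
    have hsx : Commute s x :=
      congrArg Subtype.val ((inferInstance : IsMulCommutative F₃).is_comm.comm
        (⟨s, hDF₃ hsD⟩ : F₃) ⟨x, hDF₃ hx.1⟩)
    exact ((show Commute e x from mem_centralizer_singleton_iff.1 hex).mul_left hsx).eq
  have hτ1 : IsPi (tau1 H) E₁ := fun r hr hd => by
    by_contra h1
    exact hD (le_bot_iff.1 (hDfree ▸ le_inf le_rfl (le_centralizer_iff.1 (hcent r hr hd h1))))
  have hE₁1 : E₁ ≠ ⊥ := by
    intro e
    refine hP1 (le_bot_iff.1 (hfree ▸ le_inf hPE₃ ?_))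
    rw [e]
    intro x _
    rw [mem_centralizer_iff]
    rintro y hy
    rw [mem_bot.1 hy]; simp
  obtain ⟨r, R, hr, hR, hRc⟩ := exists_prime_subgroup hE₁1
  have : Fact r.Prime := ⟨hr⟩
  obtain ⟨a, ha1, hao, rfl⟩ := exists_zpowers_of_card hr hRc
  have ha : a ∈ E₁ := hR (mem_zpowers a)
  have haP : P ⊓ centralizer ({a} : Set G) = ⊥ := le_bot_iff.1 fun x hx => hfree.le
    ⟨hPE₃ hx.1, h.tau1_prime_action hH hF (le_sup_right.trans hUF) hτ1 ha ha1 ⟨hPσH hx.1, hx.2⟩⟩
  have haD : D ⊓ centralizer ({a} : Set G) = ⊥ := le_bot_iff.1 fun x hx => hDfree.le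
    ⟨hx.1, h.tau1_prime_action hM hE hE₁E hE₁.2.1 ha ha1 ⟨(inf_le_left : D ≤ sigmaCore M) hx.1, hx.2⟩⟩
  have haσ : r ∉ sigma M := (hE₁.2.1 r hr ((dvd_of_eq hRc.symm).trans (card_dvd_of_le hR))).2.1
  have haH : r ∉ sigma H := hA r hr ((dvd_of_eq hRc.symm).trans (card_dvd_of_le hR))
  have hPn : E ≤ normalizer (P : Set G) := fun e he =>
    CfsgLib.Solvable.mem_normalizer_iff_conj_smul.2 (eq_of_cyclic_card hE₃c
      ((conj_smul_mono e hPE₃).trans (conj_smul_self_of_mem_normalizer (hE₃n he)).le) hPE₃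
      (card_conj_smul e P))
  -- fixed points of `a` in `M_σ` and in `H_σ`
  obtain ⟨w, hw, hwp, hwa⟩ : ∃ w ∈ sigmaCore M, (orderOf w).Prime ∧ w ∈ centralizer ({a} : Set G) := by
    by_contra hno
    push Not at hno
    have hc := h.toPre.centralizes_of_fixed (K := sigmaCore M) (S := P) (a := a)
      (h.toPre.isSolvable_le hM (piCoreOf_le _ _)) (hao.symm ▸ hr) (hPn (hE₁E ha))
      ((sup_le (hPE.trans hE.1) (zpowers_le.2 (hE₁M ha))).trans (le_normalizer_piCoreOf (sigma M) M))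
      (coprime_of_isPi (IsPi.of_le (h.toPre.compl_isPi hM hE) (sup_le hPE (zpowers_le.2 (hE₁E ha))))
        (isPi_piCoreOf (sigma M) M) fun x _ h1 h2 => h1 h2) haP
      fun x hx hxp hax => absurd (mem_centralizer_singleton_iff.2 hax.symm) (hno x hx hxp)
    have hMH : M ≤ H := by
      intro m hm
      obtain ⟨e, he, s, hs, rfl⟩ := hE.2.2.2 m hm
      exact mul_mem (hEH he) (hNP (centralizer_le_normalizer _ ((le_centralizer_iff.1 hc) hs)))
    rcases hM.le_iff.1 hMH with e | e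
    · exact hH.1 e
    · exact hne 1 (by rw [map_one, one_smul]; exact e)
  obtain ⟨z, hz, hzp, hza⟩ : ∃ z ∈ sigmaCore H, (orderOf z).Prime ∧ z ∈ centralizer ({a} : Set G) := by
    by_contra hno
    push Not at hno
    have hc := h.toPre.centralizes_of_fixed (K := sigmaCore H) (S := D) (a := a)
      (h.toPre.isSolvable_le hH (piCoreOf_le _ _)) (hao.symm ▸ hr) (hE₁D ha)
      ((sup_le hDH (zpowers_le.2 (hE₁H ha))).trans (le_normalizer_piCoreOf (sigma H) H))
      (coprime_of_isPi (IsPi.of_le (h.toPre.compl_isPi hH hF)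
          (sup_le (le_sup_left.trans hUF) (zpowers_le.2 (hUF (mem_sup_right ha)))))
        (isPi_piCoreOf (sigma H) H) fun x _ h1 h2 => h1 h2) haD
      fun x hx hxp hax => absurd (mem_centralizer_singleton_iff.2 hax.symm) (hno x hx hxp)
    have hHM : H ≤ M := by
      intro g hg
      obtain ⟨e, he, s, hs, rfl⟩ := hF.2.2.2 g hg
      exact mul_mem (hFM he) (hCYM (centralizer_anti hY ((le_centralizer_iff.1 hc) hs)))
    rcases hH.le_iff.1 hHM with e | e
    · exact hM.1 e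
    · exact hne 1 (by rw [map_one, one_smul]; exact e.symm)
  have : Fact (orderOf w).Prime := ⟨hwp⟩
  have : Fact (orderOf z).Prime := ⟨hzp⟩
  have hwR : zpowers w ≤ centralizer ((zpowers a : Subgroup G) : Set G) := by
    rw [centralizer_zpowers]; exact zpowers_le.2 hwa
  have hzR : zpowers z ≤ centralizer ((zpowers a : Subgroup G) : Set G) := by
    rw [centralizer_zpowers]; exact zpowers_le.2 hza
  have hrM : r ∈ tau1 M := hE₁.2.1 r hr ((dvd_of_eq hRc.symm).trans (card_dvd_of_le hR))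
  have hrH : r ∈ tau1 H := hτ1 r hr ((dvd_of_eq hRc.symm).trans (card_dvd_of_le hR))
  obtain ⟨L', hL', hNa⟩ := h.toPre.exists_maximal_normalizer hM (zpowers_le.2 (hE₁M ha))
    (ne_bot_of_card hr hRc)
  obtain ⟨hwL, hNw⟩ := h.fixed_point_tau13 hM hrM (zpowers_le.2 (hE₁M ha)) hRc (Nat.card_zpowers w)
    (le_inf (zpowers_le.2 hw) hwR) hL' hNa
  obtain ⟨hzL, hNz⟩ := h.fixed_point_tau13 hH hrH (zpowers_le.2 (hE₁H ha)) hRc (Nat.card_zpowers z)
    (le_inf (zpowers_le.2 hz) hzR) hL' hNa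
  have hCa : centralizer ((zpowers a : Subgroup G) : Set G) ≤ L' :=
    (centralizer_le_normalizer _).trans hNa
  obtain ⟨c, hc, hcases⟩ := h.toPre.exists_conj_normalizes hL' hCa hwL hzL (Nat.card_zpowers w)
    (Nat.card_zpowers z) hwR hzR
  have htH : orderOf z ∈ sigma H := isPi_piCoreOf (sigma H) H _ hzp ((sigmaCore H).orderOf_dvd_natCard hz)
  have hsM : orderOf w ∈ sigma M := isPi_piCoreOf (sigma M) M _ hwp ((sigmaCore M).orderOf_dvd_natCard hw)
  rcases hcases with h1 | h1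
  · have hmem : c * z * c⁻¹ ∈ MulAut.conj c • zpowers z :=
      conj_smul_le_iff.1 le_rfl z (mem_zpowers z)
    have hzC : z ∈ centralizer ((zpowers a : Subgroup G) : Set G) := hzR (mem_zpowers z)
    obtain ⟨z₁, hz₁E, hz₁o, hz₁C⟩ := h.toPre.exists_compl_element hM hE (zpowers_le.2 (hE₁E ha)) hzp
      (h.not_sigma_inter hH hM (ne_conj_symm hne) htH) (hNw (h1 hmem))
      (by exact (MulAut.conj c).orderOf_eq z) (mul_mem (mul_mem hc hzC) (inv_mem hc))
    have hz₁1 : z₁ ≠ 1 := fun e => hzp.ne_one (by rw [← hz₁o, e, orderOf_one])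
    have hz₁σ : z₁ ∈ sigmaCore H := h.toPre.le_sigmaCore hH (zpowers_le.2 (hEH hz₁E))
      (IsPi.mono (isPi_singleton_of_isPGroup
        (isPGroup_of_card (p := orderOf z) (by rw [Nat.card_zpowers, hz₁o])))
        (by rintro x rfl; exact htH)) (mem_zpowers z₁)
    have hz₁E₁ : z₁ ∈ centralizer (E₁ : Set G) := h.tau1_prime_action hH hF (le_sup_right.trans hUF) hτ1
      ha ha1 ⟨hz₁σ, centralizer_singleton_of_mem (mem_zpowers a) hz₁C⟩
    have htd : orderOf z ∣ Nat.card E := hz₁o ▸ E.orderOf_dvd_natCard hz₁E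
    rcases h.toPre.tau_cases hM hzp (htd.trans (card_dvd_of_le hE.1))
      (h.toPre.compl_isPi hM hE _ hzp htd) with h2 | h2 | h2
    · exact hA _ hzp (dvd_card_of_hallOf hE₁ hzp h2 htd) htH
    · exact (h.tau3_fixed hM hE hp hPE hP hD hH hNP).2.1 _ h2
    · have hle : zpowers z₁ ≤ E₃ := le_of_normal_hallOf hE₃ hE₃n (zpowers_le.2 hz₁E)
        (IsPi.mono (isPi_singleton_of_isPGroup
          (isPGroup_of_card (p := orderOf z) (by rw [Nat.card_zpowers, hz₁o])))
          (by rintro x rfl; exact h2))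
      exact hz₁1 (mem_bot.1 (hfree.le ⟨hle (mem_zpowers z₁), hz₁E₁⟩))
  · have hmem : c⁻¹ * w * c ∈ normalizer ((zpowers z : Subgroup G) : Set G) := by
      have := h1 (mem_zpowers w)
      rw [conj_smul_normalizer, mem_conj_smul_iff] at this
      exact this
    have hwC : w ∈ centralizer ((zpowers a : Subgroup G) : Set G) := hwR (mem_zpowers w)
    have hwo : orderOf (c⁻¹ * w * c) = orderOf w := by
      have := (MulAut.conj c⁻¹).orderOf_eq w
      rwa [MulAut.conj_apply, inv_inv] at this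
    obtain ⟨w₁, hw₁F, hw₁o, hw₁C⟩ := h.toPre.exists_compl_element hH hF
      (zpowers_le.2 (hUF (mem_sup_right ha))) hwp
      (h.not_sigma_inter hM hH hne hsM) (hNz hmem) hwo (mul_mem (mul_mem (inv_mem hc) hwC) hc)
    have hw₁σ : w₁ ∈ sigmaCore M := h.toPre.le_sigmaCore hM (zpowers_le.2 (hFM hw₁F))
      (IsPi.mono (isPi_singleton_of_isPGroup
        (isPGroup_of_card (p := orderOf w) (by rw [Nat.card_zpowers, hw₁o])))
        (by rintro x rfl; exact hsM)) (mem_zpowers w₁)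
    have : w₁ ∈ D ⊓ centralizer ({a} : Set G) :=
      ⟨hDeq.le ⟨hw₁σ, hF.1 hw₁F⟩, centralizer_singleton_of_mem (mem_zpowers a) hw₁C⟩
    rw [haD, mem_bot] at this
    exact hwp.ne_one (by rw [← hw₁o, this, orderOf_one])

/-- 13.10: a `τ₃`-element of prime order fixing a point of `M_σ`. -/
theorem Pre'.tau3_structure {M E P : Subgroup G} (hM : IsCoatom M) (hE : IsComplIn E (sigmaCore M) M)
    {p : ℕ} [hp' : Fact p.Prime] (hp : p ∈ tau3 M) (hPE : P ≤ E) (hP : Nat.card P = p)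
    (hD : sigmaCore M ⊓ centralizer (P : Set G) ≠ ⊥) :
    (∀ r, r ∉ tau2 M) ∧
      E ≤ centralizer ((sigmaCore M ⊓ centralizer (P : Set G) : Subgroup G) : Set G) ∧
      (∀ e ∈ E, e ≠ 1 → sigmaCore M ⊓ centralizer ({e} : Set G) ≤ centralizer (E : Set G)) ∧
      (∀ X : Subgroup G, X ≤ E → (Nat.card X).Prime → E ≤ normalizer (X : Set G)) ∧
      ∃ e ∈ E, (orderOf e).Prime ∧ orderOf e ∈ tau1 M := by
  have hPM : P ≤ M := hPE.trans hE.1
  have hP1 : P ≠ ⊥ := ne_bot_of_card hp'.out hP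
  obtain ⟨H, hH, hNP⟩ := h.toPre.exists_maximal_normalizer hM hPM hP1
  obtain ⟨hne, -⟩ := h.toPre.tau13_maximal hM (Or.inr hp) (isPGroup_of_card hP) hP1 hH hNP
  have hDeq := h.toPre.tau13_inter_eq hM (Or.inr hp) (isPGroup_of_card hP) hP1 hPM hH hNP
  obtain ⟨hEH, h2, hE₃D⟩ := h.tau3_fixed hM hE hp hPE hP hD hH hNP
  obtain ⟨E₃, E₁, hE₃, hE₁, hE₃c, hE₁c, hE₃n, hgen, hfree⟩ := h.toPre.compl_structure hM hE h2
  obtain ⟨hE₁D, r, hr, hrd, hrσ⟩ :=
    h.tau3_key hM hE hp hPE hP hD hH hNP hE₃ hE₁ hE₃c hE₃n hgen hfree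
  set D := sigmaCore M ⊓ centralizer (P : Set G) with hDdef
  have hED : E ≤ centralizer (D : Set G) := hgen.trans (sup_le (hE₃D E₃ hE₃.1 hE₃.2.1) hE₁D)
  have : Fact r.Prime := ⟨hr⟩
  have hr1 : r ∈ tau1 M := hE₁.2.1 r hr hrd
  obtain ⟨a₀, hao⟩ := exists_prime_orderOf_dvd_card' r hrd
  have haE₁ : (a₀ : G) ∈ E₁ := a₀.2
  have hao' : orderOf (a₀ : G) = r := by rw [Subgroup.orderOf_coe, hao]
  set a : G := (a₀ : G)
  have ha1 : a ≠ 1 := fun e => hr.ne_one (by rw [← hao', e, orderOf_one])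
  -- fixed points of elements of `E₁` lie in `D`
  have hW : ∀ e ∈ E₁, e ≠ 1 → sigmaCore M ⊓ centralizer ({e} : Set G) ≤ D := by
    intro e he he1
    rw [← hDeq]
    refine le_inf inf_le_left fun x hx => ?_
    have hxa : x ∈ centralizer ((zpowers a : Subgroup G) : Set G) := by
      rw [centralizer_zpowers]
      exact centralizer_singleton_of_mem haE₁ (h.tau1_prime_action hM hE hE₁.1 hE₁.2.1 he he1 hx)
    have hac : Nat.card (zpowers a) = r := by rw [Nat.card_zpowers, hao']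
    have hDa : D ≤ sigmaCore M ⊓ centralizer ((zpowers a : Subgroup G) : Set G) :=
      le_inf inf_le_left (le_centralizer_iff.1 ((zpowers_le.2 haE₁).trans hE₁D))
    have haM : zpowers a ≤ M := zpowers_le.2 (hE.1 (hE₁.1 haE₁))
    obtain ⟨L, hL, hNa⟩ := h.toPre.exists_maximal_normalizer hM haM (ne_bot_of_card hr hac)
    have hrL := h.tau13_mem_sigma hM (Or.inl hr1) haM hac (fun e => hD (le_bot_iff.1 (e ▸ hDa))) hL hNa
    have hLH : H = L := h.eq_of_mem_sigma hL hH hrL hrσ (isPGroup_of_card hac) (ne_bot_of_card hr hac)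
      (le_normalizer.trans hNa) (zpowers_le.2 (hEH (hE₁.1 haE₁))) ((centralizer_le_normalizer _).trans hNa)
    exact hLH ▸ hNa (centralizer_le_normalizer _ hxa)
  have hfixE : ∀ f ∈ E, (orderOf f).Prime → sigmaCore M ⊓ centralizer ({f} : Set G) ≤ D := by
    intro f hf hfp
    have : Fact (orderOf f).Prime := ⟨hfp⟩
    have hfc : Nat.card (zpowers f) = orderOf f := Nat.card_zpowers f
    have hfd : orderOf f ∣ Nat.card E := E.orderOf_dvd_natCard hf
    rcases h.toPre.tau_cases hM hfp (hfd.trans (card_dvd_of_le hE.1))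
      (h.toPre.compl_isPi hM hE _ hfp hfd) with h1 | h1 | h1
    · obtain ⟨m, hm, hle⟩ := exists_conj_le_hallOf (h.toPre.isSolvable_le hM hE.1) hE₁ (zpowers_le.2 hf)
        (IsPi.mono (isPi_singleton_of_isPGroup (isPGroup_of_card hfc)) (by rintro x rfl; exact h1))
      have hf' : m * f * m⁻¹ ∈ E₁ := hle (conj_smul_le_iff.1 le_rfl f (mem_zpowers f))
      have hf'1 : m * f * m⁻¹ ≠ 1 := by
        rw [Ne, conj_eq_one_iff]
        exact fun e => hfp.ne_one (by rw [e, orderOf_one])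
      intro x hx
      have hxσ : x ∈ sigmaCore M := hx.1
      have hxf : x * f = f * x := mem_centralizer_singleton_iff.1 hx.2
      have hy : m * x * m⁻¹ ∈ D := by
        refine hW _ hf' hf'1 ⟨(mem_normalizer_iff.1 (le_normalizer_piCoreOf (sigma M) M (hE.1 hm)) x).1 hxσ, ?_⟩
        refine mem_centralizer_singleton_iff.2 ?_
        calc m * x * m⁻¹ * (m * f * m⁻¹) = m * (x * f) * m⁻¹ := by group
          _ = m * f * m⁻¹ * (m * x * m⁻¹) := by rw [hxf]; group
      have hcm : (m * x * m⁻¹) * m = m * (m * x * m⁻¹) := mem_centralizer_iff.1 (hED hm) _ hy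
      have e : m * x * m⁻¹ = x := by
        have h3 : m * x = m * (m * x * m⁻¹) := by rw [← hcm]; group
        exact (mul_left_cancel h3).symm
      rwa [e] at hy
    · exact absurd h1 (h2 _)
    · intro x hx
      have hxf : x ∈ sigmaCore M ⊓ centralizer ((zpowers f : Subgroup G) : Set G) := by
        refine ⟨hx.1, ?_⟩
        show x ∈ centralizer _; rw [centralizer_zpowers]; exact hx.2
      rcases eq_or_ne x 1 with rfl | hx1
      · exact one_mem _
      have hne0 : sigmaCore M ⊓ centralizer ((zpowers f : Subgroup G) : Set G) ≠ ⊥ :=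
        fun e => hx1 (mem_bot.1 (e.le hxf))
      obtain ⟨L, hL, hNf⟩ := h.toPre.exists_maximal_normalizer hM (zpowers_le.2 (hE.1 hf))
        (zpowers_ne_bot.2 fun e => hfp.ne_one (by rw [e, orderOf_one]))
      have hPc := (h.tau3_fixed hM hE h1 (zpowers_le.2 hf) hfc hne0 hL hNf).2.2 P hPE
        (IsPi.mono (isPi_singleton_of_isPGroup (isPGroup_of_card hP)) (by rintro y rfl; exact hp))
      exact ⟨hx.1, le_centralizer_iff.1 hPc hxf⟩
  have hfix : ∀ e ∈ E, e ≠ 1 → sigmaCore M ⊓ centralizer ({e} : Set G) ≤ centralizer (E : Set G) := by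
    intro e he he1 x hx
    obtain ⟨s, n, hs, -, hso⟩ := exists_pow_prime_order he1
    refine le_centralizer_iff.1 hED (hfixE (e ^ n) (pow_mem he n) (hso.symm ▸ hs) ⟨hx.1, ?_⟩)
    refine mem_centralizer_singleton_iff.2 ?_
    exact ((show Commute x e from mem_centralizer_singleton_iff.1 hx.2).pow_right n).eq
  refine ⟨h2, hED, hfix, fun X hX hXp => ?_, a, hE₁.1 haE₁, hao'.symm ▸ hr, hao'.symm ▸ hr1⟩
  -- elements of prime order of `E₁` centralise `E₃`
  have hcen : ∀ b ∈ E₁, (orderOf b).Prime → E₃ ≤ centralizer ({b} : Set G) := by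
    intro b hb hbp
    refine le_of_pSubgroups fun s hs hsd R hR hRs => ?_
    have : Fact s.Prime := ⟨hs⟩
    have hRE : R ≤ E := hR.trans hE₃.1
    have hs3 : s ∈ tau3 M := hE₃.2.1 s hs hsd
    have hbR : b ∈ normalizer (R : Set G) := CfsgLib.Solvable.mem_normalizer_iff_conj_smul.2
      (eq_of_cyclic_card hE₃c ((conj_smul_mono b hR).trans
        (conj_smul_self_of_mem_normalizer (hE₃n (hE₁.1 hb))).le) hR (card_conj_smul b R))
    have hbs : orderOf b ≠ s := fun e =>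
      (hE₁.2.1 _ hbp (E₁.orderOf_dvd_natCard hb)).2.2.2.1 (e.symm ▸ hs3.2.2.1)
    have hω : ∀ x ∈ R, x ^ s = 1 → b * x = x * b := by
      intro x hx hxs
      by_contra hbx
      have hx1 : x ≠ 1 := fun e => hbx (by rw [e, mul_one, one_mul])
      have hxc : Nat.card (zpowers x) = s := by rw [Nat.card_zpowers, orderOf_eq_prime hxs hx1]
      have hxn : b ∈ normalizer ((zpowers x : Subgroup G) : Set G) :=
        CfsgLib.Solvable.mem_normalizer_iff_conj_smul.2 (eq_of_cyclic_card hE₃c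
          ((conj_smul_mono b (zpowers_le.2 (hR hx))).trans
            (conj_smul_self_of_mem_normalizer (hE₃n (hE₁.1 hb))).le) (zpowers_le.2 (hR hx))
          (card_conj_smul b _))
      have hc := h.toPre.centralizes_of_fixed (K := sigmaCore M) (S := zpowers x) (a := b)
        (h.toPre.isSolvable_le hM (piCoreOf_le _ _)) hbp hxn
        ((sup_le (zpowers_le.2 (hE.1 (hRE hx))) (zpowers_le.2 (hE.1 (hE₁.1 hb)))).trans
          (le_normalizer_piCoreOf (sigma M) M))
        (coprime_of_isPi (IsPi.of_le (h.toPre.compl_isPi hM hE)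
            (sup_le (zpowers_le.2 (hRE hx)) (zpowers_le.2 (hE₁.1 hb))))
          (isPi_piCoreOf (sigma M) M) fun y _ h1 h2' => h1 h2') ?_
        (fun y hy _ hby u hu => ?_)
      · have hMσ : sigmaCore M ≤ centralizer (E : Set G) :=
          (le_inf le_rfl ((le_centralizer_iff.1 hc).trans (centralizer_zpowers x).le)).trans
            (hfix x (hRE hx) hx1)
        have hMH : M ≤ H := by
          intro m hm
          obtain ⟨e, he, y, hy, rfl⟩ := hE.2.2.2 m hm
          exact mul_mem (hEH he) (hNP (centralizer_le_normalizer _ (centralizer_anti hPE (hMσ hy))))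
        rcases hM.le_iff.1 hMH with e | e
        · exact hH.1 e
        · exact hne 1 (by rw [map_one, one_smul]; exact e)
      · refine le_bot_iff.1 fun y hy => mem_bot.2 ?_
        by_contra hy1
        refine hbx ?_
        have hz : zpowers y = zpowers x := zpowers_card hs hxc hy.1 hy1
        obtain ⟨i, hi⟩ := mem_zpowers_iff.1 (hz.ge (mem_zpowers x))
        rw [← hi]
        exact ((show Commute b y from (mem_centralizer_singleton_iff.1 hy.2).symm).zpow_right i).eq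
      · exact mem_centralizer_iff.1 (hfix b (hE₁.1 hb) (fun e => hbp.ne_one (by rw [e, orderOf_one]))
          ⟨hy, mem_centralizer_singleton_iff.2 hby.symm⟩) u (zpowers_le.2 (hRE hx) hu)
    rcases eq_or_ne R ⊥ with rfl | hR1
    · exact bot_le
    intro x hx
    have hcop : (orderOf (conjOn R ⟨b, hbR⟩)).Coprime s := by
      refine Nat.Coprime.coprime_dvd_left (orderOf_map_dvd (conjOn R) _) ?_
      rw [← Subgroup.orderOf_coe]
      exact (Nat.coprime_primes hbp hs).2 hbs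
    have h1 := CfsgLib.Transfer.aut_eq_one_of_fix_omega
      (h.toPre.ne_two (dvd_card_of_isPGroup hRs hR1)) hRs (conjOn R ⟨b, hbR⟩) hcop fun w hw => by
        refine Subtype.ext ?_
        rw [conjOn_apply]
        exact mul_inv_eq_iff_eq_mul.2 (hω w w.2 (congrArg Subtype.val hw))
    have h3 := congrArg Subtype.val (DFunLike.congr_fun h1 (⟨x, hx⟩ : R))
    rw [conjOn_apply] at h3
    exact mem_centralizer_singleton_iff.2 (mul_inv_eq_iff_eq_mul.1 h3).symm
  obtain ⟨x, hx1, hxo, rfl⟩ := exists_zpowers_of_card hXp rfl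
  have hxE : x ∈ E := hX (mem_zpowers x)
  rw [← hxo] at hXp
  have hd : orderOf x ∣ Nat.card E := E.orderOf_dvd_natCard hxE
  have : Fact (orderOf x).Prime := ⟨hXp⟩
  rcases h.toPre.tau_cases hM hXp (hd.trans (card_dvd_of_le hE.1))
    (h.toPre.compl_isPi hM hE _ hXp hd) with h1 | h1 | h1
  · obtain ⟨m, hm, hle⟩ := exists_conj_le_hallOf (h.toPre.isSolvable_le hM hE.1) hE₁ (zpowers_le.2 hxE)
      (IsPi.mono (isPi_singleton_of_isPGroup (isPGroup_of_card (Nat.card_zpowers x)))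
        (by rintro y rfl; exact h1))
    set b := m * x * m⁻¹ with hb
    have hbE₁ : b ∈ E₁ := hle (conj_smul_le_iff.1 le_rfl x (mem_zpowers x))
    have hbo : orderOf b = orderOf x := (MulAut.conj m).orderOf_eq x
    have hEb : E ≤ centralizer ({b} : Set G) := by
      refine hgen.trans (sup_le (hcen b hbE₁ (hbo.symm ▸ hXp)) fun y hy => ?_)
      exact mem_centralizer_singleton_iff.2 (congrArg Subtype.val
        (hE₁c.isMulCommutative.is_comm.comm (⟨y, hy⟩ : E₁) ⟨b, hbE₁⟩))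
    have hcm : m * b = b * m := mem_centralizer_singleton_iff.1 (hEb hm)
    have hbx : b = x := by
      have h3 : m * b = m * x := by rw [hcm, hb]; group
      exact mul_left_cancel h3
    rw [← hbx]
    exact hEb.trans ((centralizer_zpowers b).ge.trans (centralizer_le_normalizer _))
  · exact absurd h1 (h2 _)
  · exact fun e he => CfsgLib.Solvable.mem_normalizer_iff_conj_smul.2 (eq_of_cyclic_card hE₃c
      ((conj_smul_mono e (le_of_normal_hallOf hE₃ hE₃n hX
        (IsPi.mono (isPi_singleton_of_isPGroup (isPGroup_of_card (Nat.card_zpowers x)))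
          (by rintro y rfl; exact h1)))).trans (conj_smul_self_of_mem_normalizer (hE₃n he)).le)
      (le_of_normal_hallOf hE₃ hE₃n hX
        (IsPi.mono (isPi_singleton_of_isPGroup (isPGroup_of_card (Nat.card_zpowers x)))
          (by rintro y rfl; exact h1))) (card_conj_smul e _))

end CfsgLib.OddLocal.Sec13
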