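import Cfsg.Agent.Lib.OddLocal.Sec14Support
import Cfsg.Agent.Lib.OddLocal.S15Decomp

/-!
BG Theorem 14.5: the union of the conjugates of the cosets `x R(x)`, `x ∈ M_σ#`, has
`(|M_σ| - 1) [G : M]` elements, and the sets for non-conjugate maximal subgroups are disjoint.
-/

set_option autoImplicit false
set_option linter.unusedSectionVars false

open scoped Pointwise

namespace CfsgLib.OddLocal.Sec13

open Cfsg Subgroup
open CfsgLib.Solvable (conj_smul_le_iff mem_conj_smul_iff card_conj_smul conj_smul_conj_smul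
  conj_smul_mono conj_smul_self_of_mem_normalizer conj_smul_eq_map)

universe u
variable {G : Type u} [Group G] [Finite G]

/-- The union of the conjugates of the cosets `x R(x)`, `x ∈ M_σ#`. -/
def sigmaSpread (M : Subgroup G) : Set G :=
  {g | ∃ a x r : G, x ∈ sigmaCore (MulAut.conj a • M) ∧ x ≠ 1 ∧ InSupport (MulAut.conj a • M) x r ∧ g = x * r}

theorem card_conjugates (M : Subgroup G) (hN : normalizer (M : Set G) = M) :
    Nat.card (Set.range fun a : G => MulAut.conj a • M) = M.index := by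
  have hiff : ∀ a b : G, MulAut.conj a • M = MulAut.conj b • M ↔ a⁻¹ * b ∈ M := fun a b => by
    conv_rhs => rw [← hN]
    rw [CfsgLib.Solvable.mem_normalizer_iff_conj_smul, ← conj_smul_conj_smul]
    constructor
    · intro e; rw [← e, conj_smul_inv_self]
    · intro e
      conv_lhs => rw [← e]
      rw [conj_smul_self_inv]
  refine (Nat.card_congr (Equiv.ofBijective
    (Quotient.lift (fun a => (⟨MulAut.conj a • M, a, rfl⟩ : Set.range fun a : G => MulAut.conj a • M))
      fun a b e => Subtype.ext ((hiff a b).2 (QuotientGroup.leftRel_apply.1 e))) ⟨?_, ?_⟩)).symm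
  · rintro ⟨a⟩ ⟨b⟩ e
    exact Quotient.sound (QuotientGroup.leftRel_apply.2 ((hiff a b).1 (congrArg Subtype.val e)))
  · rintro ⟨_, a, rfl⟩
    exact ⟨QuotientGroup.mk a, rfl⟩

section Pre
variable (h : Pre G)
include h

theorem Pre.hyp1350 : S15.Hyp1350 G := fun M hM =>
  ⟨h.sigmaCore_hall hM, h.sigmaCore_global hM, fun N _ hN =>
    (hallOf_eq_of_le hN (h.le_sigmaCore hM hN.1 hN.2.1) (piCoreOf_le _ _) (isPi_piCoreOf _ M)).symm⟩

end Pre

variable (h : Pre' G)
include h

/-- `R(x)` does not depend on the conjugate of `M` over `x`. -/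
theorem Pre'.inSupport_transfer {M : Subgroup G} (hM : IsCoatom M) {a x r : G} (hx : x ∈ sigmaCore M)
    (hxa : x ∈ MulAut.conj a • M) (hx1 : x ≠ 1) (hr : InSupport (MulAut.conj a • M) x r) :
    InSupport M x r := by
  rcases hr with rfl | ⟨hna, hc, hN⟩
  · exact Or.inl rfl
  refine Or.inr ⟨fun hle => hna ?_, hc, hN⟩
  obtain ⟨t, ht, e⟩ := h.exists_support_conj hM hx hx1 hxa
  rcases ht with rfl | ⟨hn, -⟩
  · rw [e, conj_one_smul]; exact hle
  · exact absurd hle hn

/-- The count of 14.5. -/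
theorem Pre'.ncard_sigmaSpread {M : Subgroup G} (hM : IsCoatom M) :
    (sigmaSpread M).ncard = (Nat.card (sigmaCore M) - 1) * M.index := by
  classical
  haveI : Fintype G := Fintype.ofFinite G
  haveI : Fintype (Subgroup G) := Fintype.ofFinite _
  set 𝒞 : Finset (Subgroup G) := (Set.range fun a : G => MulAut.conj a • M).toFinset with h𝒞
  set Ω : Finset (Σ _ : Subgroup G, G) :=
    𝒞.sigma fun N => Finset.univ.filter fun x => x ∈ sigmaCore N ∧ x ≠ 1 with hΩ
  have hmem : ∀ {N : Subgroup G}, N ∈ 𝒞 ↔ ∃ a : G, MulAut.conj a • M = N := fun {N} => by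
    rw [h𝒞, Set.mem_toFinset, Set.mem_range]
  have hcardΩ : Ω.card = (Nat.card (sigmaCore M) - 1) * M.index := by
    rw [hΩ, Finset.card_sigma, Finset.sum_congr rfl fun N hN => ?_, Finset.sum_const, smul_eq_mul,
      mul_comm]
    · congr 1
      rw [h𝒞, Set.toFinset_card, ← Nat.card_eq_fintype_card,
        card_conjugates M (h.toPre.normalizer_maximal hM)]
    · obtain ⟨a, rfl⟩ := hmem.1 hN
      have e : (Finset.univ.filter fun x => x ∈ sigmaCore (MulAut.conj a • M) ∧ x ≠ 1) =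
          (Finset.univ.filter fun x => x ∈ sigmaCore (MulAut.conj a • M)).erase 1 := by
        ext x; simp [and_comm]
      rw [e, Finset.card_erase_of_mem (by simp)]
      congr 1
      rw [← Fintype.card_subtype, ← Nat.card_eq_fintype_card]
      show Nat.card ↥(sigmaCore (MulAut.conj a • M)) = _
      rw [sigmaCore_conj, card_conj_smul]
  rw [← hcardΩ, Set.ncard_eq_toFinset_card']
  have hsel : ∀ p ∈ Ω, ∃ a r : G, p.2 ∈ sigmaCore (MulAut.conj a • M) ∧
      (∃ b : G, p.2 ∈ sigmaCore (MulAut.conj b • M)) ∧ p.2 ≠ 1 ∧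
      (a = Classical.epsilon fun b : G => p.2 ∈ sigmaCore (MulAut.conj b • M)) ∧
      InSupport (MulAut.conj a • M) p.2 r ∧ p.1 = MulAut.conj r • MulAut.conj a • M := by
    rintro ⟨N, x⟩ hp
    simp only [hΩ, Finset.mem_sigma, Finset.mem_filter, Finset.mem_univ, true_and] at hp
    obtain ⟨hN, hx, hx1⟩ := hp
    obtain ⟨b, rfl⟩ := hmem.1 hN
    have hex : ∃ b : G, x ∈ sigmaCore (MulAut.conj b • M) := ⟨b, hx⟩
    have ha := Classical.epsilon_spec hex
    set a := Classical.epsilon fun b : G => x ∈ sigmaCore (MulAut.conj b • M)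
    have e : MulAut.conj (b * a⁻¹) • MulAut.conj a • M = MulAut.conj b • M := by
      rw [conj_smul_conj_smul, inv_mul_cancel_right]
    obtain ⟨r, hr, e'⟩ := h.exists_support_conj (isCoatom_conj hM a) ha hx1 (g := b * a⁻¹)
      (e ▸ piCoreOf_le _ _ hx)
    exact ⟨a, r, ha, hex, hx1, rfl, hr, by rw [← e', e]⟩
  choose fa fr hfa hfex hf1 hfeps hfr hfN using hsel
  refine (Finset.card_bij (fun p hp => p.2 * fr p hp) ?_ ?_ ?_).symm
  · intro p hp
    rw [Set.mem_toFinset]
    exact ⟨fa p hp, p.2, fr p hp, hfa p hp, hf1 p hp, hfr p hp, rfl⟩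
  · intro p hp p' hp' e
    have hx : p.2 = p'.2 := h.support_disjoint (isCoatom_conj hM _) (isCoatom_conj hM _)
      (hfa p hp) (hfa p' hp') (hf1 p hp) (hf1 p' hp') (hfr p hp) (hfr p' hp') e
    have hr : fr p hp = fr p' hp' := by rw [hx] at e; exact mul_left_cancel e
    have ha : fa p hp = fa p' hp' := by rw [hfeps p hp, hfeps p' hp', hx]
    exact Sigma.ext (by rw [hfN p hp, hfN p' hp', hr, ha]) (heq_of_eq hx)
  · intro g hg
    rw [Set.mem_toFinset] at hg
    obtain ⟨b, x, r, hx, hx1, hr, rfl⟩ := hg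
    have hex : ∃ b : G, x ∈ sigmaCore (MulAut.conj b • M) := ⟨b, hx⟩
    have ha := Classical.epsilon_spec hex
    set a := Classical.epsilon fun b : G => x ∈ sigmaCore (MulAut.conj b • M) with hadef
    have e : MulAut.conj (b * a⁻¹) • MulAut.conj a • M = MulAut.conj b • M := by
      rw [conj_smul_conj_smul, inv_mul_cancel_right]
    have hr' : InSupport (MulAut.conj a • M) x r :=
      h.inSupport_transfer (isCoatom_conj hM a) (a := b * a⁻¹) ha
        (e ▸ piCoreOf_le _ _ hx) hx1 (e.symm ▸ hr)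
    set N := MulAut.conj r • MulAut.conj a • M with hNdef
    have hxN : x ∈ sigmaCore N := by
      rw [hNdef, sigmaCore_conj, mem_conj_smul_iff]
      rwa [show r⁻¹ * x * r = x by rw [mul_assoc, hr'.commute.eq, inv_mul_cancel_left]]
    have hp : (⟨N, x⟩ : Σ _ : Subgroup G, G) ∈ Ω := by
      simp only [hΩ, Finset.mem_sigma, Finset.mem_filter, Finset.mem_univ, true_and]
      exact ⟨hmem.2 ⟨r * a, by rw [hNdef, conj_smul_conj_smul]⟩, hxN, hx1⟩
    refine ⟨⟨N, x⟩, hp, ?_⟩
    have ha' : fa ⟨N, x⟩ hp = a := hfeps ⟨N, x⟩ hp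
    have hfN' := hfN ⟨N, x⟩ hp
    have hfr' := hfr ⟨N, x⟩ hp
    rw [ha'] at hfN' hfr'
    have := h.support_conj_inj (isCoatom_conj hM a) ha hx1 hfr' hr' hfN'.symm
    simp only [this]

/-- The sets for non-conjugate maximal subgroups are disjoint. -/
theorem Pre'.disjoint_sigmaSpread {M M' : Subgroup G} (hM : IsCoatom M) (hM' : IsCoatom M')
    (hne : ∀ g : G, M' ≠ MulAut.conj g • M) : Disjoint (sigmaSpread M) (sigmaSpread M') := by
  rw [Set.disjoint_left]
  rintro g ⟨a, x, r, hx, hx1, hr, rfl⟩ ⟨b, y, s, hy, hy1, hs, e⟩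
  obtain rfl := h.support_disjoint (isCoatom_conj hM a) (isCoatom_conj hM' b) hx hy hx1 hy1 hr hs e
  obtain ⟨p, hp, hpd⟩ := exists_prime_orderOf hx1
  have h1 : p ∈ sigma M := sigma_conj a M ▸
    isPi_piCoreOf (sigma (MulAut.conj a • M)) _ p hp (hpd.trans (Subgroup.orderOf_dvd_natCard _ hx))
  have h2 : p ∈ sigma M' := sigma_conj b M' ▸
    isPi_piCoreOf (sigma (MulAut.conj b • M')) _ p hp (hpd.trans (Subgroup.orderOf_dvd_natCard _ hy))
  exact h.not_sigma_inter hM hM' hne h1 h2

/-- An element of the spread of `M'` is the product of commuting `σ(M')`- and `σ(M')'`-elements. -/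
theorem Pre'.spread_part {M' : Subgroup G} (hM' : IsCoatom M') {g : G} (hg : g ∈ sigmaSpread M') :
    ∃ a x r : G, x ∈ sigmaCore (MulAut.conj a • M') ∧ x ≠ 1 ∧
      InSupport (MulAut.conj a • M') x r ∧ g = x * r ∧ Commute x r ∧
      (∀ p : ℕ, p.Prime → p ∣ orderOf x → p ∈ sigma M') ∧
      (∀ p : ℕ, p.Prime → p ∣ orderOf r → p ∉ sigma M') := by
  obtain ⟨a, x, r, hx, hx1, hr, e⟩ := hg
  refine ⟨a, x, r, hx, hx1, hr, e, hr.commute, fun p hp hd => ?_, fun p hp hd => ?_⟩
  · exact sigma_conj a M' ▸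
      isPi_piCoreOf (sigma (MulAut.conj a • M')) _ p hp (hd.trans (Subgroup.orderOf_dvd_natCard _ hx))
  · exact sigma_conj a M' ▸ h.support_primes (isCoatom_conj hM' a) hx hx1 hr hp hd

theorem Pre'.one_not_mem_sigmaSpread {M : Subgroup G} (hM : IsCoatom M) : (1 : G) ∉ sigmaSpread M := by
  intro hg
  obtain ⟨a, x, r, -, hx1, -, e, hc, hx, hr⟩ := h.spread_part hM hg
  exact hx1 (eq_of_mul_eq_mul_of_primes (π := sigma M) (c := 1) (d := 1) hc (Commute.one_left 1)
    (isOfFinOrder_of_finite _) (isOfFinOrder_of_finite _) (isOfFinOrder_of_finite _)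
    (isOfFinOrder_of_finite _) hx hr
    (fun p hp hd => absurd (Nat.eq_one_of_dvd_one (orderOf_one (G := G) ▸ hd)) hp.ne_one)
    (fun p hp hd => absurd (Nat.eq_one_of_dvd_one (orderOf_one (G := G) ▸ hd)) hp.ne_one)
    (by rw [← e, one_mul])).1

/-- The supporting subgroup of the interface: its elements are in `R(x)`. -/
theorem Pre'.inSupport_of_mem_supportR {M : Subgroup G} (hM : IsCoatom M) {x r : G}
    (hx : x ∈ sigmaCore M) (hx1 : x ≠ 1) (hr : r ∈ Cfsg.supportR M x) : InSupport M x r := by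
  classical
  unfold Cfsg.supportR at hr
  split_ifs at hr with hc
  · obtain ⟨hxM, hu⟩ := hc
    set L := Classical.choose hu.exists
    have hL : IsCoatom L ∧ centralizer ({x} : Set G) ≤ L := Classical.choose_spec hu.exists
    refine Or.inr ⟨hxM, hr.2, L, hL.1, hL.2, ?_⟩
    exact S15.fittingHallOf_le_sigmaCore h.toPre.hyp1350 hL.1 h.min hr.1
  · exact Or.inl (mem_bot.1 hr)

end CfsgLib.OddLocal.Sec13
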