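import Cfsg.Agent.Lib.OddLocal.Sec14Members

/-!
BG Theorem 14.7, the duality between `(M, K)` and `(M*, K*)`: existence and uniqueness of `M*`,
`κ(M) = τ₁(M)`, `K` cyclic, `K*` is a Hall `σ(M)`-subgroup of `M*` and `M ∩ M* = K K*`.
-/

set_option autoImplicit false
set_option linter.unusedSectionVars false

open scoped Pointwise

namespace CfsgLib.OddLocal.Sec13

open Cfsg Subgroup
open scoped commutatorElement
open CfsgLib.Solvable (conj_smul_le_iff mem_conj_smul_iff card_conj_smul conj_smul_conj_smul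
  conj_smul_mono conj_smul_self_of_mem_normalizer conj_smul_eq_map)

/-- `K*`. -/
local notation "Ks(" M ", " K ")" => sigmaCore M ⊓ centralizer ((K : Subgroup _) : Set _)

universe u
variable {G : Type u} [Group G] [Finite G]

/-- `L` is the partner `M*` of `(M, K)`. -/
def IsDual (M K L : Subgroup G) : Prop :=
  IsCoatom L ∧ K = sigmaCore L ⊓ centralizer ((Ks(M, K) : Subgroup G) : Set G) ∧
    IsPiHallOf (kappa L) (Ks(M, K) : Subgroup G) L

theorem IsDual.le_sigmaCore {M K L : Subgroup G} (hd : IsDual M K L) : K ≤ sigmaCore L :=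
  hd.2.1.le.trans inf_le_left

theorem IsDual.symm {M K L : Subgroup G} (hd : IsDual M K L) (hM : IsCoatom M)
    (hK : IsPiHallOf (kappa M) K M) : IsDual L Ks(M, K) M :=
  ⟨hM, by rw [← hd.2.1], by rw [← hd.2.1]; exact hK⟩

variable (h : Pre' G)
include h

/-- For a dual, `M` and `L` are not conjugate. -/
theorem Pre'.dual_ne {M K L : Subgroup G} (hM : IsCoatom M) (hK : IsPiHallOf (kappa M) K M)
    (hK1 : K ≠ ⊥) (hd : IsDual M K L) (g : G) : L ≠ MulAut.conj g • M := by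
  rintro rfl
  obtain ⟨p, X, hp, hX, hXc⟩ := exists_prime_subgroup hK1
  refine (hK.2.1 p hp ((dvd_of_eq hXc.symm).trans (card_dvd_of_le hX))).2.2.1 (sigma_conj g M ▸ ?_)
  exact isPi_piCoreOf (sigma (MulAut.conj g • M)) _ p hp
    ((dvd_of_eq hXc.symm).trans (card_dvd_of_le (hX.trans hd.le_sigmaCore)))

/-- A neighbour whose `M*_σ` contains `K` is a dual. -/
theorem Pre'.dual_of_neighbour {M K X L : Subgroup G} (hM : IsCoatom M) (hK : IsPiHallOf (kappa M) K M)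
    (hX : X ≤ K) (hXp : (Nat.card X).Prime) (hL : IsCoatom L) (hNX : normalizer (X : Set G) ≤ L)
    (hKL : K ≤ sigmaCore L) : IsDual M K L := by
  have : Fact (Nat.card X).Prime := ⟨hXp⟩
  obtain ⟨-, -, -, -, K₁, hK₁, -, hle, -, hksK, hZ⟩ := h.neighbour hM hK hX rfl hL hNX
  have e : Ks(M, K) = K₁ := by
    refine le_antisymm hle fun x hx => ?_
    obtain ⟨a, ha, b, hb, rfl⟩ := exists_mul_of_mem_Z (hZ.le (mem_sup_left hx) : x ∈ K ⊔ Ks(M, K))
    have ha1 : a ∈ K₁ ⊓ sigmaCore L :=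
      ⟨by simpa using K₁.mul_mem hx (K₁.inv_mem (hle hb)), hKL ha⟩
    rw [sigmaCore_def, inf_eq_bot_of_isPi hK₁.2.1 (isPi_piCoreOf (sigma L) L)
      fun _ _ h1 h2 => h1.2.2.1 h2, mem_bot] at ha1
    rw [ha1, one_mul]
    exact hb
  refine ⟨hL, le_antisymm (le_inf hKL fun k hk => mem_centralizer_iff.2 fun b hb =>
    (kstar_commute hk hb).eq.symm) ?_, e ▸ hK₁⟩
  rw [e]; exact hksK

/-- BG 14.7: the dual exists. -/
theorem Pre'.exists_dual {M K : Subgroup G} (hM : IsCoatom M) (hK : IsPiHallOf (kappa M) K M)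
    (hK1 : K ≠ ⊥) : ∃ L : Subgroup G, IsDual M K L := by
  obtain ⟨L, K₁, U, hL, hK₁, hZ, hU, hU1⟩ := h.exists_member_U hM hK hK1
  obtain ⟨hLc, K₁', hK₁', hK₁1', hZ'⟩ := h.member_struct hM hK hK1 hL
  have hK₁1 : K₁ ≠ ⊥ := fun e => hK₁1' (eq_bot_of_card_eq _ (by
    rw [card_of_hallOf_eq (h.toPre.isSolvable hLc.1) hK₁' hK₁, e, Subgroup.card_bot]))
  have hp := h.kappaHall_prime hLc hU hK₁1 hU1
  rcases hL with hLM | ⟨X, hX, hXp, -, hNX⟩
  · subst hLM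
    have e : K₁ = K := kappaHall_eq_of_Z hK hK₁ (hZ ▸ le_sup_left)
    rw [e] at hp
    have : Fact (Nat.card K).Prime := ⟨hp⟩
    obtain ⟨L', hL', hNK⟩ := h.toPre.exists_maximal_normalizer hM hK.1 hK1
    exact ⟨L', h.dual_of_neighbour hM hK le_rfl hp hL' hNK
      (h.kappa_normalizer_sigma hM hK le_rfl rfl hL' hNK).2.1⟩
  · have : Fact (Nat.card X).Prime := ⟨hXp⟩
    obtain ⟨-, -, -, -, K₂, hK₂, -, hle, -, hksK, hZ₂⟩ := h.neighbour hM hK hX rfl hLc hNX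
    have e : K₁ = K₂ := kappaHall_eq_of_Z hK₂ hK₁ (by rw [hZ₂, ← hZ]; exact le_sup_left)
    subst e
    have hks : Ks(M, K) = K₁ := eq_of_le_of_card_ge hle (by
      rcases hp.eq_one_or_self_of_dvd _ (card_dvd_of_le hle) with h1 | h1
      · exact absurd (eq_bot_of_card_eq _ h1) (h.kstar_ne_bot hM hK hK1)
      · exact h1.ge)
    refine ⟨L, h.dual_of_neighbour hM hK hX hXp hLc hNX fun k hk => ?_⟩
    obtain ⟨c, hc, d, hd, rfl⟩ := exists_mul_of_mem_Z (hZ₂.ge (mem_sup_left hk) : k ∈ K₁ ⊔ Ks(L, K₁))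
    have hcK : c ∈ K ⊓ Ks(M, K) :=
      ⟨by simpa using K.mul_mem hk (K.inv_mem (hksK hd)), hks ▸ hc⟩
    rw [kappa_inf_kstar hK, mem_bot] at hcK
    rw [hcK, one_mul]
    exact hd.1

/-- `C(X) ≤ M*` and `M*` is the only maximal subgroup over it. -/
theorem Pre'.dual_unique_centralizer {M K L X : Subgroup G} (hM : IsCoatom M)
    (hK : IsPiHallOf (kappa M) K M) (hK1 : K ≠ ⊥) (hd : IsDual M K L) (hX : X ≤ K)
    (hXp : (Nat.card X).Prime) :
    centralizer (X : Set G) ≤ L ∧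
      ∀ L' : Subgroup G, IsCoatom L' → centralizer (X : Set G) ≤ L' → L' = L := by
  have : Fact (Nat.card X).Prime := ⟨hXp⟩
  exact (h.kstar_unique hd.1 hd.2.2 (h.kstar_ne_bot hM hK hK1) rfl (hd.2.1 ▸ hX)).1

/-- `N(X) ≤ M*`. -/
theorem Pre'.dual_normalizer_le {M K L X : Subgroup G} (hM : IsCoatom M)
    (hK : IsPiHallOf (kappa M) K M) (hK1 : K ≠ ⊥) (hd : IsDual M K L) (hX : X ≤ K)
    (hXp : (Nat.card X).Prime) : normalizer (X : Set G) ≤ L :=
  h.toPre.normalizer_le_of_unique hd.1 (hX.trans (hd.le_sigmaCore.trans (piCoreOf_le _ _)))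
    (ne_bot_of_card hXp rfl) (h.dual_unique_centralizer hM hK hK1 hd hX hXp).2

/-- The dual is unique. -/
theorem Pre'.dual_eq {M K L L' : Subgroup G} (hM : IsCoatom M) (hK : IsPiHallOf (kappa M) K M)
    (hK1 : K ≠ ⊥) (hd : IsDual M K L) (hd' : IsDual M K L') : L' = L := by
  obtain ⟨p, X, hp, hX, hXc⟩ := exists_prime_subgroup hK1
  exact ((h.dual_unique_centralizer hM hK hK1 hd hX (hXc.symm ▸ hp)).2 L' hd'.1
    (h.dual_unique_centralizer hM hK hK1 hd' hX (hXc.symm ▸ hp)).1)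

/-- The members are `M` and the dual. -/
theorem Pre'.member_eq {M K L L' : Subgroup G} (hM : IsCoatom M) (hK : IsPiHallOf (kappa M) K M)
    (hK1 : K ≠ ⊥) (hd : IsDual M K L) (hL' : IsMember M K L') : L' = M ∨ L' = L := by
  rcases hL' with rfl | ⟨X, hX, hXp, hLc, hNX⟩
  · exact Or.inl rfl
  · exact Or.inr ((h.dual_unique_centralizer hM hK hK1 hd hX hXp).2 L' hLc
      ((centralizer_le_normalizer _).trans hNX))

/-- `κ(M) = τ₁(M)` and `K` is cyclic (BG 14.7). -/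
theorem Pre'.kappa_eq_tau1 {M K : Subgroup G} (hM : IsCoatom M) (hK : IsPiHallOf (kappa M) K M)
    (hK1 : K ≠ ⊥) : kappa M = tau1 M ∧ IsCyclic K := by
  obtain ⟨E, hE, hKE⟩ := h.toPre.exists_compl_ge hM hK.1 (IsPi.mono hK.2.1 fun r hr => hr.2.2.1)
  by_cases hκ : kappa M ⊆ tau1 M
  · obtain ⟨h1, h2, -⟩ := h.kappa_tau1_struct hM hE hK hKE hK1 hκ
    exact ⟨h1, h2⟩
  exfalso
  obtain ⟨q, hq, hq1⟩ := Set.not_subset.1 hκ
  have hq3 : q ∈ tau3 M := (h.toPre.kappa_tau13 hM hq).resolve_left hq1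
  have : Fact q.Prime := ⟨hq.1⟩
  obtain ⟨hKE', -⟩ := h.kappa_tau3_struct hM hE hK hKE hq hq3
  subst hKE'
  obtain ⟨L, hd⟩ := h.exists_dual hM hK hK1
  -- `U(L) ≠ 1`, hence `L_σ` and `K` are nilpotent
  obtain ⟨L', K₁, U, hL', hK₁, -, hU, hU1⟩ := h.exists_member_U hM hK hK1
  rcases h.member_eq hM hK hK1 hd hL' with rfl | rfl
  · have h1 := S15.card_M h.toPre.hyp1350 hM hU
    rw [card_of_isComplIn hE, card_of_hallOf_eq (h.toPre.isSolvable hM.1) hK hK₁] at h1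
    have h2 : Nat.card U * (Nat.card K₁ * Nat.card (sigmaCore L')) =
        1 * (Nat.card K₁ * Nat.card (sigmaCore L')) := by rw [← h1, one_mul]
    exact hU1 (eq_bot_of_card_eq _ (Nat.eq_of_mul_eq_mul_right (Nat.mul_pos Nat.card_pos Nat.card_pos) h2))
  have hnil : Group.IsNilpotent K :=
    isNilpotent_of_le (h.U_fixed_bot hd.1 hU hU1).2 hd.le_sigmaCore
  have hτ2 : ∀ r, r ∉ tau2 M := fun r hr => by
    have hr' := dvd_card_of_hallOf (h.toPre.compl_hall hM hE) hr.1 hr.2.1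
      (by
        have : Fact r.Prime := ⟨hr.1⟩
        exact dvd_card_of_not_pRankLE hr.2.2.2)
    exact hr.2.2.2 (h.toPre.kappa_tau13 hM (hK.2.1 r hr.1 hr')).rank
  obtain ⟨E₃, E₁, hE₃, hE₁, -, -, -, -, hfree⟩ := h.toPre.compl_structure hM hE hτ2
  have hc : E₃ ≤ centralizer (E₁ : Set G) := commutator_eq_of_nilpotent hnil hE₃.1 hE₁.1
    (coprime_of_isPi hE₃.2.1 hE₁.2.1 fun r _ h3 h1 => h1.2.2.2.1 h3.2.2.1)
  have hqE : q ∣ Nat.card E₃ := dvd_card_of_hallOf hE₃ hq.1 hq3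
    (dvd_card_of_hallOf (h.toPre.compl_hall hM hE) hq.1 hq.2.2.1 hq.2.1)
  have : E₃ = ⊥ := le_bot_iff.1 ((le_inf le_rfl hc).trans hfree.le)
  rw [this, Subgroup.card_bot] at hqE
  exact hq.1.not_dvd_one hqE

/-- A Hall `κ`-subgroup is cyclic (S1351). -/
theorem Pre'.kappaHall_cyclic {M K : Subgroup G} (hM : IsCoatom M) (hK : IsPiHallOf (kappa M) K M) :
    IsCyclic K := by
  rcases eq_or_ne K ⊥ with rfl | hK1
  · infer_instance
  · exact (h.kappa_eq_tau1 hM hK hK1).2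

/-- `K*` is cyclic. -/
theorem Pre'.kstar_cyclic {M K : Subgroup G} (hM : IsCoatom M) (hK : IsPiHallOf (kappa M) K M)
    (hK1 : K ≠ ⊥) : IsCyclic ↥Ks(M, K) := by
  obtain ⟨L, hd⟩ := h.exists_dual hM hK hK1
  exact h.kappaHall_cyclic hd.1 hd.2.2

/-- `Z = K K*` is cyclic. -/
theorem Pre'.Z_cyclic {M K : Subgroup G} (hM : IsCoatom M) (hK : IsPiHallOf (kappa M) K M)
    (hK1 : K ≠ ⊥) : IsCyclic ↥(K ⊔ Ks(M, K)) := by
  obtain ⟨⟨a, ha⟩, hao⟩ := (h.kappaHall_cyclic hM hK).exists_ofOrder_eq_natCard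
  obtain ⟨⟨b, hb⟩, hbo⟩ := (h.kstar_cyclic hM hK hK1).exists_ofOrder_eq_natCard
  rw [Subgroup.orderOf_mk] at hao hbo
  refine isCyclic_of_orderOf_eq_card
    ⟨a * b, Subgroup.mul_mem _ (mem_sup_left ha) (mem_sup_right hb)⟩ ?_
  rw [Subgroup.orderOf_mk, card_Z hK, (kstar_commute ha hb).orderOf_mul_eq_mul_orderOf_of_coprime, hao, hbo]
  rw [hao, hbo]
  exact coprime_of_isPi hK.2.1 (IsPi.of_le (isPi_piCoreOf (sigma M) M) inf_le_left)
    fun r _ h1 h2 => h1.2.2.1 h2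

/-- `K*` is a Hall `σ(M)`-subgroup of `M*`. -/
theorem Pre'.kstar_hall {M K L : Subgroup G} (hM : IsCoatom M) (hK : IsPiHallOf (kappa M) K M)
    (hK1 : K ≠ ⊥) (hd : IsDual M K L) : IsPiHallOf (sigma M) (Ks(M, K) : Subgroup G) L := by
  refine ⟨hd.2.2.1, IsPi.of_le (isPi_piCoreOf (sigma M) M) inf_le_left, fun q hq hqM hqd => ?_⟩
  have hks1 := h.kstar_ne_bot hM hK hK1
  obtain ⟨U, hU⟩ := h.exists_decomposition_of_cyclic hd.1 (h.kappaHall_cyclic hd.1 hd.2.2) hd.2.2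
  obtain ⟨-, hUab, hUn, hfree, -⟩ := h.decomposition_struct hd.1 hU hks1
  have hqκ : q ∉ kappa L := fun hc => hd.2.2.2.2 q hq hc hqd
  have hqL : q ∉ sigma L := h.not_sigma_inter hM hd.1 (h.dual_ne hM hK hK1 hd) hqM
  have hUh := S15.isPiHallOf_U h.toPre.hyp1350 hd.1 hU
  have : Fact q.Prime := ⟨hq⟩
  have hqU : q ∣ Nat.card U := dvd_card_of_hallOf hUh hq ⟨hq, hqκ, hqL⟩
    (hqd.trans (Dvd.intro_left _ (by rw [← relIndex_bot_left L, ← relIndex_mul_relIndex ⊥ _ L bot_le hd.2.2.1])))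
  obtain ⟨Y, hY, hYn, -⟩ := exists_invariant_sylowOf (A := (⊥ : Subgroup G)) (K := U) (q := q) bot_le
    (by rw [Subgroup.card_bot]; exact Nat.coprime_one_left _) (h.toPre.isSolvable_le hd.1 hUh.1)
    (U := ⊥) bot_le bot_le IsPGroup.of_bot
  have hYL : Y ≤ L := hY.1.trans hUh.1
  have hUY : U ≤ normalizer (Y : Set G) := fun u hu => centralizer_le_normalizer _
    (mem_centralizer_iff.2 fun y hy =>
      congrArg Subtype.val (hUab.is_comm.comm (⟨y, hY.1 hy⟩ : U) ⟨u, hu⟩))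
  have hksY : Ks(M, K) ≤ normalizer (Y : Set G) := by
    intro k hk
    refine CfsgLib.Solvable.mem_normalizer_iff_conj_smul.2 ?_
    have hkU : k ∈ normalizer (U : Set G) := hU.normal hk
    have hle : MulAut.conj k • Y ≤ U :=
      (conj_smul_mono k hY.1).trans (conj_smul_self_of_mem_normalizer hkU).le
    refine eq_of_le_of_card_ge (le_of_normal_hallOf hY hUY hle (IsPi.conj hY.2.1 k)) ?_
    rw [card_conj_smul]
  have hYπ : IsPi (sigma M) Y := IsPi.mono hY.2.1 (by rintro r rfl; exact hqM)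
  have hsup : IsPi (sigma M) (Y ⊔ Ks(M, K) : Subgroup G) :=
    IsPi.sup hYπ (IsPi.of_le (isPi_piCoreOf (sigma M) M) inf_le_left) hksY
  have hYMσ : Y ≤ sigmaCore M := le_sup_left.trans
    (h.le_sigmaCore_of_inter_kstar hM hK hK1 hsup (by rw [inf_eq_right.2 le_sup_right]; exact hks1))
  have hYM : Y ≤ M := hYMσ.trans (piCoreOf_le _ _)
  have hYK : Y ≤ centralizer (K : Set G) := by
    intro y hy
    rw [mem_centralizer_iff]
    intro k hk
    have hkM : k ∈ M := hK.1 hk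
    have hkL : k ∈ sigmaCore L := hd.le_sigmaCore hk
    have h1 : k * y * k⁻¹ * y⁻¹ ∈ sigmaCore L ⊓ sigmaCore M := by
      refine ⟨?_, (sigmaCore M).mul_mem ((mem_normalizer_iff.1 (le_normalizer_piCoreOf (sigma M) M hkM) y).1 (hYMσ hy)) ((sigmaCore M).inv_mem (hYMσ hy))⟩
      rw [show k * y * k⁻¹ * y⁻¹ = k * (y * k⁻¹ * y⁻¹) by group]
      exact (sigmaCore L).mul_mem hkL ((mem_normalizer_iff.1 (le_normalizer_piCoreOf (sigma L) L (hYL hy)) _).1 ((sigmaCore L).inv_mem hkL))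
    rw [sigmaCore_def, sigmaCore_def, inf_eq_bot_of_isPi (isPi_piCoreOf (sigma L) L) (isPi_piCoreOf (sigma M) M)
      (fun r _ h1 h2 => h.not_sigma_inter hM hd.1 (h.dual_ne hM hK hK1 hd) h2 h1), mem_bot, mul_inv_eq_one,
      mul_inv_eq_iff_eq_mul] at h1
    exact h1
  have : Y ≤ Ks(M, K) := le_inf hYMσ hYK
  have hbot : U ⊓ Ks(M, K) = ⊥ := S15.U_inf_K h.toPre.hyp1350 hd.1 hU
  have hY1 : Y = ⊥ := le_bot_iff.1 ((le_inf hY.1 this).trans hbot.le)
  have := dvd_card_of_hallOf hY hq rfl hqU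
  rw [hY1, Subgroup.card_bot] at this
  exact hq.not_dvd_one this

/-- `M_σ ∩ M* = K*`. -/
theorem Pre'.sigmaCore_inf_dual {M K L : Subgroup G} (hM : IsCoatom M) (hK : IsPiHallOf (kappa M) K M)
    (hK1 : K ≠ ⊥) (hd : IsDual M K L) : sigmaCore M ⊓ L = Ks(M, K) :=
  hallOf_eq_of_le (h.kstar_hall hM hK hK1 hd) (le_inf inf_le_left hd.2.2.1) inf_le_right
    (IsPi.of_le (isPi_piCoreOf (sigma M) M) inf_le_left)

/-- `M ∩ M* = K K*` (S1368). -/
theorem Pre'.inter_dual {M K L : Subgroup G} (hM : IsCoatom M) (hK : IsPiHallOf (kappa M) K M)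
    (hK1 : K ≠ ⊥) (hd : IsDual M K L) : M ⊓ L = K ⊔ Ks(M, K) := by
  refine le_antisymm ?_ (sup_le (le_inf hK.1 (hd.le_sigmaCore.trans (piCoreOf_le _ _)))
    (le_inf (inf_le_left.trans (piCoreOf_le _ _)) hd.2.2.1))
  have e := h.sigmaCore_inf_dual hd.1 hd.2.2 (h.kstar_ne_bot hM hK hK1) (hd.symm hM hK)
  rw [← hd.2.1] at e
  rw [← h.inter_normalizer_kappa hM hK hK1]
  refine le_inf inf_le_left ?_
  conv_rhs => rw [← e]
  exact CfsgLib.Solvable.le_normalizer_inf (inf_le_right.trans (le_normalizer_piCoreOf _ _))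
    (inf_le_left.trans le_normalizer)

/-- `U ≠ 1` or `U* ≠ 1` (S1369). -/
theorem Pre'.decomposition_dual {M K U L Us : Subgroup G} (hM : IsCoatom M)
    (hKU : IsSigmaDecomposition M K U) (hK1 : K ≠ ⊥) (hd : IsDual M K L)
    (hUs : IsSigmaDecomposition L Ks(M, K) Us) (hU : U = ⊥) : Us ≠ ⊥ := by
  obtain ⟨L', K₁, V, hL', hK₁, -, hV, hV1⟩ := h.exists_member_U hM hKU.hall hK1
  intro hUs1
  refine hV1 (eq_bot_of_card_eq _ ?_)
  have key : ∀ {A A₁ : Subgroup G}, IsCoatom A → IsSigmaDecomposition A A₁ ⊥ →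
      IsSigmaDecomposition A K₁ V → IsPiHallOf (kappa A) K₁ A → Nat.card V = 1 := by
    intro A A₁ hA h1 h2 h3
    have c1 := S15.card_M h.toPre.hyp1350 hA h1
    have c2 := S15.card_M h.toPre.hyp1350 hA h2
    rw [card_of_hallOf_eq (h.toPre.isSolvable hA.1) h1.hall h3, Subgroup.card_bot, one_mul] at c1
    refine Nat.eq_of_mul_eq_mul_right (Nat.mul_pos (Nat.card_pos (α := K₁)) (Nat.card_pos (α := sigmaCore A))) ?_
    rw [one_mul]
    exact c2.symm.trans c1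
  rcases h.member_eq hM hKU.hall hK1 hd hL' with rfl | rfl
  · exact key hM (hU ▸ hKU) hV hK₁
  · exact key hd.1 (hUs1 ▸ hUs) hV hK₁

end CfsgLib.OddLocal.Sec13
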