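import Cfsg.Agent.Lib.OddLocal.Sec14TypeP
import Cfsg.Agent.Lib.OddLocal.Sec14Count

/-!
BG Theorem 14.2 (the complement `U`), Theorem 14.3 and Proposition 14.3: the contents of S1430-S1432,
S1352, S1353 relative to `Pre'`.
-/

set_option autoImplicit false
set_option linter.unusedSectionVars false

open scoped Pointwise

namespace CfsgLib.OddLocal.Sec13

open Cfsg Subgroup
open scoped commutatorElement
open CfsgLib.Solvable (conj_smul_le_iff mem_conj_smul_iff card_conj_smul conj_smul_conj_smul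
  conj_smul_mono conj_smul_self_of_mem_normalizer conj_smul_eq_map)

universe u
variable {G : Type u} [Group G] [Finite G]

theorem IsComplIn.swap {A B M : Subgroup G} (hc : IsComplIn A B M) (hn : A ≤ normalizer (B : Set G)) :
    IsComplIn B A M :=
  ⟨hc.2.1, hc.1, inf_comm A B ▸ hc.2.2.1, fun m hm => by
    obtain ⟨a, ha, b, hb, rfl⟩ := hc.2.2.2 m hm
    exact ⟨a * b * a⁻¹, (mem_normalizer_iff.1 (hn ha) b).1 hb, a, ha, by group⟩⟩

variable (h : Pre' G)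
include h

/-- The complement `U` for a Hall `κ`-subgroup `K ≠ 1` inside a complement `E`. -/
theorem Pre'.exists_U_compl {M E K : Subgroup G} (hM : IsCoatom M) (hE : IsComplIn E (sigmaCore M) M)
    (hK : IsPiHallOf (kappa M) K M) (hKE : K ≤ E) (hK1 : K ≠ ⊥) :
    ∃ U : Subgroup G, U ≤ E ∧ IsMulCommutative U ∧
      IsPiHallOf {q | q.Prime ∧ q ∉ kappa M ∧ q ∉ sigma M} U M ∧ E ≤ normalizer (U : Set G) ∧
      IsComplIn U K E ∧
      (∀ k ∈ K, k ≠ 1 → U ⊓ centralizer ({k} : Set G) = ⊥) ∧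
      (U = ⁅E, E⁆ ∧ kappa M = tau1 M ∧ IsCyclic K ∨ U = ⊥ ∧ K = E ∧ ∃ p ∈ kappa M, p ∈ tau3 M) := by
  by_cases hκ : kappa M ⊆ tau1 M
  · obtain ⟨hκeq, hcyc, -, hab, hhall, hcompl, hfree⟩ := h.kappa_tau1_struct hM hE hK hKE hK1 hκ
    refine ⟨⁅E, E⁆, commutator_le_self E, hab, ⟨(commutator_le_self E).trans hE.1, fun r hr hd =>
      ⟨hr, hκeq.symm ▸ hhall.2.1 r hr hd, h.toPre.compl_isPi hM hE r hr
        (hd.trans (card_dvd_of_le (commutator_le_self E)))⟩, fun r hr hrπ hd => ?_⟩,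
      commutator_normal, IsComplIn.swap hcompl (hKE.trans commutator_normal), hfree,
      Or.inl ⟨rfl, hκeq, hcyc⟩⟩
    rw [← relIndex_mul_relIndex ⁅E, E⁆ E M (commutator_le_self E) hE.1] at hd
    rcases hr.dvd_mul.1 hd with h' | h'
    · exact hhall.2.2 r hr (hκeq ▸ hrπ.2.1) h'
    · exact (h.toPre.compl_hall hM hE).2.2 r hr hrπ.2.2 h'
  · obtain ⟨q, hq, hq1⟩ := Set.not_subset.1 hκ
    have hq3 : q ∈ tau3 M := (h.toPre.kappa_tau13 hM hq).resolve_left hq1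
    obtain ⟨rfl, -, -, -⟩ := h.kappa_tau3_struct hM hE hK hKE hq hq3
    refine ⟨⊥, bot_le, inferInstance, ⟨bot_le, fun r hr hd =>
      absurd (Nat.eq_one_of_dvd_one (Subgroup.card_bot (G := G) ▸ hd)) hr.ne_one, fun r hr hrπ hd => ?_⟩,
      (by intro x _; rw [normalizer_eq_top]; trivial), ⟨bot_le, le_rfl, bot_inf_eq _,
        fun m hm => ⟨1, one_mem _, m, hm, (one_mul m).symm⟩⟩, fun k _ _ => bot_inf_eq _,
      Or.inr ⟨rfl, rfl, q, hq, hq3⟩⟩
    rw [relIndex_bot_left] at hd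
    exact hrπ.2.1 (hK.2.1 r hr (dvd_card_of_hallOf (h.toPre.compl_hall hM hE) hr hrπ.2.2 hd))

/-- The second part of S1430. -/
theorem Pre'.exists_U {M K : Subgroup G} (hM : IsCoatom M) (hK : IsPiHallOf (kappa M) K M) (hK1 : K ≠ ⊥) :
    ∃ U : Subgroup G, IsMulCommutative U ∧
      IsPiHallOf {q | q.Prime ∧ q ∉ kappa M ∧ q ∉ sigma M} U M ∧
      K ≤ normalizer (U : Set G) ∧ ∀ k ∈ K, k ≠ 1 → U ⊓ centralizer ({k} : Set G) = ⊥ := by
  obtain ⟨E, hE, hKE⟩ := h.toPre.exists_compl_ge hM hK.1 (IsPi.mono hK.2.1 fun r hr => hr.2.2.1)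
  obtain ⟨U, -, hab, hhall, hn, -, hfree, -⟩ := h.exists_U_compl hM hE hK hKE hK1
  exact ⟨U, hab, hhall, hKE.trans hn, hfree⟩

/-- For a standard factorisation with `K ≠ 1`, `U` is the one above. -/
theorem Pre'.decomposition_struct {M K U : Subgroup G} (hM : IsCoatom M)
    (hKU : IsSigmaDecomposition M K U) (hK1 : K ≠ ⊥) :
    IsComplIn (U ⊔ K) (sigmaCore M) M ∧ IsMulCommutative U ∧ U ⊔ K ≤ normalizer (U : Set G) ∧
      (∀ k ∈ K, k ≠ 1 → U ⊓ centralizer ({k} : Set G) = ⊥) ∧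
      (U = ⁅U ⊔ K, U ⊔ K⁆ ∧ kappa M = tau1 M ∨ U = ⊥ ∧ ∃ p ∈ kappa M, p ∈ tau3 M) := by
  have hE := S15.isComplIn_E h.toPre.hyp1350 hM hKU
  have hUh := S15.isPiHallOf_U h.toPre.hyp1350 hM hKU
  obtain ⟨U', hU'E, hab, hU'h, hn, -, hfree, hcase⟩ := h.exists_U_compl hM hE hKU.hall le_sup_right hK1
  have hUE' : IsPiHallOf {q | q.Prime ∧ q ∉ kappa M ∧ q ∉ sigma M} U (U ⊔ K) :=
    hallOf_of_le hUh le_sup_left hE.1
  have hU'E' : IsPiHallOf {q | q.Prime ∧ q ∉ kappa M ∧ q ∉ sigma M} U' (U ⊔ K) :=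
    hallOf_of_le hU'h hU'E hE.1
  have e : U = U' := le_antisymm (le_of_normal_hallOf hU'E' hn le_sup_left hUE'.2.1)
    (le_of_normal_hallOf hUE' (sup_le le_normalizer hKU.normal) hU'E hU'E'.2.1)
  subst e
  exact ⟨hE, hab, hn, hfree, hcase.imp (fun h' => ⟨h'.1, h'.2.1⟩) fun h' => ⟨h'.1, h'.2.2⟩⟩

omit h in
/-- `M` normalises `U M_σ`. -/
theorem decomposition_normal {M K U : Subgroup G} (hKU : IsSigmaDecomposition M K U) :
    M ≤ normalizer ((U ⊔ sigmaCore M : Subgroup G) : Set G) := by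
  intro m hm
  obtain ⟨u, hu, b, hb, rfl⟩ := hKU.compl.2.2.2 m hm
  refine mul_mem (le_normalizer (mem_sup_left hu)) ((sup_le ?_ (le_sup_right.trans le_normalizer)) hb)
  exact (le_inf hKU.normal (hKU.hall.1.trans (le_normalizer_piCoreOf _ _))).trans
    (normalizer_inf_normalizer_le_normalizer_sup _ _)

/-- Existence of `U` (S1352). -/
theorem Pre'.exists_decomposition_of_cyclic {M K : Subgroup G} (hM : IsCoatom M) (hKc : IsCyclic K)
    (hK : IsPiHallOf (kappa M) K M) : ∃ U : Subgroup G, IsSigmaDecomposition M K U := by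
  rcases eq_or_ne K ⊥ with rfl | hK1
  · obtain ⟨E, hE⟩ := h.toPre.exists_compl hM
    exact ⟨E, ⟨hKc, hK, by rw [bot_sup_eq]; exact hE, bot_le⟩⟩
  obtain ⟨E, hE, hKE⟩ := h.toPre.exists_compl_ge hM hK.1 (IsPi.mono hK.2.1 fun r hr => hr.2.2.1)
  obtain ⟨U, hUE, -, hUh, hn, hcompl, -, -⟩ := h.exists_U_compl hM hE hK hKE hK1
  refine ⟨U, ⟨hKc, hK, ⟨hUE.trans hE.1, sup_le hK.1 (piCoreOf_le _ _), ?_, fun m hm => ?_⟩,
    hKE.trans hn⟩⟩
  · have h2 := IsPi.sup (π := kappa M ∪ sigma M)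
      (IsPi.mono (isPi_piCoreOf (sigma M) M) Set.subset_union_right)
      (IsPi.mono hK.2.1 Set.subset_union_left) (hK.1.trans (le_normalizer_piCoreOf _ _))
    rw [sup_comm] at h2
    refine inf_eq_bot_of_isPi hUh.2.1 h2 ?_
    rintro r - ⟨-, h1, h2⟩ (h3 | h3)
    exacts [h1 h3, h2 h3]
  · obtain ⟨e, he, s, hs, rfl⟩ := hE.2.2.2 m hm
    obtain ⟨a, ha, k, hk, rfl⟩ := hcompl.2.2.2 e he
    exact ⟨a, ha, k * s, mul_mem (mem_sup_left hk) (mem_sup_right hs), mul_assoc a k s⟩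

/-- `K* ∩ gMg⁻¹ = 1` for `g ∉ M`. -/
theorem Pre'.kstar_inter_conj {M K : Subgroup G} (hM : IsCoatom M) (hK : IsPiHallOf (kappa M) K M)
    (hK1 : K ≠ ⊥) {x g : G} (hx : x ∈ sigmaCore M ⊓ centralizer (K : Set G)) (hx1 : x ≠ 1)
    (hg : x ∈ MulAut.conj g • M) : g ∈ M := by
  obtain ⟨r, hr, e⟩ := h.exists_support_conj hM hx.1 hx1 hg
  rcases hr with rfl | ⟨hn, -⟩
  · rw [conj_one_smul] at e
    rw [← h.toPre.normalizer_maximal hM]
    exact CfsgLib.Solvable.mem_normalizer_iff_conj_smul.2 e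
  · exact absurd (h.kstar_centralizer_le hM hK hK1 hx hx1) hn

/-- `K ∩ gKg⁻¹ = 1` for `g ∈ M ∖ K K*`. -/
theorem Pre'.kappa_inter_conj {M K : Subgroup G} (hM : IsCoatom M) (hK : IsPiHallOf (kappa M) K M)
    {x g : G} (hgM : g ∈ M) (hx : x ∈ K) (hx1 : x ≠ 1) (hxg : x ∈ MulAut.conj g • K) :
    g ∈ K ⊔ (sigmaCore M ⊓ centralizer (K : Set G)) := by
  obtain ⟨p, n, hp, -, hpo⟩ := exists_pow_prime_order hx1
  have hc : Nat.card (zpowers (x ^ n)) = p := by rw [Nat.card_zpowers, hpo]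
  have hle : MulAut.conj g⁻¹ • zpowers (x ^ n) ≤ K :=
    (conj_smul_mono g⁻¹ (zpowers_le.2 (pow_mem hxg n))).trans (conj_smul_inv_self g K).le
  have e := h.eq_of_le_kappaHall hM hK hp hle (zpowers_le.2 (pow_mem hx n)) (by rw [card_conj_smul, hc]) hc
  rw [← h.inter_normalizer_eq hM hK (zpowers_le.2 (pow_mem hx n)) (hc.symm ▸ hp)]
  exact ⟨hgM, by simpa using inv_mem (CfsgLib.Solvable.mem_normalizer_iff_conj_smul.2 e)⟩

/-- The Sylow subgroups of `M_σ` for the primes of `K*`. -/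
theorem Pre'.kstar_sylow {M K S : Subgroup G} (hM : IsCoatom M) (hK : IsPiHallOf (kappa M) K M)
    (hK1 : K ≠ ⊥) {p : ℕ} [hp : Fact p.Prime]
    (hd : p ∣ Nat.card ↥(sigmaCore M ⊓ centralizer (K : Set G)))
    (hS : IsPiHallOf {p} S (sigmaCore M)) :
    InUniqueMaximal S ∧ ¬ S ≤ sigmaCore M ⊓ centralizer (K : Set G) := by
  obtain ⟨X, hX, hXc⟩ := exists_order_prime_le hd
  have hu := (h.kstar_unique hM hK hK1 hXc hX).2 S hS
  refine ⟨hu, fun hle => ?_⟩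
  obtain ⟨q, Y, hq, hY, hYc⟩ := exists_prime_subgroup hK1
  have : Fact q.Prime := ⟨hq⟩
  obtain ⟨L, hL, hNY⟩ := h.toPre.exists_maximal_normalizer hM (hY.trans hK.1) (ne_bot_of_card hq hYc)
  obtain ⟨-, -, hne⟩ := h.kappa_normalizer_sigma hM hK hY hYc hL hNY
  refine hne 1 ?_
  rw [conj_one_smul]
  exact inUniqueMaximal_eq hu hL hM ((hle.trans inf_le_right).trans ((centralizer_anti hY).trans
    ((centralizer_le_normalizer _).trans hNY))) (hS.1.trans (piCoreOf_le _ _))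

/-- A `σ(M)`-subgroup meeting `K*` lies in `M_σ`. -/
theorem Pre'.le_sigmaCore_of_inter_kstar {M K Y : Subgroup G} (hM : IsCoatom M)
    (hK : IsPiHallOf (kappa M) K M) (hK1 : K ≠ ⊥) (hY : IsPi (sigma M) Y)
    (hne : Y ⊓ (sigmaCore M ⊓ centralizer (K : Set G)) ≠ ⊥) : Y ≤ sigmaCore M := by
  obtain ⟨x, hx, hx1⟩ := (bot_or_exists_ne_one _).resolve_left hne
  have hY1 : Y ≠ ⊥ := fun e => hx1 (mem_bot.1 (e ▸ hx.1))
  obtain ⟨g, hg⟩ := h.s1425 M hM Y hY1 hY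
  rw [← conj_smul_eq_map] at hg
  have hle : Y ≤ MulAut.conj g⁻¹ • sigmaCore M :=
    (conj_smul_inv_self g Y).ge.trans (conj_smul_mono g⁻¹ hg)
  have hgM : g⁻¹ ∈ M := h.kstar_inter_conj hM hK hK1 hx.2 hx1 (conj_smul_mono g⁻¹ (piCoreOf_le _ _) (hle hx.1))
  rw [sigmaCore_def] at hle ⊢
  rwa [conj_smul_self_of_mem_normalizer (le_normalizer_piCoreOf (sigma M) M hgM)] at hle

/-- `N(A)` for a plane of a prime in `τ₂`. -/
theorem Pre'.tau2_plane_normalizer {M A L : Subgroup G} (hM : IsCoatom M) {p : ℕ} [hp' : Fact p.Prime]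
    (hp : p ∈ tau2 M) (hAM : A ≤ M) (hA : IsElementaryAbelian p A) (hAc : Nat.card A = p ^ 2)
    (hL : IsCoatom L) (hNA : normalizer (A : Set G) ≤ L) :
    p ∈ sigma L ∧ L ≠ M ∧ sigmaCore M ⊓ L = ⊥ := by
  have hAp := CfsgLib.PGroup.elemAb_isPGroup hA
  have hAL : A ≤ L := le_normalizer.trans hNA
  obtain ⟨E, hE, hAE⟩ := h.toPre.exists_compl_ge hM hAM
    (IsPi.mono (isPi_singleton_of_isPGroup hAp) (by rintro r rfl; exact hp.2.1))
  have hLM : L ≠ M := fun e => (h.s1418 M hM E hE p hp A ⟨hAE, hA, hAc⟩).2.1.2.2 (e ▸ hNA)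
  refine ⟨?_, hLM, (h.s1417 M hM p hp A ⟨hAM, hA, hAc⟩).2.2.2.2.1 L hL hLM hAL⟩
  by_contra hσ
  have hpd : p ∣ Nat.card L :=
    ((dvd_pow_self p two_ne_zero).trans (dvd_of_eq hAc.symm)).trans (card_dvd_of_le hAL)
  rcases h.toPre.tau_cases hL hp'.out hpd hσ with h1 | h1 | h1
  · exact h.toPre.not_rank_one_of_plane hAL hA hAc h1.2.2.2.2
  · obtain ⟨E₀, hE₀, hAE₀⟩ := h.toPre.exists_compl_ge hL hAL
      (IsPi.mono (isPi_singleton_of_isPGroup hAp) (by rintro r rfl; exact hσ))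
    exact (h.s1418 L hL E₀ hE₀ p h1 A ⟨hAE₀, hA, hAc⟩).2.1.2.2 hNA
  · exact h.toPre.not_rank_one_of_plane hAL hA hAc h1.2.2.2

/-- 14.3 (S1432). -/
theorem Pre'.sigma_element_dichotomy {M : Subgroup G} (hM : IsCoatom M) {x x' : G}
    (hx : x ∈ sigmaCore M) (hx1 : x ≠ 1) (hx'M : x' ∈ M) (hxx' : Commute x x') (hx'1 : x' ≠ 1)
    (hσ : ∀ p : ℕ, p.Prime → p ∣ orderOf x' → p ∉ sigma M) :
    ((∀ p : ℕ, p.Prime → p ∣ orderOf x' → p ∈ kappa M) ∧ centralizer ({x} : Set G) ≤ M) ∨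
      ((∀ p : ℕ, p.Prime → p ∣ orderOf x' → p ∈ tau2 M) ∧
        (∃ L : Subgroup G, IsCoatom L ∧ ∀ p : ℕ, p.Prime → p ∣ orderOf x' → p ∈ sigma L) ∧
        (centralizer ({x'} : Set G) ≤ M ∧
          ∀ L : Subgroup G, IsCoatom L → centralizer ({x'} : Set G) ≤ L → L = M)) := by
  have hpow : ∀ {r : ℕ}, r.Prime → r ∣ orderOf x' →
      Nat.card (zpowers (x' ^ (orderOf x' / r))) = r := fun {r} hr hd => by
    rw [Nat.card_zpowers, orderOf_pow_orderOf_div (orderOf_pos x').ne' hd]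
  have hfix : ∀ n : ℕ, x ∈ sigmaCore M ⊓ centralizer ((zpowers (x' ^ n) : Subgroup G) : Set G) := fun n =>
    ⟨hx, by rw [SetLike.mem_coe] at *; rw [centralizer_zpowers]; exact mem_centralizer_singleton_iff.2 (hxx'.pow_right n).eq⟩
  by_cases hκ : ∃ r : ℕ, r.Prime ∧ r ∣ orderOf x' ∧ r ∈ kappa M
  · obtain ⟨r, hr, hrd, hrκ⟩ := hκ
    have : Fact r.Prime := ⟨hr⟩
    obtain ⟨K, hK⟩ := CfsgLib.PGroup.exists_isPiHallOf (kappa M) M (h.toPre.isSolvable hM.1)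
    set v := x' ^ (orderOf x' / r) with hv
    obtain ⟨m, hm, hle⟩ := exists_conj_le_hallOf (h.toPre.isSolvable hM.1) hK (zpowers_le.2 (pow_mem hx'M _))
      (IsPi.mono (isPi_singleton_of_isPGroup (isPGroup_of_card (hpow hr hrd))) (by rintro y rfl; exact hrκ))
    have hv' : m * v * m⁻¹ ∈ K := hle (conj_smul_le_iff.1 le_rfl v (mem_zpowers v))
    have hv1 : m * v * m⁻¹ ≠ 1 := by
      rw [Ne, conj_eq_one_iff]
      intro e
      have := hpow hr hrd
      rw [← hv, e, zpowers_one_eq_bot, Subgroup.card_bot] at this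
      exact hr.ne_one this.symm
    have hK1 : K ≠ ⊥ := fun e => hv1 (mem_bot.1 (e ▸ hv'))
    have hxv : Commute x v := hxx'.pow_right _
    have hx'' : m * x * m⁻¹ ∈ sigmaCore M ⊓ centralizer (K : Set G) := by
      rw [← h.kappa_fixed_eq hM hK hv' hv1]
      refine ⟨(mem_normalizer_iff.1 (le_normalizer_piCoreOf (sigma M) M hm) x).1 hx,
        mem_centralizer_singleton_iff.2 ?_⟩
      calc m * x * m⁻¹ * (m * v * m⁻¹) = m * (x * v) * m⁻¹ := by group
        _ = m * v * m⁻¹ * (m * x * m⁻¹) := by rw [hxv.eq]; group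
    refine Or.inl ⟨fun p hp hpd => ?_, ?_⟩
    · have hmem : m * x' * m⁻¹ ∈ K ⊔ (sigmaCore M ⊓ centralizer (K : Set G)) := by
        rw [← h.inter_normalizer_eq hM hK (X := MulAut.conj m • zpowers v) hle
          (by rw [card_conj_smul, hv, hpow hr hrd]; exact hr)]
        refine ⟨M.mul_mem (M.mul_mem hm hx'M) (M.inv_mem hm), ?_⟩
        show m * x' * m⁻¹ ∈ normalizer _
        rw [conj_smul_normalizer, mem_conj_smul_iff]
        refine centralizer_le_normalizer _ ?_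
        rw [centralizer_zpowers, show m⁻¹ * (m * x' * m⁻¹) * m = x' by group, mem_centralizer_singleton_iff]
        exact ((Commute.refl x').pow_right _).eq
      have hpi : IsPi (kappa M ∪ sigma M) (sigmaCore M ⊓ centralizer (K : Set G) ⊔ K) :=
        IsPi.sup (IsPi.mono (IsPi.of_le (isPi_piCoreOf (sigma M) M) inf_le_left) Set.subset_union_right)
          (IsPi.mono hK.2.1 Set.subset_union_left)
          ((le_inf (hK.1.trans (le_normalizer_piCoreOf _ _))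
            (le_normalizer.trans (CfsgLib.Solvable.normalizer_le_normalizer_centralizer K))).trans
            (CfsgLib.Solvable.le_normalizer_inf inf_le_left inf_le_right))
      rw [sup_comm] at hmem
      refine (hpi p hp ?_).resolve_right (hσ p hp hpd)
      refine hpd.trans (dvd_trans (dvd_of_eq ?_) (Subgroup.orderOf_dvd_natCard _ hmem))
      exact ((MulAut.conj m).orderOf_eq x').symm
    · intro y hy
      have hC := h.kstar_centralizer_le hM hK hK1 hx'' (by rw [Ne, conj_eq_one_iff]; exact hx1)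
      have hmy : m * y * m⁻¹ ∈ M := hC (mem_centralizer_singleton_iff.2 (by
        calc m * y * m⁻¹ * (m * x * m⁻¹) = m * (y * x) * m⁻¹ := by group
          _ = m * x * m⁻¹ * (m * y * m⁻¹) := by rw [mem_centralizer_singleton_iff.1 hy]; group))
      simpa [mul_assoc] using M.mul_mem (M.mul_mem (M.inv_mem hm) hmy) hm
  · push Not at hκ
    have hτ : ∀ p : ℕ, p.Prime → p ∣ orderOf x' → p ∈ tau2 M := by
      intro p hp hpd
      have hpM : p ∣ Nat.card M := hpd.trans (M.orderOf_dvd_natCard hx'M)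
      rcases h.toPre.tau_cases hM hp hpM (hσ p hp hpd) with h1 | h1 | h1
      rotate_left
      · exact h1
      all_goals
        refine absurd (h.toPre.kappa_of_fixed hM ?_ (zpowers_le.2 (pow_mem hx'M _)) (hpow hp hpd)
          fun e => hx1 (mem_bot.1 (e.le (hfix _)))) (hκ p hp hpd)
        first | exact Or.inl h1 | exact Or.inr h1
    obtain ⟨r, hr, hrd⟩ := exists_prime_orderOf hx'1
    have : Fact r.Prime := ⟨hr⟩
    obtain ⟨E, hE⟩ := h.toPre.exists_compl hM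
    obtain ⟨A, hAE, hA, hAc⟩ := h.toPre.exists_plane_compl hM hE (hτ r hr hrd)
    obtain ⟨⟨hEA, -⟩, -, -⟩ := h.s1418 M hM E hE r (hτ r hr hrd) A ⟨hAE, hA, hAc⟩
    obtain ⟨L, hL, hNA⟩ := h.toPre.exists_maximal_normalizer hM (hAE.trans hE.1)
      (fun e => by rw [e, Subgroup.card_bot] at hAc; exact (Nat.one_lt_pow two_ne_zero hr.one_lt).ne hAc)
    obtain ⟨hrL, hLM, -⟩ := h.tau2_plane_normalizer hM (hτ r hr hrd) (hAE.trans hE.1) hA hAc hL hNA
    refine Or.inr ⟨hτ, ⟨L, hL, fun p hp hpd => ?_⟩,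
      (h.s1420 M hM E hE).2.2.2 x' hx'M hx'1 hτ ⟨hx'M, x, hx, hx1, hxx'.eq.symm⟩⟩
    rcases eq_or_ne p r with rfl | hpr
    · exact hrL
    have : Fact p.Prime := ⟨hp⟩
    obtain ⟨B, hBE, hB, hBc⟩ := h.toPre.exists_plane_compl hM hE (hτ p hp hpd)
    obtain ⟨⟨hEB, -⟩, -, -⟩ := h.s1418 M hM E hE p (hτ p hp hpd) B ⟨hBE, hB, hBc⟩
    have hBL : B ≤ L := (hBE.trans hEA).trans hNA
    by_contra hpσ
    have hpL : p ∣ Nat.card L :=
      ((dvd_pow_self p two_ne_zero).trans (dvd_of_eq hBc.symm)).trans (card_dvd_of_le hBL)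
    rcases h.toPre.tau_cases hL hp hpL hpσ with h1 | h1 | h1
    · exact h.toPre.not_rank_one_of_plane hBL hB hBc h1.2.2.2.2
    · obtain ⟨-, -, -, hbot, -, -⟩ := h.s1417 L hL p h1 B ⟨hBL, hB, hBc⟩
      have hA1 : A ≤ sigmaCore L ⊓ centralizer (B : Set G) := by
        refine le_inf (h.toPre.le_sigmaCore hL (le_normalizer.trans hNA) (IsPi.mono (isPi_singleton_of_isPGroup
          (CfsgLib.PGroup.elemAb_isPGroup hA)) (by rintro y rfl; exact hrL))) fun a ha => ?_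
        refine CfsgLib.Solvable.mem_centralizer_of_mem_normalizer (hBE.trans hEA) ?_ ha ((hAE.trans hEB) ha)
        exact CfsgLib.Solvable.disjoint_of_coprime (coprime_of_pGroups
          (CfsgLib.PGroup.elemAb_isPGroup hA) (CfsgLib.PGroup.elemAb_isPGroup hB) hpr.symm)
      rw [hbot, le_bot_iff] at hA1
      rw [hA1, Subgroup.card_bot] at hAc
      exact (Nat.one_lt_pow two_ne_zero hr.one_lt).ne hAc
    · exact h.toPre.not_rank_one_of_plane hBL hB hBc h1.2.2.2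

end CfsgLib.OddLocal.Sec13
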