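import Cfsg.Agent.Lib.OddLocal.Sec14Count
import Cfsg.Agent.Lib.OddLocal.Sec14Structure
import Cfsg.Agent.Lib.OddLocal.S15Fitting

/-!
# BG 14.4–14.5 in the language of `supportR` and `tildeOf`

S1374, S1375, S1377, S1378 and the disjointness part of S1379.
-/

set_option autoImplicit false
set_option linter.unusedSectionVars false

open scoped Pointwise

namespace CfsgLib.OddLocal.Sec13

open Cfsg Subgroup
open CfsgLib.Solvable (mem_conj_smul_iff conj_smul_eq_map conj_smul_conj_smul)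

universe u
variable {G : Type u} [Group G] [Finite G]

variable (h : Pre' G)
include h

/-- Statement S1378. -/
theorem Pre'.hyp1378 : S15.Hyp1378 G := by
  refine ⟨fun p hp hd => ?_, fun M N hM hN ⟨q, hq, hq'⟩ => ?_⟩
  · haveI := Fact.mk hp
    obtain ⟨S⟩ : Nonempty (Sylow p G) := inferInstance
    have hS1 : (S : Subgroup G) ≠ ⊥ := S.ne_bot_of_dvd_card hd
    have hStop : (S : Subgroup G) ≠ ⊤ := fun e =>
      CfsgLib.OddLocal.not_isPGroup_minSimple h.toPre.min p fun g => by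
        obtain ⟨k, hk⟩ := S.2 ⟨g, e ▸ Subgroup.mem_top g⟩
        exact ⟨k, by simpa using congrArg Subtype.val hk⟩
    obtain ⟨M, hM, hNM⟩ := exists_maximal_ge (normalizer_ne_top h.toPre.min hS1 hStop)
    have hSM : (S : Subgroup G) ≤ M := le_normalizer.trans hNM
    refine ⟨M, hM, hp, ?_, S.subtype hSM, ?_⟩
    · obtain ⟨k, hk⟩ := S.2.exists_card_eq
      refine dvd_trans ?_ (card_dvd_of_le hSM)
      rw [hk]
      exact dvd_pow_self p fun e => hS1 (Subgroup.card_eq_one.1 (by rw [hk, e, pow_zero]))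
    · rwa [Sylow.coe_subtype, Subgroup.map_subgroupOf_eq_of_le hSM]
  · by_contra hno
    push Not at hno
    exact h.not_sigma_inter hM hN (fun g e => hno g (by rw [e, conj_smul_eq_map])) hq hq'

/-- The supporting maximal subgroup has `N_σ = N_F`. -/
theorem Pre'.supporting_fittingHall {M N : Subgroup G} {x : G} (hx1 : x ≠ 1) (hN : IsCoatom N)
    (hτ : ∀ r : ℕ, r.Prime → r ∣ orderOf x → r ∈ tau2 N ∧ r ∉ beta M) :
    fittingHallOf N = sigmaCore N := by
  obtain ⟨r, hr, hd⟩ := exists_prime_orderOf hx1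
  haveI := Fact.mk hr
  obtain ⟨S, hS⟩ := exists_sylowOf N r
  obtain ⟨A, hAS, hAe, hAc⟩ := h.toPre.exists_elementary_tau2 hN (hτ r hr hd).1 hS
  exact S15.fittingHallOf_eq_of_isNilpotent h.toPre.hyp1350 hN h.toPre.min
    (h.toPre.s1417 N hN r (hτ r hr hd).1 A ⟨hAS.trans hS.1, hAe, hAc⟩).1

theorem Pre'.supportR_eq {M N : Subgroup G} {x : G} (hxM : ¬ centralizer ({x} : Set G) ≤ M)
    (hN : IsCoatom N) (hxN : centralizer ({x} : Set G) ≤ N)
    (hu : ∀ L : Subgroup G, IsCoatom L → centralizer ({x} : Set G) ≤ L → L = N) :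
    supportR M x = fittingHallOf N ⊓ centralizer ({x} : Set G) := by
  classical
  have hex : ∃! L : Subgroup G, IsCoatom L ∧ centralizer ({x} : Set G) ≤ L :=
    ⟨N, ⟨hN, hxN⟩, fun L hL => hu L hL.1 hL.2⟩
  unfold Cfsg.supportR
  rw [dif_pos ⟨hxM, hex⟩]
  rw [hu _ (Classical.choose_spec hex.exists).1 (Classical.choose_spec hex.exists).2]

theorem Pre'.mem_supportR_of_inSupport {M : Subgroup G} (hM : IsCoatom M) {x r : G}
    (hx : x ∈ sigmaCore M) (hx1 : x ≠ 1) (hr : InSupport M x r) : r ∈ supportR M x := by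
  rcases hr with rfl | ⟨hxM, hc, N', hN', hle, hrN⟩
  · exact one_mem _
  obtain ⟨N, hN, hxN, hu, -, hτ, -⟩ := h.supporting_maximal hM hx hx1 hxM
  rw [h.supportR_eq hxM hN hxN hu, h.supporting_fittingHall hx1 hN hτ]
  exact ⟨hu N' hN' hle ▸ hrN, hc⟩

omit h in
theorem InSupport.conj {M : Subgroup G} {x r : G} (hr : InSupport M x r) (g : G) :
    InSupport (MulAut.conj g • M) (g * x * g⁻¹) (g * r * g⁻¹) := by
  rcases hr with rfl | ⟨hxM, hc, N, hN, hle, hrN⟩
  · exact Or.inl (by group)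
  have hcent : ∀ c : G, c ∈ centralizer ({g * x * g⁻¹} : Set G) ↔
      g⁻¹ * c * g ∈ centralizer ({x} : Set G) := fun c => by
    rw [mem_centralizer_singleton_iff, mem_centralizer_singleton_iff]
    constructor
    · intro e
      calc g⁻¹ * c * g * x = g⁻¹ * (c * (g * x * g⁻¹)) * g := by group
        _ = g⁻¹ * (g * x * g⁻¹ * c) * g := by rw [e]
        _ = x * (g⁻¹ * c * g) := by group
    · intro e
      calc c * (g * x * g⁻¹) = g * (g⁻¹ * c * g * x) * g⁻¹ := by group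
        _ = g * (x * (g⁻¹ * c * g)) * g⁻¹ := by rw [e]
        _ = g * x * g⁻¹ * c := by group
  refine Or.inr ⟨fun hle' => hxM fun c hc' => ?_, (hcent _).2 ?_, MulAut.conj g • N,
    isCoatom_conj hN g, fun c hc' => mem_conj_smul_iff.2 (hle ((hcent c).1 hc')), ?_⟩
  · have h1 := mem_conj_smul_iff.1 (hle' ((hcent (g * c * g⁻¹)).2 (by
      rwa [show g⁻¹ * (g * c * g⁻¹) * g = c by group])))
    rwa [show g⁻¹ * (g * c * g⁻¹) * g = c by group] at h1
  · rwa [show g⁻¹ * (g * r * g⁻¹) * g = r by group]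
  · rw [sigmaCore_conj, mem_conj_smul_iff]
    rwa [show g⁻¹ * (g * r * g⁻¹) * g = r by group]

/-- `M̃` is the spread of `M`. -/
theorem Pre'.tildeOf_eq {M : Subgroup G} (hM : IsCoatom M) :
    tildeOf M ((sigmaCore M : Set G) \ {1}) = sigmaSpread M := by
  ext g
  constructor
  · rintro ⟨a, ⟨ha, ha1⟩, r, hr, y, rfl⟩
    refine ⟨y, y * a * y⁻¹, y * r * y⁻¹, ?_, fun e => ha1 (conj_eq_one_iff.1 e),
      (h.inSupport_of_mem_supportR hM ha ha1 hr).conj y, by group⟩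
    rw [sigmaCore_conj, mem_conj_smul_iff, show y⁻¹ * (y * a * y⁻¹) * y = a by group]
    exact ha
  · rintro ⟨a, x, r, hx, hx1, hr, rfl⟩
    rw [sigmaCore_conj, mem_conj_smul_iff] at hx
    have hr' := hr.conj a⁻¹
    rw [conj_smul_inv_self, inv_inv] at hr'
    have hx' : a⁻¹ * x * a ≠ 1 := fun e => hx1 (by
      calc x = a * (a⁻¹ * x * a) * a⁻¹ := by group
        _ = 1 := by rw [e]; group)
    exact ⟨_, ⟨hx, hx'⟩, _, h.mem_supportR_of_inSupport hM hx hx' hr', a, by group⟩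

/-- Statement S1377. -/
theorem Pre'.ncard_tildeOf {M : Subgroup G} (hM : IsCoatom M) :
    Set.ncard (tildeOf M ((sigmaCore M : Set G) \ {1})) = (Nat.card (sigmaCore M) - 1) * M.index := by
  rw [h.tildeOf_eq hM, h.ncard_sigmaSpread hM]

/-- The first part of S1379. -/
theorem Pre'.tildeOf_disjoint {M N : Subgroup G} (hM : IsCoatom M) (hN : IsCoatom N)
    (hne : ∀ g : G, N ≠ M.map (MulAut.conj g).toMonoidHom) :
    tildeOf M ((sigmaCore M : Set G) \ {1}) ∩ tildeOf N ((sigmaCore N : Set G) \ {1}) = ∅ := by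
  rw [h.tildeOf_eq hM, h.tildeOf_eq hN]
  exact (h.disjoint_sigmaSpread hM hN fun g e => hne g (by rw [e, conj_smul_eq_map])).inter_eq

/-- Statement S1374. -/
theorem Pre'.hyp1374 : S15.Hyp1374 G := by
  intro M hM x hx hx1
  by_cases hxM : centralizer ({x} : Set G) ≤ M
  · rw [inf_eq_right.2 hxM]
    refine ⟨by rw [relIndex_self]; exact Nat.coprime_one_right _, ⊥, ?_, ?_, fun g hg => ?_⟩
    · rw [Subgroup.normalizer_eq_top_iff.2 inferInstance]; exact le_top
    · exact ⟨le_rfl, bot_le, inf_bot_eq _, fun m hm => ⟨m, hm, 1, one_mem _, (mul_one m).symm⟩⟩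
    · obtain ⟨r, hr, e⟩ := h.exists_support_conj hM hx hx1 (g := g) (by rwa [conj_smul_eq_map])
      rcases hr with rfl | ⟨h1, -⟩
      · refine ⟨1, ⟨one_mem _, ?_⟩, fun s hs => Subgroup.mem_bot.1 hs.1⟩
        rw [← conj_smul_eq_map, ← conj_smul_eq_map, e]
      · exact absurd hxM h1
  obtain ⟨N, hN, hxN, hu, -, hτ, hMN, hbot, -⟩ := h.supporting_maximal hM hx hx1 hxM
  set C := centralizer ({x} : Set G) with hC
  have hCn : C ≤ normalizer ((sigmaCore N ⊓ C : Subgroup G) : Set G) :=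
    CfsgLib.Solvable.le_normalizer_inf (hxN.trans (le_normalizer_piCoreOf (sigma N) N)) le_normalizer
  have hcompl : IsComplIn (M ⊓ C) (sigmaCore N ⊓ C) C := by
    refine ⟨inf_le_right, inf_le_right, ?_, fun c hc => ?_⟩
    · rw [eq_bot_iff, ← hbot]
      exact fun z hz => ⟨hz.2.1, hz.1.1⟩
    · obtain ⟨k, hk, b, hb, rfl⟩ := h.toPre.exists_compl_mul hN hMN
        (A := zpowers x) (zpowers_le.2 ⟨piCoreOf_le _ _ hx, hxN (mem_centralizer_singleton_self x)⟩)
        (hxN hc) ((centralizer_zpowers x).ge hc)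
      rw [centralizer_zpowers] at hk hb
      have hkb : b⁻¹ * k * b⁻¹⁻¹ ∈ sigmaCore N ⊓ C :=
        (mem_normalizer_iff.1 (hCn (C.inv_mem hb.2)) k).1 hk
      exact ⟨b, ⟨hb.1.1, hb.2⟩, b⁻¹ * k * b, by rwa [inv_inv] at hkb, by group⟩
  obtain ⟨e1, e2⟩ := relIndex_of_isComplIn hcompl
  refine ⟨?_, sigmaCore N ⊓ C, hCn, hcompl, fun g hg => ?_⟩
  · rw [e2]
    refine coprime_of_isPi (π := {p | p ∉ sigma N}) (π' := sigma N) ?_
      (IsPi.of_le (isPi_piCoreOf (sigma N) N) inf_le_left) fun r _ h1 h2 => h1 h2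
    exact IsPi.of_le (h.toPre.compl_isPi hN hMN) (inf_le_inf_left _ hxN)
  · obtain ⟨r, hr, e⟩ := h.exists_support_conj hM hx hx1 (g := g) (by rwa [conj_smul_eq_map])
    have hmem : ∀ s : G, InSupport M x s ↔ s ∈ sigmaCore N ⊓ C := fun s => by
      constructor
      · rintro (rfl | ⟨-, hc, N', hN', hle, hs⟩)
        · exact one_mem _
        · exact ⟨hu N' hN' hle ▸ hs, hc⟩
      · exact fun hs => Or.inr ⟨hxM, hs.2, N, hN, hxN, hs.1⟩
    refine ⟨r, ⟨(hmem r).1 hr, ?_⟩, fun s hs => ?_⟩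
    · rw [← conj_smul_eq_map, ← conj_smul_eq_map, e]
    · refine h.support_conj_inj hM hx hx1 ((hmem s).2 hs.1) hr ?_
      rw [← e, conj_smul_eq_map, conj_smul_eq_map, hs.2]

/-- Statement S1375. -/
theorem Pre'.hyp1375 : S15.Hyp1375 G := by
  intro M hM x hx hx1 hxM
  obtain ⟨N, hN, hxN, hu, -, hτ, hMN, hbot, hCx⟩ := h.supporting_maximal hM hx hx1 hxM
  refine ⟨N, ⟨hN, hxN⟩, hu, (h.supporting_fittingHall hx1 hN hτ).symm, ?_, ?_, hMN, fun K U hKU => ?_⟩
  · exact CfsgLib.Solvable.le_normalizer_inf (hxN.trans (le_normalizer_piCoreOf (sigma N) N))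
      le_normalizer
  · obtain ⟨-, R, -, hR, -⟩ := h.hyp1374 M hM x hx hx1
    refine ⟨inf_le_right, inf_le_right, ?_, fun c hc => ?_⟩
    · rw [eq_bot_iff, ← hbot]
      exact fun z hz => ⟨hz.2.1, hz.1.1⟩
    · obtain ⟨k, hk, b, hb, rfl⟩ := h.toPre.exists_compl_mul hN hMN
        (A := zpowers x) (zpowers_le.2 ⟨piCoreOf_le _ _ hx, hxN (mem_centralizer_singleton_self x)⟩)
        (hxN hc) ((centralizer_zpowers x).ge hc)
      rw [centralizer_zpowers] at hk hb
      refine ⟨b, ⟨hb.1.1, hb.2⟩, b⁻¹ * k * b, ⟨?_, ?_⟩, by group⟩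
      · have := (mem_normalizer_iff.1 (le_normalizer_piCoreOf (sigma N) N (N.inv_mem hb.1.2)) k).1 hk.1
        rwa [inv_inv] at this
      · exact Subgroup.mul_mem _ (Subgroup.mul_mem _ (Subgroup.inv_mem _ hb.2) hk.2) hb.2
  have hxMN : x ∈ M ⊓ N := ⟨piCoreOf_le _ _ hx, hxN (mem_centralizer_singleton_self x)⟩
  have hxσ : x ∉ sigmaCore N := fun hxs => hx1 (mem_bot.1 (hbot.le ⟨hxs, hxMN.1⟩))
  have hxU : x ∈ U ⊔ sigmaCore N := S15.le_U_sup_sigmaCore h.toPre.hyp1350 hN hKU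
    (decomposition_normal hKU) (zpowers_le.2 hxMN.2) (fun p hp hd => by
      rw [Nat.card_zpowers] at hd
      exact S15.tau2_notMem_kappa (hτ p hp hd).1) (mem_zpowers x)
  refine ⟨fun hU => hxσ (by rwa [hU, bot_sup_eq] at hxU), ⟨⟨hxMN.2, ?_⟩, hxU⟩, hxσ⟩
  obtain ⟨y, hy, hy1⟩ := (Subgroup.bot_or_exists_ne_one _).resolve_left hCx
  exact ⟨y, hy.1, hy1, (mem_centralizer_singleton_iff.1 hy.2).symm⟩

end CfsgLib.OddLocal.Sec13
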