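import Cfsg.Agent.Lib.OddLocal.Sec14Z

/-!
BG 14.7: the maximal subgroups attached to `Z = K K*` and the counting argument: they do not all
satisfy `|L| = |K_L| |L_σ|`.
-/

set_option autoImplicit false
set_option linter.unusedSectionVars false

open scoped Pointwise

namespace CfsgLib.OddLocal.Sec13

open Cfsg Subgroup
open CfsgLib.Solvable (conj_smul_le_iff mem_conj_smul_iff card_conj_smul conj_smul_conj_smul
  conj_smul_mono conj_smul_self_of_mem_normalizer conj_smul_eq_map)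

/-- `K*`. -/
local notation "Ks(" M ", " K ")" => sigmaCore M ⊓ centralizer ((K : Subgroup _) : Set _)

universe u
variable {G : Type u} [Group G] [Finite G]

/-- `M` and the maximal subgroups over `N(X)`, `X ≤ K` of prime order. -/
def IsMember (M K L : Subgroup G) : Prop :=
  L = M ∨ ∃ X : Subgroup G, X ≤ K ∧ (Nat.card X).Prime ∧ IsCoatom L ∧ normalizer (X : Set G) ≤ L

theorem card_of_hallOf_eq {π : Set ℕ} {M H H' : Subgroup G} (hsol : Group.IsSolvable M)
    (hH : IsPiHallOf π H M) (hH' : IsPiHallOf π H' M) : Nat.card H = Nat.card H' := by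
  refine le_antisymm ?_ ?_
  · obtain ⟨m, -, hle⟩ := exists_conj_le_hallOf hsol hH' hH.1 hH.2.1
    simpa [card_conj_smul] using card_le_of_le hle
  · obtain ⟨m, -, hle⟩ := exists_conj_le_hallOf hsol hH hH'.1 hH'.2.1
    simpa [card_conj_smul] using card_le_of_le hle

/-- A Hall `κ(L)`-subgroup is determined by `Z`. -/
theorem kappaHall_eq_of_Z {L K₁ K₂ : Subgroup G} (h₁ : IsPiHallOf (kappa L) K₁ L)
    (h₂ : IsPiHallOf (kappa L) K₂ L) (hle : K₂ ≤ K₁ ⊔ Ks(L, K₁)) : K₂ = K₁ := by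
  refine (hallOf_eq_of_le h₂ ?_ h₁.1 h₁.2.1).symm
  intro x hx
  obtain ⟨a, ha, b, hb, rfl⟩ := exists_mul_of_mem_Z (hle hx)
  have hf : ∀ z : G, IsOfFinOrder z := fun z => isOfFinOrder_of_finite z
  obtain ⟨hb1, -⟩ := eq_of_mul_eq_mul_of_primes (π := sigma L) (a := b) (b := a) (c := 1) (d := a * b)
    (kstar_commute ha hb).symm (Commute.one_left _) (hf _) (hf _) (hf _) (hf _)
    (fun p hp h' => sigmaCore_orderOf hb.1 hp h') (fun p hp h' => kappaHall_orderOf h₁ ha hp h')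
    (fun p hp h' => absurd (Nat.eq_one_of_dvd_one (orderOf_one (G := G) ▸ h')) hp.ne_one)
    (fun p hp h' => kappaHall_orderOf h₂ hx hp h')
    (by rw [one_mul, (kstar_commute ha hb).eq])
  rwa [hb1, mul_one]

variable (h : Pre' G)
include h

theorem Pre'.member_struct {M K L : Subgroup G} (hM : IsCoatom M) (hK : IsPiHallOf (kappa M) K M)
    (hK1 : K ≠ ⊥) (hL : IsMember M K L) :
    IsCoatom L ∧ ∃ K₁ : Subgroup G, IsPiHallOf (kappa L) K₁ L ∧ K₁ ≠ ⊥ ∧
      K₁ ⊔ Ks(L, K₁) = K ⊔ Ks(M, K) := by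
  rcases hL with rfl | ⟨X, hX, hXp, hLc, hNX⟩
  · exact ⟨hM, K, hK, hK1, rfl⟩
  · have : Fact (Nat.card X).Prime := ⟨hXp⟩
    obtain ⟨-, -, -, -, K₁, hK₁, hK₁1, -, -, -, hZ⟩ := h.neighbour hM hK hX rfl hLc hNX
    exact ⟨hLc, K₁, hK₁, hK₁1, hZ⟩

theorem Pre'.member_Z_le {M K L : Subgroup G} (hM : IsCoatom M) (hK : IsPiHallOf (kappa M) K M)
    (hK1 : K ≠ ⊥) (hL : IsMember M K L) : K ⊔ Ks(M, K) ≤ L := by
  obtain ⟨-, K₁, hK₁, -, hZ⟩ := h.member_struct hM hK hK1 hL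
  exact hZ ▸ sup_le hK₁.1 (inf_le_left.trans (piCoreOf_le _ _))

/-- Distinct members are not conjugate. -/
theorem Pre'.member_conj {M K L L' : Subgroup G} (hM : IsCoatom M) (hK : IsPiHallOf (kappa M) K M)
    (hK1 : K ≠ ⊥) (hL : IsMember M K L) (hL' : IsMember M K L') {g : G}
    (hg : L' = MulAut.conj g • L) : L' = L := by
  have hZ := h.member_Z_le hM hK hK1 hL'
  rcases hL with hL0 | ⟨X, hX, hXp, hLc, hNX⟩
  · subst hL0
    rcases hL' with rfl | ⟨X, hX, hXp, hLc, hNX⟩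
    · rfl
    · have : Fact (Nat.card X).Prime := ⟨hXp⟩
      exact absurd hg ((h.neighbour hM hK hX rfl hLc hNX).2.1 g)
  · have : Fact (Nat.card X).Prime := ⟨hXp⟩
    obtain ⟨hp, -, hC, -⟩ := h.neighbour hM hK hX rfl hLc hNX
    exact h.toPre.eq_of_conj hLc hp (isPGroup_of_card rfl) (ne_bot_of_card hXp rfl)
      (le_normalizer.trans hNX) ((hX.trans le_sup_left).trans hZ) hC hg

/-- Every prime of `Z` lies in `σ(L)` for a member `L`. -/
theorem Pre'.exists_member_sigma {M K : Subgroup G} (hM : IsCoatom M) (hK : IsPiHallOf (kappa M) K M)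
    {q : ℕ} (hq : q.Prime) (hd : q ∣ Nat.card ↥(K ⊔ Ks(M, K))) :
    ∃ L : Subgroup G, IsMember M K L ∧ q ∈ sigma L := by
  rw [card_Z hK] at hd
  rcases hq.dvd_mul.1 hd with h1 | h1
  · have : Fact q.Prime := ⟨hq⟩
    obtain ⟨X, hX, hXc⟩ := exists_order_prime_le h1
    obtain ⟨L, hL, hNX⟩ := h.toPre.exists_maximal_normalizer hM (hX.trans hK.1) (ne_bot_of_card hq hXc)
    exact ⟨L, Or.inr ⟨X, hX, hXc.symm ▸ hq, hL, hNX⟩, (h.neighbour hM hK hX hXc hL hNX).1⟩
  · exact ⟨M, Or.inl rfl, isPi_piCoreOf (sigma M) M q hq (h1.trans (card_dvd_of_le inf_le_left))⟩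

/-- `|M| = |K| |M_σ|`, or `K` is cyclic and `U ≠ 1`. -/
theorem Pre'.card_or_decomposition {M K : Subgroup G} (hM : IsCoatom M) (hK : IsPiHallOf (kappa M) K M)
    (hK1 : K ≠ ⊥) :
    Nat.card M = Nat.card K * Nat.card (sigmaCore M) ∨
      ∃ U : Subgroup G, IsSigmaDecomposition M K U ∧ U ≠ ⊥ := by
  obtain ⟨E, hE, hKE⟩ := h.toPre.exists_compl_ge hM hK.1 (IsPi.mono hK.2.1 fun r hr => hr.2.2.1)
  obtain ⟨U, -, -, -, -, -, -, hcase⟩ := h.exists_U_compl hM hE hK hKE hK1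
  rcases hcase with ⟨-, -, hc⟩ | ⟨-, rfl, -⟩
  · obtain ⟨U', hU'⟩ := h.exists_decomposition_of_cyclic hM hc hK
    rcases eq_or_ne U' ⊥ with rfl | hne
    · left
      have := S15.card_M h.toPre.hyp1350 hM hU'
      rwa [Subgroup.card_bot, one_mul] at this
    · exact Or.inr ⟨U', hU', hne⟩
  · exact Or.inl (card_of_isComplIn hE)

/-- The count: not every member `L` has order `|K_L| |L_σ|`. -/
theorem Pre'.exists_member_U {M K : Subgroup G} (hM : IsCoatom M) (hK : IsPiHallOf (kappa M) K M)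
    (hK1 : K ≠ ⊥) :
    ∃ L K₁ U : Subgroup G, IsMember M K L ∧ IsPiHallOf (kappa L) K₁ L ∧
      K₁ ⊔ Ks(L, K₁) = K ⊔ Ks(M, K) ∧ IsSigmaDecomposition L K₁ U ∧ U ≠ ⊥ := by
  classical
  by_contra hno
  push Not at hno
  haveI : Fintype G := Fintype.ofFinite G
  haveI : Fintype (Subgroup G) := Fintype.ofFinite _
  set F : Finset (Subgroup G) := Finset.univ.filter fun L => IsMember M K L with hF
  have hmem : ∀ {L : Subgroup G}, L ∈ F ↔ IsMember M K L := fun {L} => by simp [hF]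
  set Z := K ⊔ Ks(M, K) with hZdef
  set T : Finset G := Finset.univ.filter fun z => z ∈ Z ∧ ∀ L ∈ F, z ∉ sigmaCore L with hT
  have hTmem : ∀ {z : G}, z ∈ T ↔ z ∈ Z ∧ ∀ L ∈ F, z ∉ sigmaCore L := fun {z} => by simp [hT]
  have hne1 : ∀ {z : G}, z ∈ T → z ≠ 1 := fun hz e =>
    (hTmem.1 hz).2 M (hmem.2 (Or.inl rfl)) (e ▸ one_mem _)
  -- trivial intersections
  have hti : ∀ g : G, ∀ z ∈ (T : Set G), g * z * g⁻¹ ∈ (T : Set G) → g ∈ Z := by
    intro g z hz hgz
    obtain ⟨q, hq, hqd⟩ := exists_prime_orderOf (hne1 hz)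
    obtain ⟨hzZ, hzσ⟩ := hTmem.1 hz
    obtain ⟨L, hL, hqL⟩ := h.exists_member_sigma hM hK hq (hqd.trans (Z.orderOf_dvd_natCard hzZ))
    obtain ⟨hLc, K₁, hK₁, hK₁1, eZ⟩ := h.member_struct hM hK hK1 hL
    obtain ⟨a, ha, b, hb, rfl⟩ := exists_mul_of_mem_Z (eZ.ge hzZ : z ∈ K₁ ⊔ Ks(L, K₁))
    have hb1 : b ≠ 1 := by
      rintro rfl
      rw [mul_one] at hqd
      exact kappaHall_orderOf hK₁ ha hq hqd hqL
    have ha1 : a ≠ 1 := by
      rintro rfl
      exact hzσ L (hmem.2 hL) (by rw [one_mul]; exact hb.1)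
    exact eZ.le (h.Z_ti hLc hK₁ hK₁1 ha ha1 hb hb1 (eZ.ge (hTmem.1 hgz).1))
  have hnorm : ∀ g ∈ Z, ∀ z ∈ (T : Set G), g * z * g⁻¹ ∈ (T : Set G) := by
    intro g hg z hz
    obtain ⟨hzZ, hzσ⟩ := hTmem.1 hz
    refine hTmem.2 ⟨Z.mul_mem (Z.mul_mem hg hzZ) (Z.inv_mem hg), fun L hL hc => hzσ L hL ?_⟩
    exact (mem_normalizer_iff.1 (le_normalizer_piCoreOf (sigma L) L
      (h.member_Z_le hM hK hK1 (hmem.1 hL) hg)) z).2 hc
  set C : Finset G := (conjSet (T : Set G)).toFinset with hC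
  have hCcard : C.card = Z.index * T.card := by
    rw [hC, ← Set.ncard_eq_toFinset_card', ncard_conjSet hti hnorm, Set.ncard_coe_finset]
  set S : Subgroup G → Finset G := fun L => (sigmaSpread L).toFinset with hS
  have hScard : ∀ L ∈ F, (S L).card = (Nat.card (sigmaCore L) - 1) * L.index := fun L hL => by
    rw [hS, ← Set.ncard_eq_toFinset_card', h.ncard_sigmaSpread (h.member_struct hM hK hK1 (hmem.1 hL)).1]
  have hSdisj : (F : Set (Subgroup G)).PairwiseDisjoint S := by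
    intro L hL L' hL' hne
    rw [Function.onFun, hS, Set.disjoint_toFinset]
    exact h.disjoint_sigmaSpread (h.member_struct hM hK hK1 (hmem.1 hL)).1
      (h.member_struct hM hK hK1 (hmem.1 hL')).1
      fun g hg => hne (h.member_conj hM hK hK1 (hmem.1 hL) (hmem.1 hL') hg).symm
  have hCS : Disjoint C (F.biUnion S) := by
    rw [Finset.disjoint_left]
    intro w hw hw'
    obtain ⟨L, hL, hwS⟩ := Finset.mem_biUnion.1 hw'
    obtain ⟨g, z, hz, rfl⟩ : w ∈ conjSet (T : Set G) := Set.mem_toFinset.1 hw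
    obtain ⟨hLc, K₁, hK₁, hK₁1, eZ⟩ := h.member_struct hM hK hK1 (hmem.1 hL)
    obtain ⟨hzZ, hzσ⟩ := hTmem.1 hz
    obtain ⟨a, ha, b, hb, rfl⟩ := exists_mul_of_mem_Z (eZ.ge hzZ : z ∈ K₁ ⊔ Ks(L, K₁))
    exact h.Z_not_mem_spread hLc hK₁ hK₁1 ha hb
      (fun e => hzσ L hL (by rw [e, one_mul]; exact hb.1)) (Set.mem_toFinset.1 hwS)
  have h1 : (1 : G) ∉ C ∪ F.biUnion S := by
    intro hc
    rcases Finset.mem_union.1 hc with hc | hc
    · obtain ⟨g, z, hz, e⟩ : (1 : G) ∈ conjSet (T : Set G) := Set.mem_toFinset.1 hc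
      exact hne1 hz (conj_eq_one_iff.1 e.symm)
    · obtain ⟨L, hL, hc⟩ := Finset.mem_biUnion.1 hc
      exact h.one_not_mem_sigmaSpread (h.member_struct hM hK hK1 (hmem.1 hL)).1 (Set.mem_toFinset.1 hc)
  have iv : 1 + C.card + ∑ L ∈ F, (Nat.card (sigmaCore L) - 1) * L.index ≤ Nat.card G := by
    have h2 := Finset.card_le_univ (insert (1 : G) (C ∪ F.biUnion S))
    rw [Finset.card_insert_of_notMem h1, Finset.card_union_of_disjoint hCS,
      Finset.card_biUnion hSdisj, Finset.sum_congr rfl hScard, ← Nat.card_eq_fintype_card] at h2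
    omega
  have iii : Nat.card Z * C.card = Nat.card G * T.card := by
    rw [hCcard, ← mul_assoc, card_mul_index]
  set w : Subgroup G → ℕ := fun L => ((Finset.univ.filter fun z => z ∈ Z ⊓ sigmaCore L).erase 1).card with hw
  have ii : Nat.card Z ≤ T.card + (∑ L ∈ F, w L) + 1 := by
    have hsub : (Finset.univ.filter fun z => z ∈ Z) ⊆
        insert 1 (T ∪ F.biUnion fun L => (Finset.univ.filter fun z => z ∈ Z ⊓ sigmaCore L).erase 1) := by
      intro z hz
      have hzZ : z ∈ Z := (Finset.mem_filter.1 hz).2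
      rcases eq_or_ne z 1 with rfl | hz1
      · exact Finset.mem_insert_self _ _
      refine Finset.mem_insert_of_mem (Finset.mem_union.2 ?_)
      by_cases hc : ∀ L ∈ F, z ∉ sigmaCore L
      · exact Or.inl (hTmem.2 ⟨hzZ, hc⟩)
      · push Not at hc
        obtain ⟨L, hL, hzL⟩ := hc
        exact Or.inr (Finset.mem_biUnion.2 ⟨L, hL,
          Finset.mem_erase.2 ⟨hz1, Finset.mem_filter.2 ⟨Finset.mem_univ _, hzZ, hzL⟩⟩⟩)
    have h2 := (Finset.card_le_card hsub).trans ((Finset.card_insert_le _ _).trans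
      (Nat.add_le_add_right ((Finset.card_union_le _ _).trans
        (Nat.add_le_add_left Finset.card_biUnion_le _)) 1))
    rw [← Fintype.card_subtype, ← Nat.card_eq_fintype_card] at h2
    exact h2
  have i : ∀ L ∈ F, 3 * Nat.card G * (w L + 1) ≤
      3 * Nat.card Z * ((Nat.card (sigmaCore L) - 1) * L.index) + Nat.card G := by
    intro L hL
    obtain ⟨hLc, K₁, hK₁, hK₁1, eZ⟩ := h.member_struct hM hK hK1 (hmem.1 hL)
    have hcard : Nat.card L = Nat.card K₁ * Nat.card (sigmaCore L) :=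
      (h.card_or_decomposition hLc hK₁ hK₁1).resolve_right
        fun ⟨U, hU, hU1⟩ => hU1 (hno L K₁ U (hmem.1 hL) hK₁ eZ hU)
    have hw1 : w L + 1 = Nat.card ↥Ks(L, K₁) := by
      simp only [hw]
      rw [Finset.card_erase_add_one (by simp), ← Fintype.card_subtype, ← Nat.card_eq_fintype_card,
        ← Z_inf_sigmaCore hK₁, eZ]
    have hle : Ks(L, K₁) ≤ sigmaCore L := inf_le_left
    have h3 : 3 * Nat.card ↥Ks(L, K₁) ≤ Nat.card (sigmaCore L) := by
      have e : Nat.card ↥Ks(L, K₁) * (Ks(L, K₁) : Subgroup G).relIndex (sigmaCore L) =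
          Nat.card (sigmaCore L) := by
        rw [← relIndex_bot_left, ← relIndex_bot_left, relIndex_mul_relIndex ⊥ _ _ bot_le hle]
      have hr : 3 ≤ (Ks(L, K₁) : Subgroup G).relIndex (sigmaCore L) := by
        obtain ⟨q, hq, hqd⟩ := Nat.exists_prime_and_dvd (n := (Ks(L, K₁) : Subgroup G).relIndex (sigmaCore L))
          fun e1 => h.kstar_ne_sigmaCore hLc hK₁ hK₁1 ((relIndex_eq_one.1 e1).trans inf_le_right)
        have h2 := h.toPre.ne_two (X := sigmaCore L) (hqd.trans (relIndex_dvd_card _ _))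
        have h4 := hq.two_le
        have h5 := Nat.le_of_dvd (Nat.pos_of_ne_zero fun e0 => by
          rw [e0, mul_zero] at e; exact (Nat.card_pos (α := sigmaCore L)).ne e) hqd
        omega
      rw [← e, mul_comm 3]
      exact Nat.mul_le_mul_left _ hr
    have hZc : Nat.card Z = Nat.card K₁ * Nat.card ↥Ks(L, K₁) := by rw [← card_Z hK₁, eZ]
    have hG : Nat.card L * L.index = Nat.card G := card_mul_index L
    obtain ⟨m', hm'⟩ : ∃ m', Nat.card (sigmaCore L) = m' + 1 :=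
      ⟨_, (Nat.sub_add_cancel Nat.card_pos).symm⟩
    have h6 : Nat.card Z * L.index * (m' + 1) = Nat.card ↥Ks(L, K₁) * Nat.card G := by
      rw [← hG, hcard, hZc, hm']; ring
    have h7 : 3 * (Nat.card Z * L.index) ≤ Nat.card G := by
      refine Nat.le_of_mul_le_mul_left ?_ (Nat.succ_pos m')
      have h8 := Nat.mul_le_mul_right (Nat.card G) (hm' ▸ h3)
      nlinarith
    rw [hw1, hm', Nat.add_sub_cancel]
    nlinarith
  have hsum := Finset.sum_le_sum i
  rw [← Finset.mul_sum, Finset.sum_add_distrib, Finset.sum_add_distrib, ← Finset.mul_sum,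
    Finset.sum_const, Finset.sum_const, smul_eq_mul, smul_eq_mul, mul_one] at hsum
  have hn : 2 ≤ F.card := by
    obtain ⟨p, X, hp, hX, hXc⟩ := exists_prime_subgroup hK1
    have : Fact p.Prime := ⟨hp⟩
    obtain ⟨L, hL, hNX⟩ := h.toPre.exists_maximal_normalizer hM (hX.trans hK.1) (ne_bot_of_card hp hXc)
    have hne := (h.neighbour hM hK hX hXc hL hNX).2.1 1
    rw [map_one, one_smul] at hne
    refine Finset.one_lt_card.2 ⟨M, hmem.2 (Or.inl rfl), L,
      hmem.2 (Or.inr ⟨X, hX, hXc.symm ▸ hp, hL, hNX⟩), hne.symm⟩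
  have hG0 : 0 < Nat.card G := Nat.card_pos
  have hZ0 : 0 < Nat.card Z := Nat.card_pos
  have j1 := Nat.mul_le_mul_left (3 * Nat.card G) ii
  have j2 := Nat.mul_le_mul_left (3 * Nat.card Z) iv
  have j3 := Nat.mul_le_mul_left (Nat.card G) hn
  nlinarith

end CfsgLib.OddLocal.Sec13
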