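import Cfsg.Agent.Lib.OddLocal.Sec13TauThree

/-!
BG Theorem 14.4 and Lemma 14.5: the maximal subgroup over `C(x)`, `x ∈ M_σ`, the supporting subgroups
`R(x)`, the disjointness of the cosets `x R(x)` and their number.
-/

set_option autoImplicit false
set_option linter.unusedSectionVars false

open scoped Pointwise

namespace CfsgLib.OddLocal.Sec13

open Cfsg Subgroup
open scoped commutatorElement
open CfsgLib.Solvable (conj_smul_le_iff mem_conj_smul_iff card_conj_smul conj_smul_conj_smul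
  conj_smul_mono conj_smul_self_of_mem_normalizer conj_smul_eq_map)

universe u
variable {G : Type u} [Group G] [Finite G]

/-- `r` lies in the supporting subgroup `R(x)` of `x ∈ M_σ`. -/
def InSupport (M : Subgroup G) (x r : G) : Prop :=
  r = 1 ∨ (¬ centralizer ({x} : Set G) ≤ M ∧ r ∈ centralizer ({x} : Set G) ∧
    ∃ N : Subgroup G, IsCoatom N ∧ centralizer ({x} : Set G) ≤ N ∧ r ∈ sigmaCore N)

theorem mem_centralizer_singleton_self (x : G) : x ∈ centralizer ({x} : Set G) :=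
  mem_centralizer_singleton_iff.2 rfl

theorem InSupport.commute {M : Subgroup G} {x r : G} (hr : InSupport M x r) : Commute x r := by
  rcases hr with rfl | ⟨-, hc, -⟩
  · exact Commute.one_right x
  · exact (mem_centralizer_singleton_iff.1 hc).symm

omit [Finite G] in
theorem conj_one_smul (M : Subgroup G) : MulAut.conj (1 : G) • M = M := by rw [map_one, one_smul]

omit [Finite G] in
/-- A product of commuting elements of orders `π` and `π'` determines both factors. -/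
theorem eq_of_mul_eq_mul_of_primes {π : Set ℕ} {a b c d : G} (hab : Commute a b) (hcd : Commute c d)
    (hfa : IsOfFinOrder a) (hfb : IsOfFinOrder b) (hfc : IsOfFinOrder c) (hfd : IsOfFinOrder d)
    (ha : ∀ p : ℕ, p.Prime → p ∣ orderOf a → p ∈ π) (hb : ∀ p : ℕ, p.Prime → p ∣ orderOf b → p ∉ π)
    (hc : ∀ p : ℕ, p.Prime → p ∣ orderOf c → p ∈ π) (hd : ∀ p : ℕ, p.Prime → p ∣ orderOf d → p ∉ π)
    (he : a * b = c * d) : a = c ∧ b = d := by
  -- both `a` and `c` are the same power of `g = a b = c d`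
  have key : ∀ {a b : G}, Commute a b → IsOfFinOrder a → IsOfFinOrder b → ∀ n : ℕ, orderOf b ∣ n →
      (a * b) ^ n = a ^ n := fun {a b} h _ _ n hn => by
    rw [h.mul_pow, orderOf_dvd_iff_pow_eq_one.1 hn, mul_one]
  set n := orderOf b * orderOf d with hn
  have h1 : a ^ n = c ^ n := by
    rw [← key hab hfa hfb n (dvd_mul_right _ _), he, key hcd hfc hfd n (dvd_mul_left _ _)]
  have hcop : (n : ℕ).Coprime (orderOf a * orderOf c) := by
    refine Nat.coprime_of_dvd fun p hp hp1 hp2 => ?_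
    rcases hp.dvd_mul.1 hp1 with h | h <;> rcases hp.dvd_mul.1 hp2 with h' | h'
    · exact hb p hp h (ha p hp h')
    · exact hb p hp h (hc p hp h')
    · exact hd p hp h (ha p hp h')
    · exact hd p hp h (hc p hp h')
  obtain ⟨j, hj⟩ := exists_pow_eq_self_of_coprime (x := a) (hcop.coprime_dvd_right (dvd_mul_right _ _))
  obtain ⟨k, hk⟩ := exists_pow_eq_self_of_coprime (x := c) (hcop.coprime_dvd_right (dvd_mul_left _ _))
  have h2 : (a ^ n) ^ k = (c ^ n) ^ k := by rw [h1]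
  rw [hk] at h2
  -- `c` is a power of `a`, hence commutes with it
  have hac : Commute a c := h2 ▸ ((Commute.refl a).pow_right n).pow_right k
  have h3 : (a⁻¹ * c) ^ n = 1 := by
    rw [hac.inv_left.mul_pow, inv_pow, h1, inv_mul_cancel]
  have h4 : (a⁻¹ * c) ^ (orderOf a * orderOf c) = 1 := by
    rw [hac.inv_left.mul_pow, inv_pow, pow_mul, pow_orderOf_eq_one, one_pow, inv_one, one_mul, mul_comm,
      pow_mul, pow_orderOf_eq_one, one_pow]
  have h5 : a⁻¹ * c = 1 := orderOf_eq_one_iff.1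
    (Nat.eq_one_of_dvd_coprimes hcop (orderOf_dvd_of_pow_eq_one h3) (orderOf_dvd_of_pow_eq_one h4))
  have hac' : a = c := inv_mul_eq_one.1 h5
  exact ⟨hac', mul_left_cancel (hac' ▸ he)⟩

theorem isPi_zpowers_singleton {p : ℕ} {x : G} (hp : p.Prime) (hx : orderOf x = p) {π : Set ℕ}
    (hπ : p ∈ π) : IsPi π (zpowers x) :=
  isPi_zpowers.2 fun r hr hd => by
    obtain rfl := (Nat.prime_dvd_prime_iff_eq hr hp).1 (hd.trans (dvd_of_eq hx))
    exact hπ

section Pre
variable (h : Pre G)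
include h

/-- An element of `C_L(A)`, `A ≤ E`, is the product of one of `C_{L_σ}(A)` and one of `C_E(A)`. -/
theorem Pre.exists_compl_mul {L E A : Subgroup G} (hL : IsCoatom L) (hE : IsComplIn E (sigmaCore L) L)
    (hAE : A ≤ E) {g : G} (hgL : g ∈ L) (hgA : g ∈ centralizer (A : Set G)) :
    ∃ k ∈ sigmaCore L ⊓ centralizer (A : Set G), ∃ b ∈ E ⊓ centralizer (A : Set G), g = k * b := by
  obtain ⟨e, he, s, hs, rfl⟩ := hE.2.2.2 g hgL
  have hn : E ≤ normalizer (sigmaCore L : Set G) := hE.1.trans (le_normalizer_piCoreOf _ _)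
  have hse : e * s = (e * s * e⁻¹) * e := by group
  rw [hse] at hgA ⊢
  exact exists_centralizer_mul (A := A) (hAE.trans hn) (hAE.trans le_normalizer)
    (coprime_of_isPi (IsPi.of_le (h.compl_isPi hL hE) hAE) (isPi_piCoreOf (sigma L) L)
      fun r _ h1 h2 => h1 h2)
    (Or.inr (h.isSolvable_le hL (piCoreOf_le _ _))) ((mem_normalizer_iff.1 (hn he) s).1 hs) he hgA

end Pre

variable (h : Pre' G)
include h

/-- A subgroup `X` of prime order of `M_σ` with `C(X) ⊄ M`. -/
theorem Pre'.supporting_prime {M X : Subgroup G} (hM : IsCoatom M) {q : ℕ} [hq' : Fact q.Prime]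
    (hX : Nat.card X = q) (hXσ : X ≤ sigmaCore M) (hC : ¬ centralizer (X : Set G) ≤ M) :
    ∃ L : Subgroup G, IsCoatom L ∧ q ∈ tau2 L ∧ (∀ g : G, L ≠ MulAut.conj g • M) ∧
      centralizer (X : Set G) ≤ L ∧
      (∀ L' : Subgroup G, IsCoatom L' → centralizer (X : Set G) ≤ L' → L' = L) ∧
      IsComplIn (M ⊓ L) (sigmaCore L) L ∧ sigmaCore L ⊓ M = ⊥ ∧ q ∉ beta M := by
  have hX1 : X ≠ ⊥ := ne_bot_of_card hq'.out hX
  have hXM : X ≤ M := hXσ.trans (piCoreOf_le _ _)
  have hqσ : q ∈ sigma M := isPi_piCoreOf (sigma M) M q hq'.out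
    ((dvd_of_eq hX.symm).trans (card_dvd_of_le hXσ))
  have hqβ : q ∉ beta M := fun hb => hC (h.s1423 M hM q hqσ X hXM hX default (Or.inl hb)).1.1
  obtain ⟨L, hL, hNX⟩ := h.toPre.exists_maximal_normalizer hM hXM hX1
  have hCL : centralizer (X : Set G) ≤ L := (centralizer_le_normalizer _).trans hNX
  have hLM : L ≠ M := fun e => hC (e ▸ hCL)
  obtain ⟨hne, hcase, S, hS, -, hSM, hNS⟩ :=
    h.toPre.two_maximal hM hL hqσ (isPGroup_of_card hX) hX1 hXM hNX hLM
  have hq2 : q ∈ tau2 L := hcase.resolve_left (h.not_sigma_inter hM hL hne hqσ)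
  obtain ⟨hbot, hE, -⟩ := h.toPre.two_maximal_tau2 hM hL hLM hq2 hS hSM hNS
  obtain ⟨A, hAE, hA, hAc⟩ := h.toPre.exists_plane_compl hL hE hq2
  have hXE : X ≤ M ⊓ L := le_inf hXM (le_normalizer.trans hNX)
  obtain ⟨⟨-, hline⟩, -, huni⟩ := h.s1418 L hL _ hE q hq2 A ⟨hAE, hA, hAc⟩
  have hne1 : sigmaCore L ⊓ centralizer (X : Set G) ≠ ⊥ := by
    intro e
    refine hC fun c hc => ?_
    obtain ⟨k, hk, b, hb, rfl⟩ := h.toPre.exists_compl_mul hL hE hXE (hCL hc) hc
    rw [e, mem_bot] at hk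
    rw [hk, one_mul]
    exact hb.1.1
  exact ⟨L, hL, hq2, hne, hCL, (huni X (hline X hXE hX) hX hne1).2, hE, hbot, hqβ⟩

/-- 14.4: `x ∈ M_σ` with `C(x) ⊄ M`: a single maximal `N` contains `C(x)`; the primes of `x` are in
`τ₂(N)`, and `M ∩ N` is a complement of `N_σ`. -/
theorem Pre'.supporting_maximal {M : Subgroup G} (hM : IsCoatom M) {x : G} (hx : x ∈ sigmaCore M)
    (hx1 : x ≠ 1) (hxM : ¬ centralizer ({x} : Set G) ≤ M) :
    ∃ N : Subgroup G, IsCoatom N ∧ centralizer ({x} : Set G) ≤ N ∧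
      (∀ L : Subgroup G, IsCoatom L → centralizer ({x} : Set G) ≤ L → L = N) ∧
      (∀ g : G, N ≠ MulAut.conj g • M) ∧
      (∀ r : ℕ, r.Prime → r ∣ orderOf x → r ∈ tau2 N ∧ r ∉ beta M) ∧
      IsComplIn (M ⊓ N) (sigmaCore N) N ∧ sigmaCore N ⊓ M = ⊥ ∧
      sigmaCore N ⊓ centralizer ({x} : Set G) ≠ ⊥ := by
  have hsub : ∀ n : ℕ, centralizer ({x} : Set G) ≤ centralizer ((zpowers (x ^ n) : Subgroup G) : Set G) :=
    fun n => by
      rw [centralizer_zpowers]
      intro c hc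
      exact mem_centralizer_singleton_iff.2
        ((show Commute c x from mem_centralizer_singleton_iff.1 hc).pow_right n).eq
  obtain ⟨q, n, hq, -, hqo⟩ := exists_pow_prime_order hx1
  have : Fact q.Prime := ⟨hq⟩
  obtain ⟨N, hN, -, hne, hCN, huN, hE, hbot, -⟩ := h.supporting_prime hM
    (X := zpowers (x ^ n)) (q := q) (by rw [Nat.card_zpowers, hqo]) (zpowers_le.2 (pow_mem hx n))
    fun hle => hxM ((hsub n).trans hle)
  have hxN : centralizer ({x} : Set G) ≤ N := (hsub n).trans hCN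
  have hxE : zpowers x ≤ M ⊓ N :=
    zpowers_le.2 ⟨piCoreOf_le _ _ hx, hxN (mem_centralizer_singleton_self x)⟩
  have hCx : sigmaCore N ⊓ centralizer ({x} : Set G) ≠ ⊥ := by
    intro e
    refine hxM fun c hc => ?_
    obtain ⟨k, hk, b, hb, rfl⟩ := h.toPre.exists_compl_mul hN hE hxE (hxN hc)
      ((centralizer_zpowers x).ge hc)
    rw [centralizer_zpowers] at hk
    rw [e, mem_bot] at hk
    rw [hk, one_mul]
    exact hb.1.1
  have hτ : ∀ r : ℕ, r.Prime → r ∣ orderOf x → r ∈ tau2 N ∧ r ∉ beta M := by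
    intro r hr hd
    have : Fact r.Prime := ⟨hr⟩
    set y := x ^ (orderOf x / r) with hy
    have hyo : orderOf y = r := orderOf_pow_orderOf_div (orderOf_pos x).ne' hd
    have hyc : Nat.card (zpowers y) = r := by rw [Nat.card_zpowers, hyo]
    obtain ⟨L, hL, hr2, -, hCL, huL, -, -, hrβ⟩ := h.supporting_prime hM hyc
      (zpowers_le.2 (pow_mem hx _)) fun hle => hxM ((hsub _).trans hle)
    have hrN : r ∣ Nat.card ↥(M ⊓ N) :=
      hd.trans ((M ⊓ N).orderOf_dvd_natCard (hxE (mem_zpowers x)))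
    have hrσ : r ∉ sigma N := h.toPre.compl_isPi hN hE r hr hrN
    refine ⟨?_, hrβ⟩
    rcases h.toPre.tau_cases hN hr (hrN.trans (card_dvd_of_le inf_le_right)) hrσ with h1 | h1 | h1
    rotate_left
    · exact h1
    all_goals
      exfalso
      obtain ⟨L', hL', hNy⟩ := h.toPre.exists_maximal_normalizer hN
        (zpowers_le.2 (pow_mem ((hxE (mem_zpowers x)).2) (orderOf x / r))) (ne_bot_of_card hr hyc)
      have hLL : L' = L := huL L' hL' ((centralizer_le_normalizer _).trans hNy)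
      refine hr2.2.1 (hLL ▸ h.tau13_mem_sigma hN (P := zpowers y) ?_
        (zpowers_le.2 (pow_mem ((hxE (mem_zpowers x)).2) _)) hyc
        (fun e => hCx (le_bot_iff.1 (e ▸ inf_le_inf_left _ (hsub _)))) hL' hNy)
      first | exact Or.inl h1 | exact Or.inr h1
  refine ⟨N, hN, hxN, fun L hL hle => ?_, hne, hτ, hE, hbot, hCx⟩
  have hσ : x ∈ sigmaHat N := by
    obtain ⟨y, hy, hy1⟩ : ∃ y ∈ sigmaCore N ⊓ centralizer ({x} : Set G), y ≠ 1 := by
      by_contra hno
      push Not at hno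
      exact hCx (eq_bot_iff.2 fun y hy => mem_bot.2 (hno y hy))
    exact ⟨(hxE (mem_zpowers x)).2, y, hy.1, hy1, (mem_centralizer_singleton_iff.1 hy.2).symm⟩
  exact ((h.s1420 N hN _ hE).2.2.2 x (hxE (mem_zpowers x)).2 hx1 (fun r hr hd => (hτ r hr hd).1) hσ).2 L hL hle

/-- `x ∈ M_σ` lies in a conjugate `gMg⁻¹` iff it is `rMr⁻¹` with `r` in `R(x)`. -/
theorem Pre'.exists_support_conj {M : Subgroup G} (hM : IsCoatom M) {x g : G} (hx : x ∈ sigmaCore M)
    (hx1 : x ≠ 1) (hg : x ∈ MulAut.conj g • M) :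
    ∃ r : G, InSupport M x r ∧ MulAut.conj g • M = MulAut.conj r • M := by
  obtain ⟨q, n, hq, -, hqo⟩ := exists_pow_prime_order hx1
  have : Fact q.Prime := ⟨hq⟩
  set X := zpowers (x ^ n) with hXdef
  have hXc : Nat.card X = q := by rw [Nat.card_zpowers, hqo]
  have hXσ : X ≤ sigmaCore M := zpowers_le.2 (pow_mem hx n)
  have hqσ : q ∈ sigma M := isPi_piCoreOf (sigma M) M q hq
    ((dvd_of_eq hXc.symm).trans (card_dvd_of_le hXσ))
  have hle : X.map (MulAut.conj g⁻¹).toMonoidHom ≤ M := by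
    rw [← conj_smul_eq_map]
    exact (conj_smul_mono g⁻¹ (zpowers_le.2 (pow_mem hg n))).trans (conj_smul_inv_self g M).le
  obtain ⟨m, hm, c, hc, e⟩ :=
    (h.s1404 M hM q hqσ X (isPGroup_of_card hXc) (ne_bot_of_card hq hXc) (hXσ.trans (piCoreOf_le _ _))).1 g⁻¹ hle
  have hgc : MulAut.conj g • M = MulAut.conj c⁻¹ • M := by
    have hg' : g = c⁻¹ * m⁻¹ := by rw [← inv_inv g, e, mul_inv_rev]
    rw [hg', ← conj_smul_conj_smul, conj_smul_self_of_mem_normalizer (le_normalizer (inv_mem hm))]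
  by_cases hCX : centralizer (X : Set G) ≤ M
  · exact ⟨1, Or.inl rfl, by
      rw [hgc, conj_one_smul, conj_smul_self_of_mem_normalizer (le_normalizer (inv_mem (hCX hc)))]⟩
  obtain ⟨L, hL, -, -, hCL, huL, hE, hbot, -⟩ := h.supporting_prime hM hXc hXσ hCX
  have hsub : centralizer ({x} : Set G) ≤ centralizer (X : Set G) := by
    rw [hXdef, centralizer_zpowers]
    intro y hy
    exact mem_centralizer_singleton_iff.2
      ((show Commute y x from mem_centralizer_singleton_iff.1 hy).pow_right n).eq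
  have hxL : x ∈ L := hCL (hsub (mem_centralizer_singleton_self x))
  obtain ⟨k, hk, b, hb, e'⟩ := h.toPre.exists_compl_mul hL hE
    (le_inf (hXσ.trans (piCoreOf_le _ _)) ((zpowers_le.2 (pow_mem hxL n)))) (hCL (inv_mem hc)) (inv_mem hc)
  have hgk : MulAut.conj g • M = MulAut.conj k • M := by
    rw [hgc, e', ← conj_smul_conj_smul, conj_smul_self_of_mem_normalizer (le_normalizer hb.1.1)]
  have hkx : x * k = k * x := by
    have h1 : k⁻¹ * x * k ∈ M := by
      rw [hgk, mem_conj_smul_iff] at hg; exact hg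
    have h2 : x⁻¹ * (k⁻¹ * x * k) ∈ sigmaCore L ⊓ M := by
      refine ⟨?_, M.mul_mem (M.inv_mem (piCoreOf_le _ _ hx)) h1⟩
      have h3 : x⁻¹ * k⁻¹ * x ∈ sigmaCore L := by
        show x⁻¹ * k⁻¹ * x ∈ piCoreOf (sigma L) L
        simpa using (mem_normalizer_iff.1 (le_normalizer_piCoreOf (sigma L) L (L.inv_mem hxL)) k⁻¹).1
          ((sigmaCore L).inv_mem hk.1)
      have h4 := (sigmaCore L).mul_mem h3 hk.1
      show x⁻¹ * (k⁻¹ * x * k) ∈ sigmaCore L
      rwa [show x⁻¹ * (k⁻¹ * x * k) = x⁻¹ * k⁻¹ * x * k by group]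
    rw [hbot, mem_bot] at h2
    calc x * k = k * (k⁻¹ * x * k) := by group
      _ = k * (x * (x⁻¹ * (k⁻¹ * x * k))) := by group
      _ = k * x := by rw [h2, mul_one]
  refine ⟨k, ?_, hgk⟩
  by_cases hxM : centralizer ({x} : Set G) ≤ M
  · refine Or.inl ?_
    have : k ∈ sigmaCore L ⊓ M := ⟨hk.1, hxM (mem_centralizer_singleton_iff.2 hkx.symm)⟩
    rwa [hbot, mem_bot] at this
  · exact Or.inr ⟨hxM, mem_centralizer_singleton_iff.2 hkx.symm, L, hL, hsub.trans hCL, hk.1⟩

/-- `R(x)` acts regularly on the conjugates of `M` containing `x`. -/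
theorem Pre'.support_conj_inj {M : Subgroup G} (hM : IsCoatom M) {x r s : G} (hx : x ∈ sigmaCore M)
    (hx1 : x ≠ 1) (hr : InSupport M x r) (hs : InSupport M x s)
    (he : MulAut.conj r • M = MulAut.conj s • M) : r = s := by
  have hrs : s⁻¹ * r ∈ M := by
    rw [← h.toPre.normalizer_maximal hM, CfsgLib.Solvable.mem_normalizer_iff_conj_smul,
      ← conj_smul_conj_smul, he, conj_smul_inv_self]
  by_cases hxM : centralizer ({x} : Set G) ≤ M
  · rcases hr with rfl | ⟨h1, -⟩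
    · rcases hs with rfl | ⟨h1, -⟩
      · rfl
      · exact absurd hxM h1
    · exact absurd hxM h1
  obtain ⟨N, hN, -, huN, -, -, -, hbot, -⟩ := h.supporting_maximal hM hx hx1 hxM
  have hmem : ∀ {t : G}, InSupport M x t → t ∈ sigmaCore N := by
    rintro t (rfl | ⟨-, -, N', hN', hle, ht⟩)
    · exact one_mem _
    · rwa [huN N' hN' hle] at ht
  have h2 : s⁻¹ * r ∈ sigmaCore N ⊓ M := ⟨(sigmaCore N).mul_mem ((sigmaCore N).inv_mem (hmem hs)) (hmem hr), hrs⟩
  rw [hbot, mem_bot, inv_mul_eq_one] at h2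
  exact h2.symm

/-- The orders of `x` and of an element of `R(x)` involve primes inside, resp. outside, `σ(M)`. -/
theorem Pre'.support_primes {M : Subgroup G} (hM : IsCoatom M) {x r : G} (hx : x ∈ sigmaCore M)
    (hx1 : x ≠ 1) (hr : InSupport M x r) {p : ℕ} (hp : p.Prime) (hd : p ∣ orderOf r) : p ∉ sigma M := by
  rcases hr with rfl | ⟨hxM, -, N', hN', hle, hr⟩
  · rw [orderOf_one] at hd; exact absurd (Nat.eq_one_of_dvd_one hd) hp.ne_one
  obtain ⟨N, hN, -, huN, hne, -⟩ := h.supporting_maximal hM hx hx1 hxM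
  rw [huN N' hN' hle] at hr
  exact h.not_sigma_inter hN hM (ne_conj_symm hne)
    (isPi_piCoreOf (sigma N) N p hp (hd.trans ((sigmaCore N).orderOf_dvd_natCard hr)))

omit h in
theorem exists_prime_orderOf {x : G} (hx : x ≠ 1) : ∃ p : ℕ, p.Prime ∧ p ∣ orderOf x :=
  Nat.exists_prime_and_dvd fun e => hx (orderOf_eq_one_iff.1 e)

/-- 14.5: the cosets `x R(x)` are disjoint. -/
theorem Pre'.support_disjoint {M M' : Subgroup G} (hM : IsCoatom M) (hM' : IsCoatom M') {x y r s : G}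
    (hx : x ∈ sigmaCore M) (hy : y ∈ sigmaCore M') (hx1 : x ≠ 1) (hy1 : y ≠ 1)
    (hr : InSupport M x r) (hs : InSupport M' y s) (he : x * r = y * s) : x = y := by
  have hxπ : ∀ p : ℕ, p.Prime → p ∣ orderOf x → p ∈ sigma M := fun p hp hd =>
    isPi_piCoreOf (sigma M) M p hp (hd.trans ((sigmaCore M).orderOf_dvd_natCard hx))
  have hyπ : ∀ p : ℕ, p.Prime → p ∣ orderOf y → p ∈ sigma M' := fun p hp hd =>
    isPi_piCoreOf (sigma M') M' p hp (hd.trans ((sigmaCore M').orderOf_dvd_natCard hy))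
  have hrπ := fun p (hp : p.Prime) hd => h.support_primes hM hx hx1 hr (p := p) hp hd
  have hsπ := fun p (hp : p.Prime) hd => h.support_primes hM' hy hy1 hs (p := p) hp hd
  have hf : ∀ z : G, IsOfFinOrder z := fun z => isOfFinOrder_of_finite z
  by_cases hne : ∀ g : G, M' ≠ MulAut.conj g • M
  swap
  · push Not at hne
    obtain ⟨g, rfl⟩ := hne
    rw [sigma_conj] at hyπ hsπ
    exact (eq_of_mul_eq_mul_of_primes hr.commute hs.commute (hf _) (hf _) (hf _) (hf _) hxπ hrπ hyπ hsπ he).1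
  exfalso
  -- `y` is a power of `r` and `x` one of `s`
  have key : ∀ {a b c d : G} {A B : Subgroup G}, IsCoatom A → IsCoatom B →
      (∀ g : G, B ≠ MulAut.conj g • A) → Commute a b → Commute c d → a * b = c * d →
      (∀ p : ℕ, p.Prime → p ∣ orderOf a → p ∈ sigma A) → (∀ p : ℕ, p.Prime → p ∣ orderOf b → p ∉ sigma A) →
      (∀ p : ℕ, p.Prime → p ∣ orderOf c → p ∈ sigma B) → (∀ p : ℕ, p.Prime → p ∣ orderOf d → p ∉ sigma B) →
      c ∈ zpowers b := by
    intro a b c d A B hA hB hAB hab hcd e ha hb hc hd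
    -- `c` is a power of `a b`
    obtain ⟨j, hj⟩ := exists_pow_eq_self_of_coprime (x := c) (n := orderOf d)
      (Nat.coprime_of_dvd fun p hp h1 h2 => hd p hp h1 (hc p hp h2))
    have h1 : (a * b) ^ (orderOf d * j) = c := by
      rw [e, pow_mul, hcd.mul_pow, pow_orderOf_eq_one, mul_one, hj]
    rw [hab.mul_pow] at h1
    have h2 := eq_of_mul_eq_mul_of_primes (π := sigma A) (a := a ^ (orderOf d * j))
      (b := b ^ (orderOf d * j)) (c := 1) (d := c) (hab.pow_pow _ _) (Commute.one_left c) (hf _) (hf _)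
      (hf _) (hf _) (fun p hp hd' => ha p hp (hd'.trans (orderOf_pow_dvd _)))
      (fun p hp hd' => hb p hp (hd'.trans (orderOf_pow_dvd _)))
      (fun p hp hd' => absurd (Nat.eq_one_of_dvd_one (orderOf_one (G := G) ▸ hd')) hp.ne_one)
      (fun p hp hd' => h.not_sigma_inter hB hA (ne_conj_symm hAB) (hc p hp hd'))
      (by rw [h1, one_mul])
    exact h2.2 ▸ pow_mem (mem_zpowers b) _
  have hyr : y ∈ zpowers r := key hM hM' hne hr.commute hs.commute he hxπ hrπ hyπ hsπ
  have hxs : x ∈ zpowers s :=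
    key hM' hM (ne_conj_symm hne) hs.commute hr.commute he.symm hyπ hsπ hxπ hrπ
  rcases hr with rfl | ⟨-, -, N, hN, hCN, hrN⟩
  · exact hy1 (by simpa using hyr)
  rcases hs with rfl | ⟨hsM, hsC, N', hN', hCN', hsN⟩
  · exact hx1 (by simpa using hxs)
  have hyN : y ∈ sigmaCore N := zpowers_le.2 hrN hyr
  have hxN' : x ∈ sigmaCore N' := zpowers_le.2 hsN hxs
  obtain ⟨N₁, hN₁, -, huN₁, -, -, -, hbot, -⟩ := h.supporting_maximal hM' hy hy1 hsM
  have eN := huN₁ N' hN' hCN'
  obtain ⟨p, hp, hpd⟩ := exists_prime_orderOf hy1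
  obtain ⟨g, hg⟩ : ∃ g : G, N = MulAut.conj g • M' := by
    by_contra hno
    push Not at hno
    exact h.not_sigma_inter hM' hN hno (hyπ p hp hpd)
      (isPi_piCoreOf (sigma N) N p hp (hpd.trans ((sigmaCore N).orderOf_dvd_natCard hyN)))
  obtain ⟨t, ht, hgt⟩ := h.exists_support_conj hM' hy hy1 (hg ▸ piCoreOf_le _ _ hyN)
  have htN : t ∈ sigmaCore N₁ := by
    rcases ht with rfl | ⟨-, -, N₂, hN₂, hle, ht⟩
    · exact one_mem _
    · rwa [huN₁ N₂ hN₂ hle] at ht
  have hxN : x ∈ MulAut.conj t • M' := by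
    rw [← hgt, ← hg]; exact hCN (mem_centralizer_singleton_self x)
  rw [mem_conj_smul_iff] at hxN
  have h2 : t⁻¹ * x * t ∈ sigmaCore N₁ ⊓ M' := ⟨(sigmaCore N₁).mul_mem ((sigmaCore N₁).mul_mem ((sigmaCore N₁).inv_mem htN) (eN ▸ hxN')) htN, hxN⟩
  rw [hbot, mem_bot] at h2
  exact hx1 (by rw [show x = t * (t⁻¹ * x * t) * t⁻¹ by group, h2]; group)

end CfsgLib.OddLocal.Sec13
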