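import Cfsg.Agent.Lib.OddLocal.Sec13TauThree
import Cfsg.Agent.Lib.OddLocal.ActionTools

/-!
BG Theorem 14.2: the structure of `M` when `κ(M)` is nonempty.
-/

set_option autoImplicit false
set_option linter.unusedSectionVars false

open scoped Pointwise

namespace CfsgLib.OddLocal.Sec13

open Cfsg Subgroup
open scoped commutatorElement
open CfsgLib.Solvable (conj_smul_le_iff mem_conj_smul_iff card_conj_smul conj_smul_conj_smul
  conj_smul_mono conj_smul_self_of_mem_normalizer conj_smul_eq_map)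

universe u
variable {G : Type u} [Group G] [Finite G]

/-- Conjugation by an element of `N(X)` preserves `X ∩ C(y)`-triviality. -/
theorem inf_centralizer_conj_ne_bot {X : Subgroup G} {Y : Subgroup G} {m : G}
    (hm : m ∈ normalizer (X : Set G)) (hY : X ⊓ centralizer (Y : Set G) ≠ ⊥) :
    X ⊓ centralizer ((MulAut.conj m • Y : Subgroup G) : Set G) ≠ ⊥ := by
  intro e
  refine hY (eq_bot_iff.2 fun y hy => mem_bot.2 ?_)
  have : m * y * m⁻¹ ∈ X ⊓ centralizer ((MulAut.conj m • Y : Subgroup G) : Set G) := by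
    refine ⟨(mem_normalizer_iff.1 hm y).1 hy.1, mem_centralizer_iff.2 fun z hz => ?_⟩
    have h1 : (m⁻¹ * z * m) * y = y * (m⁻¹ * z * m) :=
      mem_centralizer_iff.1 hy.2 _ (mem_conj_smul_iff.1 hz)
    calc z * (m * y * m⁻¹) = m * ((m⁻¹ * z * m) * y) * m⁻¹ := by group
      _ = m * y * m⁻¹ * z := by rw [h1]; group
  rwa [e, mem_bot, conj_eq_one_iff] at this

section Pre
variable (h : Pre G)
include h

theorem Pre.mem_kappa_iff {M : Subgroup G} (hM : IsCoatom M) {p : ℕ} :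
    p ∈ kappa M ↔ IsTau13 M p ∧
      ∃ P : Subgroup G, P ≤ M ∧ Nat.card P = p ∧ sigmaCore M ⊓ centralizer (P : Set G) ≠ ⊥ := by
  constructor
  · rintro ⟨hp, hd, hσ, hS⟩
    have : Fact p.Prime := ⟨hp⟩
    obtain ⟨S, hS'⟩ := exists_sylowOf M p
    obtain ⟨T, rfl⟩ := exists_sylow_of_hallOf hS'
    obtain ⟨hc, x, hxT, hx1, y, hy, hy1, hxy⟩ := hS T
    have hcyc : IsCyclic ((T : Subgroup M).map M.subtype) :=
      (MulEquiv.isCyclic (equivMapOfInjective _ _ M.subtype_injective)).1 hc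
    have hr : PRankLE p 1 M := by
      rw [CfsgLib.PGroup.pRankLE_subgroup_iff]
      intro A hAM hA
      by_contra hlt
      obtain ⟨B, hBA, hB, hBc⟩ := exists_elementary_of_card_le (k := 2) hA (by
        obtain ⟨n, hn⟩ := IsPGroup.iff_card.1 (CfsgLib.PGroup.elemAb_isPGroup hA)
        rw [hn] at hlt ⊢
        exact Nat.pow_le_pow_right hp.pos ((Nat.pow_lt_pow_iff_right hp.one_lt).1 (not_le.1 hlt)))
      obtain ⟨m, hm, hle⟩ := exists_conj_le_hallOf (h.isSolvable hM.1) hS' (hBA.trans hAM)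
        (isPi_singleton_of_isPGroup (CfsgLib.PGroup.elemAb_isPGroup hB))
      obtain ⟨X, hX, hXc⟩ := exists_order_prime_le (p := p) (X := MulAut.conj m • B)
        (by rw [card_conj_smul, hBc]; exact dvd_pow_self p two_ne_zero)
      have hle' : MulAut.conj m • B ≤ X := by
        intro b hb
        rcases eq_or_ne b 1 with rfl | hb1
        · exact one_mem _
        have ho : orderOf b = p := orderOf_eq_prime ((isElementaryAbelian_conj hB m).2 b hb) hb1
        have e := eq_of_cyclic_card hcyc (zpowers_le.2 (hle hb)) (hX.trans hle)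
          (by rw [Nat.card_zpowers, ho, hXc])
        exact e ▸ mem_zpowers b
      have := card_le_of_le hle'
      rw [card_conj_smul, hBc, hXc] at this
      nlinarith [hp.two_le]
    refine ⟨?_, ?_⟩
    · rcases h.tau_cases hM hp hd hσ with h1 | h1 | h1
      · exact Or.inl h1
      · exact absurd hr h1.2.2.2
      · exact Or.inr h1
    obtain ⟨k, hk⟩ := IsPGroup.iff_orderOf.1 T.2 ⟨x, hxT⟩
    rw [Subgroup.orderOf_mk] at hk
    have hk0 : k ≠ 0 := fun e => hx1 (orderOf_eq_one_iff.1 (by rw [hk, e, pow_zero]))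
    refine ⟨zpowers ((x : G) ^ (orderOf x / p)), zpowers_le.2 (pow_mem x.2 _), ?_, fun e => hy1 ?_⟩
    · rw [Nat.card_zpowers, ← Subgroup.orderOf_coe x] at *
      exact orderOf_pow_orderOf_div (orderOf_pos _).ne' (hk ▸ dvd_pow_self p hk0)
    · refine mem_bot.1 (e.le ⟨hy, ?_⟩)
      show y ∈ centralizer _
      rw [centralizer_zpowers, mem_centralizer_singleton_iff]
      exact ((show Commute y (x : G) from hxy.symm).pow_right _).eq
  · rintro ⟨h13, P, hPM, hP, hD⟩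
    have hp : p.Prime := h13.elim (·.1) (·.1)
    have : Fact p.Prime := ⟨hp⟩
    refine ⟨hp, h13.dvd, h13.not_sigma, fun T => ?_⟩
    have hS' := hallOf_of_sylow T
    have hcyc := h.isCyclic_of_rank_one h13.rank hS'.1 (T.2.map _)
    refine ⟨(MulEquiv.isCyclic (equivMapOfInjective _ _ M.subtype_injective)).2 hcyc, ?_⟩
    obtain ⟨m, hm, hle⟩ := exists_conj_le_hallOf (h.isSolvable hM.1) hS' hPM
      (isPi_singleton_of_isPGroup (isPGroup_of_card hP))
    have hD' := inf_centralizer_conj_ne_bot (le_normalizer_piCoreOf (sigma M) M hm) hD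
    obtain ⟨z, hz1, -, hz⟩ := exists_zpowers_of_card hp
      (X := MulAut.conj m • P) (by rw [card_conj_smul, hP])
    obtain ⟨x, hxT, hxz⟩ := hle (hz ▸ mem_zpowers z)
    obtain ⟨y, hy, hy1⟩ := (bot_or_exists_ne_one _).resolve_left hD'
    refine ⟨x, hxT, fun e => hz1 ?_, y, hy.1, hy1, ?_⟩
    · rw [← hxz, e]; rfl
    · rw [show (x : G) = z from hxz]
      exact mem_centralizer_iff.1 hy.2 z (hz ▸ mem_zpowers z)

theorem Pre.kappa_tau13 {M : Subgroup G} (hM : IsCoatom M) {p : ℕ} (hp : p ∈ kappa M) : IsTau13 M p :=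
  ((h.mem_kappa_iff hM).1 hp).1

/-- Every subgroup of order `p ∈ κ(M)` of `M` fixes a point of `M_σ`. -/
theorem Pre.fixed_ne_bot {M P : Subgroup G} (hM : IsCoatom M) {p : ℕ} (hp : p ∈ kappa M) (hPM : P ≤ M)
    (hP : Nat.card P = p) : sigmaCore M ⊓ centralizer (P : Set G) ≠ ⊥ := by
  have : Fact p.Prime := ⟨hp.1⟩
  obtain ⟨h13, Q, hQM, hQ, hD⟩ := (h.mem_kappa_iff hM).1 hp
  obtain ⟨S, hS, hPS⟩ := exists_sylow_ge hPM (isPGroup_of_card hP)
  obtain ⟨m, hm, hle⟩ := exists_conj_le_hallOf (h.isSolvable hM.1) hS hQM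
    (isPi_singleton_of_isPGroup (isPGroup_of_card hQ))
  have e : MulAut.conj m • Q = P := eq_of_cyclic_card
    (h.isCyclic_of_rank_one h13.rank hS.1 (isPGroup_of_isPi_singleton hS.2.1)) hle hPS
    (by rw [card_conj_smul, hQ, hP])
  exact e ▸ inf_centralizer_conj_ne_bot (le_normalizer_piCoreOf (sigma M) M hm) hD

/-- An element of prime order `p` with `p ∉ σ(M)` in `M_σ`-complement: `p ∈ κ` iff it fixes a point. -/
theorem Pre.kappa_of_fixed {M P : Subgroup G} (hM : IsCoatom M) {p : ℕ} (hp : IsTau13 M p)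
    (hPM : P ≤ M) (hP : Nat.card P = p) (hD : sigmaCore M ⊓ centralizer (P : Set G) ≠ ⊥) :
    p ∈ kappa M :=
  (h.mem_kappa_iff hM).2 ⟨hp, P, hPM, hP, hD⟩

/-- The omega subgroup of a Sylow subgroup for a prime outside `σ(M) ∪ κ(M)` (S1429). -/
theorem Pre.non_kappa_omega {M : Subgroup G} (hM : IsCoatom M) {p : ℕ} [hp' : Fact p.Prime]
    (hpM : p ∣ Nat.card M) (hpσ : p ∉ sigma M) (hpκ : p ∉ kappa M) (S : Sylow p M) :
    Nat.card ↥(Subgroup.closure {x : G | x ∈ (S : Subgroup M).map M.subtype ∧ x ^ p = 1}) ≤ p ^ 2 ∧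
      sigmaCore M ⊓ centralizer ((Subgroup.closure
        {x : G | x ∈ (S : Subgroup M).map M.subtype ∧ x ^ p = 1} : Subgroup G) : Set G) = ⊥ ∧
      Group.IsNilpotent (sigmaCore M) := by
  set T := (S : Subgroup M).map M.subtype with hTdef
  have hT : IsPiHallOf {p} T M := hallOf_of_sylow S
  have eqcl : ∀ A : Subgroup G, (∀ x, x ∈ T ∧ x ^ p = 1 ↔ x ∈ A) →
      Subgroup.closure {x : G | x ∈ T ∧ x ^ p = 1} = A := fun A hA => by
    rw [show {x : G | x ∈ T ∧ x ^ p = 1} = (A : Set G) from Set.ext hA, closure_eq]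
  by_cases hp2 : p ∈ tau2 M
  · obtain ⟨A, hAT, hA, hAc⟩ := h.exists_elementary_tau2 hM hp2 hT
    obtain ⟨hnil, hS, -, hbot, -, -⟩ := h.s1417 M hM p hp2 A ⟨hAT.trans hT.1, hA, hAc⟩
    have hiff := ((hS S).2 hAT).1
    rw [eqcl A fun x => ⟨fun hx => (hiff x hx.1).1 hx.2, fun hx => ⟨hAT hx, (hiff x (hAT hx)).2 hx⟩⟩]
    exact ⟨hAc.le, hbot, hnil⟩
  · have h13 : IsTau13 M p := by
      rcases h.tau_cases hM hp'.out hpM hpσ with h1 | h1 | h1
      exacts [Or.inl h1, absurd h1 hp2, Or.inr h1]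
    have hcyc := h.isCyclic_of_rank_one h13.rank hT.1 (isPGroup_of_isPi_singleton hT.2.1)
    obtain ⟨X, hX, hXc⟩ := exists_order_prime_le (dvd_card_sylowOf hT hpM)
    rw [eqcl X fun x => ?_]
    · have hbot : sigmaCore M ⊓ centralizer (X : Set G) = ⊥ := by
        by_contra hne
        exact hpκ (h.kappa_of_fixed hM h13 (hX.trans hT.1) hXc hne)
      refine ⟨by rw [hXc]; exact Nat.le_self_pow two_ne_zero p, hbot, ?_⟩
      obtain ⟨a, ha1, hao, rfl⟩ := exists_zpowers_of_card hp'.out hXc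
      refine CfsgLib.OddLocal.isNilpotent_of_fpf_normalized hp'.out (k := a)
        (le_normalizer_piCoreOf (sigma M) M (hT.1 (hX (mem_zpowers a))))
        (by rw [← hao, pow_orderOf_eq_one]) fun x hx hxa => ?_
      refine mem_bot.1 (hbot.le ⟨hx, ?_⟩)
      show x ∈ centralizer _
      rw [centralizer_zpowers, mem_centralizer_singleton_iff]
      exact hxa
    · refine ⟨fun hx => ?_, fun hx => ⟨hX hx, by
        rw [← orderOf_dvd_iff_pow_eq_one, ← hXc]; exact X.orderOf_dvd_natCard hx⟩⟩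
      rcases eq_or_ne x 1 with rfl | hx1
      · exact one_mem _
      exact eq_of_cyclic_card hcyc (zpowers_le.2 hx.1) hX
        (by rw [Nat.card_zpowers, orderOf_eq_prime hx.2 hx1, hXc]) ▸ mem_zpowers x

end Pre

variable (h : Pre' G)
include h

/-- `κ(M) ⊆ τ₁(M)`: then `κ(M) = τ₁(M)`, `K` is cyclic and `E'` is an abelian Hall subgroup of `E`
on which `K` acts regularly. -/
theorem Pre'.kappa_tau1_struct {M E K : Subgroup G} (hM : IsCoatom M) (hE : IsComplIn E (sigmaCore M) M)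
    (hK : IsPiHallOf (kappa M) K M) (hKE : K ≤ E) (hK1 : K ≠ ⊥) (hκ : kappa M ⊆ tau1 M) :
    kappa M = tau1 M ∧ IsCyclic K ∧
      (∀ k ∈ K, k ≠ 1 → sigmaCore M ⊓ centralizer ({k} : Set G) ≤ centralizer (K : Set G)) ∧
      IsMulCommutative ↥⁅E, E⁆ ∧ IsPiHallOf {q | q ∉ tau1 M} ⁅E, E⁆ E ∧
      IsComplIn K ⁅E, E⁆ E ∧ (∀ k ∈ K, k ≠ 1 → ⁅E, E⁆ ⊓ centralizer ({k} : Set G) = ⊥) := by
  have hKπ : IsPi (tau1 M) K := IsPi.mono hK.2.1 hκ
  obtain ⟨F, hF, hKF⟩ := exists_hallOf_ge (h.toPre.isSolvable_le hM hE.1) hKE hKπ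
  have hFc : IsCyclic F := (h.s1415 M hM E hE).2.1 F hF
  obtain ⟨p, P, hp, hPK, hPc⟩ := exists_prime_subgroup hK1
  have : Fact p.Prime := ⟨hp⟩
  have hpκ : p ∈ kappa M := hK.2.1 p hp ((dvd_of_eq hPc.symm).trans (card_dvd_of_le hPK))
  obtain ⟨a, ha1, -, rfl⟩ := exists_zpowers_of_card hp hPc
  have haF : a ∈ F := hKF (hPK (mem_zpowers a))
  have hD := h.toPre.fixed_ne_bot hM hpκ (hPK.trans hK.1) hPc
  have hfix : ∀ k ∈ F, k ≠ 1 → sigmaCore M ⊓ centralizer ({k} : Set G) ≤ centralizer (F : Set G) :=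
    fun k hk hk1 => h.tau1_prime_action hM hE hF.1 hF.2.1 hk hk1
  have hκeq : kappa M = tau1 M := by
    refine Set.Subset.antisymm hκ fun r hr => ?_
    have : Fact r.Prime := ⟨hr.1⟩
    have hrE : r ∣ Nat.card E :=
      dvd_card_of_hallOf (h.toPre.compl_hall hM hE) hr.1 hr.2.1 hr.2.2.1
    obtain ⟨R, hR, hRc⟩ := exists_order_prime_le (dvd_card_of_hallOf hF hr.1 hr hrE)
    refine h.toPre.kappa_of_fixed hM (Or.inl hr) (hR.trans (hF.1.trans hE.1)) hRc fun e =>
      hD (le_bot_iff.1 (le_trans (fun x hx => ?_) e.le))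
    refine ⟨hx.1, centralizer_anti hR (hfix a haF ha1 ⟨hx.1, ?_⟩)⟩
    exact centralizer_singleton_of_mem (mem_zpowers a) hx.2
  have hKhall : IsPiHallOf (tau1 M) K E := hallOf_of_le (hκeq ▸ hK) hKE hE.1
  have hKF' : F = K := hallOf_eq_of_le hKhall hKF hF.1 hF.2.1
  subst hKF'
  have hreg : ∀ k ∈ F, k ≠ 1 → IsPi (tau1 M) (E ⊓ centralizer ({k} : Set G)) := by
    intro k hk hk1 r hr hrd
    have : Fact r.Prime := ⟨hr⟩
    obtain ⟨R, hR, hRc⟩ := exists_order_prime_le hrd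
    have hRE : R ≤ E := hR.trans inf_le_left
    obtain ⟨q, n, hq, hqd, hqo⟩ := exists_pow_prime_order hk1
    have : Fact q.Prime := ⟨hq⟩
    have hQc : Nat.card (zpowers (k ^ n)) = q := by rw [Nat.card_zpowers, hqo]
    have hqτ : q ∈ tau1 M := hF.2.1 q hq (hqd.trans (F.orderOf_dvd_natCard hk))
    have hQF : zpowers (k ^ n) ≤ F := zpowers_le.2 (pow_mem hk n)
    have hDk := h.toPre.fixed_ne_bot hM (hκeq ▸ hqτ : q ∈ kappa M) (hQF.trans (hF.1.trans hE.1)) hQc
    have hRQ : R ≤ centralizer ((zpowers (k ^ n) : Subgroup G) : Set G) := by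
      rw [centralizer_zpowers]
      intro x hx
      exact mem_centralizer_singleton_iff.2
        ((show Commute x k from mem_centralizer_singleton_iff.1 (hR hx).2).pow_right n).eq
    have hrE : r ∣ Nat.card E := (dvd_of_eq hRc.symm).trans (card_dvd_of_le hRE)
    rcases h.toPre.tau_cases hM hr (hrE.trans (card_dvd_of_le hE.1))
      (h.toPre.compl_isPi hM hE r hr hrE) with h1 | h1 | h1
    · exact h1
    · exact absurd (h.tau1_tau2_fixed hM hqτ h1 (hQF.trans (hF.1.trans hE.1)) hQc (hRE.trans hE.1) hRc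
        (le_centralizer_iff.1 hRQ)) hDk
    · have hle := h.s1428 M hM E hE q hqτ _ (hQF.trans hF.1) hQc R (le_inf hRE hRQ) (hRc.symm ▸ hr)
      exact hκ (h.toPre.kappa_of_fixed hM (Or.inr h1) (hRE.trans hE.1) hRc
        fun e => hDk (le_bot_iff.1 (hle.trans e.le)))
  have hE'n : E ≤ normalizer ((⁅E, E⁆ : Subgroup G) : Set G) := commutator_normal
  have hE'hall : IsPiHallOf {q | q ∉ tau1 M} ⁅E, E⁆ E := by
    refine ⟨commutator_le_self E, fun r hr hd h1 => h1.2.2.2.1 (hd.trans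
      (card_dvd_of_le (commutator_mono hE.1 hE.1))), fun r hr hrτ hd => hrτ ?_⟩
    have hP : zpowers a ≤ F := zpowers_le.2 haF
    have hgen : E = ⁅E, E⁆ ⊔ (E ⊓ centralizer ((zpowers a : Subgroup G) : Set G)) := by
      refine le_antisymm (fun e he => ?_) (sup_le (commutator_le_self E) inf_le_left)
      obtain ⟨n, hn, hne⟩ := h.toPre.exists_derived_mul hM hE.1 (hκ hpκ).2.2.2.1 (hP.trans hF.1)
        (isPGroup_of_card hPc) he
      rw [show e = n⁻¹ * (n * e) by group]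
      exact mul_mem (mem_sup_left (inv_mem hn))
        (mem_sup_right ⟨E.mul_mem (commutator_le_self E hn) he, hne⟩)
    refine hreg a haF ha1 r hr ?_
    rw [← centralizer_zpowers]
    set C := E ⊓ centralizer ((zpowers a : Subgroup G) : Set G) with hC
    have e : Nat.card ↥⁅E, E⁆ * (⁅E, E⁆).relIndex E = Nat.card E := by
      rw [← relIndex_bot_left, ← relIndex_bot_left E, relIndex_mul_relIndex ⊥ _ _ bot_le (commutator_le_self E)]
    have h4 : Nat.card E ∣ Nat.card ↥⁅E, E⁆ * Nat.card C := by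
      have := CfsgLib.Solvable.card_sup_dvd_of_le_normalizer (A := ⁅E, E⁆) (X := C) (inf_le_left.trans hE'n)
      rwa [← hgen] at this
    rw [← e] at h4
    exact hd.trans ((Nat.mul_dvd_mul_iff_left Nat.card_pos).1 h4)
  refine ⟨hκeq, hFc, fun k hk hk1 => hfix k hk hk1, (h.s1420 M hM E hE).2.1, hE'hall,
    isComplIn_of_hallOf hE'hall hKhall hE'n (fun r _ h1 h2 => h1 h2) (fun r _ _ => (em' _)),
    fun k hk hk1 => ?_⟩
  refine eq_bot_of_isPi (IsPi.of_le hE'hall.2.1 inf_le_left) fun r hr hrπ hd => hrπ ?_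
  exact hreg k hk hk1 r hr (hd.trans (card_dvd_of_le (inf_le_inf_right _ (commutator_le_self E))))

/-- `κ(M) ∩ τ₃(M) ≠ ∅`: then `K = E`. -/
theorem Pre'.kappa_tau3_struct {M E K : Subgroup G} (hM : IsCoatom M) (hE : IsComplIn E (sigmaCore M) M)
    (hK : IsPiHallOf (kappa M) K M) (hKE : K ≤ E) {p : ℕ} (hp : p ∈ kappa M) (hp3 : p ∈ tau3 M) :
    K = E ∧ (∀ k ∈ K, k ≠ 1 → sigmaCore M ⊓ centralizer ({k} : Set G) ≤ centralizer (K : Set G)) ∧
      (∀ X : Subgroup G, X ≤ K → (Nat.card X).Prime → K ≤ normalizer (X : Set G)) ∧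
      ∃ e ∈ K, (orderOf e).Prime ∧ orderOf e ∈ tau1 M := by
  have : Fact p.Prime := ⟨hp.1⟩
  obtain ⟨P, hPE, hP⟩ := exists_order_prime_le
    (dvd_card_of_hallOf (h.toPre.compl_hall hM hE) hp.1 hp.2.2.1 hp.2.1)
  have hD := h.toPre.fixed_ne_bot hM hp (hPE.trans hE.1) hP
  obtain ⟨h2, hED, hfix, hnorm, e, he, hep, heτ⟩ := h.tau3_structure hM hE hp3 hPE hP hD
  have hEκ : IsPi (kappa M) E := by
    intro r hr hrd
    have : Fact r.Prime := ⟨hr⟩
    obtain ⟨R, hR, hRc⟩ := exists_order_prime_le hrd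
    have h13 : IsTau13 M r := by
      rcases h.toPre.tau_cases hM hr (hrd.trans (card_dvd_of_le hE.1))
        (h.toPre.compl_isPi hM hE r hr hrd) with h1 | h1 | h1
      exacts [Or.inl h1, absurd h1 (h2 r), Or.inr h1]
    exact h.toPre.kappa_of_fixed hM h13 (hR.trans hE.1) hRc fun e' =>
      hD (le_bot_iff.1 ((le_inf inf_le_left ((le_centralizer_iff.1 hED).trans (centralizer_anti hR))).trans e'.le))
  obtain rfl : E = K := hallOf_eq_of_le hK hKE hE.1 hEκ
  exact ⟨rfl, hfix, hnorm, e, he, hep, heτ⟩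

/-- 14.2, both cases: `K` has prime action, fixes points, normalises its subgroups of prime order,
meets `τ₁`, and `N_E(X) ≤ K` for `X ≤ K` of prime order. -/
theorem Pre'.kappa_struct {M E K : Subgroup G} (hM : IsCoatom M) (hE : IsComplIn E (sigmaCore M) M)
    (hK : IsPiHallOf (kappa M) K M) (hKE : K ≤ E) (hK1 : K ≠ ⊥) :
    sigmaCore M ⊓ centralizer (K : Set G) ≠ ⊥ ∧
      (∀ k ∈ K, k ≠ 1 → sigmaCore M ⊓ centralizer ({k} : Set G) ≤ centralizer (K : Set G)) ∧
      (∀ X : Subgroup G, X ≤ K → (Nat.card X).Prime →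
        K ≤ normalizer (X : Set G) ∧ E ⊓ normalizer (X : Set G) ≤ K) ∧
      ∃ e ∈ K, (orderOf e).Prime ∧ orderOf e ∈ tau1 M := by
  obtain ⟨p, P, hp, hPK, hPc⟩ := exists_prime_subgroup hK1
  have : Fact p.Prime := ⟨hp⟩
  have hpκ : p ∈ kappa M := hK.2.1 p hp ((dvd_of_eq hPc.symm).trans (card_dvd_of_le hPK))
  obtain ⟨a, ha1, hao, rfl⟩ := exists_zpowers_of_card hp hPc
  have haK : a ∈ K := hPK (mem_zpowers a)
  have hstar : (∀ k ∈ K, k ≠ 1 → sigmaCore M ⊓ centralizer ({k} : Set G) ≤ centralizer (K : Set G)) →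
      sigmaCore M ⊓ centralizer (K : Set G) ≠ ⊥ := fun hfix e =>
    h.toPre.fixed_ne_bot hM hpκ (hPK.trans hK.1) hPc
      (le_bot_iff.1 (fun x hx => e.le ⟨hx.1, hfix a haK ha1
        ⟨hx.1, centralizer_singleton_of_mem (mem_zpowers a) hx.2⟩⟩))
  by_cases hκ : kappa M ⊆ tau1 M
  · obtain ⟨-, hcyc, hfix, -, -, hcompl, hfree⟩ := h.kappa_tau1_struct hM hE hK hKE hK1 hκ
    refine ⟨hstar hfix, hfix, fun X hX hXp => ⟨fun k hk => ?_, ?_⟩, a, haK, hao.symm ▸ hp,
      hao.symm ▸ hκ hpκ⟩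
    · exact CfsgLib.Solvable.mem_normalizer_iff_conj_smul.2 (eq_of_cyclic_card hcyc
        ((conj_smul_mono k hX).trans (conj_smul_self_of_mem_normalizer (le_normalizer hk)).le) hX
        (card_conj_smul k X))
    · rintro e ⟨he, heN⟩
      obtain ⟨k, hk, v, hv, rfl⟩ := hcompl.2.2.2 e he
      have hkN : k ∈ normalizer (X : Set G) :=
        CfsgLib.Solvable.mem_normalizer_iff_conj_smul.2 (eq_of_cyclic_card hcyc
          ((conj_smul_mono k hX).trans (conj_smul_self_of_mem_normalizer (le_normalizer hk)).le) hX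
          (card_conj_smul k X))
      have hvN : v ∈ normalizer (X : Set G) := by
        have := mul_mem (inv_mem hkN) heN
        simpa using this
      have hvC := CfsgLib.Solvable.mem_centralizer_of_mem_normalizer (K := ⁅E, E⁆) (A := X)
        ((hX.trans hKE).trans commutator_normal)
        (le_bot_iff.1 ((inf_le_inf_left _ hX).trans (by rw [inf_comm]; exact hcompl.2.2.1.le))) hv hvN
      obtain ⟨x, hx1, -, hx⟩ := exists_zpowers_of_card hXp rfl
      have := (hfree x (hX (hx ▸ mem_zpowers x)) hx1).le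
        ⟨hv, centralizer_singleton_of_mem (hx ▸ mem_zpowers x) hvC⟩
      rw [mem_bot.1 this, mul_one]
      exact hk
  · obtain ⟨q, hq, hq1⟩ := Set.not_subset.1 hκ
    have hq3 : q ∈ tau3 M := (h.toPre.kappa_tau13 hM hq).resolve_left hq1
    obtain ⟨rfl, hfix, hnorm, he⟩ := h.kappa_tau3_struct hM hE hK hKE hq hq3
    exact ⟨hstar hfix, hfix, fun X hX hXp => ⟨hnorm X hX hXp, inf_le_left⟩, he⟩

/-- Two subgroups of the same prime order of `K` are equal. -/
theorem Pre'.eq_of_le_kappaHall {M K X Y : Subgroup G} (hM : IsCoatom M)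
    (hK : IsPiHallOf (kappa M) K M) {p : ℕ} (hp : p.Prime) (hX : X ≤ K) (hY : Y ≤ K)
    (hXc : Nat.card X = p) (hYc : Nat.card Y = p) : X = Y := by
  have : Fact p.Prime := ⟨hp⟩
  have hK1 : K ≠ ⊥ := fun e => ne_bot_of_card hp hXc (le_bot_iff.1 (e ▸ hX))
  obtain ⟨E, hE, hKE⟩ := h.toPre.exists_compl_ge hM hK.1 (IsPi.mono hK.2.1 fun r hr => hr.2.2.1)
  obtain ⟨-, -, hn, -⟩ := h.kappa_struct hM hE hK hKE hK1
  obtain ⟨S, hS, hYS⟩ := exists_sylow_ge hY (isPGroup_of_card hYc)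
  have h13 := h.toPre.kappa_tau13 hM (hK.2.1 p hp ((dvd_of_eq hXc.symm).trans (card_dvd_of_le hX)))
  have hXS : X ≤ S := le_sup_right.trans (hallOf_eq_of_le hS le_sup_left (sup_le hS.1 hX)
    (by rw [sup_comm]
        exact IsPi.sup (isPi_singleton_of_isPGroup (isPGroup_of_card hXc)) hS.2.1
          (hS.1.trans (hn X hX (hXc.symm ▸ hp)).1))).le
  exact eq_of_cyclic_card (h.toPre.isCyclic_of_rank_one h13.rank (hS.1.trans hK.1)
    (isPGroup_of_isPi_singleton hS.2.1)) hXS hYS (hXc.trans hYc.symm)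

/-- Prime action of `K`. -/
theorem Pre'.kappa_fixed_eq {M K : Subgroup G} (hM : IsCoatom M) (hK : IsPiHallOf (kappa M) K M)
    {k : G} (hk : k ∈ K) (hk1 : k ≠ 1) :
    sigmaCore M ⊓ centralizer ({k} : Set G) = sigmaCore M ⊓ centralizer (K : Set G) := by
  obtain ⟨E, hE, hKE⟩ := h.toPre.exists_compl_ge hM hK.1 (IsPi.mono hK.2.1 fun r hr => hr.2.2.1)
  obtain ⟨-, hfix, -, -⟩ := h.kappa_struct hM hE hK hKE fun e => hk1 (mem_bot.1 (e ▸ hk))
  exact le_antisymm (le_inf inf_le_left (hfix k hk hk1))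
    (le_inf inf_le_left (inf_le_right.trans (centralizer_singleton_of_mem hk)))

/-- `M ∩ N(X) = K K*` for `X ≤ K` of prime order. -/
theorem Pre'.inter_normalizer_eq {M K X : Subgroup G} (hM : IsCoatom M)
    (hK : IsPiHallOf (kappa M) K M) (hX : X ≤ K) (hXp : (Nat.card X).Prime) :
    M ⊓ normalizer (X : Set G) = K ⊔ (sigmaCore M ⊓ centralizer (K : Set G)) := by
  obtain ⟨E, hE, hKE⟩ := h.toPre.exists_compl_ge hM hK.1 (IsPi.mono hK.2.1 fun r hr => hr.2.2.1)
  have hK1 : K ≠ ⊥ := fun e => ne_bot_of_card hXp rfl (le_bot_iff.1 (e ▸ hX))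
  obtain ⟨-, hfix, hn, -⟩ := h.kappa_struct hM hE hK hKE hK1
  refine le_antisymm ?_ (sup_le (le_inf hK.1 (hn X hX hXp).1) (le_inf (inf_le_left.trans (piCoreOf_le _ _))
    ((inf_le_right.trans (centralizer_anti hX)).trans (centralizer_le_normalizer _))))
  rintro g ⟨hgM, hgN⟩
  obtain ⟨e, he, s, hs, rfl⟩ := hE.2.2.2 g hgM
  obtain ⟨x, hx1, -, hx⟩ := exists_zpowers_of_card hXp rfl
  have hEn : E ≤ normalizer (sigmaCore M : Set G) := hE.1.trans (le_normalizer_piCoreOf _ _)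
  have hsC : s ∈ centralizer (X : Set G) := by
    rw [mem_centralizer_iff]
    intro y hy
    have hyE : y ∈ E := hKE (hX hy)
    have h1 : s * y * s⁻¹ ∈ E := by
      have h2 := hKE (hX ((mem_normalizer_iff.1 hgN y).1 hy))
      have h3 := E.mul_mem (E.mul_mem (E.inv_mem he) h2) he
      rwa [show e⁻¹ * (e * s * y * (e * s)⁻¹) * e = s * y * s⁻¹ by group] at h3
    have h2 : s * y * s⁻¹ * y⁻¹ ∈ E ⊓ sigmaCore M := by
      refine ⟨E.mul_mem h1 (E.inv_mem hyE), ?_⟩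
      rw [show s * y * s⁻¹ * y⁻¹ = s * (y * s⁻¹ * y⁻¹) by group]
      exact (sigmaCore M).mul_mem hs
        ((mem_normalizer_iff.1 (hEn hyE) _).1 ((sigmaCore M).inv_mem hs))
    rw [hE.2.2.1, mem_bot, mul_inv_eq_one, mul_inv_eq_iff_eq_mul] at h2
    exact h2.symm
  have heN : e ∈ normalizer (X : Set G) := by
    have := mul_mem hgN ((normalizer (X : Set G)).inv_mem (centralizer_le_normalizer _ hsC))
    simpa using this
  refine mul_mem (mem_sup_left ((hn X hX hXp).2 ⟨he, heN⟩)) (mem_sup_right ⟨hs, hfix x (hX (hx ▸ mem_zpowers x)) hx1 ⟨hs, ?_⟩⟩)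
  exact centralizer_singleton_of_mem (hx ▸ mem_zpowers x) hsC

/-- `M ∩ N(K) = K K*`. -/
theorem Pre'.inter_normalizer_kappa {M K : Subgroup G} (hM : IsCoatom M)
    (hK : IsPiHallOf (kappa M) K M) (hK1 : K ≠ ⊥) :
    M ⊓ normalizer (K : Set G) = K ⊔ (sigmaCore M ⊓ centralizer (K : Set G)) := by
  refine le_antisymm ?_ (sup_le (le_inf hK.1 le_normalizer) (le_inf (inf_le_left.trans (piCoreOf_le _ _))
    (inf_le_right.trans (centralizer_le_normalizer _))))
  obtain ⟨p, X, hp, hX, hXc⟩ := exists_prime_subgroup hK1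
  rw [← h.inter_normalizer_eq hM hK hX (hXc.symm ▸ hp)]
  rintro g ⟨hgM, hgN⟩
  refine ⟨hgM, CfsgLib.Solvable.mem_normalizer_iff_conj_smul.2 (h.eq_of_le_kappaHall hM hK hp
    ((conj_smul_mono g hX).trans (conj_smul_self_of_mem_normalizer hgN).le) hX
    (by rw [card_conj_smul, hXc]) hXc)⟩

/-- The maximal subgroup over `N(X)` for `X ≤ K` of prime order. -/
theorem Pre'.kappa_normalizer_sigma {M K X L : Subgroup G} (hM : IsCoatom M)
    (hK : IsPiHallOf (kappa M) K M) (hX : X ≤ K) {p : ℕ} [hp' : Fact p.Prime] (hXc : Nat.card X = p)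
    (hL : IsCoatom L) (hNX : normalizer (X : Set G) ≤ L) :
    p ∈ sigma L ∧ X ≤ sigmaCore L ∧ (∀ g : G, L ≠ MulAut.conj g • M) := by
  have hpκ : p ∈ kappa M := hK.2.1 p hp'.out ((dvd_of_eq hXc.symm).trans (card_dvd_of_le hX))
  have h13 := h.toPre.kappa_tau13 hM hpκ
  have hXM : X ≤ M := hX.trans hK.1
  have hσ := h.tau13_mem_sigma hM h13 hXM hXc (h.toPre.fixed_ne_bot hM hpκ hXM hXc) hL hNX
  exact ⟨hσ, h.toPre.le_sigmaCore hL (le_normalizer.trans hNX)
    (IsPi.mono (isPi_singleton_of_isPGroup (isPGroup_of_card hXc)) (by rintro r rfl; exact hσ)),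
    (h.toPre.tau13_maximal hM h13 (isPGroup_of_card hXc) (ne_bot_of_card hp'.out hXc) hL hNX).1⟩

/-- Subgroups of prime order of `K*` (S1431, S1367). -/
theorem Pre'.kstar_unique {M K X : Subgroup G} (hM : IsCoatom M) (hK : IsPiHallOf (kappa M) K M)
    (hK1 : K ≠ ⊥) {q : ℕ} [Fact q.Prime] (hX : Nat.card X = q)
    (hXle : X ≤ sigmaCore M ⊓ centralizer (K : Set G)) :
    (centralizer (X : Set G) ≤ M ∧
        ∀ L : Subgroup G, IsCoatom L → centralizer (X : Set G) ≤ L → L = M) ∧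
      ∀ S : Subgroup G, IsPiHallOf {q} S (sigmaCore M) → InUniqueMaximal S := by
  obtain ⟨E, hE, hKE⟩ := h.toPre.exists_compl_ge hM hK.1 (IsPi.mono hK.2.1 fun r hr => hr.2.2.1)
  obtain ⟨-, -, -, e, he, hep, heτ⟩ := h.kappa_struct hM hE hK hKE hK1
  exact h.unique_of_tau1_fixed hM heτ (zpowers_le.2 (hK.1 he)) (Nat.card_zpowers e) hX
    (hXle.trans (inf_le_inf_left _ (centralizer_anti (zpowers_le.2 he))))

/-- `C(x) ≤ M` for `x ∈ K*#`. -/
theorem Pre'.kstar_centralizer_le {M K : Subgroup G} (hM : IsCoatom M) (hK : IsPiHallOf (kappa M) K M)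
    (hK1 : K ≠ ⊥) {x : G} (hx : x ∈ sigmaCore M ⊓ centralizer (K : Set G)) (hx1 : x ≠ 1) :
    centralizer ({x} : Set G) ≤ M := by
  obtain ⟨q, n, hq, -, hqo⟩ := exists_pow_prime_order hx1
  have : Fact q.Prime := ⟨hq⟩
  refine le_trans ?_ (h.kstar_unique hM hK hK1 (X := zpowers (x ^ n)) (by rw [Nat.card_zpowers, hqo])
    (zpowers_le.2 (pow_mem hx n))).1.1
  rw [centralizer_zpowers]
  intro y hy
  exact mem_centralizer_singleton_iff.2
    ((show Commute y x from mem_centralizer_singleton_iff.1 hy).pow_right n).eq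

end CfsgLib.OddLocal.Sec13
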