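import Cfsg.Agent.Lib.OddLocal.Sec14Frob

/-!
BG §14: the subgroup `Z = K K*`, the TI property of `Z ∖ (K ∪ K*)`, and the neighbouring maximal
subgroup over `N(X)`, `X ≤ K` of prime order (first part of BG 14.7).
-/

set_option autoImplicit false
set_option linter.unusedSectionVars false

open scoped Pointwise

namespace CfsgLib.OddLocal.Sec13

open Cfsg Subgroup
open CfsgLib.Solvable (conj_smul_le_iff mem_conj_smul_iff card_conj_smul conj_smul_conj_smul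
  conj_smul_mono conj_smul_self_of_mem_normalizer conj_smul_eq_map)

/-- `K*`. -/
local notation "Ks(" M ", " K ")" => sigmaCore M ⊓ centralizer ((K : Subgroup _) : Set _)

universe u
variable {G : Type u} [Group G] [Finite G]

/-- The union of the conjugates of `S`. -/
def conjSet (S : Set G) : Set G := {a | ∃ g : G, ∃ z ∈ S, a = g * z * g⁻¹}

/-- A set with trivial intersections and normaliser `N` has `[G : N] |S|` conjugates in all. -/
theorem ncard_conjSet {S : Set G} {N : Subgroup G}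
    (hti : ∀ g : G, ∀ z ∈ S, g * z * g⁻¹ ∈ S → g ∈ N)
    (hn : ∀ g ∈ N, ∀ z ∈ S, g * z * g⁻¹ ∈ S) : (conjSet S).ncard = N.index * S.ncard := by
  let f : (G ⧸ N) × S → G := fun p => p.1.out * (p.2 : G) * p.1.out⁻¹
  have hf : Function.Injective f := by
    rintro ⟨c, z⟩ ⟨d, w⟩ e
    have e' : (d.out⁻¹ * c.out) * (z : G) * (d.out⁻¹ * c.out)⁻¹ = w := by
      calc (d.out⁻¹ * c.out) * (z : G) * (d.out⁻¹ * c.out)⁻¹
          = d.out⁻¹ * (c.out * (z : G) * c.out⁻¹) * d.out := by group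
        _ = d.out⁻¹ * (d.out * (w : G) * d.out⁻¹) * d.out := by rw [show c.out * (z : G) * c.out⁻¹ = d.out * (w : G) * d.out⁻¹ from e]
        _ = w := by group
    have hcd : d = c := by
      rw [← QuotientGroup.out_eq' d, ← QuotientGroup.out_eq' c, QuotientGroup.eq]
      exact hti _ z z.2 (e'.symm ▸ w.2)
    subst hcd
    exact Prod.ext rfl (Subtype.ext (by simpa using e'))
  have hr : conjSet S = Set.range f := by
    ext a
    constructor
    · rintro ⟨g, z, hz, rfl⟩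
      set c : G ⧸ N := (g : G ⧸ N) with hc
      have hmem : c.out⁻¹ * g ∈ N := QuotientGroup.eq.1 (QuotientGroup.out_eq' c)
      refine ⟨(c, ⟨_, hn _ hmem z hz⟩), ?_⟩
      show c.out * ((c.out⁻¹ * g) * z * (c.out⁻¹ * g)⁻¹) * c.out⁻¹ = _
      group
    · rintro ⟨p, rfl⟩
      exact ⟨_, _, p.2.2, rfl⟩
  rw [hr, ← Nat.card_coe_set_eq, Nat.card_range_of_injective hf, Nat.card_prod, Nat.card_coe_set_eq]
  rfl

variable (h : Pre' G)
include h

theorem Pre'.kstar_ne_bot {M K : Subgroup G} (hM : IsCoatom M) (hK : IsPiHallOf (kappa M) K M)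
    (hK1 : K ≠ ⊥) : Ks(M, K) ≠ ⊥ := by
  obtain ⟨E, hE, hKE⟩ := h.toPre.exists_compl_ge hM hK.1 (IsPi.mono hK.2.1 fun r hr => hr.2.2.1)
  exact (h.kappa_struct hM hE hK hKE hK1).1

omit h in
theorem kappaHall_orderOf {M K : Subgroup G} (hK : IsPiHallOf (kappa M) K M) {a : G} (ha : a ∈ K)
    {p : ℕ} (hp : p.Prime) (hd : p ∣ orderOf a) : p ∉ sigma M :=
  (hK.2.1 p hp (hd.trans (K.orderOf_dvd_natCard ha))).2.2.1

omit h in
theorem sigmaCore_orderOf {M : Subgroup G} {b : G} (hb : b ∈ sigmaCore M) {p : ℕ} (hp : p.Prime)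
    (hd : p ∣ orderOf b) : p ∈ sigma M :=
  isPi_piCoreOf (sigma M) M p hp (hd.trans ((sigmaCore M).orderOf_dvd_natCard hb))

omit h in
theorem kstar_commute {M K : Subgroup G} {a b : G} (ha : a ∈ K) (hb : b ∈ Ks(M, K)) : Commute a b :=
  mem_centralizer_iff.1 hb.2 a ha

omit h in
theorem kappa_inf_kstar {M K : Subgroup G} (hK : IsPiHallOf (kappa M) K M) : K ⊓ Ks(M, K) = ⊥ :=
  inf_eq_bot_of_isPi hK.2.1 (IsPi.of_le (isPi_piCoreOf (sigma M) M) inf_le_left)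
    fun _ _ h1 h2 => h1.2.2.1 h2

omit h in
theorem kappa_le_normalizer_kstar {M K : Subgroup G} : K ≤ normalizer ((Ks(M, K) : Subgroup G) : Set G) :=
  fun k hk => centralizer_le_normalizer _ (mem_centralizer_iff.2 fun b hb => (kstar_commute hk hb).eq.symm)

omit h in
theorem exists_mul_of_mem_Z {M K : Subgroup G} {z : G} (hz : z ∈ K ⊔ Ks(M, K)) :
    ∃ a ∈ K, ∃ b ∈ Ks(M, K), z = a * b := by
  rw [sup_comm] at hz
  obtain ⟨b, hb, a, ha, rfl⟩ := eq_mul_of_mem_sup kappa_le_normalizer_kstar hz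
  exact ⟨a, ha, b, hb, (kstar_commute ha hb).eq.symm⟩

omit h in
theorem card_Z {M K : Subgroup G} (hK : IsPiHallOf (kappa M) K M) :
    Nat.card ↥(K ⊔ Ks(M, K)) = Nat.card K * Nat.card ↥Ks(M, K) := by
  rw [sup_comm, card_sup_of_normalizes kappa_le_normalizer_kstar (by rw [inf_comm]; exact kappa_inf_kstar hK),
    mul_comm]

omit h in
/-- The two factors of an element of `Z` are determined. -/
theorem Z_decomp {M K : Subgroup G} (hK : IsPiHallOf (kappa M) K M) {a b c d : G} (ha : a ∈ K)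
    (hb : b ∈ Ks(M, K)) (hc : c ∈ K) (hd : d ∈ Ks(M, K)) (he : a * b = c * d) : a = c ∧ b = d := by
  have h1 : c⁻¹ * a = d * b⁻¹ := by rw [inv_mul_eq_iff_eq_mul, ← mul_assoc, eq_mul_inv_iff_mul_eq, he]
  have h2 : c⁻¹ * a ∈ K ⊓ Ks(M, K) :=
    ⟨K.mul_mem (K.inv_mem hc) ha, h1 ▸ Subgroup.mul_mem _ hd (Subgroup.inv_mem _ hb)⟩
  rw [kappa_inf_kstar hK, mem_bot, inv_mul_eq_one] at h2
  exact ⟨h2.symm, mul_left_cancel (h2 ▸ he)⟩

omit h in
/-- `Z ∩ M_σ = K*`. -/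
theorem Z_inf_sigmaCore {M K : Subgroup G} (hK : IsPiHallOf (kappa M) K M) :
    (K ⊔ Ks(M, K)) ⊓ sigmaCore M = Ks(M, K) := by
  refine le_antisymm ?_ (le_inf le_sup_right inf_le_left)
  rintro z ⟨hz, hzσ⟩
  obtain ⟨a, ha, b, hb, rfl⟩ := exists_mul_of_mem_Z hz
  have h1 : a ∈ K ⊓ sigmaCore M := ⟨ha, by simpa using (sigmaCore M).mul_mem hzσ ((sigmaCore M).inv_mem hb.1)⟩
  rw [sigmaCore_def, inf_eq_bot_of_isPi hK.2.1 (isPi_piCoreOf (sigma M) M) fun _ _ h1 h2 => h1.2.2.1 h2, mem_bot] at h1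
  rw [h1, one_mul]
  exact hb

/-- The TI property of `Z ∖ (K ∪ K*)`. -/
theorem Pre'.Z_ti {M K : Subgroup G} (hM : IsCoatom M) (hK : IsPiHallOf (kappa M) K M) (hK1 : K ≠ ⊥)
    {a b g : G} (ha : a ∈ K) (ha1 : a ≠ 1) (hb : b ∈ Ks(M, K)) (hb1 : b ≠ 1)
    (hg : g * (a * b) * g⁻¹ ∈ K ⊔ Ks(M, K)) : g ∈ K ⊔ Ks(M, K) := by
  obtain ⟨c, hc, d, hd, he⟩ := exists_mul_of_mem_Z hg
  have hf : ∀ z : G, IsOfFinOrder z := fun z => isOfFinOrder_of_finite z
  have e : ∀ z : G, orderOf (g * z * g⁻¹) = orderOf z := fun z => (MulAut.conj g).orderOf_eq z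
  obtain ⟨hbd, hac⟩ := eq_of_mul_eq_mul_of_primes (π := sigma M) (a := g * b * g⁻¹) (b := g * a * g⁻¹)
    (c := d) (d := c) ((kstar_commute ha hb).symm.map (MulAut.conj g).toMonoidHom)
    (kstar_commute hc hd).symm (hf _) (hf _) (hf _) (hf _)
    (fun p hp h' => sigmaCore_orderOf hb.1 hp (e b ▸ h')) (fun p hp h' => kappaHall_orderOf hK ha hp (e a ▸ h'))
    (fun p hp h' => sigmaCore_orderOf hd.1 hp h') (fun p hp h' => kappaHall_orderOf hK hc hp h')
    (by rw [← (kstar_commute hc hd).eq, ← he, (kstar_commute ha hb).eq]; group)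
  have hd1 : d ≠ 1 := fun h1 => hb1 (conj_eq_one_iff.1 (hbd.trans h1))
  have hc1 : c ≠ 1 := fun h1 => ha1 (conj_eq_one_iff.1 (hac.trans h1))
  have hgM : g ∈ M := h.kstar_inter_conj hM hK hK1 hd hd1
    (mem_conj_smul_iff.2 (by
      rw [← hbd, show g⁻¹ * (g * b * g⁻¹) * g = b by group]
      exact piCoreOf_le (sigma M) M hb.1))
  exact h.kappa_inter_conj hM hK hgM hc hc1
    (mem_conj_smul_iff.2 (by rwa [← hac, show g⁻¹ * (g * a * g⁻¹) * g = a by group]))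

/-- A conjugate of an element of `Z ∖ (K ∪ K*)` does not lie in the spread of `M`. -/
theorem Pre'.Z_not_mem_spread {M K : Subgroup G} (hM : IsCoatom M) (hK : IsPiHallOf (kappa M) K M)
    (hK1 : K ≠ ⊥) {a b g : G} (ha : a ∈ K) (hb : b ∈ Ks(M, K)) (ha1 : a ≠ 1) :
    g * (a * b) * g⁻¹ ∉ sigmaSpread M := by
  intro hz
  obtain ⟨t, x, r, hx, hx1, hr, he, hxr, hxπ, hrπ⟩ := h.spread_part hM hz
  have hf : ∀ z : G, IsOfFinOrder z := fun z => isOfFinOrder_of_finite z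
  have e : ∀ z : G, orderOf (g * z * g⁻¹) = orderOf z := fun z => (MulAut.conj g).orderOf_eq z
  obtain ⟨hbx, har⟩ := eq_of_mul_eq_mul_of_primes (π := sigma M) (a := g * b * g⁻¹) (b := g * a * g⁻¹)
    ((kstar_commute ha hb).symm.map (MulAut.conj g).toMonoidHom) hxr (hf _) (hf _) (hf _) (hf _)
    (fun p hp h' => sigmaCore_orderOf hb.1 hp (e b ▸ h')) (fun p hp h' => kappaHall_orderOf hK ha hp (e a ▸ h'))
    hxπ hrπ (by rw [← he, (kstar_commute ha hb).eq]; group)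
  rcases hr with rfl | ⟨hn, -⟩
  · exact ha1 (conj_eq_one_iff.1 har)
  have hb1 : b ≠ 1 := fun h1 => hx1 (by rw [← hbx, h1]; group)
  refine hn ?_
  have hmem : g⁻¹ * t ∈ M := h.kstar_inter_conj hM hK hK1 hb hb1 (mem_conj_smul_iff.2 (by
    have h2 := piCoreOf_le (sigma (MulAut.conj t • M)) _ hx
    rw [mem_conj_smul_iff, ← hbx] at h2
    simpa [mul_assoc] using h2))
  have eM : MulAut.conj t • M = MulAut.conj g • M := by
    conv_lhs => rw [show t = g * (g⁻¹ * t) by group, ← conj_smul_conj_smul,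
      conj_smul_self_of_mem_normalizer (le_normalizer hmem)]
  intro c hc
  rw [eM, mem_conj_smul_iff]
  refine h.kstar_centralizer_le hM hK hK1 hb hb1 (mem_centralizer_singleton_iff.2 ?_)
  have h2 := mem_centralizer_singleton_iff.1 hc
  rw [← hbx] at h2
  calc g⁻¹ * c * g * b = g⁻¹ * (c * (g * b * g⁻¹)) * g := by group
    _ = g⁻¹ * (g * b * g⁻¹ * c) * g := by rw [h2]
    _ = b * (g⁻¹ * c * g) := by group

/-- First part of BG 14.7: the maximal subgroup `L` over `N(X)`, `X ≤ K` of prime order. -/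
theorem Pre'.neighbour {M K X L : Subgroup G} (hM : IsCoatom M) (hK : IsPiHallOf (kappa M) K M)
    (hX : X ≤ K) {p : ℕ} [hp' : Fact p.Prime] (hXc : Nat.card X = p) (hL : IsCoatom L)
    (hNX : normalizer (X : Set G) ≤ L) :
    p ∈ sigma L ∧ (∀ g : G, L ≠ MulAut.conj g • M) ∧ centralizer (X : Set G) ≤ L ∧
      (∀ L' : Subgroup G, IsCoatom L' → centralizer (X : Set G) ≤ L' → L' = L) ∧
      ∃ K₁ : Subgroup G, IsPiHallOf (kappa L) K₁ L ∧ K₁ ≠ ⊥ ∧ Ks(M, K) ≤ K₁ ∧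
        X ≤ Ks(L, K₁) ∧ Ks(L, K₁) ≤ K ∧ K₁ ⊔ Ks(L, K₁) = K ⊔ Ks(M, K) := by
  have hXp : (Nat.card X).Prime := hXc.symm ▸ hp'.out
  have hK1 : K ≠ ⊥ := fun e => ne_bot_of_card hp'.out hXc (le_bot_iff.1 (e ▸ hX))
  have hks1 := h.kstar_ne_bot hM hK hK1
  obtain ⟨hpL, hXLσ, hne⟩ := h.kappa_normalizer_sigma hM hK hX hXc hL hNX
  have hksX : Ks(M, K) ≤ centralizer (X : Set G) := inf_le_right.trans (centralizer_anti hX)
  have hksL : Ks(M, K) ≤ L := hksX.trans ((centralizer_le_normalizer _).trans hNX)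
  obtain ⟨ℓ, Z₀, hℓ, hZ₀, hZ₀c⟩ := exists_prime_subgroup hks1
  have : Fact ℓ.Prime := ⟨hℓ⟩
  have hκ : IsPi (kappa L) (Ks(M, K) : Subgroup G) := by
    intro q hq hd
    have : Fact q.Prime := ⟨hq⟩
    obtain ⟨Y, hY, hYc⟩ := exists_order_prime_le hd
    have hYL : Y ≤ L := hY.trans hksL
    have hqM : q ∈ sigma M := isPi_piCoreOf (sigma M) M q hq (hd.trans (card_dvd_of_le inf_le_left))
    have hqL : q ∉ sigma L := h.not_sigma_inter hM hL hne hqM
    have hXY : X ≤ sigmaCore L ⊓ centralizer (Y : Set G) :=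
      le_inf hXLσ (le_centralizer_iff.1 (hY.trans hksX))
    have hfix : sigmaCore L ⊓ centralizer (Y : Set G) ≠ ⊥ := fun e =>
      ne_bot_of_card hp'.out hXc (le_bot_iff.1 (hXY.trans e.le))
    rcases h.toPre.tau_cases hL hq ((dvd_of_eq hYc.symm).trans (card_dvd_of_le hYL)) hqL with h1 | h1 | h1
    · exact h.toPre.kappa_of_fixed hL (Or.inl h1) hYL hYc hfix
    · exfalso
      obtain ⟨E₀, hE₀, hYE₀⟩ := h.toPre.exists_compl_ge hL hYL
        (IsPi.mono (isPi_singleton_of_isPGroup (isPGroup_of_card hYc)) (by rintro x rfl; exact hqL))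
      obtain ⟨A, hAE, hA, hAc⟩ := h.toPre.exists_plane_compl hL hE₀ h1
      obtain ⟨⟨-, hline⟩, -, huni⟩ := h.s1418 L hL E₀ hE₀ q h1 A ⟨hAE, hA, hAc⟩
      have hCY := huni Y (hline Y hYE₀ hYc) hYc hfix
      exact hne 1 (by rw [map_one, one_smul]; exact (h.kstar_unique hM hK hK1 hYc hY).1.2 L hL hCY.1)
    · exact h.toPre.kappa_of_fixed hL (Or.inr h1) hYL hYc hfix
  obtain ⟨K₁, hK₁, hle⟩ := exists_hallOf_ge (h.toPre.isSolvable hL.1) hksL hκ
  have hK₁1 : K₁ ≠ ⊥ := fun e => hks1 (le_bot_iff.1 (e ▸ hle))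
  obtain ⟨z, hz1, -, hzZ⟩ := exists_zpowers_of_card hℓ hZ₀c
  have hzK₁ : z ∈ K₁ := hle (hZ₀ (hzZ ▸ mem_zpowers z))
  have hXks : X ≤ Ks(L, K₁) := by
    rw [← h.kappa_fixed_eq hL hK₁ hzK₁ hz1, ← centralizer_zpowers, hzZ]
    exact le_inf hXLσ (le_centralizer_iff.1 (hZ₀.trans hksX))
  have huL := (h.kstar_unique hL hK₁ hK₁1 hXc hXks).1
  have hksM : Ks(L, K₁) ≤ M := (inf_le_right.trans (centralizer_anti (hZ₀.trans hle))).trans
    (h.kstar_unique hM hK hK1 hZ₀c hZ₀).1.1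
  have hκM : IsPi (kappa M) (Ks(L, K₁) : Subgroup G) := by
    intro q hq hd
    have : Fact q.Prime := ⟨hq⟩
    obtain ⟨Y, hY, hYc⟩ := exists_order_prime_le hd
    obtain ⟨v, hv1, hvo, hvY⟩ := exists_zpowers_of_card hq hYc
    have hvk : v ∈ Ks(L, K₁) := hY (hvY ▸ mem_zpowers v)
    rcases h.sigma_element_dichotomy hM (x := z) (x' := v) (hZ₀ (hzZ ▸ mem_zpowers z)).1 hz1 (hksM hvk)
      (kstar_commute hzK₁ hvk) hv1 (fun r hr hrd hrM => h.not_sigma_inter hM hL hne hrM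
        (sigmaCore_orderOf hvk.1 hr hrd)) with ⟨h1, -⟩ | ⟨-, -, -, h3⟩
    · exact h1 q hq (dvd_of_eq hvo.symm)
    · exact absurd (h3 L hL (h.kstar_centralizer_le hL hK₁ hK₁1 hvk hv1))
        fun e => hne 1 (by rw [map_one, one_smul]; exact e)
  obtain ⟨m, hm, hmle⟩ := exists_conj_le_hallOf (h.toPre.isSolvable hM.1) hK hksM hκM
  have hmX := h.eq_of_le_kappaHall hM hK hp'.out ((conj_smul_mono m hXks).trans hmle) hX
    (by rw [card_conj_smul, hXc]) hXc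
  have hmZ : m ∈ K ⊔ Ks(M, K) := by
    rw [← h.inter_normalizer_eq hM hK hX hXp]
    exact ⟨hm, CfsgLib.Solvable.mem_normalizer_iff_conj_smul.2 hmX⟩
  have hksK : Ks(L, K₁) ≤ K := by
    have hmn : m⁻¹ ∈ normalizer (K : Set G) := inv_mem ((sup_le le_normalizer
      (inf_le_right.trans (centralizer_le_normalizer _))) hmZ)
    calc Ks(L, K₁) = MulAut.conj m⁻¹ • MulAut.conj m • Ks(L, K₁) := (conj_smul_inv_self m _).symm
      _ ≤ MulAut.conj m⁻¹ • K := conj_smul_mono _ hmle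
      _ = K := conj_smul_self_of_mem_normalizer hmn
  refine ⟨hpL, hne, huL.1, huL.2, K₁, hK₁, hK₁1, hle, hXks, hksK, ?_⟩
  have hZ₀p : (Nat.card Z₀).Prime := hZ₀c.symm ▸ hℓ
  have e1 := h.inter_normalizer_eq hM hK hX hXp
  have e2 := h.inter_normalizer_eq hL hK₁ (hZ₀.trans hle) hZ₀p
  have hNZ : normalizer (Z₀ : Set G) ≤ M := h.toPre.normalizer_le_of_unique hM
    ((hZ₀.trans inf_le_left).trans (piCoreOf_le _ _)) (ne_bot_of_card hℓ hZ₀c) (h.kstar_unique hM hK hK1 hZ₀c hZ₀).1.2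
  refine le_antisymm ?_ ?_
  · rw [← e1, sup_le_iff]
    refine ⟨le_inf (fun k hk => hNZ (?_ : k ∈ normalizer (Z₀ : Set G)))
      ((le_centralizer_iff.1 (hXks.trans inf_le_right)).trans (centralizer_le_normalizer _)), ?_⟩
    · exact (e2.ge (mem_sup_left hk)).2
    · rw [e1]; exact hksK.trans le_sup_left
  · rw [← e2, sup_le_iff]
    have hKX : K ≤ normalizer (X : Set G) := fun k hk => (e1.ge (mem_sup_left hk)).2
    refine ⟨le_inf (hKX.trans hNX)
      ((le_centralizer_iff.1 (hZ₀.trans inf_le_right)).trans (centralizer_le_normalizer _)), ?_⟩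
    rw [e2]; exact hle.trans le_sup_left

end CfsgLib.OddLocal.Sec13
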