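import Cfsg.Agent.Lib.OddLocal.FittingUnique
import Cfsg.Agent.Lib.PGroup.PrimeIndex
import Cfsg.Agent.Lib.Solvable.Generation
import Cfsg.Agent.Lib.Solvable.SchurZassenhaus
import Cfsg.Agent.S0126
import Cfsg.Agent.S1457
import Cfsg.Agent.S1894

/-!
A maximal subgroup `M` with nontrivial `p'`-core is the only maximal subgroup over its Sylow `p`-subgroup,
provided every `p'`-subgroup invariant under that Sylow subgroup lies in it.
-/

set_option autoImplicit false
set_option linter.unusedSectionVars false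

namespace CfsgLib.OddLocal

open Cfsg Subgroup
open scoped Pointwise

variable {G : Type*} [Group G] [Finite G] {p : ℕ} [hp : Fact p.Prime]

theorem mem_primesNotDvd_prime {r : ℕ} : r ∈ primesNotDvd p ↔ r.Prime ∧ r ≠ p :=
  and_congr_right fun hr => not_congr (Nat.prime_dvd_prime_iff_eq hr hp.out)

theorem primesNotDvd_pGroup {A : Subgroup G} (hA : IsPGroup p A) (hA1 : A ≠ ⊥) :
    primesNotDvd (Nat.card A) = primesNotDvd p := by
  obtain ⟨n, hn⟩ := IsPGroup.iff_card.1 hA
  ext r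
  rw [hn]
  exact (CfsgLib.PStab.primesNotDvd_pow (fun h => hA1 (eq_bot_of_card_eq _ (by rw [hn, h, pow_zero]))) r).trans
    mem_primesNotDvd_prime.symm

theorem piCoreOf_prime_eq (W : Subgroup G) :
    piCoreOf (primesNotDvd p) W = (pPrimeCore p W).map W.subtype := by
  refine le_antisymm (map_mono (CfsgLib.Cores.le_pPrimeCore ?_)) (map_mono ?_)
  · refine (CfsgLib.Cores.coprime_iff_not_dvd hp.out _).2 fun h => ?_
    exact (CfsgLib.PStab.prime_mem_of_dvd_piCore (G := W) _ p hp.out h).2 dvd_rfl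
  · refine le_sSup ⟨inferInstance, fun r hr hd => mem_primesNotDvd_prime.2 ⟨hr, ?_⟩⟩
    rintro rfl
    exact CfsgLib.Cores.not_dvd_card_pPrimeCore r hd

section Frattini

variable {X : Type*} [Group X] [Finite X]

/-- Frattini argument for the `p`-part of `O_{p',p}`. -/
theorem sup_normalizer_inf_pPrimePCore_eq_top [Group.IsSolvable X] (S : Sylow p X) :
    pPrimeCore p X ⊔ normalizer (((S : Subgroup X) ⊓ pPrimePCore p X : Subgroup X) : Set X) = ⊤ := by
  set N := pPrimePCore p X with hN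
  set V := (S : Subgroup X) ⊓ N with hV
  set O := pPrimeCore p X
  set f := QuotientGroup.mk' O with hf
  have hNn : N.Normal := (inferInstance : (pCore p (X ⧸ O)).Normal).comap f
  have hle : N ≤ O ⊔ V := by
    intro x hx
    obtain ⟨s, hs, hsx⟩ := CfsgLib.Cores.pCore_le_sylow
      ((S.mapSurjective (f := f) (QuotientGroup.mk'_surjective O))) hx
    have hsN : s ∈ N := by
      show f s ∈ pCore p (X ⧸ O)
      rw [hsx]; exact hx
    have h1 : x * s⁻¹ ∈ O := by
      rw [← QuotientGroup.ker_mk' O, MonoidHom.mem_ker, map_mul, map_inv, hsx, mul_inv_cancel]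
    simpa using mul_mem_sup h1 (show s ∈ V from ⟨hs, hsN⟩)
  rw [eq_top_iff]
  intro x _
  have hVp : IsPGroup p V := S.2.to_le inf_le_left
  have hBp : IsPGroup p (V.map (MulAut.conj x).toMonoidHom) := hVp.map _
  have hcop : ∀ B : Subgroup X, IsPGroup p B → (Nat.card O).Coprime (Nat.card B) := fun B hB => by
    obtain ⟨i, hi⟩ := IsPGroup.iff_card.1 hB
    rw [hi]
    exact (CfsgLib.Cores.coprime_card_pPrimeCore p).pow_right i
  obtain ⟨k, hk, hkle⟩ := CfsgLib.Solvable.exists_conj_le O V (V.map (MulAut.conj x).toMonoidHom)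
    (le_top.trans (normalizer_eq_top O).ge) (disjoint_iff.1 (disjoint_of_coprime_natCard (hcop V hVp)))
    (by
      rintro _ ⟨v, hv, rfl⟩
      exact hle (hNn.conj_mem v hv.2 x))
    (hcop _ hBp) (Or.inl inferInstance)
  have hmem : k * x ∈ normalizer (V : Set X) := by
    refine CfsgLib.Solvable.mem_normalizer_of_conj_mem fun v hv => hkle ?_
    rw [CfsgLib.Solvable.mem_conj_smul_iff]
    exact ⟨v, hv, by simp [mul_assoc]⟩
  simpa using mul_mem_sup (inv_mem hk) hmem

end Frattini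

variable (hG : IsMinSimpleOddOrder G)
include hG

section Classes

variable {A V S : Subgroup G} (hA : TransitivityHypothesis A) (hAV : A ≤ V) (hVS : V ≤ S) (hSp : IsPGroup p S)
    (hSV : S ≤ normalizer (V : Set G)) (hSA : S ≤ normalizer (A : Set G)) (hAc : IsMulCommutative A) {E : Subgroup G} (hEA : E ≤ A)
    (hE : IsElementaryAbelian p E) (hE2 : Nat.card E = p ^ 2)
    {T : Subgroup G} (hTπ : ∀ r : ℕ, r.Prime → r ∣ Nat.card T → r ≠ p) (hTs : Group.IsSolvable T)
    (hST : S ≤ normalizer (T : Set G))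
    (hmax : ∀ Y : Subgroup G, (∀ r : ℕ, r.Prime → r ∣ Nat.card Y → r ≠ p) → S ≤ normalizer (Y : Set G) → Y ≤ T)

include hA hAV hVS hSp hSV hSA hAc hEA hE hE2 hTπ hTs hST hmax

/-- An element normalising `V` carries the invariant Sylow `q`-subgroup of `T` into `T`. -/
theorem conj_le_of_normalizes {q : ℕ} [hq : Fact q.Prime] (Q₁ : Sylow q T)
    (hQ₁ : S ≤ normalizer ((Q₁ : Subgroup T).map T.subtype : Set G)) {n : G}
    (hn : n ∈ normalizer (V : Set G)) :
    ((Q₁ : Subgroup T).map T.subtype).map (MulAut.conj n).toMonoidHom ≤ T := by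
  classical
  set Q := (Q₁ : Subgroup T).map T.subtype with hQdef
  by_cases hqT : q ∣ Nat.card T
  swap
  · have : Q = ⊥ := eq_bot_of_card_eq _ (by
      rw [hQdef, CfsgLib.Solvable.card_sylow_map, Sylow.card_eq_multiplicity,
        Nat.factorization_eq_zero_of_not_dvd hqT, pow_zero])
    rw [this, Subgroup.map_bot]
    exact bot_le
  have hqp : q ≠ p := hTπ q hq.out hqT
  have hAp : IsPGroup p A := hSp.to_le (hAV.trans hVS)
  have hA1 : A ≠ ⊥ := hA.1
  have hπ : primesNotDvd (Nat.card A) = primesNotDvd p := primesNotDvd_pGroup hAp hA1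
  obtain ⟨i, hi⟩ := IsPGroup.iff_card.1 hAp
  have hi0 : i ≠ 0 := fun h => hA1 (eq_bot_of_card_eq _ (by rw [hi, h, pow_zero]))
  have hqA : ¬ q ∣ Nat.card A := fun h => hqp ((Nat.prime_dvd_prime_iff_eq hq.out hp.out).1
    (hq.out.dvd_of_dvd_pow (hi ▸ h)))
  have hSdvd : ∀ r : ℕ, r.Prime → ∀ {B : Subgroup G}, B ≤ S → r ∣ Nat.card B → r ∣ Nat.card A := by
    intro r hr B hB hd
    obtain ⟨j, hj⟩ := IsPGroup.iff_card.1 (hSp.to_le hB)
    rw [(Nat.prime_dvd_prime_iff_eq hr hp.out).1 (hr.dvd_of_dvd_pow (hj ▸ hd)), hi]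
    exact dvd_pow_self p hi0
  have hQ0 : Q ≠ ⊥ := fun h => Q₁.ne_bot_of_dvd_card hqT
    ((map_eq_bot_iff_of_injective _ T.subtype_injective).1 h)
  have hQq : IsPGroup q Q := Q₁.2.map _
  have hQT : Q ≤ T := map_subtype_le _
  -- `Q` is a maximal invariant subgroup for `S`, `A` and `V`
  have hQS : Q ∈ maxInvSubgroups ⊤ S {q} := by
    refine ⟨⟨le_top, CfsgLib.PStab.isPGroup_iff_primes.1 hQq, hQ₁⟩, fun R hR hle => ?_⟩
    have hRT : R ≤ T := hmax R (fun r hr hd => by
      rw [Set.mem_singleton_iff.1 (hR.2.1 r hr hd)]; exact hqp) hR.2.2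
    rw [← map_subgroupOf_eq_of_le hRT]
    refine congrArg (Subgroup.map T.subtype) (Q₁.is_maximal'
      ((CfsgLib.PStab.isPGroup_iff_primes.2 hR.2.1).of_equiv (subgroupOfEquivOfLe hRT).symm) ?_)
    exact fun x hx => hle (mem_map_of_mem _ hx)
  have hQA : Q ∈ maxInvSubgroups ⊤ A {q} := CfsgLib.PStab.mem_maxInvSubgroups_of_ne_bot hG hA hq.out hqA
    (fun r hr hd => hSdvd r hr le_rfl hd) (hAV.trans hVS) hQS hQ0
  set Ω := maxInvSubgroups ⊤ V {q} with hΩ
  have hQV : Q ∈ Ω := ⟨⟨le_top, hQA.1.2.1, hVS.trans hQ₁⟩, fun R hR hle =>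
    hQA.2 R ⟨le_top, hR.2.1, hAV.trans hR.2.2⟩ hle⟩
  have hΩ0 : ∀ R ∈ Ω, R ≠ ⊥ := fun R hR h => hQ0 (by rw [hR.2 Q hQV.1 (h ▸ bot_le), h])
  have hΩA : ∀ R ∈ Ω, R ∈ maxInvSubgroups ⊤ A {q} := fun R hR =>
    CfsgLib.PStab.mem_maxInvSubgroups_of_ne_bot hG hA hq.out hqA
      (fun r hr hd => hSdvd r hr hVS hd) hAV hR (hΩ0 R hR)
  set K := piCoreOf (primesNotDvd (Nat.card A)) (centralizer (V : Set G)) with hKdef
  have hKV : K ≤ centralizer (V : Set G) := map_subtype_le _
  have hNK : normalizer (V : Set G) ≤ normalizer (K : Set G) :=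
    (CfsgLib.Solvable.normalizer_le_normalizer_centralizer V).trans
      (CfsgLib.PStab.normalizer_le_normalizer_piCoreOf _ _)
  have hKπ : ∀ r : ℕ, r.Prime → r ∣ Nat.card K → r ≠ p := fun r hr hd =>
    (mem_primesNotDvd_prime.1 (hπ ▸ CfsgLib.PStab.prime_mem_of_dvd_piCoreOf r hr hd)).2
  have hKT : K ≤ T := hmax K hKπ (hSV.trans hNK)
  letI : MulAction G (Subgroup G) := MulAction.compHom _ (MulAut.conj : G →* MulAut G)
  have hsmul : ∀ (a : G) (R : Subgroup G), a • R = R.map (MulAut.conj a).toMonoidHom := fun a R => rfl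
  let cls : Subgroup G → Set (Subgroup G) := fun R => {R' | ∃ k ∈ K, R' = k • R}
  have hself : ∀ R, R ∈ cls R := fun R => ⟨1, one_mem _, (one_smul _ _).symm⟩
  have hclsK : ∀ R, ∀ k ∈ K, cls (k • R) = cls R := by
    intro R k hk
    ext R'
    constructor
    · rintro ⟨l, hl, rfl⟩
      exact ⟨l * k, mul_mem hl hk, (mul_smul _ _ _).symm⟩
    · rintro ⟨l, hl, rfl⟩
      exact ⟨l * k⁻¹, mul_mem hl (inv_mem hk), by rw [← mul_smul, inv_mul_cancel_right]⟩
  have hclsN : ∀ a ∈ normalizer (V : Set G), ∀ R, a • cls R = cls (a • R) := by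
    intro a ha R
    ext R'
    rw [Set.mem_smul_set]
    constructor
    · rintro ⟨_, ⟨k, hk, rfl⟩, rfl⟩
      exact ⟨a * k * a⁻¹, (mem_normalizer_iff.1 (hNK ha) k).1 hk, by
        rw [← mul_smul, ← mul_smul, inv_mul_cancel_right]⟩
    · rintro ⟨k, hk, rfl⟩
      refine ⟨_, ⟨a⁻¹ * k * a, (mem_normalizer_iff''.1 (hNK ha) k).1 hk, rfl⟩, ?_⟩
      rw [← mul_smul, ← mul_smul]
      group
  have hΩN : ∀ a ∈ normalizer (V : Set G), ∀ R ∈ Ω, a • R ∈ Ω := by
    intro a ha R hR
    have hI : ∀ (R : Subgroup G) (d : G), R ∈ invSubgroups ⊤ V {q} → d ∈ normalizer (V : Set G) →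
        R.map (MulAut.conj d).toMonoidHom ∈ invSubgroups ⊤ V {q} := by
      intro R d hR hd
      refine ⟨le_top, ?_, fun e he => mem_normalizer_iff_map_conj_eq.2 ?_⟩
      · rw [card_map_of_injective (MulAut.conj d).injective]
        exact hR.2.1
      · show (R.map (MulAut.conj d).toMonoidHom).map (MulAut.conj e).toMonoidHom = _
        rw [CfsgLib.PStab.map_conj_map_conj, show e * d = d * (d⁻¹ * e * d) by group,
          ← CfsgLib.PStab.map_conj_map_conj,
          show R.map (MulAut.conj (d⁻¹ * e * d)).toMonoidHom = R from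
            mem_normalizer_iff_map_conj_eq.1 (hR.2.2 ((mem_normalizer_iff''.1 hd e).1 he))]
    rw [hsmul]
    refine ⟨hI R a hR.1 ha, fun R' hR' hle => ?_⟩
    have h := hR.2 _ (hI R' a⁻¹ hR' (inv_mem ha)) (by
      have := map_mono (f := (MulAut.conj a⁻¹).toMonoidHom) hle
      rwa [CfsgLib.PStab.map_conj_map_conj, inv_mul_cancel, CfsgLib.PStab.map_conj_one'] at this)
    rw [← h, CfsgLib.PStab.map_conj_map_conj, mul_inv_cancel, CfsgLib.PStab.map_conj_one']
  -- at most `p + 1` classes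
  have hEn : ¬ IsCyclic E := fun h => by
    obtain ⟨g, hg⟩ := IsCyclic.exists_generator (α := E)
    have h1 : orderOf g = p ^ 2 := (orderOf_eq_card_of_forall_mem_zpowers hg).trans hE2
    have h2 : orderOf g ∣ p := orderOf_dvd_of_pow_eq_one (Subtype.ext (hE.2 g g.2))
    rw [h1] at h2
    exact absurd (Nat.le_of_dvd hp.out.pos h2) (not_le.2 (by
      calc p = p ^ 1 := (pow_one p).symm
        _ < p ^ 2 := Nat.pow_lt_pow_right hp.out.one_lt one_lt_two))
  have hline : ∀ R ∈ Ω, ∃ a : G, a ∈ E ∧ a ≠ 1 ∧ centralizer ({a} : Set G) ⊓ R ≠ ⊥ := by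
    intro R hR
    by_contra hcon
    push Not at hcon
    have hcop : (Nat.card E).Coprime (Nat.card R) := by
      obtain ⟨j, hj⟩ := IsPGroup.iff_card.1 (CfsgLib.PStab.isPGroup_iff_primes.2 hR.1.2.1)
      rw [hE2, hj]
      exact ((Nat.coprime_primes hp.out hq.out).2 hqp.symm).pow 2 j
    refine hΩ0 R hR ?_
    rw [eq_bot_iff]
    conv_lhs => rw [← CfsgLib.Solvable.iSup_centralizer_eq (A := E) (K := R)
      (fun x hx y hy => congrArg Subtype.val (hE.1.is_comm.comm (⟨x, hx⟩ : E) ⟨y, hy⟩)) hEn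
      (hEA.trans (hAV.trans hR.1.2.2)) hcop]
    exact iSup₂_le fun a ha => by rw [inf_comm, hcon a ha.1 ha.2]
  have hsame : ∀ R ∈ Ω, ∀ R' ∈ Ω, ∀ a : G, a ∈ E → a ≠ 1 → centralizer ({a} : Set G) ⊓ R ≠ ⊥ →
      centralizer ({a} : Set G) ⊓ R' ≠ ⊥ → cls R = cls R' := by
    intro R hR R' hR' a ha ha1 h1 h2
    obtain ⟨k, hk, hkR⟩ := CfsgLib.PStab.kconj_of_common_overgroup hG hA hq.out hqA (hΩA R hR) (hΩA R' hR')
      (CfsgLib.PStab.centralizer_ne_top_of_minSimple hG ha1)
      (fun x hx => mem_centralizer_singleton_iff.2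
        (congrArg Subtype.val (hAc.is_comm.comm (⟨x, hx⟩ : A) ⟨a, hEA ha⟩))) h1 h2
    set KA := piCoreOf (primesNotDvd (Nat.card A)) (centralizer (A : Set G)) with hKA
    have hVKA : V ≤ normalizer (KA : Set G) := by
      refine le_trans ?_ (CfsgLib.PStab.normalizer_le_normalizer_piCoreOf _ _)
      intro v hv
      refine CfsgLib.Solvable.mem_normalizer_of_conj_mem fun x hx => ?_
      refine mem_centralizer_iff.2 fun b hb => ?_
      have hb' : v⁻¹ * b * v ∈ A := (mem_normalizer_iff''.1 (hSA (hVS hv)) b).1 hb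
      have := mem_centralizer_iff.1 hx _ hb'
      calc b * (v * x * v⁻¹) = v * ((v⁻¹ * b * v) * x) * v⁻¹ := by group
        _ = v * (x * (v⁻¹ * b * v)) * v⁻¹ := by rw [this]
        _ = v * x * v⁻¹ * b := by group
    have hcop : (Nat.card V).Coprime (Nat.card KA) := Nat.coprime_of_dvd fun r hr h1 h2 =>
      (CfsgLib.PStab.prime_mem_of_dvd_piCoreOf r hr h2).2 (hSdvd r hr hVS h1)
    have hsol : Group.IsSolvable KA :=
      CfsgLib.PStab.isSolvable_piCoreOf_centralizer hG hA le_rfl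
    obtain ⟨c, hc, hcR⟩ := CfsgLib.Solvable.exists_centralizer_smul_eq V KA hVKA hcop (Or.inr hsol) R hk
      (fun v hv => mem_normalizer_iff_map_conj_eq.1 (hR.1.2.2 hv))
      (fun v hv => by
        rw [hsmul k R, ← hkR]
        exact mem_normalizer_iff_map_conj_eq.1 (hR'.1.2.2 hv))
    have hcK : c ∈ K := (CfsgLib.PStab.core_inf_centralizer_eq hG hA hAV).le hc
    rw [show R' = c • R by rw [hcR, hsmul]; exact hkR, hclsK R c hcK]
  -- the orbit of the class of `Q`
  set N := normalizer (V : Set G) with hN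
  set O := MulAction.orbit N (cls Q) with hO
  have hOmem : ∀ C ∈ O, ∃ R ∈ Ω, C = cls R := by
    rintro _ ⟨a, rfl⟩
    exact ⟨(a : G) • Q, hΩN a a.2 Q hQV, hclsN a a.2 Q⟩
  have hbound : O.ncard ≤ p + 1 := by
    choose r hr hC using hOmem
    choose a haE ha1 hane using hline
    let g : O → {L : Subgroup E // Nat.card L = p} := fun C =>
      ⟨zpowers (⟨a _ (hr C.1 C.2), haE _ (hr C.1 C.2)⟩ : E), by
        rw [Nat.card_zpowers, ← Subgroup.orderOf_coe]
        exact orderOf_eq_prime (hE.2 _ (haE _ (hr C.1 C.2))) (ha1 _ (hr C.1 C.2))⟩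
    have hg : Function.Injective g := by
      rintro ⟨C, hC1⟩ ⟨C', hC1'⟩ h
      have h' : (⟨a _ (hr C hC1), haE _ (hr C hC1)⟩ : E) ∈
          zpowers (⟨a _ (hr C' hC1'), haE _ (hr C' hC1')⟩ : E) :=
        (congrArg Subtype.val h).le (mem_zpowers _)
      obtain ⟨z, hz⟩ := mem_zpowers_iff.1 h'
      have hz' : (a _ (hr C' hC1')) ^ z = a _ (hr C hC1) := congrArg Subtype.val hz
      refine Subtype.ext ?_
      show C = C'
      rw [hC C hC1, hC C' hC1']
      refine hsame _ (hr C hC1) _ (hr C' hC1') _ (haE _ (hr C hC1)) (ha1 _ (hr C hC1)) (hane _ (hr C hC1)) ?_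
      refine fun h0 => hane _ (hr C' hC1') (le_bot_iff.1 (le_trans (inf_le_inf_right _ ?_) h0.le))
      rw [← hz']
      exact fun x hx => mem_centralizer_singleton_iff.2
        (Commute.zpow_right (mem_centralizer_singleton_iff.1 hx) z).eq
    have h1 := Nat.card_le_card_of_injective g hg
    rw [CfsgLib.PGroup.card_subgroups_prime_of_sq hE2 fun x => Subtype.ext (hE.2 x x.2)] at h1
    rwa [← Nat.card_coe_set_eq]
  have hodd : Odd O.ncard := by
    refine Odd.of_dvd_nat (hG.1.of_dvd_nat (card_subgroup_dvd_card N)) ?_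
    rw [hO, ← MulAction.index_stabilizer]
    exact Subgroup.index_dvd_card _
  have hmod : O.ncard ≡ 1 [MOD p] := by
    set S' := S.subgroupOf N
    have hfix : MulAction.fixedPoints S' O = {⟨cls Q, MulAction.mem_orbit_self _⟩} := by
      ext ⟨C, hC⟩
      simp only [MulAction.mem_fixedPoints, Set.mem_singleton_iff]
      refine ⟨fun h => Subtype.ext ?_, fun h s => ?_⟩
      · obtain ⟨R, hR, rfl⟩ := hOmem C hC
        have hx : ∀ s ∈ S, ∃ k ∈ K, s • R = k • R := by
          intro s hs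
          have h' : s • cls R = cls R :=
            congrArg Subtype.val (h ⟨⟨s, hSV hs⟩, hs⟩)
          rw [hclsN s (hSV hs)] at h'
          obtain ⟨k, hk, hkR⟩ := h'.le (hself (s • R))
          exact ⟨k, hk, hkR⟩
        have hcop : (Nat.card S).Coprime (Nat.card K) := Nat.coprime_of_dvd fun r hr h1 h2 =>
          (CfsgLib.PStab.prime_mem_of_dvd_piCoreOf r hr h2).2 (hSdvd r hr le_rfl h1)
        obtain ⟨k, hk, hkS⟩ := CfsgLib.Solvable.exists_fixed_point S K (hSV.trans hNK) hcop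
          (Or.inr (CfsgLib.PStab.isSolvable_piCoreOf_centralizer hG hA hAV)) R hx
        set R' := k • R with hR'
        have hR'Ω : R' ∈ Ω := hΩN k (centralizer_le_normalizer _ (hKV hk)) R hR
        have hR'n : S ≤ normalizer (R' : Set G) := fun s hs =>
          mem_normalizer_iff_map_conj_eq.2 (hkS s hs)
        have hR'q : IsPGroup q R' := CfsgLib.PStab.isPGroup_iff_primes.2 hR'Ω.1.2.1
        have hR'T : R' ≤ T := hmax R' (fun r hr hd => by
          rw [Set.mem_singleton_iff.1 (hR'Ω.1.2.1 r hr hd)]; exact hqp) hR'n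
        have hcopT : (Nat.card S).Coprime (Nat.card T) := Nat.coprime_of_dvd fun r hr h1 h2 => by
          obtain ⟨j, hj⟩ := IsPGroup.iff_card.1 hSp
          exact hTπ r hr h2 ((Nat.prime_dvd_prime_iff_eq hr hp.out).1 (hr.dvd_of_dvd_pow (hj ▸ h1)))
        obtain ⟨P, hle, hP⟩ := CfsgLib.Solvable.exists_invariant_sylow_ge (A := S) (K := T) hST hcopT
          (Or.inr hTs) q hR'T hR'q hR'n
        have hPR : (P : Subgroup T).map T.subtype = R' :=
          hR'Ω.2 _ ⟨le_top, CfsgLib.PStab.isPGroup_iff_primes.1 (P.2.map _), hVS.trans hP⟩ hle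
        obtain ⟨c, hc, hcP⟩ := CfsgLib.Solvable.exists_centralizer_conj_sylow S T hST hcopT (Or.inr hTs)
          Q₁ P hQ₁ hP
        have hcA : c ∈ piCoreOf (primesNotDvd (Nat.card A)) (centralizer (A : Set G)) :=
          CfsgLib.PStab.inf_centralizer_le_core hG hA (fun r hr hd => hπ ▸
            mem_primesNotDvd_prime.2 ⟨hr, hTπ r hr hd⟩)
            ⟨hc.1, centralizer_le (hAV.trans hVS) hc.2⟩
        have hcK : c ∈ K :=
          (CfsgLib.PStab.core_inf_centralizer_eq hG hA hAV).le ⟨hcA, centralizer_le hVS hc.2⟩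
        have h3 : R' = c • Q := by rw [← hPR]; exact hcP.symm
        show cls R = cls Q
        rw [← hclsK R k hk, ← hR', h3, hclsK Q c hcK]
      · obtain rfl : C = cls Q := congrArg Subtype.val h
        refine Subtype.ext ?_
        show ((s : N) : G) • cls Q = cls Q
        rw [hclsN _ (s : N).2, show ((s : N) : G) • Q = Q from
          mem_normalizer_iff_map_conj_eq.1 (hQ₁ s.2)]
    have h := (hSp.of_equiv (subgroupOfEquivOfLe hSV).symm).card_modEq_card_fixedPoints O
    rw [hfix, Nat.card_coe_set_eq, Nat.card_coe_set_eq, Set.ncard_singleton] at h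
    exact h
  have hone : O.ncard = 1 := by
    have h3 : 3 ≤ p := by
      refine Nat.lt_of_le_of_ne hp.out.two_le fun h2 => ?_
      exact ne_two_of_dvd hG ((dvd_pow_self p hi0).trans (hi ▸ card_subgroup_dvd_card A)) h2.symm
    rcases Nat.lt_or_ge O.ncard (p + 1) with h | h
    · rcases eq_or_ne O.ncard p with he | he
      · rw [he] at hmod
        exact absurd ((Nat.modEq_zero_iff_dvd.2 dvd_rfl).symm.trans hmod)
          (by unfold Nat.ModEq; rw [Nat.zero_mod, Nat.mod_eq_of_lt hp.out.one_lt]; omega)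
      · unfold Nat.ModEq at hmod
        rwa [Nat.mod_eq_of_lt (by omega), Nat.mod_eq_of_lt hp.out.one_lt] at hmod
    · have he : O.ncard = p + 1 := le_antisymm hbound h
      rw [he] at hodd
      exact absurd ((Nat.Prime.odd_of_ne_two hp.out (by omega)).add_one) (Nat.not_even_iff_odd.2 hodd)
  obtain ⟨C, hC⟩ := Set.ncard_eq_one.1 hone
  have hnQ : n • cls Q = cls Q := by
    have h1 : n • cls Q ∈ O := ⟨⟨n, hn⟩, rfl⟩
    have h2 : cls Q ∈ O := MulAction.mem_orbit_self _
    rw [hC, Set.mem_singleton_iff] at h1 h2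
    rw [h1, h2]
  rw [hclsN n hn] at hnQ
  obtain ⟨k, hk, hkQ⟩ := hnQ.le (hself (n • Q))
  rw [← hsmul, hkQ, hsmul]
  rintro _ ⟨x, hx, rfl⟩
  exact mul_mem (mul_mem (hKT hk) (hQT hx)) (inv_mem (hKT hk))

/-- The normaliser of `V` normalises `T`. -/
theorem normalizer_le_normalizer_core : normalizer (V : Set G) ≤ normalizer (T : Set G) := by
  intro n hn
  refine CfsgLib.Solvable.mem_normalizer_of_conj_mem ?_
  have hcopT : (Nat.card S).Coprime (Nat.card T) := Nat.coprime_of_dvd fun r hr h1 h2 => by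
    obtain ⟨j, hj⟩ := IsPGroup.iff_card.1 hSp
    exact hTπ r hr h2 ((Nat.prime_dvd_prime_iff_eq hr hp.out).1 (hr.dvd_of_dvd_pow (hj ▸ h1)))
  have h : (T.comap (MulAut.conj n).toMonoidHom).subgroupOf T = ⊤ :=
    CfsgLib.Solvable.eq_top_of_sylow_le fun q hq => by
      have : Fact q.Prime := ⟨hq⟩
      obtain ⟨Q₁, hQ₁⟩ := CfsgLib.Solvable.exists_invariant_sylow (A := S) (K := T) hST hcopT (Or.inr hTs) q
      exact ⟨Q₁, fun x hx => conj_le_of_normalizes hG hA hAV hVS hSp hSV hSA hAc hEA hE hE2 hTπ hTs hST hmax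
        Q₁ hQ₁ hn ⟨x, mem_map_of_mem _ hx, rfl⟩⟩
  exact fun x hx => subgroupOf_eq_top.1 h hx

end Classes

/-- A maximal subgroup with nontrivial `p'`-core over a Sylow `p`-subgroup `S` of `G` all whose invariant
`p'`-subgroups lie in it is the unique maximal subgroup over `S`. -/
theorem eq_of_sylow_le {M W S : Subgroup G} (hM : IsCoatom M) (hW : IsCoatom W) (hSM : S ≤ M) (hSW : S ≤ W)
    (hSp : IsPGroup p S) (hglob : ∀ U : Subgroup G, IsPGroup p U → S ≤ U → U = S) (hSnc : ¬ IsCyclic S)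
    (hT1 : piCoreOf (primesNotDvd p) M ≠ ⊥)
    (hinv : ∀ Y : Subgroup G, (∀ r : ℕ, r.Prime → r ∣ Nat.card Y → r ≠ p) → S ≤ normalizer (Y : Set G) →
      Y ≤ M) : W = M := by
  set T := piCoreOf (primesNotDvd p) M with hTdef
  have hTs : Group.IsSolvable T :=
    CfsgLib.Solvable.isSolvable_of_le (isSolvable_of_isCoatom hG hM) (map_subtype_le _)
  have hTπ : ∀ r : ℕ, r.Prime → r ∣ Nat.card T → r ≠ p := fun r hr hd =>
    (mem_primesNotDvd_prime.1 (CfsgLib.PStab.prime_mem_of_dvd_piCoreOf r hr hd)).2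
  have hST : S ≤ normalizer (T : Set G) := hSM.trans (le_normalizer_piCoreOf _ M)
  obtain ⟨PG, hPG⟩ := hSp.exists_le_sylow
  have hPG' : (PG : Subgroup G) = S := hglob _ PG.2 hPG
  have hS1 : S ≠ ⊥ := fun h => hSnc (by subst h; infer_instance)
  have hpG : p ∣ Nat.card G := by
    obtain ⟨i, hi⟩ := IsPGroup.iff_card.1 hSp
    refine (dvd_pow_self p (fun h0 : i = 0 => hS1 (eq_bot_of_card_eq _ (by rw [hi, h0, pow_zero])))).trans ?_
    exact hi ▸ card_subgroup_dvd_card S
  have hp2 : p ≠ 2 := ne_two_of_dvd hG hpG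
  -- a normal plane and an SCN subgroup over it
  obtain ⟨E₀, hE₀n, hE₀, hE₀2⟩ := Cfsg.Agent.S0126.result hp2 hSp hSnc
  obtain ⟨A₀, hA₀n, hEA₀, -, hA₀N, hA₀C⟩ := Cfsg.Agent.S1894.result hSp (⊤ : Subgroup S) E₀ le_top hE₀.1
  rw [top_inf_eq] at hA₀C
  set A := A₀.map S.subtype with hAdef
  set E := E₀.map S.subtype with hEdef
  have hAS : A ≤ S := map_subtype_le _
  have hSA : S ≤ normalizer (A : Set G) := by
    refine (normal_subgroupOf_iff_le_normalizer hAS).1 ?_
    rw [show A.subgroupOf S = A₀ from comap_map_eq_self_of_injective S.subtype_injective _]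
    exact hA₀n
  have hA₀c : IsMulCommutative A₀ := ⟨⟨fun a b => Subtype.ext
    (mem_centralizer_iff.1 (hA₀C.ge b.2) (a : S) a.2)⟩⟩
  have hAc : IsMulCommutative A := map_isMulCommutative _ _
  have hE : IsElementaryAbelian p E := CfsgLib.PGroup.elemAb_map hE₀ _
  have hE2 : Nat.card E = p ^ 2 := (card_map_of_injective S.subtype_injective).trans hE₀2
  have hEA : E ≤ A := map_mono hEA₀
  have hAC : S ⊓ centralizer (A : Set G) = A := by
    refine le_antisymm ?_ (le_inf hAS fun a ha => mem_centralizer_iff.2 fun b hb =>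
      congrArg Subtype.val (hAc.is_comm.comm (⟨b, hb⟩ : A) ⟨a, ha⟩))
    rintro x ⟨hxS, hxC⟩
    refine ⟨⟨x, hxS⟩, hA₀C.le (mem_centralizer_iff.2 fun a ha => Subtype.ext ?_), rfl⟩
    exact mem_centralizer_iff.1 hxC _ (mem_map_of_mem _ ha)
  have hA : TransitivityHypothesis A := by
    refine Cfsg.Agent.S1396.result hG p hpG A (hSp.to_le hAS) hAc (Or.inr ⟨PG, hPG'.symm ▸ ⟨hAS, hSA, hAC⟩, ?_⟩)
    intro h
    have h1 := h (E.subgroupOf A) ⟨⟨fun a b => Subtype.ext (hAc.is_comm.comm a.1 b.1)⟩⟩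
      fun a ha => Subtype.ext (hE.2 (a : G) ha)
    rw [Nat.card_congr (subgroupOfEquivOfLe hEA).toEquiv, hE2, pow_one] at h1
    exact absurd h1 (not_le.2 (by
      calc p = p ^ 1 := (pow_one p).symm
        _ < p ^ 2 := Nat.pow_lt_pow_right hp.out.one_lt one_lt_two))
  have hmax : ∀ Y : Subgroup G, (∀ r : ℕ, r.Prime → r ∣ Nat.card Y → r ≠ p) → S ≤ normalizer (Y : Set G) →
      Y ≤ T := by
    intro Y hY hSY
    have hπ : primesNotDvd (Nat.card A) = primesNotDvd p := primesNotDvd_pGroup (hSp.to_le hAS) hA.1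
    rw [hTdef, ← hπ]
    exact CfsgLib.PStab.le_piCoreOf_of_inv hA hM.1 (hAS.trans hSM)
      ⟨hinv Y hY hSY, fun r hr hd => hπ ▸ mem_primesNotDvd_prime.2 ⟨hr, hY r hr hd⟩, hAS.trans hSY⟩
  -- the subgroup `V` in `W`
  have hWs : Group.IsSolvable W := isSolvable_of_isCoatom hG hW
  obtain ⟨PW, hPW⟩ := exists_sylow_of_maximal hSW hSp fun U _ hU hle => hglob U hU hle
  set V := ((PW : Subgroup W) ⊓ pPrimePCore p W).map W.subtype with hVdef
  have hVS : V ≤ S := (map_mono inf_le_left).trans hPW.le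
  have hSV : S ≤ normalizer (V : Set G) := by
    rw [← hPW]
    refine (map_mono ?_).trans (le_normalizer_map _)
    refine CfsgLib.Solvable.le_normalizer_inf le_normalizer (le_top.trans (ge_of_eq ?_))
    have : (pPrimePCore p W).Normal :=
      (inferInstance : (pCore p (W ⧸ pPrimeCore p W)).Normal).comap _
    exact normalizer_eq_top _
  have hAV : A ≤ V := by
    have hle : A.subgroupOf W ≤ (PW : Subgroup W) := fun x hx => by
      obtain ⟨y, hy, hyx⟩ := hPW.ge (hAS hx)
      rwa [W.subtype_injective hyx] at hy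
    have hc : IsMulCommutative (A.subgroupOf W) :=
      ⟨⟨fun a b => Subtype.ext (Subtype.ext (show ((a : W) : G) * ((b : W) : G) = ((b : W) : G) * ((a : W) : G) from
        congrArg Subtype.val (hAc.is_comm.comm (⟨((a : W) : G), a.2⟩ : A) ⟨((b : W) : G), b.2⟩)))⟩⟩
    have hn : (PW : Subgroup W) ≤ normalizer ((A.subgroupOf W : Subgroup W) : Set W) := fun x hx => by
      refine mem_normalizer_iff.2 fun y => ?_
      simpa [mem_subgroupOf] using mem_normalizer_iff.1 (hSA (hPW.le (mem_map_of_mem _ hx))) (y : G)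
    have h := Cfsg.Agent.S1457.result (hG.1.of_dvd_nat (card_subgroup_dvd_card W)) p PW (A.subgroupOf W) hle hc hn
    rw [← map_subgroupOf_eq_of_le (hAS.trans hSW)]
    exact map_mono (le_inf hle h)
  have hN := normalizer_le_normalizer_core hG hA hAV hVS hSp hSV hSA hAc hEA hE hE2 hTπ hTs hST hmax
  have hTM : normalizer (T : Set G) = M := normalizer_eq_of_isCoatom hG hM hT1 (map_subtype_le _)
    (le_normalizer_piCoreOf _ M)
  have hW0 : piCoreOf (primesNotDvd p) W ≤ M := hinv _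
    (fun r hr hd => (mem_primesNotDvd_prime.1 (CfsgLib.PStab.prime_mem_of_dvd_piCoreOf r hr hd)).2)
    (hSW.trans (le_normalizer_piCoreOf _ W))
  refine ((hW.le_iff.1 ?_).resolve_left hM.1).symm
  intro w hw
  have h : (⟨w, hw⟩ : W) ∈ pPrimeCore p W ⊔
      normalizer (((PW : Subgroup W) ⊓ pPrimePCore p W : Subgroup W) : Set W) := by
    rw [sup_normalizer_inf_pPrimePCore_eq_top PW]; exact mem_top _
  obtain ⟨o, ho, x, hx, hox⟩ := CfsgLib.Solvable.exists_mul_of_mem_sup
    (le_top.trans (normalizer_eq_top (pPrimeCore p W)).ge) h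
  have hxV : (x : G) ∈ normalizer (V : Set G) := le_normalizer_map _ (mem_map_of_mem _ hx)
  rw [show w = (o : G) * x from congrArg Subtype.val hox]
  refine mul_mem (hW0 ?_) (hTM.le (hN hxV))
  rw [piCoreOf_prime_eq]
  exact mem_map_of_mem _ ho

end CfsgLib.OddLocal
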