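import Cfsg.Agent.Lib.OddLocal.Basic

/-!
Consequences of type-P data.
-/

set_option autoImplicit false

namespace CfsgLib.OddLocal

open Cfsg Subgroup

variable {G : Type*} [Group G] [Finite G] {M W₁ U W₂ : Subgroup G}

theorem typeP_U_le (hP : IsTypePWith M W₁ U W₂) : U ≤ M :=
  hP.U_compl.2.1.trans (Subgroup.commutator_le_self M)

theorem typeP_coprime_U (hP : IsTypePWith M W₁ U W₂) :
    (Nat.card (fittingHallOf M)).Coprime (Nat.card U) := by
  have hn : ((fittingHallOf M).subgroupOf M).Normal := by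
    have : (fittingHallOf M).subgroupOf M = fittingHall M :=
      Subgroup.comap_map_eq_self_of_injective M.subtype_injective _
    rw [this]; infer_instance
  exact (coprime_fittingHallOf M).coprime_dvd_right
    (card_dvd_relIndex_of_inf_eq_bot (typeP_U_le hP) hP.U_compl.2.2.1)

/-- The elements of `F(M) ∩ U` centralise `H = M_F`. -/
theorem typeP_fitting_inf_U_le (hP : IsTypePWith M W₁ U W₂) :
    fittingOf M ⊓ U ≤ Subgroup.centralizer (fittingHallOf M : Set G) := by
  rintro u ⟨hu, huU⟩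
  rw [Subgroup.mem_centralizer_iff]
  intro x hx
  refine commute_of_mem_nilpotent (isNilpotent_fittingOf M) (fittingHallOf_le_fittingOf M hx) hu ?_
  exact ((typeP_coprime_U hP).coprime_dvd_left (orderOf_dvd_natCard _ hx)).coprime_dvd_right
    (orderOf_dvd_natCard _ huU)

theorem typeP_fittingOf_eq (hP : IsTypePWith M W₁ U W₂) :
    fittingOf M = fittingHallOf M ⊔ (U ⊓ Subgroup.centralizer (fittingHallOf M : Set G)) := by
  refine le_antisymm ?_ (sup_le (fittingHallOf_le_fittingOf M) ?_)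
  · intro f hf
    obtain ⟨a, ha, b, hb, rfl⟩ := hP.U_compl.2.2.2 f (hP.fitting_le hf)
    have hbF : b ∈ fittingOf M := by
      simpa using mul_mem (inv_mem (fittingHallOf_le_fittingOf M ha)) hf
    exact mul_mem (Subgroup.mem_sup_left ha)
      (Subgroup.mem_sup_right ⟨hb, typeP_fitting_inf_U_le hP ⟨hbF, hb⟩⟩)
  · rintro u ⟨huU, huC⟩
    rw [← hP.fitting_eq]
    exact Subgroup.mem_sup_right ⟨typeP_U_le hP huU, huC⟩

theorem typeP_commutator_U_le (hP : IsTypePWith M W₁ U W₂) :
    ⁅U, U⁆ ≤ Subgroup.centralizer (fittingHallOf M : Set G) := by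
  refine le_trans (le_inf ?_ (Subgroup.commutator_le_self U)) (typeP_fitting_inf_U_le hP)
  rw [← hP.fitting_eq]
  exact (Subgroup.commutator_mono hP.U_compl.2.1 hP.U_compl.2.1).trans hP.derived_two_le

theorem typeP_U_eq_bot (hP : IsTypePWith M W₁ U W₂)
    (hc : U ≤ Subgroup.centralizer (fittingHallOf M : Set G)) : U = ⊥ := by
  have hF : ⁅M, M⁆ ≤ fittingOf M := by
    intro d hd
    obtain ⟨a, ha, b, hb, rfl⟩ := hP.U_compl.2.2.2 d hd
    refine mul_mem (fittingHallOf_le_fittingOf M ha) ?_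
    rw [← hP.fitting_eq]
    exact Subgroup.mem_sup_right ⟨typeP_U_le hP hb, hc hb⟩
  set D := (⁅M, M⁆).subgroupOf M with hD
  have hDM : ⁅M, M⁆ ≤ M := Subgroup.commutator_le_self M
  have hDn : D.Normal := by
    have : D = commutator M := by
      rw [hD, ← Subgroup.map_subtype_commutator]
      exact Subgroup.comap_map_eq_self_of_injective M.subtype_injective _
    rw [this]; infer_instance
  have hnil : Group.IsNilpotent D := by
    have := isNilpotent_fittingOf M
    have : Group.IsNilpotent (⁅M, M⁆.subgroupOf (fittingOf M)) := inferInstance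
    exact Group.nilpotent_of_mulEquiv
      ((Subgroup.subgroupOfEquivOfLe hF).trans (Subgroup.subgroupOfEquivOfLe hDM).symm)
  have hWM : W₁ ≤ M := hP.W₁_compl.2.1
  have hWH : (Nat.card W₁).Coprime (W₁.subgroupOf M).index := hP.W₁_hall
  have hidx : D.index = Nat.card (W₁.subgroupOf M) ∧ (W₁.subgroupOf M).index = Nat.card D := by
    have h : Subgroup.IsComplement' D (W₁.subgroupOf M) := by
      apply Subgroup.isComplement'_of_disjoint_and_mul_eq_univ
      · rw [disjoint_iff, eq_bot_iff]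
        rintro x ⟨hx1, hx2⟩
        have : (x : G) ∈ ⁅M, M⁆ ⊓ W₁ := ⟨hx1, hx2⟩
        rw [hP.W₁_compl.2.2.1] at this
        exact Subgroup.mem_bot.2 (Subtype.ext (Subgroup.mem_bot.1 this))
      · refine Set.eq_univ_of_forall fun x => ?_
        obtain ⟨a, ha, b, hb, hx⟩ := hP.W₁_compl.2.2.2 x x.2
        exact ⟨⟨a, hDM ha⟩, ha, ⟨b, hWM hb⟩, hb, Subtype.ext hx.symm⟩
    exact ⟨h.symm.index_eq_card, h.index_eq_card⟩
  have hco : (Nat.card D).Coprime D.index := by
    rw [hidx.1, ← hidx.2, Nat.card_congr (Subgroup.subgroupOfEquivOfLe hWM).toEquiv]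
    exact hWH.symm
  have hle : D ≤ fittingHall M := le_sSup ⟨hDn, hnil, hco⟩
  have hU : U ≤ fittingHallOf M := fun u hu =>
    ⟨⟨u, typeP_U_le hP hu⟩, hle (hP.U_compl.2.1 hu : u ∈ ⁅M, M⁆), rfl⟩
  rw [eq_bot_iff, ← hP.U_compl.2.2.1]
  exact le_inf hU le_rfl

end CfsgLib.OddLocal
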