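import Cfsg.Agent.Lib.OddLocal.SylowUnique
import Cfsg.Agent.S1469

/-!
The uniqueness criterion for noncyclic elementary abelian `p`-subgroups (Bender–Glauberman 9.1).
-/

set_option autoImplicit false
set_option linter.unusedSectionVars false

namespace CfsgLib.OddLocal

open Cfsg Subgroup
open CfsgLib.PStab.Puig (pZ pUp)

variable {G : Type*} [Group G] [Finite G] {p : ℕ} [hp : Fact p.Prime]

theorem isCyclic_of_le_cyclic {B S : Subgroup G} (h : B ≤ S) (hS : IsCyclic S) : IsCyclic B :=
  isCyclic_of_injective (Subgroup.inclusion h) (Subgroup.inclusion_injective h)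

variable (hG : IsMinSimpleOddOrder G)
include hG

theorem ne_top_of_le_coatom {M S : Subgroup G} (hM : IsCoatom M) (h : S ≤ M) : S ≠ ⊤ :=
  fun he => hM.1 (top_le_iff.1 (he ▸ h))

/-- Puig's factorisation inside a maximal subgroup. -/
theorem le_sup_normalizer_pZ {H S : Subgroup G} (hH : IsCoatom H) (hSH : S ≤ H) (hS : IsPGroup p S)
    (hS1 : S ≠ ⊥) (hmax : ∀ T : Subgroup G, T ≤ H → IsPGroup p T → S ≤ T → T = S) :
    H ≤ piCoreOf (primesNotDvd p) H ⊔ normalizer (pZ S : Set G) := by
  have hs : Group.IsSolvable H := isSolvable_of_isCoatom hG hH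
  obtain ⟨P, hP⟩ := exists_sylow_of_maximal hSH hS hmax
  have hpG : p ∣ Nat.card G := by
    obtain ⟨i, hi⟩ := IsPGroup.iff_card.1 hS
    refine (dvd_pow_self p (fun h0 : i = 0 => hS1 (eq_bot_of_card_eq _ (by rw [hi, h0, pow_zero])))).trans ?_
    exact hi ▸ card_subgroup_dvd_card S
  have h := (Cfsg.Agent.S1469.result (hG.1.of_dvd_nat (card_subgroup_dvd_card H)) p
    (ne_two_of_dvd hG hpG) P).1
  rw [CfsgLib.PStab.Puig.center_puig_map_subtype] at h
  intro x hx
  have hx' : (⟨x, hx⟩ : H) ∈ pPrimeCore p H ⊔ normalizer (pZ (P : Subgroup H) : Set H) := by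
    rw [h]; exact mem_top _
  obtain ⟨o, ho, n, hn, he⟩ := CfsgLib.Solvable.exists_mul_of_mem_sup
    (le_top.trans (normalizer_eq_top (pPrimeCore p H)).ge) hx'
  rw [show x = (o : G) * n from congrArg Subtype.val he]
  refine mul_mem_sup ?_ ?_
  · rw [piCoreOf_prime_eq]
    exact mem_map_of_mem _ ho
  · rw [← hP, pZ_map_subtype]
    exact le_normalizer_map H.subtype (mem_map_of_mem _ hn)

/-- Theorem 9.1, main case. -/
theorem unique_of_invariant_le {M : Subgroup G} (hM : IsCoatom M) {B : Subgroup G} (hBM : B ≤ M)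
    (hBp : IsPGroup p B) (hBnc : ¬ IsCyclic B)
    (hinv : ∀ Y : Subgroup G, (∀ r : ℕ, r.Prime → r ∣ Nat.card Y → r ≠ p) → B ≤ normalizer (Y : Set G) →
      Y ≤ M) : InUniqueMaximal B := by
  refine inUniqueMaximal_of hM hBM fun L hL hBL => ?_
  by_contra hne
  obtain ⟨⟨H, S⟩, ⟨hH, hHM, hBS, hSle, hS⟩, hbest⟩ := Set.exists_max_image
    {X : Subgroup G × Subgroup G | IsCoatom X.1 ∧ X.1 ≠ M ∧ B ≤ X.2 ∧ X.2 ≤ X.1 ⊓ M ∧ IsPGroup p X.2}
    (fun X => Nat.card X.2) (Set.toFinite _) ⟨(L, B), hL, hne, le_rfl, le_inf hBL hBM, hBp⟩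
  simp only at hH hHM hBS hSle hS
  have hSnc : ¬ IsCyclic S := fun h => hBnc (isCyclic_of_le_cyclic hBS h)
  have hS1 : S ≠ ⊥ := fun h => hSnc (by subst h; infer_instance)
  have hSH : S ≤ H := hSle.trans inf_le_left
  have hSM : S ≤ M := hSle.trans inf_le_right
  have hgrow : ∀ L' T : Subgroup G, IsCoatom L' → T ≤ L' ⊓ M → IsPGroup p T → S < T → L' = M := by
    intro L' T hL' hTle hT hlt
    by_contra hne'
    exact hlt.ne (eq_of_le_of_card_ge hlt.le (hbest (L', T) ⟨hL', hne', hBS.trans hlt.le, hTle, hT⟩))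
  have hOH : piCoreOf (primesNotDvd p) H ≤ M := hinv _
    (fun r hr hd => (mem_primesNotDvd_prime.1 (CfsgLib.PStab.prime_mem_of_dvd_piCoreOf r hr hd)).2)
    (hBS.trans (hSH.trans (le_normalizer_piCoreOf _ H)))
  have hfin : (∀ U : Subgroup G, U ≤ H → IsPGroup p U → S ≤ U → U = S) →
      normalizer (pZ S : Set G) ≤ M → False := fun hmax hZ =>
    hHM ((hH.le_iff.1 ((le_sup_normalizer_pZ hG hH hSH hS hS1 hmax).trans (sup_le hOH hZ))).resolve_left
      hM.1).symm
  by_cases hSmax : ∀ T : Subgroup G, T ≤ M → IsPGroup p T → S ≤ T → T = S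
  · set T := piCoreOf (primesNotDvd p) M with hTdef
    by_cases hT : T = ⊥
    · have hO : pPrimeCore p M = ⊥ := by
        rw [hTdef, piCoreOf_prime_eq] at hT
        exact (map_eq_bot_iff_of_injective _ M.subtype_injective).1 hT
      obtain ⟨hZ, hglob⟩ := le_normalizer_pZ hG hM hO hSM hS hS1 hSmax
      exact hfin (fun U _ hU hle => hglob U hU hle) hZ.le
    · have hTM : normalizer (T : Set G) = M :=
        normalizer_eq_of_isCoatom hG hM hT (map_subtype_le _) (le_normalizer_piCoreOf _ M)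
      have hmaxT : ∀ Y : Subgroup G, (∀ r : ℕ, r.Prime → r ∣ Nat.card Y → r ≠ p) →
          S ≤ normalizer (Y : Set G) → Y ≤ T := by
        intro Y hY hSY
        have hYM : Y ≤ M := hinv Y hY (hBS.trans hSY)
        have hMs : Group.IsSolvable M := isSolvable_of_isCoatom hG hM
        rw [hTdef, piCoreOf_prime_eq, ← map_subgroupOf_eq_of_le hYM]
        refine map_mono (CfsgLib.PStab.le_pPrimeCore_of_omega ?_ CfsgLib.Cores.isPConstrained_of_isSolvable
          (E := S.subgroupOf M) (hS.of_equiv (subgroupOfEquivOfLe hSM).symm) ?_ ?_ ?_)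
        · obtain ⟨i, hi⟩ := IsPGroup.iff_card.1 hS
          exact ne_two_of_dvd hG ((dvd_pow_self p (fun h0 : i = 0 =>
            hS1 (eq_bot_of_card_eq _ (by rw [hi, h0, pow_zero])))).trans (hi ▸ card_subgroup_dvd_card S))
        · intro x hx hxp
          have hxS : (x : G) ∈ centralizer (S : Set G) := mem_centralizer_iff.2 fun s hs =>
            congrArg Subtype.val (mem_centralizer_iff.1 hx ⟨s, hSM hs⟩ hs)
          have hP : IsPGroup p (S ⊔ zpowers (x : G) : Subgroup G) := by
            refine hS.to_sup_of_normal_left' (IsPGroup.of_card (n := (orderOf (x : G)).factorization p) ?_) ?_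
            · rw [Nat.card_zpowers]
              have h1 : orderOf (x : G) ∣ p := orderOf_dvd_of_pow_eq_one (congrArg Subtype.val hxp)
              rcases (Nat.dvd_prime hp.out).1 h1 with h2 | h2 <;> rw [h2]
              · simp
              · rw [Nat.Prime.factorization_self hp.out, pow_one]
            · exact zpowers_le.2 (centralizer_le_normalizer _ hxS)
          exact (hSmax _ (sup_le hSM (zpowers_le.2 x.2)) hP le_sup_left).le
            (mem_sup_right (mem_zpowers (x : G)))
        · refine (CfsgLib.Cores.coprime_iff_not_dvd hp.out _).2 fun h => ?_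
          rw [Nat.card_congr (subgroupOfEquivOfLe hYM).toEquiv] at h
          exact hY p hp.out h rfl
        · intro a ha
          rw [mem_normalizer_iff]
          intro y
          simpa [mem_subgroupOf] using mem_normalizer_iff.1 (hSY ha) (y : G)
      have hNS : normalizer (S : Set G) ≤ M := fun n hn => by
        refine hTM.le (mem_normalizer_iff_map_conj_eq.2 (eq_of_le_of_card_ge ?_ ?_))
        · refine hmaxT _ (fun r hr hd => ?_) ?_
          · rw [card_map_of_injective (MulAut.conj n).injective] at hd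
            exact (mem_primesNotDvd_prime.1 (CfsgLib.PStab.prime_mem_of_dvd_piCoreOf r hr hd)).2
          · intro s hs
            refine CfsgLib.Solvable.mem_normalizer_of_conj_mem ?_
            rintro _ ⟨t, ht, rfl⟩
            refine ⟨(n⁻¹ * s * n) * t * (n⁻¹ * s * n)⁻¹, (mem_normalizer_iff.1
              (le_normalizer_piCoreOf _ M (hSM ((mem_normalizer_iff''.1 hn s).1 hs))) t).1 ht, ?_⟩
            simp [mul_assoc]
        · exact (card_map_of_injective (MulAut.conj n).injective).ge
      have hglob : ∀ U : Subgroup G, IsPGroup p U → S ≤ U → U = S := by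
        intro U hU hle
        by_contra hU'
        have h1 := CfsgLib.Signalizer.isPGroup_inf_normalizer_gt hU (lt_of_le_of_ne hle (Ne.symm hU'))
        exact h1.ne' (hSmax _ (inf_le_right.trans hNS) (hU.to_le inf_le_left) h1.le)
      exact hHM (eq_of_sylow_le hG hM hH hSM hSH hS hglob hSnc hT fun Y hY hSY => hinv Y hY (hBS.trans hSY))
  · push Not at hSmax
    obtain ⟨T, hTM, hT, hST, hTne⟩ := hSmax
    have hlt : S < T := lt_of_le_of_ne hST (Ne.symm hTne)
    have hbig := CfsgLib.Signalizer.isPGroup_inf_normalizer_gt hT hlt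
    have hSN : ∀ R : Subgroup G, R ≠ ⊤ → normalizer (S : Set G) ≤ R → R ≤ M := by
      intro R hR hle
      obtain ⟨L', hL', hle'⟩ := exists_isCoatom_ge hG hR
      rw [← hgrow L' (T ⊓ normalizer (S : Set G)) hL'
        (le_inf (inf_le_right.trans (hle.trans hle')) (inf_le_left.trans hTM)) (hT.to_le inf_le_left) hbig]
      exact hle'
    have hNS : normalizer (S : Set G) ≤ M := hSN _
      (CfsgLib.PStab.normalizer_ne_top_of_minSimple hG hS1 (ne_top_of_le_coatom hG hM hSM)) le_rfl
    have hZS : pZ S ≤ S := inf_le_left.trans (CfsgLib.PStab.Puig.pUp_le S)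
    refine hfin (fun U hUH hU hle => ?_) (hSN _ (CfsgLib.PStab.normalizer_ne_top_of_minSimple hG
      (pZ_ne_bot hS hS1) (ne_top_of_le_coatom hG hM (hZS.trans hSM)))
      (CfsgLib.PStab.Puig.normalizer_le_normalizer_pZ S))
    by_contra hU'
    refine hHM (hgrow H (U ⊓ normalizer (S : Set G)) hH
      (le_inf (inf_le_left.trans hUH) (inf_le_right.trans hNS)) (hU.to_le inf_le_left) ?_)
    exact CfsgLib.Signalizer.isPGroup_inf_normalizer_gt hU (lt_of_le_of_ne hle (Ne.symm hU'))

/-- Coprime generation turns the centraliser hypothesis into the invariant one. -/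
theorem invariant_le_of_centralizer_le {M B : Subgroup G} (hB : IsElementaryAbelian p B) (hBnc : ¬ IsCyclic B)
    (h : ∀ b ∈ B, b ≠ 1 → centralizer ({b} : Set G) ≤ M) {Y : Subgroup G}
    (hY : ∀ r : ℕ, r.Prime → r ∣ Nat.card Y → r ≠ p) (hBY : B ≤ normalizer (Y : Set G)) : Y ≤ M := by
  have hcop : (Nat.card B).Coprime (Nat.card Y) := by
    refine Nat.coprime_of_dvd fun r hr h1 h2 => hY r hr h2 ?_
    obtain ⟨i, hi⟩ := IsPGroup.iff_card.1 (show IsPGroup p B from fun b =>
      ⟨1, Subtype.ext (by rw [pow_one]; exact hB.2 b b.2)⟩)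
    exact (Nat.prime_dvd_prime_iff_eq hr hp.out).1 (hr.dvd_of_dvd_pow (hi ▸ h1))
  conv_lhs => rw [← CfsgLib.Solvable.iSup_centralizer_eq (A := B) (K := Y)
    (fun x hx y hy => congrArg Subtype.val (hB.1.is_comm.comm (⟨x, hx⟩ : B) ⟨y, hy⟩)) hBnc hBY hcop]
  exact iSup₂_le fun a ha => inf_le_right.trans (h a ha.1 ha.2)

end CfsgLib.OddLocal
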